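import Mathlib
import Cfsg.Prelude.Def_Characters

/-!
Basic character theory for the `Cfsg.IsCharacter` vocabulary (helper25's library).
Everything lives in the namespace `Cfsg.Agent.Lib.Helper25`.
-/

set_option autoImplicit false

namespace Cfsg.Agent.Lib.Helper25

open scoped ComplexOrder
open Matrix

/-! ### The inner product -/

section Inner

variable {G : Type*} [Group G] [Fintype G]

theorem classInner_add_left (φ φ' ψ : G → ℂ) :
    Cfsg.classInner (φ + φ') ψ = Cfsg.classInner φ ψ + Cfsg.classInner φ' ψ := by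
  unfold Cfsg.classInner
  simp only [Pi.add_apply, add_mul, Finset.sum_add_distrib, mul_add]

theorem classInner_add_right (φ ψ ψ' : G → ℂ) :
    Cfsg.classInner φ (ψ + ψ') = Cfsg.classInner φ ψ + Cfsg.classInner φ ψ' := by
  unfold Cfsg.classInner
  simp only [Pi.add_apply, map_add, mul_add, Finset.sum_add_distrib]

theorem classInner_smul_left (c : ℂ) (φ ψ : G → ℂ) :
    Cfsg.classInner (c • φ) ψ = c * Cfsg.classInner φ ψ := by
  unfold Cfsg.classInner
  simp only [Pi.smul_apply, smul_eq_mul, Finset.mul_sum]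
  apply Finset.sum_congr rfl
  intro g _
  ring

theorem classInner_smul_right (c : ℂ) (φ ψ : G → ℂ) :
    Cfsg.classInner φ (c • ψ) = (starRingEnd ℂ) c * Cfsg.classInner φ ψ := by
  unfold Cfsg.classInner
  simp only [Pi.smul_apply, smul_eq_mul, map_mul, Finset.mul_sum]
  apply Finset.sum_congr rfl
  intro g _
  ring

theorem classInner_neg_left (φ ψ : G → ℂ) :
    Cfsg.classInner (-φ) ψ = -Cfsg.classInner φ ψ := by
  have := classInner_smul_left (-1) φ ψ
  simpa using this

theorem classInner_neg_right (φ ψ : G → ℂ) :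
    Cfsg.classInner φ (-ψ) = -Cfsg.classInner φ ψ := by
  have := classInner_smul_right (-1) φ ψ
  simpa using this

theorem classInner_sub_left (φ φ' ψ : G → ℂ) :
    Cfsg.classInner (φ - φ') ψ = Cfsg.classInner φ ψ - Cfsg.classInner φ' ψ := by
  rw [sub_eq_add_neg, classInner_add_left, classInner_neg_left, sub_eq_add_neg]

theorem classInner_sub_right (φ ψ ψ' : G → ℂ) :
    Cfsg.classInner φ (ψ - ψ') = Cfsg.classInner φ ψ - Cfsg.classInner φ ψ' := by
  rw [sub_eq_add_neg, classInner_add_right, classInner_neg_right, sub_eq_add_neg]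

theorem classInner_zero_left (ψ : G → ℂ) : Cfsg.classInner 0 ψ = 0 := by
  unfold Cfsg.classInner; simp

theorem classInner_zero_right (φ : G → ℂ) : Cfsg.classInner φ 0 = 0 := by
  unfold Cfsg.classInner; simp

theorem classInner_conj_symm (φ ψ : G → ℂ) :
    (starRingEnd ℂ) (Cfsg.classInner φ ψ) = Cfsg.classInner ψ φ := by
  unfold Cfsg.classInner
  rw [map_mul, map_inv₀, map_natCast, map_sum]
  congr 1
  apply Finset.sum_congr rfl
  intro g _
  rw [map_mul, Complex.conj_conj, mul_comm]

theorem classInner_eq_zero_symm {φ ψ : G → ℂ} (h : Cfsg.classInner φ ψ = 0) :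
    Cfsg.classInner ψ φ = 0 := by
  rw [← classInner_conj_symm, h, map_zero]

theorem classInner_sum_left {ι : Type*} (s : Finset ι) (f : ι → G → ℂ) (ψ : G → ℂ) :
    Cfsg.classInner (∑ i ∈ s, f i) ψ = ∑ i ∈ s, Cfsg.classInner (f i) ψ := by
  classical
  induction s using Finset.induction_on with
  | empty => simp [classInner_zero_left]
  | insert a s ha ih => rw [Finset.sum_insert ha, Finset.sum_insert ha, classInner_add_left, ih]

theorem classInner_sum_right {ι : Type*} (s : Finset ι) (φ : G → ℂ) (f : ι → G → ℂ) :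
    Cfsg.classInner φ (∑ i ∈ s, f i) = ∑ i ∈ s, Cfsg.classInner φ (f i) := by
  classical
  induction s using Finset.induction_on with
  | empty => simp [classInner_zero_right]
  | insert a s ha ih => rw [Finset.sum_insert ha, Finset.sum_insert ha, classInner_add_right, ih]

end Inner

/-! ### `χ(g⁻¹) = conj χ(g)` -/

/-- Unitary trick at the level of matrices: for a homomorphism from a finite group to
complex matrices, the trace of the image of `h⁻¹` is the conjugate of the trace of the image of `h`. -/
theorem trace_inv_eq_star {n : ℕ} {G : Type*} [Group G] [Fintype G]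
    (A : G →* Matrix (Fin n) (Fin n) ℂ) (h : G) : (A h⁻¹).trace = star (A h).trace := by
  classical
  set M : Matrix (Fin n) (Fin n) ℂ := ∑ g : G, (A g)ᴴ * A g with hM
  have hinvA : ∀ g : G, A g * A g⁻¹ = 1 := fun g => by rw [← map_mul, mul_inv_cancel, map_one]
  have hinvA' : ∀ g : G, A g⁻¹ * A g = 1 := fun g => by rw [← map_mul, inv_mul_cancel, map_one]
  have hpd : M.PosDef := by
    apply Matrix.posDef_sum Finset.univ_nonempty
    intro g _
    apply Matrix.PosDef.conjTranspose_mul_self
    intro v w hvw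
    have := congrArg (fun z => (A g⁻¹).mulVec z) hvw
    simpa [Matrix.mulVec_mulVec, hinvA'] using this
  have hunit : IsUnit M := hpd.isUnit
  have hinv : (A h)ᴴ * M * A h = M := by
    rw [hM, Finset.mul_sum, Finset.sum_mul]
    have : ∀ g : G, (A h)ᴴ * ((A g)ᴴ * A g) * A h = (A (g * h))ᴴ * A (g * h) := by
      intro g
      rw [map_mul, Matrix.conjTranspose_mul]
      simp only [Matrix.mul_assoc]
    rw [Finset.sum_congr rfl (fun g _ => this g)]
    exact Fintype.sum_equiv (Equiv.mulRight h) _ _ (fun g => rfl)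
  have h2 : (A h)ᴴ * M = M * A h⁻¹ := by
    calc (A h)ᴴ * M = (A h)ᴴ * M * (A h * A h⁻¹) := by rw [hinvA, Matrix.mul_one]
      _ = ((A h)ᴴ * M * A h) * A h⁻¹ := by simp only [Matrix.mul_assoc]
      _ = M * A h⁻¹ := by rw [hinv]
  have hdet : IsUnit M.det := (Matrix.isUnit_iff_isUnit_det M).mp hunit
  have h3 : A h⁻¹ = M⁻¹ * ((A h)ᴴ * M) := by
    rw [h2, ← Matrix.mul_assoc, Matrix.nonsing_inv_mul M hdet, Matrix.one_mul]
  rw [h3, Matrix.trace_mul_comm, Matrix.mul_assoc, Matrix.mul_nonsing_inv M hdet, Matrix.mul_one,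
    Matrix.trace_conjTranspose]

/-- For a complex representation of a finite group, `χ(g⁻¹) = conj χ(g)`. -/
theorem character_inv {G V : Type*} [Group G] [Finite G] [AddCommGroup V] [Module ℂ V]
    [FiniteDimensional ℂ V] (ρ : Representation ℂ G V) (g : G) :
    ρ.character g⁻¹ = star (ρ.character g) := by
  classical
  have := Fintype.ofFinite G
  let b := Module.finBasis ℂ V
  let A : G →* Matrix (Fin (Module.finrank ℂ V)) (Fin (Module.finrank ℂ V)) ℂ :=
    ((LinearMap.toMatrixAlgEquiv b).toAlgHom.toRingHom.toMonoidHom).comp ρ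
  have hA : ∀ x : G, ρ.character x = (A x).trace := by
    intro x
    show LinearMap.trace ℂ V (ρ x) = _
    rw [LinearMap.trace_eq_matrix_trace ℂ b]
    rfl
  rw [hA, hA]
  exact trace_inv_eq_star A g

/-! ### Orthonormality of irreducible characters -/

theorem classInner_character {G V W : Type*} [Group G] [Fintype G] [AddCommGroup V] [Module ℂ V]
    [FiniteDimensional ℂ V] [AddCommGroup W] [Module ℂ W] [FiniteDimensional ℂ W]
    (ρ : Representation ℂ G V) (σ : Representation ℂ G W) :
    Cfsg.classInner ρ.character σ.character =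
      (Nat.card G : ℂ)⁻¹ * ∑ g : G, ρ.character g * σ.character g⁻¹ := by
  unfold Cfsg.classInner
  congr 1
  apply Finset.sum_congr rfl
  intro g _
  rw [character_inv]
  rfl

open Classical in
/-- Inner product of characters of two irreducible representations (on arbitrary f.d. spaces). -/
theorem classInner_irreducible {G V W : Type*} [Group G] [Fintype G] [AddCommGroup V] [Module ℂ V]
    [FiniteDimensional ℂ V] [AddCommGroup W] [Module ℂ W] [FiniteDimensional ℂ W]
    (ρ : Representation ℂ G V) (σ : Representation ℂ G W) [ρ.IsIrreducible] [σ.IsIrreducible] :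
    Cfsg.classInner ρ.character σ.character =
      if Nonempty (σ.Equiv ρ) then 1 else 0 := by
  have : Invertible (Nat.card G : ℂ) :=
    invertibleOfNonzero (Nat.cast_ne_zero.mpr Nat.card_pos.ne')
  rw [classInner_character, Representation.char_orthonormal ρ σ]

/-- Two irreducible representations with the same character are equivalent. -/
theorem nonempty_equiv_of_character_eq {G V W : Type*} [Group G] [Fintype G] [AddCommGroup V]
    [Module ℂ V] [FiniteDimensional ℂ V] [AddCommGroup W] [Module ℂ W] [FiniteDimensional ℂ W]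
    (ρ : Representation ℂ G V) (σ : Representation ℂ G W) [ρ.IsIrreducible] [σ.IsIrreducible]
    (h : ρ.character = σ.character) : Nonempty (σ.Equiv ρ) := by
  by_contra hne
  have h3 := classInner_irreducible ρ ρ
  rw [if_pos ⟨Representation.Equiv.refl ρ⟩] at h3
  have h4 := classInner_irreducible ρ σ
  rw [if_neg hne, ← h, h3] at h4
  exact one_ne_zero h4

open Classical in
theorem classInner_irreducible' {G V W : Type*} [Group G] [Fintype G] [AddCommGroup V] [Module ℂ V]
    [FiniteDimensional ℂ V] [AddCommGroup W] [Module ℂ W] [FiniteDimensional ℂ W]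
    (ρ : Representation ℂ G V) (σ : Representation ℂ G W) [ρ.IsIrreducible] [σ.IsIrreducible] :
    Cfsg.classInner ρ.character σ.character =
      if ρ.character = σ.character then 1 else 0 := by
  rw [classInner_irreducible]
  by_cases h : Nonempty (σ.Equiv ρ)
  · obtain ⟨φ⟩ := h
    have : ρ.character = σ.character := (Representation.char_iso φ).symm
    rw [if_pos ⟨φ⟩, if_pos this]
  · rw [if_neg h]
    by_cases h2 : ρ.character = σ.character
    · exact absurd (nonempty_equiv_of_character_eq ρ σ h2) h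
    · rw [if_neg h2]

open Classical in
/-- First orthogonality relation, in the `Cfsg` vocabulary. -/
theorem irr_orthonormal {G : Type*} [Group G] [Fintype G] (χ ψ : G → ℂ)
    (hχ : Cfsg.IsIrrCharacter G χ) (hψ : Cfsg.IsIrrCharacter G ψ) :
    Cfsg.classInner χ ψ = if χ = ψ then 1 else 0 := by
  obtain ⟨n, ρ, hρ, rfl⟩ := hχ
  obtain ⟨m, σ, hσ, rfl⟩ := hψ
  have := hρ
  have := hσ
  exact classInner_irreducible' ρ σ

theorem irr_norm_one {G : Type*} [Group G] [Fintype G] (χ : G → ℂ)
    (hχ : Cfsg.IsIrrCharacter G χ) : Cfsg.classInner χ χ = 1 := by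
  rw [irr_orthonormal χ χ hχ hχ, if_pos rfl]

theorem irr_orthogonal {G : Type*} [Group G] [Fintype G] (χ ψ : G → ℂ)
    (hχ : Cfsg.IsIrrCharacter G χ) (hψ : Cfsg.IsIrrCharacter G ψ) (h : χ ≠ ψ) :
    Cfsg.classInner χ ψ = 0 := by
  rw [irr_orthonormal χ ψ hχ hψ, if_neg h]

/-! ### Basic facts on characters -/

theorem isCharacter_of_irr {G : Type*} [Group G] {χ : G → ℂ}
    (h : Cfsg.IsIrrCharacter G χ) : Cfsg.IsCharacter G χ := by
  obtain ⟨n, ρ, _, rfl⟩ := h
  exact ⟨n, ρ, rfl⟩

theorem isClassFunction_of_isCharacter {G : Type*} [Group G] {χ : G → ℂ}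
    (h : Cfsg.IsCharacter G χ) : Cfsg.IsClassFunction G χ := by
  obtain ⟨n, ρ, rfl⟩ := h
  intro g x
  exact Representation.char_conj ρ g x

theorem isCharacter_inv {G : Type*} [Group G] [Finite G] {χ : G → ℂ}
    (h : Cfsg.IsCharacter G χ) (g : G) : χ g⁻¹ = (starRingEnd ℂ) (χ g) := by
  obtain ⟨n, ρ, rfl⟩ := h
  exact character_inv ρ g

/-- the degree of an irreducible character is a positive natural number -/
theorem irr_exists_degree {G : Type*} [Group G] {χ : G → ℂ}
    (h : Cfsg.IsIrrCharacter G χ) : ∃ n : ℕ, 0 < n ∧ χ 1 = (n : ℂ) := by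
  obtain ⟨n, ρ, hρ, rfl⟩ := h
  refine ⟨n, ?_, ?_⟩
  · by_contra hn
    have hn0 : n = 0 := by omega
    subst hn0
    have := hρ
    have hnt : Nontrivial (Subrepresentation ρ) := IsSimpleOrder.toNontrivial
    obtain ⟨a, b, hab⟩ := hnt
    apply hab
    have hsub : Subsingleton (Fin 0 → ℂ) := inferInstance
    have : ∀ c : Subrepresentation ρ, c.toSubmodule = ⊥ := by
      intro c
      exact Subsingleton.elim _ _
    have ha := this a
    have hb := this b
    cases a; cases b
    simp_all
  · rw [Representation.char_one]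
    simp

theorem irr_one_ne_zero {G : Type*} [Group G] {χ : G → ℂ}
    (h : Cfsg.IsIrrCharacter G χ) : χ 1 ≠ 0 := by
  obtain ⟨n, hn, h1⟩ := irr_exists_degree h
  rw [h1]
  exact_mod_cast hn.ne'

theorem isCharacter_exists_degree {G : Type*} [Group G] {χ : G → ℂ}
    (h : Cfsg.IsCharacter G χ) : ∃ n : ℕ, χ 1 = (n : ℂ) := by
  obtain ⟨n, ρ, rfl⟩ := h
  refine ⟨n, ?_⟩
  rw [Representation.char_one]
  simp

end Cfsg.Agent.Lib.Helper25
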