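import Mathlib
import Cfsg.Agent.Lib.Helper67.ComplConj

/-!
Group-theoretic preliminaries for the expansion of the Dade map (Peterfalvi (2.6)), helper25.
-/

set_option autoImplicit false
set_option linter.unusedSectionVars false
set_option linter.unusedVariables false

namespace Cfsg.Agent.Lib.Helper25

section Proj

variable {G : Type*} [Group G]

/-- the projection of an internal semidirect product `N ⋊ K` onto `K` -/
theorem exists_proj (N K : Subgroup G) (hnorm : ∀ k ∈ K, ∀ u ∈ N, k * u * k⁻¹ ∈ N)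
    (hinf : N ⊓ K = ⊥) :
    ∃ p : ↥(N ⊔ K) →* ↥K, ∀ m : ↥(N ⊔ K), ((p m : K) : G)⁻¹ * (m : G) ∈ N := by
  classical
  -- decomposition
  have hdec : ∀ m : ↥(N ⊔ K), ∃ k : K, (k : G)⁻¹ * (m : G) ∈ N := by
    intro m
    let S : Subgroup G :=
      { carrier := {c | ∃ k ∈ K, ∃ u ∈ N, c = k * u}
        one_mem' := ⟨1, K.one_mem, 1, N.one_mem, by simp⟩
        mul_mem' := by
          rintro _ _ ⟨k, hk, u, hu, rfl⟩ ⟨k', hk', u', hu', rfl⟩
          refine ⟨k * k', K.mul_mem hk hk', (k'⁻¹ * u * k'⁻¹⁻¹) * u',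
            N.mul_mem (hnorm _ (K.inv_mem hk') u hu) hu', ?_⟩
          group
        inv_mem' := by
          rintro _ ⟨k, hk, u, hu, rfl⟩
          refine ⟨k⁻¹, K.inv_mem hk, k * u⁻¹ * k⁻¹, hnorm k hk _ (N.inv_mem hu), ?_⟩
          group }
    have h1 : N ≤ S := fun u hu => ⟨1, K.one_mem, u, hu, by simp⟩
    have h2 : K ≤ S := fun k hk => ⟨k, hk, 1, N.one_mem, by simp⟩
    obtain ⟨k, hk, u, hu, hku⟩ := (sup_le h1 h2) m.2
    refine ⟨⟨k, hk⟩, ?_⟩
    rw [hku]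
    simpa using hu
  have huniq : ∀ (m : G) (k k' : K), (k : G)⁻¹ * m ∈ N → (k' : G)⁻¹ * m ∈ N → k = k' := by
    intro m k k' h1 h2
    have h3 : (k' : G)⁻¹ * (k : G) ∈ N ⊓ K := by
      refine ⟨?_, K.mul_mem (K.inv_mem k'.2) k.2⟩
      have : (k' : G)⁻¹ * (k : G) = ((k' : G)⁻¹ * m) * ((k : G)⁻¹ * m)⁻¹ := by group
      rw [this]
      exact N.mul_mem h2 (N.inv_mem h1)
    rw [hinf, Subgroup.mem_bot] at h3
    apply Subtype.ext
    have : (k : G) = (k' : G) * ((k' : G)⁻¹ * (k : G)) := by group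
    rw [this, h3, mul_one]
  choose f hf using hdec
  refine ⟨MonoidHom.mk' f ?_, hf⟩
  intro m m'
  apply huniq ((m * m' : ↥(N ⊔ K)) : G) _ _ (hf (m * m'))
  have h1 := hf m
  have h2 := hf m'
  have e : ((f m * f m' : K) : G)⁻¹ * ((m * m' : ↥(N ⊔ K)) : G)
      = ((f m' : G)⁻¹ * ((f m : G)⁻¹ * (m : G)) * ((f m' : G)⁻¹)⁻¹) * ((f m' : G)⁻¹ * (m' : G)) := by
    simp only [Subgroup.coe_mul]
    group
  rw [e]
  exact N.mul_mem (hnorm _ (K.inv_mem (f m').2) _ h1) h2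

end Proj

section SZ

variable {G : Type*} [Group G] [Finite G]

theorem conj_pow_mem (N : Subgroup G) (b : G) (hb : ∀ u ∈ N, b * u * b⁻¹ ∈ N) (j : ℕ) :
    ∀ u ∈ N, b ^ j * u * (b ^ j)⁻¹ ∈ N := by
  induction j with
  | zero => intro u hu; simpa using hu
  | succ j ih =>
    intro u hu
    have : b ^ (j + 1) * u * (b ^ (j + 1))⁻¹ = b ^ j * (b * u * b⁻¹) * (b ^ j)⁻¹ := by
      rw [pow_succ]; group
    rw [this]
    exact ih _ (hb u hu)

theorem conj_inv_mem (N : Subgroup G) (b : G) (hb : ∀ u ∈ N, b * u * b⁻¹ ∈ N) :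
    ∀ u ∈ N, b⁻¹ * u * b ∈ N := by
  intro u hu
  have h1 : b⁻¹ = b ^ (orderOf b - 1) := by
    have hpos : 0 < orderOf b := orderOf_pos b
    have : b ^ (orderOf b - 1) * b = 1 := by
      rw [← pow_succ, Nat.sub_add_cancel hpos, pow_orderOf_eq_one]
    exact (eq_inv_of_mul_eq_one_left this).symm
  have h2 := conj_pow_mem N b hb (orderOf b - 1) u hu
  rw [← h1, inv_inv] at h2
  exact h2

/-- an element `b v` of the coset `b N` (`b` normalizing `N`, of order coprime to `|N|`) is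
`N`-conjugate to `b t` with `t ∈ C_N(b)` -/
theorem sz_element (N : Subgroup G) (b : G) (hb : ∀ u ∈ N, b * u * b⁻¹ ∈ N)
    (hcop : (orderOf b).Coprime (Nat.card N)) (v : G) (hv : v ∈ N) :
    ∃ w ∈ N, ∃ t ∈ N, b * t = t * b ∧ w * (b * v) * w⁻¹ = b * t := by
  classical
  have hb' := conj_inv_mem N b hb
  have hbn : b ∈ Subgroup.normalizer (N : Set G) := by
    rw [Subgroup.mem_normalizer_iff]
    intro n
    constructor
    · exact hb n
    · intro h
      have := hb' _ h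
      have e : b⁻¹ * (b * n * b⁻¹) * b = n := by group
      rwa [e] at this
  have hNn : N ≤ Subgroup.normalizer (N : Set G) := Subgroup.le_normalizer
  -- work inside the normalizer
  let Γ := ↥(Subgroup.normalizer (N : Set G))
  let N' : Subgroup Γ := N.subgroupOf (Subgroup.normalizer (N : Set G))
  have hN'n : N'.Normal := Subgroup.normal_in_normalizer
  have hcard : Nat.card N' = Nat.card N :=
    Nat.card_congr (Subgroup.subgroupOfEquivOfLe hNn).toEquiv
  let bΓ : Γ := ⟨b, hbn⟩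
  let mΓ : Γ := ⟨b * v, Subgroup.mul_mem _ hbn (hNn hv)⟩
  have hob : orderOf bΓ = orderOf b := by
    have : ((bΓ : Γ) : G) = b := rfl
    rw [← this, Subgroup.orderOf_coe]
  set n := Nat.card N with hn
  set k := orderOf b with hk
  have hco : Nat.Coprime n k := hcop.symm
  obtain ⟨e, he0, he1⟩ := Nat.chineseRemainder hco 0 1
  have hne : n ∣ e := (Nat.modEq_zero_iff_dvd).mp he0
  have hbe : bΓ ^ e = bΓ := by
    have : bΓ ^ e = bΓ ^ 1 := by
      rw [pow_eq_pow_iff_modEq, hob]; exact he1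
    rw [this, pow_one]
  have hmk : (QuotientGroup.mk mΓ : Γ ⧸ N') = QuotientGroup.mk bΓ := by
    rw [eq_comm, QuotientGroup.eq]
    show (bΓ⁻¹ * mΓ : Γ) ∈ N'
    rw [Subgroup.mem_subgroupOf]
    show b⁻¹ * (b * v) ∈ N
    rw [inv_mul_cancel_left]; exact hv
  have hmk' : (QuotientGroup.mk (mΓ ^ e) : Γ ⧸ N') = QuotientGroup.mk bΓ := by
    rw [QuotientGroup.mk_pow, hmk, ← QuotientGroup.mk_pow, hbe]
  have hmkk : mΓ ^ k ∈ N' := by
    rw [← QuotientGroup.eq_one_iff, QuotientGroup.mk_pow, hmk, ← QuotientGroup.mk_pow, ← hob,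
      pow_orderOf_eq_one]
    rfl
  have hpow1 : (mΓ ^ e) ^ k = 1 := by
    obtain ⟨c, hc⟩ := hne
    have h1 : (mΓ ^ k) ^ n = 1 := by
      have h0 : (⟨mΓ ^ k, hmkk⟩ : N') ^ Nat.card N' = 1 := pow_card_eq_one'
      rw [hcard] at h0
      have := congrArg Subtype.val h0
      simpa using this
    rw [← pow_mul, mul_comm, pow_mul, hc, pow_mul, h1, one_pow]
  have hord : (orderOf (mΓ ^ e)).Coprime (Nat.card N') := by
    rw [hcard]
    exact Nat.Coprime.coprime_dvd_left (orderOf_dvd_of_pow_eq_one hpow1) hcop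
  have hordb : (orderOf bΓ).Coprime (Nat.card N') := by
    rw [hcard, hob]; exact hcop
  obtain ⟨w, hw, hwconj⟩ := Lib.Helper67.exists_mem_conj_eq_of_mk_eq hmk' hord hordb
  -- the conjugate of `mΓ`
  set m₂ : Γ := w * mΓ * w⁻¹ with hm₂
  have hm₂e : m₂ ^ e = bΓ := by rw [hm₂, conj_pow, hwconj]
  have hcomm : m₂ * bΓ = bΓ * m₂ := by
    rw [← hm₂e]
    exact (Commute.pow_right (Commute.refl m₂) e).eq
  have htN : bΓ⁻¹ * m₂ ∈ N' := by
    rw [← QuotientGroup.eq]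
    have h1 : (QuotientGroup.mk m₂ : Γ ⧸ N') = QuotientGroup.mk mΓ := by
      rw [hm₂, QuotientGroup.mk_mul, QuotientGroup.mk_mul, QuotientGroup.mk_inv,
        (QuotientGroup.eq_one_iff w).mpr hw]
      simp
    rw [h1, hmk]
  refine ⟨(w : G), Subgroup.mem_subgroupOf.mp hw, ((bΓ⁻¹ * m₂ : Γ) : G),
    Subgroup.mem_subgroupOf.mp htN, ?_, ?_⟩
  · have h1 : bΓ * (bΓ⁻¹ * m₂) = (bΓ⁻¹ * m₂) * bΓ := by
      rw [mul_inv_cancel_left, mul_assoc, hcomm, inv_mul_cancel_left]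
    have := congrArg (Subtype.val : Γ → G) h1
    exact this
  · have h1 : w * mΓ * w⁻¹ = bΓ * (bΓ⁻¹ * m₂) := by rw [mul_inv_cancel_left]
    have := congrArg (Subtype.val : Γ → G) h1
    exact this

end SZ

end Cfsg.Agent.Lib.Helper25
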