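import Mathlib
import Cfsg.Agent.Lib.Helper25.DadeExp1
import Cfsg.Agent.Lib.Helper3.Dade
import Cfsg.Agent.Lib.Helper54.Coprime
import Cfsg.Agent.S1498
import Cfsg.Agent.S1499

/-!
The subgroups `H(B)`, `N_L(B)`, `M(B)` attached to a set `B ⊆ A` in the Dade set-up, and the key
conjugacy lemma (Peterfalvi (2.6)), helper25.
-/

set_option autoImplicit false
set_option linter.unusedSectionVars false
set_option linter.unusedVariables false

namespace Cfsg.Agent.Lib.Helper25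

open Cfsg

section Defs

variable {G : Type*} [Group G]

/-- `H(B) = ⋂_{c ∈ B} H(c)` -/
def dHB (H : G → Subgroup G) (B : Finset G) : Subgroup G := ⨅ c ∈ B, H c

/-- `N_L(B)` -/
def dLB (L : Subgroup G) (B : Finset G) : Subgroup G := L ⊓ Subgroup.normalizer (↑B : Set G)

theorem mem_dHB {H : G → Subgroup G} {B : Finset G} {u : G} :
    u ∈ dHB H B ↔ ∀ c ∈ B, u ∈ H c := by
  unfold dHB
  simp only [Subgroup.mem_iInf]

theorem dHB_singleton (H : G → Subgroup G) (b : G) : dHB H {b} = H b := by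
  ext u
  rw [mem_dHB]
  constructor
  · intro h; exact h b (Finset.mem_singleton_self b)
  · intro h c hc
    rw [Finset.mem_singleton] at hc
    rw [hc]; exact h

theorem mem_dHB_insert [DecidableEq G] {H : G → Subgroup G} {B : Finset G} {b u : G} :
    u ∈ dHB H (insert b B) ↔ u ∈ H b ∧ u ∈ dHB H B := by
  rw [mem_dHB, mem_dHB]
  constructor
  · intro h
    exact ⟨h b (Finset.mem_insert_self b B), fun c hc => h c (Finset.mem_insert_of_mem hc)⟩
  · rintro ⟨h1, h2⟩ c hc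
    rcases Finset.mem_insert.mp hc with rfl | hc
    · exact h1
    · exact h2 c hc

theorem dHB_insert_le [DecidableEq G] (H : G → Subgroup G) (B : Finset G) (b : G) :
    dHB H (insert b B) ≤ dHB H B := fun u hu => (mem_dHB_insert.mp hu).2

theorem mem_dLB {L : Subgroup G} {B : Finset G} {l : G} :
    l ∈ dLB L B ↔ l ∈ L ∧ ∀ n, n ∈ B ↔ l * n * l⁻¹ ∈ B := by
  unfold dLB
  rw [Subgroup.mem_inf, Subgroup.mem_set_normalizer_iff]
  simp only [Finset.mem_coe]

end Defs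

section Dade

variable {G : Type*} [Group G] [Finite G] {A : Set G} {L : Subgroup G} {H : G → Subgroup G}

theorem dLB_norm_dHB (hD : DadeHypothesis A L H) {B : Finset G} (hBA : ∀ c ∈ B, c ∈ A) :
    ∀ l ∈ dLB L B, ∀ u ∈ dHB H B, l * u * l⁻¹ ∈ dHB H B := by
  intro l hl u hu
  rw [mem_dLB] at hl
  rw [mem_dHB] at hu ⊢
  intro c hc
  -- c = l c' l⁻¹ with c' = l⁻¹ c l ∈ B
  have hc' : l⁻¹ * c * l ∈ B := by
    rw [hl.2]
    have : l * (l⁻¹ * c * l) * l⁻¹ = c := by group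
    rw [this]; exact hc
  have hcA' : l⁻¹ * c * l ∈ A := hBA _ hc'
  have e : l * (l⁻¹ * c * l) * l⁻¹ = c := by group
  have hgA : l * (l⁻¹ * c * l) * l⁻¹ ∈ A := by rw [e]; exact hBA c hc
  have := (Lib.Helper3.Dade.mem_H_conj_iff hD hcA' hgA u).mp (hu _ hc')
  rwa [e] at this

theorem dHB_inf_dLB (hD : DadeHypothesis A L H) {B : Finset G} (hBA : ∀ c ∈ B, c ∈ A)
    (hne : B.Nonempty) : dHB H B ⊓ dLB L B = ⊥ := by
  rw [eq_bot_iff]
  rintro u ⟨hu, hl⟩
  obtain ⟨c, hc⟩ := hne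
  have hcA := hBA c hc
  have h1 : u ∈ H c := mem_dHB.mp hu c hc
  have h2 : u ∈ L := (mem_dLB.mp hl).1
  have h3 : u ∈ H c ⊓ (L ⊓ Subgroup.centralizer ({c} : Set G)) :=
    ⟨h1, h2, hD.le_centralizer c hcA h1⟩
  rw [hD.inf_eq_bot c hcA] at h3
  exact h3

theorem dHB_le_H {B : Finset G} {c : G} (hc : c ∈ B) : dHB H B ≤ H c :=
  fun u hu => mem_dHB.mp hu c hc

theorem orderOf_dvd_card_CL (hD : DadeHypothesis A L H) {b : G} (hb : b ∈ A) :
    orderOf b ∣ Nat.card ↥(L ⊓ Subgroup.centralizer ({b} : Set G)) := by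
  have hmem : b ∈ L ⊓ Subgroup.centralizer ({b} : Set G) := by
    refine ⟨hD.subset hb, ?_⟩
    show b ∈ Subgroup.centralizer ({b} : Set G)
    rw [Subgroup.mem_centralizer_iff]
    intro y hy
    rw [Set.mem_singleton_iff] at hy
    rw [hy]
  have h1 : orderOf (⟨b, hmem⟩ : ↥(L ⊓ Subgroup.centralizer ({b} : Set G))) = orderOf b := by
    rw [← Subgroup.orderOf_coe]
  rw [← h1]
  exact orderOf_dvd_natCard _

theorem coprime_card_dHB (hD : DadeHypothesis A L H) {B : Finset G} (hBA : ∀ c ∈ B, c ∈ A)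
    (hne : B.Nonempty) {b : G} (hb : b ∈ A) :
    (Nat.card (dHB H B)).Coprime (Nat.card ↥(L ⊓ Subgroup.centralizer ({b} : Set G))) := by
  obtain ⟨c, hc⟩ := hne
  exact Nat.Coprime.coprime_dvd_left (Subgroup.card_dvd_of_le (dHB_le_H hc))
    (hD.coprime c (hBA c hc) b hb)

/-- `C_{H(B)}(b) ≤ H(b)` -/
theorem mem_H_of_comm (hD : DadeHypothesis A L H) {B : Finset G} (hBA : ∀ c ∈ B, c ∈ A)
    (hne : B.Nonempty) {b : G} (hb : b ∈ A) {u : G} (hu : u ∈ dHB H B) (hcomm : b * u = u * b) :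
    u ∈ H b := by
  apply Cfsg.Agent.S1498.mem_of_coprime_compl (Subgroup.centralizer ({b} : Set G)) (H b)
    (L ⊓ Subgroup.centralizer ({b} : Set G)) (hD.le_centralizer b hb) inf_le_right
    (hD.conj_mem_H b hb) (hD.inf_eq_bot b hb) (hD.sup_eq b hb) u
  · rw [Subgroup.mem_centralizer_iff]
    intro y hy
    rw [Set.mem_singleton_iff] at hy
    rw [hy]; exact hcomm
  · have h1 : orderOf u ∣ Nat.card (dHB H B) := by
      have : orderOf (⟨u, hu⟩ : dHB H B) = orderOf u := by rw [← Subgroup.orderOf_coe]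
      rw [← this]; exact orderOf_dvd_natCard _
    exact Nat.Coprime.coprime_dvd_left h1 (coprime_card_dHB hD hBA hne hb)

theorem comm_of_mem_H (hD : DadeHypothesis A L H) {b : G} (hb : b ∈ A) {u : G} (hu : u ∈ H b) :
    b * u = u * b := by
  have := Subgroup.mem_centralizer_iff.mp (hD.le_centralizer b hb hu) b rfl
  exact this

open Classical in
/-- the key counting lemma: the elements of `H(B)` conjugating `m` into `b H(B ∪ {b})` -/
theorem key_count (hD : DadeHypothesis A L H) {B : Finset G} (hBA : ∀ c ∈ B, c ∈ A)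
    (hne : B.Nonempty) {b : G} (hb : b ∈ A) (hbL : b ∈ dLB L B) (m : G) :
    Nat.card {w : G // w ∈ dHB H B ∧ b⁻¹ * (w * m * w⁻¹) ∈ dHB H (insert b B)}
      = if b⁻¹ * m ∈ dHB H B then Nat.card (dHB H (insert b B)) else 0 := by
  have hnorm := dLB_norm_dHB hD hBA
  have hbinv : b⁻¹ ∈ dLB L B := Subgroup.inv_mem _ hbL
  by_cases hm : b⁻¹ * m ∈ dHB H B
  · rw [if_pos hm]
    set v := b⁻¹ * m with hv
    have hmv : m = b * v := by rw [hv]; group
    have hcop : (orderOf b).Coprime (Nat.card (dHB H B)) :=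
      Nat.Coprime.coprime_dvd_left (orderOf_dvd_card_CL hD hb)
        (coprime_card_dHB hD hBA hne hb).symm
    obtain ⟨w₀, hw₀, t, ht, htcomm, hconj⟩ := sz_element (dHB H B) b (hnorm b hbL) hcop v hm
    have htb : t ∈ H b := mem_H_of_comm hD hBA hne hb ht htcomm
    have htBb : t ∈ dHB H (insert b B) := mem_dHB_insert.mpr ⟨htb, ht⟩
    apply Nat.card_congr
    refine
      { toFun := fun w => ⟨(w : G) * w₀⁻¹, ?_⟩
        invFun := fun u => ⟨(u : G) * w₀, ?_, ?_⟩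
        left_inv := fun w => Subtype.ext (by simp)
        right_inv := fun u => Subtype.ext (by simp) }
    · obtain ⟨w, hw, hw'⟩ := w
      have hw'' := mem_dHB_insert.mp hw'
      have hwB : w * w₀⁻¹ ∈ dHB H B := Subgroup.mul_mem _ hw (Subgroup.inv_mem _ hw₀)
      have hg : (w * w₀⁻¹) * (b * t) * (w * w₀⁻¹)⁻¹ = b * (b⁻¹ * (w * m * w⁻¹)) := by
        rw [← hconj, hmv]; group
      have h1 := (Lib.Helper3.Dade.conj_split hD hb hb htb hw''.1 hg).1
      have h2 : b * (w * w₀⁻¹) = (w * w₀⁻¹) * b := by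
        have : b = w * w₀⁻¹ * b * (w * w₀⁻¹)⁻¹ := h1.symm
        calc b * (w * w₀⁻¹) = (w * w₀⁻¹ * b * (w * w₀⁻¹)⁻¹) * (w * w₀⁻¹) := by rw [← this]
          _ = w * w₀⁻¹ * b := by group
      exact mem_dHB_insert.mpr ⟨mem_H_of_comm hD hBA hne hb hwB h2, hwB⟩
    · exact Subgroup.mul_mem _ (dHB_insert_le H B b u.2) hw₀
    · have hu := mem_dHB_insert.mp u.2
      have hub : b * (u : G) = (u : G) * b := comm_of_mem_H hD hb hu.1
      have e : b⁻¹ * ((u : G) * w₀ * m * ((u : G) * w₀)⁻¹) = (u : G) * t * (u : G)⁻¹ := by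
        have h1 : (u : G) * w₀ * m * ((u : G) * w₀)⁻¹ = (u : G) * (w₀ * (b * v) * w₀⁻¹) * (u : G)⁻¹ := by
          rw [hmv]; group
        rw [h1, hconj]
        have h2 : (u : G) * (b * t) * (u : G)⁻¹ = b * ((u : G) * t * (u : G)⁻¹) := by
          rw [← mul_assoc, ← hub]; group
        rw [h2]; group
      rw [e]
      exact Subgroup.mul_mem _ (Subgroup.mul_mem _ u.2 htBb) (Subgroup.inv_mem _ u.2)
  · rw [if_neg hm]
    have : IsEmpty {w : G // w ∈ dHB H B ∧ b⁻¹ * (w * m * w⁻¹) ∈ dHB H (insert b B)} := by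
      constructor
      rintro ⟨w, hw, hw'⟩
      apply hm
      have e : b⁻¹ * m = (b⁻¹ * w⁻¹ * b⁻¹⁻¹) * (b⁻¹ * (w * m * w⁻¹)) * w := by group
      rw [e]
      exact Subgroup.mul_mem _ (Subgroup.mul_mem _ (hnorm _ hbinv _ (Subgroup.inv_mem _ hw))
        (dHB_insert_le H B b hw')) hw
    exact Nat.card_of_isEmpty

end Dade

end Cfsg.Agent.Lib.Helper25
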