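import Mathlib
import Cfsg.Agent.Lib.Helper25.DadeExp2

/-!
Conjugation of finite subsets of `A` by elements of `L` in the Dade set-up: behaviour of
`H(B)`, `N_L(B)` and of the counting functions used in Peterfalvi (2.6).  (helper25)
-/

set_option autoImplicit false
set_option linter.unusedSectionVars false
set_option linter.unusedVariables false

namespace Cfsg.Agent.Lib.Helper25

open Cfsg
open Classical

section Conj

variable {G : Type*} [Group G]

/-- conjugate of a finset -/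
noncomputable def conjF (l : G) (B : Finset G) : Finset G := B.image (fun c => l * c * l⁻¹)

theorem mem_conjF {l : G} {B : Finset G} {c : G} : c ∈ conjF l B ↔ l⁻¹ * c * l ∈ B := by
  unfold conjF
  rw [Finset.mem_image]
  constructor
  · rintro ⟨d, hd, rfl⟩
    have : l⁻¹ * (l * d * l⁻¹) * l = d := by group
    rw [this]; exact hd
  · intro h
    exact ⟨_, h, by group⟩

theorem conj_mem_conjF {l : G} {B : Finset G} {c : G} : l * c * l⁻¹ ∈ conjF l B ↔ c ∈ B := by
  rw [mem_conjF]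
  have : l⁻¹ * (l * c * l⁻¹) * l = c := by group
  rw [this]

theorem conjF_one (B : Finset G) : conjF 1 B = B := by
  ext c
  rw [mem_conjF]
  simp

theorem conjF_mul (l l' : G) (B : Finset G) : conjF (l * l') B = conjF l (conjF l' B) := by
  ext c
  rw [mem_conjF, mem_conjF, mem_conjF]
  have : (l * l')⁻¹ * c * (l * l') = l'⁻¹ * (l⁻¹ * c * l) * l' := by group
  rw [this]

theorem conjF_card (l : G) (B : Finset G) : (conjF l B).card = B.card := by
  unfold conjF
  apply Finset.card_image_of_injective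
  intro x y hxy
  have h : l * x * l⁻¹ = l * y * l⁻¹ := hxy
  exact mul_left_cancel (mul_right_cancel h)

theorem conjF_insert (l b : G) (B : Finset G) :
    conjF l (insert b B) = insert (l * b * l⁻¹) (conjF l B) := by
  unfold conjF
  rw [Finset.image_insert]

theorem conjF_nonempty {l : G} {B : Finset G} (h : B.Nonempty) : (conjF l B).Nonempty := by
  unfold conjF
  exact h.image _

theorem mem_dLB_iff_conjF {L : Subgroup G} {B : Finset G} {x : G} :
    x ∈ dLB L B ↔ x ∈ L ∧ conjF x B = B := by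
  rw [mem_dLB]
  constructor
  · rintro ⟨hx, h⟩
    refine ⟨hx, ?_⟩
    ext c
    rw [mem_conjF, h (x⁻¹ * c * x)]
    have : x * (x⁻¹ * c * x) * x⁻¹ = c := by group
    rw [this]
  · rintro ⟨hx, h⟩
    refine ⟨hx, fun n => ?_⟩
    conv_rhs => rw [← h]
    rw [conj_mem_conjF]

theorem mem_dLB_conjF {L : Subgroup G} {B : Finset G} {l x : G} (hl : l ∈ L) :
    x ∈ dLB L (conjF l B) ↔ l⁻¹ * x * l ∈ dLB L B := by
  rw [mem_dLB_iff_conjF, mem_dLB_iff_conjF]
  have h1 : x ∈ L ↔ l⁻¹ * x * l ∈ L := by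
    constructor
    · intro hx
      exact L.mul_mem (L.mul_mem (L.inv_mem hl) hx) hl
    · intro hx
      have : x = l * (l⁻¹ * x * l) * l⁻¹ := by group
      rw [this]
      exact L.mul_mem (L.mul_mem hl hx) (L.inv_mem hl)
  have h2 : conjF x (conjF l B) = conjF l B ↔ conjF (l⁻¹ * x * l) B = B := by
    rw [← conjF_mul]
    constructor
    · intro h
      have h3 : conjF l⁻¹ (conjF (x * l) B) = conjF l⁻¹ (conjF l B) := by rw [h]
      rw [← conjF_mul, ← conjF_mul] at h3
      have e1 : l⁻¹ * (x * l) = l⁻¹ * x * l := by group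
      have e2 : l⁻¹ * l = 1 := by group
      rw [e1, e2, conjF_one] at h3
      exact h3
    · intro h
      have h3 : conjF l (conjF (l⁻¹ * x * l) B) = conjF l B := by rw [h]
      rw [← conjF_mul] at h3
      have e1 : l * (l⁻¹ * x * l) = x * l := by group
      rw [e1] at h3
      exact h3
  rw [h1, h2]

theorem conj_mem_dLB_conjF {L : Subgroup G} {B : Finset G} {l b : G} (hl : l ∈ L) :
    l * b * l⁻¹ ∈ dLB L (conjF l B) ↔ b ∈ dLB L B := by
  rw [mem_dLB_conjF hl]
  have : l⁻¹ * (l * b * l⁻¹) * l = b := by group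
  rw [this]

theorem card_dLB_conjF {L : Subgroup G} {B : Finset G} {l : G} (hl : l ∈ L) :
    Nat.card (dLB L (conjF l B)) = Nat.card (dLB L B) := by
  apply Nat.card_congr
  refine
    { toFun := fun x => ⟨l⁻¹ * (x : G) * l, (mem_dLB_conjF hl).mp x.2⟩
      invFun := fun y => ⟨l * (y : G) * l⁻¹, (conj_mem_dLB_conjF hl).mpr y.2⟩
      left_inv := fun x => Subtype.ext (by simp only []; group)
      right_inv := fun y => Subtype.ext (by simp only []; group) }

/-- `b ∈ N_L(B) ↔ b ∈ N_L(B ∪ {b})` when `b ∉ B` -/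
theorem mem_dLB_insert_self {L : Subgroup G} {B : Finset G} {b : G} (hb : b ∉ B) :
    b ∈ dLB L (insert b B) ↔ b ∈ dLB L B := by
  rw [mem_dLB_iff_conjF, mem_dLB_iff_conjF, conjF_insert]
  have e : b * b * b⁻¹ = b := by group
  rw [e]
  have hb' : b ∉ conjF b B := by
    rw [mem_conjF]
    have : b⁻¹ * b * b = b := by group
    rw [this]; exact hb
  constructor
  · rintro ⟨h1, h2⟩
    refine ⟨h1, ?_⟩
    have h3 := congrArg (fun s => Finset.erase s b) h2
    simp only [Finset.erase_insert hb', Finset.erase_insert hb] at h3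
    exact h3
  · rintro ⟨h1, h2⟩
    exact ⟨h1, by rw [h2]⟩

end Conj

section Dade

variable {G : Type*} [Group G] [Fintype G] {A : Set G} {L : Subgroup G} {H : G → Subgroup G}

theorem conjF_subset (hD : DadeHypothesis A L H) {l : G} (hl : l ∈ L) {B : Finset G}
    (hBA : ∀ c ∈ B, c ∈ A) : ∀ c ∈ conjF l B, c ∈ A := by
  intro c hc
  rw [mem_conjF] at hc
  have := hD.conj_mem l hl _ (hBA _ hc)
  have e : l * (l⁻¹ * c * l) * l⁻¹ = c := by group
  rwa [e] at this

theorem mem_dHB_conjF (hD : DadeHypothesis A L H) {l : G} (hl : l ∈ L) {C : Finset G}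
    (hCA : ∀ c ∈ C, c ∈ A) {u : G} : u ∈ dHB H (conjF l C) ↔ l⁻¹ * u * l ∈ dHB H C := by
  rw [mem_dHB, mem_dHB]
  constructor
  · intro h c hc
    have hcA := hCA c hc
    have hcA' : l * c * l⁻¹ ∈ A := hD.conj_mem l hl c hcA
    have h1 := h (l * c * l⁻¹) (conj_mem_conjF.mpr hc)
    rw [Lib.Helper3.Dade.mem_H_conj_iff hD hcA hcA']
    have e : l * (l⁻¹ * u * l) * l⁻¹ = u := by group
    rw [e]; exact h1
  · intro h c' hc'
    rw [mem_conjF] at hc'
    have hcA := hCA _ hc'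
    have e0 : l * (l⁻¹ * c' * l) * l⁻¹ = c' := by group
    have hcA' : l * (l⁻¹ * c' * l) * l⁻¹ ∈ A := hD.conj_mem l hl _ hcA
    have h1 := (Lib.Helper3.Dade.mem_H_conj_iff hD hcA hcA' (l⁻¹ * u * l)).mp (h _ hc')
    have e : l * (l⁻¹ * u * l) * l⁻¹ = u := by group
    rw [e, e0] at h1
    exact h1

theorem card_dHB_conjF (hD : DadeHypothesis A L H) {l : G} (hl : l ∈ L) {C : Finset G}
    (hCA : ∀ c ∈ C, c ∈ A) : Nat.card (dHB H (conjF l C)) = Nat.card (dHB H C) := by
  apply Nat.card_congr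
  refine
    { toFun := fun x => ⟨l⁻¹ * (x : G) * l, (mem_dHB_conjF hD hl hCA).mp x.2⟩
      invFun := fun y => ⟨l * (y : G) * l⁻¹, (mem_dHB_conjF hD hl hCA).mpr (by
        have e : l⁻¹ * (l * (y : G) * l⁻¹) * l = y := by group
        rw [e]; exact y.2)⟩
      left_inv := fun x => Subtype.ext (by simp only []; group)
      right_inv := fun y => Subtype.ext (by simp only []; group) }

/-- number of `z` with `b⁻¹ (z g z⁻¹) ∈ H(C)` -/
noncomputable def dCnt (H : G → Subgroup G) (C : Finset G) (b g : G) : ℕ :=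
  ∑ z : G, if b⁻¹ * (z * g * z⁻¹) ∈ dHB H C then 1 else 0

theorem dCnt_conj (hD : DadeHypothesis A L H) {l : G} (hl : l ∈ L) {C : Finset G}
    (hCA : ∀ c ∈ C, c ∈ A) (b g : G) :
    dCnt H (conjF l C) (l * b * l⁻¹) g = dCnt H C b g := by
  unfold dCnt
  apply Fintype.sum_equiv (Equiv.mulLeft l⁻¹)
  intro z
  have h : ((l * b * l⁻¹)⁻¹ * (z * g * z⁻¹) ∈ dHB H (conjF l C)) ↔
      (b⁻¹ * ((Equiv.mulLeft l⁻¹ z) * g * (Equiv.mulLeft l⁻¹ z)⁻¹) ∈ dHB H C) := by
    rw [mem_dHB_conjF hD hl hCA]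
    have e : l⁻¹ * ((l * b * l⁻¹)⁻¹ * (z * g * z⁻¹)) * l =
        b⁻¹ * ((Equiv.mulLeft l⁻¹ z) * g * (Equiv.mulLeft l⁻¹ z)⁻¹) := by
      simp only [Equiv.coe_mulLeft]; group
    rw [e]
  simp only [h]

variable [Fintype L]

/-- the term `T(C, b)` -/
noncomputable def dT (H : G → Subgroup G) (α : L → ℂ) (g : G) (C : Finset G) (b : L) : ℂ :=
  α b * (dCnt H C (b : G) g : ℂ) / (Nat.card (dHB H C) : ℂ)

/-- `S(B) = ∑_{b ∈ A ∩ N_L(B)} T(B ∪ {b}, b)` -/
noncomputable def dS (A : Set G) (H : G → Subgroup G) (α : L → ℂ) (g : G) (B : Finset G) : ℂ :=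
  ∑ b : L, if ((b : G) ∈ A ∧ (b : G) ∈ dLB L B) then dT H α g (insert (b : G) B) b else 0

theorem dS_conj (hD : DadeHypothesis A L H) {α : L → ℂ} (hα : IsClassFunction L α) (g : G)
    {l : G} (hl : l ∈ L) {B : Finset G} (hBA : ∀ c ∈ B, c ∈ A) :
    dS A H α g (conjF l B) = dS A H α g B := by
  unfold dS
  symm
  apply Fintype.sum_equiv (MulAut.conj (⟨l, hl⟩ : L)).toEquiv
  intro b
  have hb' : (((MulAut.conj (⟨l, hl⟩ : L)).toEquiv b : L) : G) = l * (b : G) * l⁻¹ := by
    simp [MulAut.conj_apply]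
  have hcond : ((b : G) ∈ A ∧ (b : G) ∈ dLB L B) ↔
      ((((MulAut.conj (⟨l, hl⟩ : L)).toEquiv b : L) : G) ∈ A ∧
        (((MulAut.conj (⟨l, hl⟩ : L)).toEquiv b : L) : G) ∈ dLB L (conjF l B)) := by
    rw [hb', conj_mem_dLB_conjF hl]
    constructor
    · rintro ⟨h1, h2⟩; exact ⟨hD.conj_mem l hl _ h1, h2⟩
    · rintro ⟨h1, h2⟩
      refine ⟨?_, h2⟩
      have := hD.conj_mem l⁻¹ (L.inv_mem hl) _ h1
      have e : l⁻¹ * (l * (b : G) * l⁻¹) * l⁻¹⁻¹ = b := by group
      rwa [e] at this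
  by_cases hc : ((b : G) ∈ A ∧ (b : G) ∈ dLB L B)
  · rw [if_pos hc, if_pos (hcond.mp hc)]
    unfold dT
    have hins : insert (((MulAut.conj (⟨l, hl⟩ : L)).toEquiv b : L) : G) (conjF l B) =
        conjF l (insert (b : G) B) := by
      rw [hb', conjF_insert]
    have hCA : ∀ c ∈ insert (b : G) B, c ∈ A := by
      intro c hc'
      rcases Finset.mem_insert.mp hc' with rfl | h
      · exact hc.1
      · exact hBA c h
    rw [hins, card_dHB_conjF hD hl hCA, hb', dCnt_conj hD hl hCA]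
    have hαb : α ((MulAut.conj (⟨l, hl⟩ : L)).toEquiv b) = α b := by
      have := hα b ⟨l, hl⟩
      simpa [MulAut.conj_apply] using this
    rw [hαb]
  · rw [if_neg hc, if_neg (fun h => hc (hcond.mpr h))]

end Dade

end Cfsg.Agent.Lib.Helper25
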