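import Mathlib
import Cfsg.Prelude.Def_Characters
import Cfsg.Agent.Lib.Helper25.CharBasic

/-!
Induced class functions (`Cfsg.indFun`) : basic lemmas and Frobenius reciprocity.
-/

set_option autoImplicit false

namespace Cfsg.Agent.Lib.Helper25

section

variable {G : Type*} [Group G]

theorem extendByZero_mem (H : Subgroup G) (θ : H → ℂ) {z : G} (hz : z ∈ H) :
    Cfsg.extendByZero H θ z = θ ⟨z, hz⟩ :=
  Subtype.val_injective.extend_apply θ 0 ⟨z, hz⟩

theorem extendByZero_coe (H : Subgroup G) (θ : H → ℂ) (h : H) :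
    Cfsg.extendByZero H θ (h : G) = θ h :=
  Subtype.val_injective.extend_apply θ 0 h

theorem extendByZero_not_mem (H : Subgroup G) (θ : H → ℂ) {z : G} (hz : z ∉ H) :
    Cfsg.extendByZero H θ z = 0 := by
  unfold Cfsg.extendByZero
  apply Function.extend_apply'
  rintro ⟨a, rfl⟩
  exact hz a.2

variable [Fintype G]

/-- summing an extension by zero over the group is summing over the subgroup -/
theorem sum_extendByZero_mul (H : Subgroup G) [Fintype H] (θ : H → ℂ) (f : G → ℂ) :
    ∑ y : G, Cfsg.extendByZero H θ y * f y = ∑ h : H, θ h * f h := by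
  classical
  have h1 : ∑ y : G, Cfsg.extendByZero H θ y * f y
      = ∑ y ∈ Finset.univ.filter (fun y : G => y ∈ H), Cfsg.extendByZero H θ y * f y := by
    symm
    apply Finset.sum_subset (Finset.filter_subset _ _)
    intro y _ hy
    rw [Finset.mem_filter] at hy
    have : y ∉ H := fun h => hy ⟨Finset.mem_univ _, h⟩
    rw [extendByZero_not_mem H θ this, zero_mul]
  rw [h1]
  rw [Finset.sum_subtype (Finset.univ.filter (fun y : G => y ∈ H)) (p := fun y => y ∈ H)
    (fun y => by simp) (fun y => Cfsg.extendByZero H θ y * f y)]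
  apply Finset.sum_congr rfl
  intro h _
  rw [extendByZero_coe]

theorem sum_extendByZero (H : Subgroup G) [Fintype H] (θ : H → ℂ) :
    ∑ y : G, Cfsg.extendByZero H θ y = ∑ h : H, θ h := by
  have := sum_extendByZero_mul H θ (fun _ => 1)
  simpa using this

/-- the induced function is a class function -/
theorem indFun_conj (H : Subgroup G) (θ : H → ℂ) (g x : G) :
    Cfsg.indFun H θ (x * g * x⁻¹) = Cfsg.indFun H θ g := by
  unfold Cfsg.indFun
  congr 1
  apply Fintype.sum_equiv (Equiv.mulLeft x⁻¹)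
  intro y
  simp only [Equiv.coe_mulLeft]
  congr 1
  group

theorem indFun_isClassFunction (H : Subgroup G) (θ : H → ℂ) :
    Cfsg.IsClassFunction G (Cfsg.indFun H θ) := fun g x => indFun_conj H θ g x

/-- **Frobenius reciprocity** for `Cfsg.indFun`, any function `θ` on `H` and any class function
`φ` on `G`. -/
theorem frobenius_reciprocity (H : Subgroup G) [Fintype H] (θ : H → ℂ) (φ : G → ℂ)
    (hφ : Cfsg.IsClassFunction G φ) :
    Cfsg.classInner (Cfsg.indFun H θ) φ = Cfsg.classInner θ (fun h : H => φ h) := by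
  unfold Cfsg.classInner Cfsg.indFun
  have hG0 : (Nat.card G : ℂ) ≠ 0 := Nat.cast_ne_zero.mpr Nat.card_pos.ne'
  have hH0 : (Nat.card H : ℂ) ≠ 0 := Nat.cast_ne_zero.mpr Nat.card_pos.ne'
  have hswap : ∑ g : G, ((Nat.card H : ℂ)⁻¹ * ∑ x : G, Cfsg.extendByZero H θ (x⁻¹ * g * x)) *
        (starRingEnd ℂ) (φ g)
      = (Nat.card H : ℂ)⁻¹ * ((Nat.card G : ℂ) * ∑ h : H, θ h * (starRingEnd ℂ) (φ h)) := by
    have h1 : ∀ g : G, ((Nat.card H : ℂ)⁻¹ * ∑ x : G, Cfsg.extendByZero H θ (x⁻¹ * g * x)) *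
        (starRingEnd ℂ) (φ g)
        = (Nat.card H : ℂ)⁻¹ * ∑ x : G, Cfsg.extendByZero H θ (x⁻¹ * g * x) *
            (starRingEnd ℂ) (φ (x⁻¹ * g * x)) := by
      intro g
      rw [mul_assoc, Finset.sum_mul]
      congr 1
      apply Finset.sum_congr rfl
      intro x _
      have := hφ g x⁻¹
      rw [inv_inv] at this
      rw [this]
    rw [Finset.sum_congr rfl (fun g _ => h1 g), ← Finset.mul_sum, Finset.sum_comm]
    congr 1
    have h2 : ∀ x : G, ∑ g : G, Cfsg.extendByZero H θ (x⁻¹ * g * x) *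
        (starRingEnd ℂ) (φ (x⁻¹ * g * x)) = ∑ h : H, θ h * (starRingEnd ℂ) (φ h) := by
      intro x
      rw [← sum_extendByZero_mul H θ (fun y => (starRingEnd ℂ) (φ y))]
      exact Fintype.sum_equiv (MulAut.conj x⁻¹).toEquiv _ _ (fun g => by simp [MulAut.conj_apply])
    rw [Finset.sum_congr rfl (fun x _ => h2 x), Finset.sum_const, Finset.card_univ, nsmul_eq_mul,
      Nat.card_eq_fintype_card]
  rw [hswap]
  field_simp

end

end Cfsg.Agent.Lib.Helper25
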