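import Mathlib
import Cfsg.Prelude.Def_Characters
import Cfsg.Agent.Lib.Helper25.CharBasic

/-!
Linear characters `W →* ℂˣ` of a finite group: orthogonality relations.
-/

set_option autoImplicit false

namespace Cfsg.Agent.Lib.Helper25

section

variable {W : Type*} [Group W]

/-- the complex-valued function attached to a linear character -/
def linFun (ω : W →* ℂˣ) : W → ℂ := fun w => (ω w : ℂ)

@[simp] theorem linFun_apply (ω : W →* ℂˣ) (w : W) : linFun ω w = (ω w : ℂ) := rfl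

theorem linFun_one : linFun (1 : W →* ℂˣ) = fun _ => 1 := by
  funext w; simp [linFun]

theorem linFun_mul (ω ω' : W →* ℂˣ) : linFun (ω * ω') = linFun ω * linFun ω' := by
  funext w; simp [linFun]

theorem linFun_injective : Function.Injective (linFun : (W →* ℂˣ) → W → ℂ) := by
  intro ω ω' h
  ext w
  exact congrFun h w

variable [Finite W]

theorem lin_norm_one (ω : W →* ℂˣ) (w : W) : ‖(ω w : ℂ)‖ = 1 := by
  have h : (ω w : ℂ) ^ (Nat.card W) = 1 := by
    rw [← Units.val_pow_eq_pow_val, ← map_pow, pow_card_eq_one', map_one, Units.val_one]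
  exact Complex.norm_eq_one_of_pow_eq_one h (Nat.card_pos.ne')

theorem lin_conj (ω : W →* ℂˣ) (w : W) : (starRingEnd ℂ) (ω w : ℂ) = ((ω⁻¹) w : ℂ) := by
  rw [MonoidHom.inv_apply, Units.val_inv_eq_inv_val, Complex.inv_eq_conj (lin_norm_one ω w)]

end

section

variable {W : Type*} [Group W] [Fintype W]

theorem lin_sum_eq_zero (ω : W →* ℂˣ) (h : ω ≠ 1) : ∑ w : W, (ω w : ℂ) = 0 := by
  obtain ⟨w₀, hw₀⟩ : ∃ w₀, ω w₀ ≠ 1 := by
    by_contra hcon
    simp only [not_exists, not_not] at hcon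
    apply h
    ext w
    simp [hcon w]
  have h1 : ∑ w : W, (ω w : ℂ) = (ω w₀ : ℂ) * ∑ w : W, (ω w : ℂ) := by
    rw [Finset.mul_sum]
    symm
    apply Fintype.sum_equiv (Equiv.mulLeft w₀)
    intro w
    simp [map_mul]
  have h2 : ((ω w₀ : ℂ) - 1) * ∑ w : W, (ω w : ℂ) = 0 := by
    rw [sub_mul, one_mul, ← h1, sub_self]
  rcases mul_eq_zero.mp h2 with h3 | h3
  · exfalso
    apply hw₀
    ext
    simpa [sub_eq_zero] using h3
  · exact h3

open Classical in
theorem lin_orthonormal (ω ω' : W →* ℂˣ) :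
    Cfsg.classInner (linFun ω) (linFun ω') = if ω = ω' then 1 else 0 := by
  unfold Cfsg.classInner
  have hW0 : (Nat.card W : ℂ) ≠ 0 := Nat.cast_ne_zero.mpr Nat.card_pos.ne'
  have hsum : ∑ w : W, linFun ω w * (starRingEnd ℂ) (linFun ω' w) = ∑ w : W, ((ω * ω'⁻¹) w : ℂ) := by
    apply Finset.sum_congr rfl
    intro w _
    rw [linFun_apply, linFun_apply, lin_conj]
    simp
  rw [hsum]
  by_cases e : ω = ω'
  · subst e
    rw [if_pos rfl]
    have h1 : ∀ w : W, (((ω * ω⁻¹) w : ℂˣ) : ℂ) = 1 := by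
      intro w
      simp
    rw [Finset.sum_congr rfl (fun w _ => h1 w)]
    simp only [Finset.sum_const, Finset.card_univ, nsmul_eq_mul, mul_one]
    rw [Nat.card_eq_fintype_card] at hW0 ⊢
    exact inv_mul_cancel₀ hW0
  · rw [if_neg e, lin_sum_eq_zero, mul_zero]
    intro h
    apply e
    ext w
    have h2 := DFunLike.congr_fun h w
    simp only [MonoidHom.mul_apply, MonoidHom.inv_apply, MonoidHom.one_apply] at h2
    rw [mul_inv_eq_one.mp h2]

end

/-- two homs out of `W₁ ⊔ W₂` agreeing on `W₁` and on `W₂` are equal -/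
theorem hom_ext_sup {G M : Type*} [Group G] [Group M] (W₁ W₂ : Subgroup G)
    (φ φ' : ↥(W₁ ⊔ W₂) →* M) (h₁ : ∀ w : ↥(W₁ ⊔ W₂), (w : G) ∈ W₁ → φ w = φ' w)
    (h₂ : ∀ w : ↥(W₁ ⊔ W₂), (w : G) ∈ W₂ → φ w = φ' w) : φ = φ' := by
  have hle : W₁ ⊔ W₂ ≤ (φ.eqLocus φ').map (W₁ ⊔ W₂).subtype := by
    apply sup_le
    · intro w hw
      exact ⟨⟨w, Subgroup.mem_sup_left hw⟩, h₁ _ hw, rfl⟩
    · intro w hw
      exact ⟨⟨w, Subgroup.mem_sup_right hw⟩, h₂ _ hw, rfl⟩
  ext w
  obtain ⟨w', hw', hww⟩ := hle w.2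
  have : w' = w := Subtype.ext hww
  rw [← this]
  exact hw'

end Cfsg.Agent.Lib.Helper25
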