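import Mathlib
import Cfsg.Prelude.Def_Characters
import Cfsg.Agent.Lib.Helper25.LinChar

/-!
Duality for linear characters `W →* ℂˣ` of a finite abelian group: separation of points modulo a
subgroup, and the sum over the characters trivial on a subgroup.
-/

set_option autoImplicit false

namespace Cfsg.Agent.Lib.Helper25

section

variable {W : Type*} [Group W] [Finite W]

/-- In a finite abelian group, the linear characters trivial on a subgroup `N` separate the elements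
outside `N` from the identity. -/
theorem exists_hom_ne_one (hc : ∀ a b : W, a * b = b * a) (N : Subgroup W) (x : W) (hx : x ∉ N) :
    ∃ φ : W →* ℂˣ, (∀ n ∈ N, φ n = 1) ∧ φ x ≠ 1 := by
  have : N.Normal := ⟨fun n hn g => by rw [hc g n, mul_inv_cancel_right]; exact hn⟩
  let _ : CommGroup (W ⧸ N) :=
    { (inferInstance : Group (W ⧸ N)) with
      mul_comm := by
        intro a b
        induction a using QuotientGroup.induction_on
        induction b using QuotientGroup.induction_on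
        rw [← QuotientGroup.mk_mul, ← QuotientGroup.mk_mul, hc] }
  have hne : (QuotientGroup.mk x : W ⧸ N) ≠ 1 := by
    rwa [Ne, QuotientGroup.eq_one_iff]
  have : NeZero ((Monoid.exponent (W ⧸ N) : ℕ) : ℂ) :=
    ⟨Nat.cast_ne_zero.mpr Monoid.exponent_ne_zero_of_finite⟩
  obtain ⟨φ, hφ⟩ := CommGroup.exists_apply_ne_one_of_hasEnoughRootsOfUnity (W ⧸ N) ℂ hne
  refine ⟨φ.comp (QuotientGroup.mk' N), ?_, ?_⟩
  · intro n hn
    have : (QuotientGroup.mk' N) n = 1 := by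
      rw [QuotientGroup.mk'_apply, QuotientGroup.eq_one_iff]
      exact hn
    rw [MonoidHom.comp_apply, this, map_one]
  · exact hφ

end

section

variable {W : Type*} [Group W] [Fintype W]

open Classical in
/-- the finite set of linear characters trivial on `N` -/
noncomputable def dualOf (N : Subgroup W) : Finset (W →* ℂˣ) :=
  haveI : Fintype (W →* ℂˣ) := Fintype.ofFinite _
  Finset.univ.filter (fun φ : W →* ℂˣ => ∀ n ∈ N, φ n = 1)

theorem mem_dualOf (N : Subgroup W) (φ : W →* ℂˣ) : φ ∈ dualOf N ↔ ∀ n ∈ N, φ n = 1 := by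
  classical
  unfold dualOf
  simp

theorem one_mem_dualOf (N : Subgroup W) : (1 : W →* ℂˣ) ∈ dualOf N := by
  rw [mem_dualOf]
  intro n _
  rfl

theorem mul_mem_dualOf (N : Subgroup W) {φ ψ : W →* ℂˣ} (hφ : φ ∈ dualOf N) (hψ : ψ ∈ dualOf N) :
    φ * ψ ∈ dualOf N := by
  rw [mem_dualOf] at *
  intro n hn
  rw [MonoidHom.mul_apply, hφ n hn, hψ n hn, one_mul]

theorem inv_mem_dualOf (N : Subgroup W) {φ : W →* ℂˣ} (hφ : φ ∈ dualOf N) :
    φ⁻¹ ∈ dualOf N := by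
  rw [mem_dualOf] at *
  intro n hn
  rw [MonoidHom.inv_apply, hφ n hn, inv_one]

theorem card_dualOf_ne_zero (N : Subgroup W) : ((dualOf N).card : ℂ) ≠ 0 := by
  rw [Nat.cast_ne_zero]
  exact Finset.card_ne_zero_of_mem (one_mem_dualOf N)

open Classical in
/-- the sum over the characters trivial on `N` of the values at `y`: `|dual|` if `y ∈ N`, else `0`. -/
theorem sum_dualOf (hc : ∀ a b : W, a * b = b * a) (N : Subgroup W) (y : W) :
    ∑ φ ∈ dualOf N, ((φ y : ℂˣ) : ℂ) = if y ∈ N then ((dualOf N).card : ℂ) else 0 := by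
  by_cases hy : y ∈ N
  · rw [if_pos hy]
    have : ∀ φ ∈ dualOf N, ((φ y : ℂˣ) : ℂ) = 1 := by
      intro φ hφ
      rw [(mem_dualOf N φ).mp hφ y hy, Units.val_one]
    rw [Finset.sum_congr rfl this]
    simp
  · rw [if_neg hy]
    obtain ⟨φ₀, hφ₀, hφ₀y⟩ := exists_hom_ne_one hc N y hy
    have hφ₀mem : φ₀ ∈ dualOf N := (mem_dualOf N φ₀).mpr hφ₀
    have h1 : ∑ φ ∈ dualOf N, ((φ y : ℂˣ) : ℂ)
        = ((φ₀ y : ℂˣ) : ℂ) * ∑ φ ∈ dualOf N, ((φ y : ℂˣ) : ℂ) := by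
      rw [Finset.mul_sum]
      symm
      apply Finset.sum_bij' (fun φ _ => φ₀ * φ) (fun φ _ => φ₀⁻¹ * φ)
      · intro φ hφ
        exact mul_mem_dualOf N hφ₀mem hφ
      · intro φ hφ
        exact mul_mem_dualOf N (inv_mem_dualOf N hφ₀mem) hφ
      · intro φ _
        ext w
        simp
      · intro φ _
        ext w
        simp
      · intro φ _
        rw [MonoidHom.mul_apply, Units.val_mul]
    have h2 : (((φ₀ y : ℂˣ) : ℂ) - 1) * ∑ φ ∈ dualOf N, ((φ y : ℂˣ) : ℂ) = 0 := by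
      rw [sub_mul, one_mul, ← h1, sub_self]
    rcases mul_eq_zero.mp h2 with h3 | h3
    · exfalso
      apply hφ₀y
      ext
      simpa [sub_eq_zero] using h3
    · exact h3

end

end Cfsg.Agent.Lib.Helper25

namespace Cfsg.Agent.Lib.Helper25

section Delta

variable {W : Type*} [Group W] [Fintype W]

open Classical in
/-- auxiliary sum: `∑_φ φ(w₀⁻¹)(1 - φ(w))` over the characters trivial on `N`, for `w₀ ∉ N` -/
theorem sum_dualOf_aux (hc : ∀ a b : W, a * b = b * a) (N : Subgroup W) (w₀ w : W) (h : w₀ ∉ N) :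
    ∑ φ ∈ dualOf N, ((φ w₀⁻¹ : ℂˣ) : ℂ) * (1 - ((φ w : ℂˣ) : ℂ))
      = if w₀⁻¹ * w ∈ N then -((dualOf N).card : ℂ) else 0 := by
  have h1 : ∀ φ ∈ dualOf N, ((φ w₀⁻¹ : ℂˣ) : ℂ) * (1 - ((φ w : ℂˣ) : ℂ))
      = ((φ w₀⁻¹ : ℂˣ) : ℂ) - ((φ (w₀⁻¹ * w) : ℂˣ) : ℂ) := by
    intro φ _
    rw [map_mul, Units.val_mul]
    ring
  rw [Finset.sum_congr rfl h1, Finset.sum_sub_distrib, sum_dualOf hc N, sum_dualOf hc N]
  have h2 : w₀⁻¹ ∉ N := fun hh => h (by simpa using N.inv_mem hh)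
  rw [if_neg h2]
  split_ifs <;> simp

open Classical in
/-- The indicator function of a point `w₀` outside `N₁ ∪ N₂` (with `N₁ ⊓ N₂ = ⊥`) is a combination
of the functions `(1 - φ)(1 - ψ)`, `φ` trivial on `N₂`, `ψ` trivial on `N₁`. -/
theorem sum_dual_delta (hc : ∀ a b : W, a * b = b * a) (N₁ N₂ : Subgroup W) (hN : N₁ ⊓ N₂ = ⊥)
    (w₀ : W) (h₁ : w₀ ∉ N₁) (h₂ : w₀ ∉ N₂) (f : W → ℂ) :
    ∑ φ ∈ dualOf N₂, ∑ ψ ∈ dualOf N₁, ((φ w₀⁻¹ : ℂˣ) : ℂ) * ((ψ w₀⁻¹ : ℂˣ) : ℂ) *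
        ∑ w : W, (1 - ((φ w : ℂˣ) : ℂ) - ((ψ w : ℂˣ) : ℂ) + ((φ w : ℂˣ) : ℂ) * ((ψ w : ℂˣ) : ℂ)) * f w
      = ((dualOf N₂).card : ℂ) * ((dualOf N₁).card : ℂ) * f w₀ := by
  calc ∑ φ ∈ dualOf N₂, ∑ ψ ∈ dualOf N₁, ((φ w₀⁻¹ : ℂˣ) : ℂ) * ((ψ w₀⁻¹ : ℂˣ) : ℂ) *
        ∑ w : W, (1 - ((φ w : ℂˣ) : ℂ) - ((ψ w : ℂˣ) : ℂ) + ((φ w : ℂˣ) : ℂ) * ((ψ w : ℂˣ) : ℂ)) * f w
      = ∑ φ ∈ dualOf N₂, ∑ ψ ∈ dualOf N₁, ∑ w : W,
          (((φ w₀⁻¹ : ℂˣ) : ℂ) * (1 - ((φ w : ℂˣ) : ℂ))) *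
          (((ψ w₀⁻¹ : ℂˣ) : ℂ) * (1 - ((ψ w : ℂˣ) : ℂ))) * f w := by
        apply Finset.sum_congr rfl
        intro φ _
        apply Finset.sum_congr rfl
        intro ψ _
        rw [Finset.mul_sum]
        apply Finset.sum_congr rfl
        intro w _
        ring
    _ = ∑ w : W, ∑ φ ∈ dualOf N₂, ∑ ψ ∈ dualOf N₁,
          (((φ w₀⁻¹ : ℂˣ) : ℂ) * (1 - ((φ w : ℂˣ) : ℂ))) *
          (((ψ w₀⁻¹ : ℂˣ) : ℂ) * (1 - ((ψ w : ℂˣ) : ℂ))) * f w := by
        have hsw : ∀ φ ∈ dualOf N₂, (∑ ψ ∈ dualOf N₁, ∑ w : W,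
            (((φ w₀⁻¹ : ℂˣ) : ℂ) * (1 - ((φ w : ℂˣ) : ℂ))) *
            (((ψ w₀⁻¹ : ℂˣ) : ℂ) * (1 - ((ψ w : ℂˣ) : ℂ))) * f w)
            = ∑ w : W, ∑ ψ ∈ dualOf N₁,
            (((φ w₀⁻¹ : ℂˣ) : ℂ) * (1 - ((φ w : ℂˣ) : ℂ))) *
            (((ψ w₀⁻¹ : ℂˣ) : ℂ) * (1 - ((ψ w : ℂˣ) : ℂ))) * f w := fun φ _ => Finset.sum_comm
        rw [Finset.sum_congr rfl hsw, Finset.sum_comm]
    _ = ∑ w : W, (∑ φ ∈ dualOf N₂, ((φ w₀⁻¹ : ℂˣ) : ℂ) * (1 - ((φ w : ℂˣ) : ℂ))) *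
          (∑ ψ ∈ dualOf N₁, ((ψ w₀⁻¹ : ℂˣ) : ℂ) * (1 - ((ψ w : ℂˣ) : ℂ))) * f w := by
        apply Finset.sum_congr rfl
        intro w _
        rw [Finset.sum_mul_sum, Finset.sum_mul]
        apply Finset.sum_congr rfl
        intro φ _
        rw [Finset.sum_mul]
    _ = ∑ w : W, if w = w₀ then ((dualOf N₂).card : ℂ) * ((dualOf N₁).card : ℂ) * f w else 0 := by
        apply Finset.sum_congr rfl
        intro w _
        rw [sum_dualOf_aux hc N₂ w₀ w h₂, sum_dualOf_aux hc N₁ w₀ w h₁]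
        by_cases hw : w = w₀
        · subst hw
          rw [if_pos rfl, inv_mul_cancel, if_pos N₂.one_mem, if_pos N₁.one_mem]
          ring
        · rw [if_neg hw]
          by_cases h2 : w₀⁻¹ * w ∈ N₂
          · by_cases h1 : w₀⁻¹ * w ∈ N₁
            · exfalso
              have : w₀⁻¹ * w ∈ N₁ ⊓ N₂ := ⟨h1, h2⟩
              rw [hN, Subgroup.mem_bot] at this
              apply hw
              rw [inv_mul_eq_one] at this
              exact this.symm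
            · rw [if_neg h1]
              ring
          · rw [if_neg h2]
            ring
    _ = ((dualOf N₂).card : ℂ) * ((dualOf N₁).card : ℂ) * f w₀ := by
        rw [Finset.sum_ite_eq' Finset.univ w₀]
        simp

end Delta

end Cfsg.Agent.Lib.Helper25
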