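import Mathlib
import Cfsg.Prelude.Def_Characters
import Cfsg.Agent.Lib.Helper25.Dual

/-!
Cardinalities for the dual `W →* ℂˣ` of a finite abelian group `W` and for the annihilator
`dualOf N` of a subgroup.
-/

set_option autoImplicit false

namespace Cfsg.Agent.Lib.Helper25

section

variable {W : Type*} [Group W] [Finite W]

/-- the dual of a finite abelian group has the same cardinality -/
theorem card_hom_eq (hc : ∀ a b : W, a * b = b * a) : Nat.card (W →* ℂˣ) = Nat.card W := by
  let _ : CommGroup W := { (inferInstance : Group W) with mul_comm := hc }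
  have : NeZero ((Monoid.exponent W : ℕ) : ℂ) :=
    ⟨Nat.cast_ne_zero.mpr Monoid.exponent_ne_zero_of_finite⟩
  exact CommGroup.card_monoidHom_of_hasEnoughRootsOfUnity W ℂ

/-- the annihilator of `N` in the dual has cardinality `|W / N|` -/
theorem card_annihilator_mul (hc : ∀ a b : W, a * b = b * a) (N : Subgroup W) :
    Nat.card {φ : W →* ℂˣ // ∀ n ∈ N, φ n = 1} * Nat.card N = Nat.card W := by
  let _ : CommGroup W := { (inferInstance : Group W) with mul_comm := hc }
  have : NeZero ((Monoid.exponent W : ℕ) : ℂ) :=
    ⟨Nat.cast_ne_zero.mpr Monoid.exponent_ne_zero_of_finite⟩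
  have h1 := CommGroup.card_domRestrictHom_ker (G := W) ℂ N
  have h2 : Nat.card {φ : W →* ℂˣ // ∀ n ∈ N, φ n = 1}
      = Nat.card (MonoidHom.domRestrictHom N ℂˣ).ker := by
    apply Nat.card_congr
    refine Equiv.subtypeEquivRight ?_
    intro φ
    rw [MonoidHom.mem_ker, MonoidHom.domRestrictHom_apply, MonoidHom.domRestrict_eq_one_iff]
  rw [h2, h1]
  exact (Subgroup.card_eq_card_quotient_mul_card_subgroup N).symm

end

section

variable {W : Type*} [Group W] [Fintype W]

theorem card_dualOf_mul (hc : ∀ a b : W, a * b = b * a) (N : Subgroup W) :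
    (dualOf N).card * Nat.card N = Nat.card W := by
  classical
  rw [← card_annihilator_mul hc N]
  congr 1
  have : Fintype (W →* ℂˣ) := Fintype.ofFinite _
  rw [Nat.card_eq_fintype_card]
  symm
  apply Fintype.card_of_subtype
  intro φ
  exact mem_dualOf N φ

end

end Cfsg.Agent.Lib.Helper25
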