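import Mathlib
import Cfsg.Agent.Lib.Helper25.DadeExp3
import Cfsg.Agent.Lib.Helper25.Induced
import Cfsg.Agent.Lib.Helper80.CharBasic
import Cfsg.Agent.Lib.Helper75.IndNormal
import Cfsg.Agent.S0148
import Cfsg.Agent.S1511

/-!
The induced generalized characters `Φ_B = Ind_{M(B)}^G α_B` of Peterfalvi (2.6) and the formula
`|N_L(B)| Φ_B(g) = S(B)`.  (helper25)
-/

set_option autoImplicit false
set_option linter.unusedSectionVars false
set_option linter.unusedVariables false

namespace Cfsg.Agent.Lib.Helper25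

open Cfsg
open Classical

theorem natCard_subtype_eq_sum {X : Type*} [Fintype X] (P : X → Prop) [DecidablePred P] :
    Nat.card {z : X // P z} = ∑ z : X, if P z then 1 else 0 := by
  rw [Nat.card_eq_fintype_card, Fintype.card_subtype, Finset.card_filter]

section Ext

variable {G : Type*} [Group G] {L : Subgroup G} [Fintype L]

theorem extendByZero_proj (N K : Subgroup G) (hinf : N ⊓ K = ⊥) (hKL : K ≤ L)
    (p : ↥(N ⊔ K) →* ↥K) (hp : ∀ m : ↥(N ⊔ K), ((p m : K) : G)⁻¹ * (m : G) ∈ N) (α : L → ℂ)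
    (m : G) :
    extendByZero (N ⊔ K) (fun m' => α ((Subgroup.inclusion hKL) (p m'))) m
      = ∑ b : L, if ((b : G) ∈ K ∧ (b : G)⁻¹ * m ∈ N) then α b else 0 := by
  by_cases hm : m ∈ N ⊔ K
  · rw [extendByZero_mem _ _ hm]
    rw [Finset.sum_eq_single ((Subgroup.inclusion hKL) (p ⟨m, hm⟩))]
    · rw [if_pos]
      refine ⟨?_, ?_⟩
      · exact (p ⟨m, hm⟩).2
      · exact hp ⟨m, hm⟩
    · intro b _ hne
      rw [if_neg]
      rintro ⟨hbK, hbN⟩
      apply hne
      apply Subtype.ext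
      show (b : G) = ((p ⟨m, hm⟩ : K) : G)
      have h1 : ((p ⟨m, hm⟩ : K) : G)⁻¹ * (b : G) ∈ N := by
        have e : ((p ⟨m, hm⟩ : K) : G)⁻¹ * (b : G) =
            (((p ⟨m, hm⟩ : K) : G)⁻¹ * m) * ((b : G)⁻¹ * m)⁻¹ := by group
        rw [e]
        exact N.mul_mem (hp ⟨m, hm⟩) (N.inv_mem hbN)
      have h2 : ((p ⟨m, hm⟩ : K) : G)⁻¹ * (b : G) ∈ K :=
        K.mul_mem (K.inv_mem (p ⟨m, hm⟩).2) hbK
      have h3 : ((p ⟨m, hm⟩ : K) : G)⁻¹ * (b : G) ∈ N ⊓ K := ⟨h1, h2⟩
      rw [hinf, Subgroup.mem_bot] at h3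
      exact (inv_mul_eq_one.mp h3).symm
    · intro h; exact absurd (Finset.mem_univ _) h
  · rw [extendByZero_not_mem _ _ hm]
    symm
    apply Finset.sum_eq_zero
    intro b _
    rw [if_neg]
    rintro ⟨hbK, hbN⟩
    apply hm
    have e : m = (b : G) * ((b : G)⁻¹ * m) := by group
    rw [e]
    exact Subgroup.mul_mem _ (Subgroup.mem_sup_right hbK) (Subgroup.mem_sup_left hbN)

end Ext

section Dade

variable {G : Type*} [Group G] [Fintype G] {A : Set G} {L : Subgroup G} [Fintype L]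
  {H : G → Subgroup G}

/-- the double counting behind Peterfalvi (2.6) -/
theorem count_swap (hD : DadeHypothesis A L H) {B : Finset G} (hBA : ∀ c ∈ B, c ∈ A)
    (hne : B.Nonempty) {b : G} (hb : b ∈ A) (hbL : b ∈ dLB L B) (g : G) :
    (∑ x : G, if b⁻¹ * (x⁻¹ * g * x) ∈ dHB H B then 1 else 0) * Nat.card (dHB H (insert b B))
      = Nat.card (dHB H B) * dCnt H (insert b B) b g := by
  have h1 : ∀ x : G, (if b⁻¹ * (x⁻¹ * g * x) ∈ dHB H B then 1 else 0) *
      Nat.card (dHB H (insert b B)) =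
      ∑ w : G, if (w ∈ dHB H B ∧ b⁻¹ * (w * (x⁻¹ * g * x) * w⁻¹) ∈ dHB H (insert b B))
        then 1 else 0 := by
    intro x
    have h0 := natCard_subtype_eq_sum
      (fun w : G => w ∈ dHB H B ∧ b⁻¹ * (w * (x⁻¹ * g * x) * w⁻¹) ∈ dHB H (insert b B))
    rw [← h0, key_count hD hBA hne hb hbL (x⁻¹ * g * x)]
    split_ifs <;> simp
  rw [Finset.sum_mul, Finset.sum_congr rfl (fun x _ => h1 x), Finset.sum_comm]
  have h2 : ∀ w : G, (∑ x : G,
      if (w ∈ dHB H B ∧ b⁻¹ * (w * (x⁻¹ * g * x) * w⁻¹) ∈ dHB H (insert b B)) then 1 else 0) =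
      if w ∈ dHB H B then dCnt H (insert b B) b g else 0 := by
    intro w
    by_cases hw : w ∈ dHB H B
    · rw [if_pos hw]
      unfold dCnt
      apply Fintype.sum_equiv ((Equiv.inv G).trans (Equiv.mulLeft w))
      intro x
      have e : (((Equiv.inv G).trans (Equiv.mulLeft w)) x) * g *
          (((Equiv.inv G).trans (Equiv.mulLeft w)) x)⁻¹ = w * (x⁻¹ * g * x) * w⁻¹ := by
        simp only [Equiv.trans_apply, Equiv.inv_apply, Equiv.coe_mulLeft]
        group
      rw [e]
      simp only [hw, true_and]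
    · rw [if_neg hw]
      apply Finset.sum_eq_zero
      intro x _
      rw [if_neg]
      exact fun h => hw h.1
  rw [Finset.sum_congr rfl (fun w _ => h2 w), ← Finset.sum_filter, Finset.sum_const,
    smul_eq_mul]
  congr 1
  rw [Nat.card_eq_fintype_card, Fintype.card_subtype]

theorem card_dHB_pos (B : Finset G) : 0 < Nat.card (dHB H B) := Nat.card_pos

theorem exists_PhiB (hD : DadeHypothesis A L H) {α : L → ℂ} (hα : IsGeneralizedCharacter L α)
    (hαA : ∀ x : L, (x : G) ∉ A → α x = 0) {B : Finset G} (hBA : ∀ c ∈ B, c ∈ A)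
    (hne : B.Nonempty) :
    ∃ Φ : G → ℂ, IsGeneralizedCharacter G Φ ∧
      ∀ g, (Nat.card (dLB L B) : ℂ) * Φ g = dS A H α g B := by
  have hnorm := dLB_norm_dHB hD hBA
  have hinf := dHB_inf_dLB hD hBA hne
  obtain ⟨p, hp⟩ := exists_proj (dHB H B) (dLB L B) hnorm hinf
  have hKL : dLB L B ≤ L := fun x hx => (mem_dLB.mp hx).1
  let f : ↥(dHB H B ⊔ dLB L B) →* L := (Subgroup.inclusion hKL).comp p
  refine ⟨indFun (dHB H B ⊔ dLB L B) (fun m' => α ((Subgroup.inclusion hKL) (p m'))), ?_, ?_⟩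
  · obtain ⟨χ, ψ, hχ, hψ, rfl⟩ := hα
    have e : (fun m' : ↥(dHB H B ⊔ dLB L B) => (χ - ψ) ((Subgroup.inclusion hKL) (p m'))) =
        (fun m' => χ (f m')) - (fun m' => ψ (f m')) := by
      funext m'
      simp only [Pi.sub_apply, f, MonoidHom.comp_apply]
    rw [e, Cfsg.Agent.S1511.indFun_sub]
    exact ⟨_, _, Cfsg.Agent.S0148.result _ _ (Lib.Helper80.isCharacter_comp f hχ),
      Cfsg.Agent.S0148.result _ _ (Lib.Helper80.isCharacter_comp f hψ), rfl⟩
  · intro g
    have hcardM : Nat.card ↥(dHB H B ⊔ dLB L B) = Nat.card (dHB H B) * Nat.card (dLB L B) := by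
      apply Lib.Helper54.card_sup_of_le_normalizer _ hinf
      intro l hl
      rw [Subgroup.mem_set_normalizer_iff]
      intro n
      constructor
      · intro hn; exact hnorm l hl n hn
      · intro hn
        have := hnorm l⁻¹ ((dLB L B).inv_mem hl) _ hn
        have e : l⁻¹ * (l * n * l⁻¹) * l⁻¹⁻¹ = n := by group
        rwa [e] at this
    have hsum : ∑ x : G, extendByZero (dHB H B ⊔ dLB L B)
        (fun m' => α ((Subgroup.inclusion hKL) (p m'))) (x⁻¹ * g * x) =
        (Nat.card (dHB H B) : ℂ) * dS A H α g B := by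
      simp only [extendByZero_proj (dHB H B) (dLB L B) hinf hKL p hp α]
      rw [Finset.sum_comm]
      unfold dS
      rw [Finset.mul_sum]
      apply Finset.sum_congr rfl
      intro b _
      by_cases hc : ((b : G) ∈ A ∧ (b : G) ∈ dLB L B)
      · rw [if_pos hc]
        have h1 : ∀ x : G, (if ((b : G) ∈ dLB L B ∧ (b : G)⁻¹ * (x⁻¹ * g * x) ∈ dHB H B)
            then α b else 0) =
            α b * (((if (b : G)⁻¹ * (x⁻¹ * g * x) ∈ dHB H B then 1 else 0 : ℕ)) : ℂ) := by
          intro x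
          by_cases hx : (b : G)⁻¹ * (x⁻¹ * g * x) ∈ dHB H B
          · rw [if_pos ⟨hc.2, hx⟩, if_pos hx]; simp
          · rw [if_neg (fun h => hx h.2), if_neg hx]; simp
        rw [Finset.sum_congr rfl (fun x _ => h1 x), ← Finset.mul_sum, ← Nat.cast_sum]
        have h2 := count_swap hD hBA hne hc.1 hc.2 g
        have h3 : ((∑ x : G, if (b : G)⁻¹ * (x⁻¹ * g * x) ∈ dHB H B then 1 else 0 : ℕ) : ℂ) *
            (Nat.card (dHB H (insert (b : G) B)) : ℂ) =
            (Nat.card (dHB H B) : ℂ) * (dCnt H (insert (b : G) B) (b : G) g : ℂ) := by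
          exact_mod_cast h2
        have hpos : (Nat.card (dHB H (insert (b : G) B)) : ℂ) ≠ 0 := by
          exact_mod_cast (card_dHB_pos (H := H) (insert (b : G) B)).ne'
        unfold dT
        field_simp
        rw [mul_assoc, h3]
        ring
      · rw [if_neg hc, mul_zero]
        apply Finset.sum_eq_zero
        intro x _
        by_cases hbA : (b : G) ∈ A
        · rw [if_neg]
          exact fun h => hc ⟨hbA, h.1⟩
        · rw [hαA b hbA]; simp
    unfold indFun
    rw [hsum, hcardM]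
    have hpos1 : (Nat.card (dHB H B) : ℂ) ≠ 0 := by
      exact_mod_cast (card_dHB_pos (H := H) B).ne'
    have hpos2 : (Nat.card (dLB L B) : ℂ) ≠ 0 := by
      have : 0 < Nat.card (dLB L B) := Nat.card_pos
      exact_mod_cast this.ne'
    push_cast
    field_simp

end Dade

end Cfsg.Agent.Lib.Helper25
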