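import Mathlib
import Cfsg.Agent.Lib.Helper25.DadeExp3

/-!
The inclusion–exclusion cancellation of Peterfalvi (2.6):
`|L| α^τ(g) = ∑_{∅ ≠ B ⊆ A} (-1)^{|B|+1} S(B)`.  (helper25)
-/

set_option autoImplicit false
set_option linter.unusedSectionVars false
set_option linter.unusedVariables false

namespace Cfsg.Agent.Lib.Helper25

open Cfsg
open Classical

section Dade

variable {G : Type*} [Group G] [Fintype G] {A : Set G} {L : Subgroup G} [Fintype L]
  {H : G → Subgroup G}

/-- `A` as a finset -/
noncomputable def dAf (A : Set G) : Finset G := Finset.univ.filter (fun c => c ∈ A)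

/-- the nonempty subsets of `A` -/
noncomputable def dP (A : Set G) : Finset (Finset G) :=
  (dAf A).powerset.filter (fun B => B.Nonempty)

theorem mem_dAf {c : G} : c ∈ dAf A ↔ c ∈ A := by
  unfold dAf
  simp

theorem mem_dP {B : Finset G} : B ∈ dP A ↔ (∀ c ∈ B, c ∈ A) ∧ B.Nonempty := by
  unfold dP
  rw [Finset.mem_filter, Finset.mem_powerset]
  constructor
  · rintro ⟨h1, h2⟩
    exact ⟨fun c hc => mem_dAf.mp (h1 hc), h2⟩
  · rintro ⟨h1, h2⟩
    exact ⟨fun c hc => mem_dAf.mpr (h1 c hc), h2⟩

theorem powerset_eq_insert : (dAf A).powerset = insert ∅ (dP A) := by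
  ext B
  rw [Finset.mem_insert, Finset.mem_powerset]
  unfold dP
  rw [Finset.mem_filter, Finset.mem_powerset]
  constructor
  · intro h
    rcases B.eq_empty_or_nonempty with h0 | h0
    · exact Or.inl h0
    · exact Or.inr ⟨h, h0⟩
  · rintro (h | h)
    · rw [h]; exact Finset.empty_subset _
    · exact h.1

theorem empty_not_mem_dP : (∅ : Finset G) ∉ dP A := by
  rw [mem_dP]
  rintro ⟨_, h⟩
  exact Finset.not_nonempty_empty h

/-- the summand for fixed `b` -/
noncomputable def dF (H : G → Subgroup G) (α : L → ℂ) (g : G) (b : L) (B : Finset G) : ℂ :=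
  (-1 : ℂ) ^ (B.card + 1) *
    (if (b : G) ∈ dLB L B then dT H α g (insert (b : G) B) b else 0)

theorem dF_pair (α : L → ℂ) (g : G) (b : L) {B : Finset G} (hb : (b : G) ∉ B) :
    dF H α g b (insert (b : G) B) + dF H α g b B = 0 := by
  unfold dF
  rw [Finset.card_insert_of_notMem hb, Finset.insert_idem]
  have h1 : ((b : G) ∈ dLB L (insert (b : G) B)) ↔ ((b : G) ∈ dLB L B) := mem_dLB_insert_self hb
  simp only [h1]
  ring

theorem sum_powerset_dF (α : L → ℂ) (g : G) (b : L) (hbA : (b : G) ∈ A) :
    ∑ B ∈ (dAf A).powerset, dF H α g b B = 0 := by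
  refine Finset.sum_involution
    (fun B _ => if (b : G) ∈ B then B.erase (b : G) else insert (b : G) B) ?_ ?_ ?_ ?_
  · intro B hB
    by_cases hb : (b : G) ∈ B
    · simp only [if_pos hb]
      have h1 := dF_pair (H := H) α g b (Finset.notMem_erase (b : G) B)
      rw [Finset.insert_erase hb] at h1
      exact h1
    · simp only [if_neg hb]
      rw [add_comm]
      exact dF_pair α g b hb
  · intro B hB _
    by_cases hb : (b : G) ∈ B
    · simp only [if_pos hb]
      intro h
      have : (b : G) ∈ B.erase (b : G) := by rw [h]; exact hb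
      exact Finset.notMem_erase _ _ this
    · simp only [if_neg hb]
      intro h
      apply hb
      rw [← h]
      exact Finset.mem_insert_self _ _
  · intro B hB
    rw [Finset.mem_powerset] at hB ⊢
    by_cases hb : (b : G) ∈ B
    · simp only [if_pos hb]
      exact (Finset.erase_subset _ _).trans hB
    · simp only [if_neg hb]
      intro c hc
      rcases Finset.mem_insert.mp hc with rfl | hc
      · exact mem_dAf.mpr hbA
      · exact hB hc
  · intro B hB
    by_cases hb : (b : G) ∈ B
    · simp only [if_pos hb, Finset.notMem_erase, if_false]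
      exact Finset.insert_erase hb
    · simp only [if_neg hb, Finset.mem_insert_self, if_true]
      exact Finset.erase_insert hb

theorem sum_dP_dF (α : L → ℂ) (g : G) (b : L) (hbA : (b : G) ∈ A) :
    ∑ B ∈ dP A, dF H α g b B = dT H α g {(b : G)} b := by
  have h := sum_powerset_dF (H := H) α g b hbA
  rw [powerset_eq_insert, Finset.sum_insert empty_not_mem_dP] at h
  have h0 : dF H α g b ∅ = - dT H α g {(b : G)} b := by
    unfold dF
    have hmem : (b : G) ∈ dLB L (∅ : Finset G) := by
      rw [mem_dLB_iff_conjF]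
      refine ⟨b.2, ?_⟩
      unfold conjF
      rw [Finset.image_empty]
    rw [if_pos hmem]
    simp
  rw [h0] at h
  linear_combination h

theorem sum_dT_singleton (hD : DadeHypothesis A L H) {α : L → ℂ} (hα : IsClassFunction L α)
    (g : G) :
    ∑ b : L, (if (b : G) ∈ A then dT H α g {(b : G)} b else 0) =
      (Nat.card L : ℂ) * dadeIsometry A L H α g := by
  rw [← Lib.Helper3.Dade.sum_W_conj hD hα g]
  unfold Lib.Helper3.Dade.W
  rw [Finset.sum_comm]
  apply Finset.sum_congr rfl
  intro b _
  by_cases hbA : (b : G) ∈ A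
  · rw [if_pos hbA]
    unfold dT dCnt
    rw [dHB_singleton]
    have h1 : ∀ z : G, (if ((b : G) ∈ A ∧ (b : G)⁻¹ * (z * g * z⁻¹) ∈ H (b : G)) then
        α b / (Nat.card (H (b : G)) : ℂ) else 0) =
        α b / (Nat.card (H (b : G)) : ℂ) *
          (((if (b : G)⁻¹ * (z * g * z⁻¹) ∈ H (b : G) then 1 else 0 : ℕ)) : ℂ) := by
      intro z
      by_cases hz : (b : G)⁻¹ * (z * g * z⁻¹) ∈ H (b : G)
      · rw [if_pos ⟨hbA, hz⟩, if_pos hz]; simp
      · rw [if_neg (fun h => hz h.2), if_neg hz]; simp
    rw [Finset.sum_congr rfl (fun z _ => h1 z), ← Finset.mul_sum, ← Nat.cast_sum]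
    ring
  · rw [if_neg hbA]
    symm
    apply Finset.sum_eq_zero
    intro z _
    rw [if_neg]
    exact fun h => hbA h.1

/-- Peterfalvi (2.6), before grouping into `L`-classes -/
theorem dade_expansion (hD : DadeHypothesis A L H) {α : L → ℂ} (hα : IsClassFunction L α)
    (g : G) :
    (Nat.card L : ℂ) * dadeIsometry A L H α g =
      ∑ B ∈ dP A, (-1 : ℂ) ^ (B.card + 1) * dS A H α g B := by
  rw [← sum_dT_singleton hD hα g]
  have h1 : ∀ b : L, (if (b : G) ∈ A then dT H α g {(b : G)} b else 0) =
      ∑ B ∈ dP A, (if (b : G) ∈ A then dF H α g b B else 0) := by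
    intro b
    by_cases hbA : (b : G) ∈ A
    · simp only [if_pos hbA]
      exact (sum_dP_dF α g b hbA).symm
    · simp only [if_neg hbA]
      simp
  rw [Finset.sum_congr rfl (fun b _ => h1 b), Finset.sum_comm]
  apply Finset.sum_congr rfl
  intro B _
  unfold dS
  rw [Finset.mul_sum]
  apply Finset.sum_congr rfl
  intro b _
  unfold dF
  by_cases hbA : (b : G) ∈ A
  · by_cases hbL : (b : G) ∈ dLB L B
    · rw [if_pos hbA, if_pos hbL, if_pos ⟨hbA, hbL⟩]
    · rw [if_pos hbA, if_neg hbL, if_neg (fun h => hbL h.2)]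
  · rw [if_neg hbA, if_neg (fun h => hbA h.1), mul_zero]

end Dade

end Cfsg.Agent.Lib.Helper25
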