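import Mathlib
import Cfsg.Agent.Lib.Helper25.DadeExp4
import Cfsg.Agent.Lib.Helper25.DadeExp5

/-!
Peterfalvi (2.6)/(2.7): grouping the expansion of `α^τ` into `L`-classes of subsets of `A`;
the Dade map sends generalized characters supported on `A` to generalized characters. (helper25)
-/

set_option autoImplicit false
set_option linter.unusedSectionVars false
set_option linter.unusedVariables false

namespace Cfsg.Agent.Lib.Helper25

open Cfsg
open Classical

/-- summing `F x / |class of x|` over a finset, for `F` constant on classes, stays inside any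
additively closed set containing the values of `F` -/
theorem sum_class_mem {ι M : Type*} [AddCommGroup M] [Module ℂ M]
    (s : Finset ι) (R : Setoid ι) (F : ι → M) (P : M → Prop)
    (h0 : P 0) (hadd : ∀ a b, P a → P b → P (a + b))
    (hF : ∀ x ∈ s, P (F x)) (hconst : ∀ x ∈ s, ∀ y ∈ s, R.r x y → F x = F y) :
    P (∑ x ∈ s, ((s.filter (fun y => R.r x y)).card : ℂ)⁻¹ • F x) := by
  rw [Finset.sum_partition R]
  apply Finset.sum_induction _ P hadd h0
  intro xbar hxbar
  rw [Finset.mem_image] at hxbar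
  obtain ⟨x₀, hx₀, rfl⟩ := hxbar
  have hfil : (s.filter (fun y => Quotient.mk R y = Quotient.mk R x₀)) =
      s.filter (fun y => R.r x₀ y) := by
    apply Finset.filter_congr
    intro y _
    rw [Quotient.eq]
    exact ⟨fun h => R.symm h, fun h => R.symm h⟩
  rw [hfil]
  have h1 : ∀ y ∈ s.filter (fun y => R.r x₀ y),
      ((s.filter (fun z => R.r y z)).card : ℂ)⁻¹ • F y =
        ((s.filter (fun z => R.r x₀ z)).card : ℂ)⁻¹ • F x₀ := by
    intro y hy
    rw [Finset.mem_filter] at hy
    have e : s.filter (fun z => R.r y z) = s.filter (fun z => R.r x₀ z) := by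
      apply Finset.filter_congr
      intro z _
      exact ⟨fun h => R.trans hy.2 h, fun h => R.trans (R.symm hy.2) h⟩
    rw [e, hconst x₀ hx₀ y hy.1 hy.2]
  rw [Finset.sum_congr rfl h1, Finset.sum_const]
  have hpos : ((s.filter (fun z => R.r x₀ z)).card : ℂ) ≠ 0 := by
    have : x₀ ∈ s.filter (fun z => R.r x₀ z) := Finset.mem_filter.mpr ⟨hx₀, R.refl x₀⟩
    have h2 : 0 < (s.filter (fun z => R.r x₀ z)).card := Finset.card_pos.mpr ⟨x₀, this⟩
    exact_mod_cast h2.ne'
  rw [← Nat.cast_smul_eq_nsmul ℂ, smul_smul, mul_inv_cancel₀ hpos, one_smul]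
  exact hF x₀ hx₀

section Gen

variable {G : Type*} [Group G]

theorem dgen_zero : IsGeneralizedCharacter G (0 : G → ℂ) :=
  ⟨0, 0, Lib.Helper80.isCharacter_zero, Lib.Helper80.isCharacter_zero, (sub_zero 0).symm⟩

theorem dgen_add {a b : G → ℂ} (ha : IsGeneralizedCharacter G a)
    (hb : IsGeneralizedCharacter G b) : IsGeneralizedCharacter G (a + b) := by
  obtain ⟨χ1, ψ1, h1, h2, rfl⟩ := ha
  obtain ⟨χ2, ψ2, h3, h4, rfl⟩ := hb
  exact ⟨χ1 + χ2, ψ1 + ψ2, Lib.Helper80.isCharacter_add h1 h3,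
    Lib.Helper80.isCharacter_add h2 h4, by abel⟩

theorem dgen_neg {a : G → ℂ} (ha : IsGeneralizedCharacter G a) :
    IsGeneralizedCharacter G (-a) := by
  obtain ⟨χ1, ψ1, h1, h2, rfl⟩ := ha
  exact ⟨ψ1, χ1, h2, h1, by abel⟩

theorem dgen_neg_one_pow (n : ℕ) {a : G → ℂ} (ha : IsGeneralizedCharacter G a) :
    IsGeneralizedCharacter G (((-1 : ℂ) ^ n) • a) := by
  rcases Nat.even_or_odd n with h | h
  · rw [h.neg_one_pow, one_smul]; exact ha
  · rw [h.neg_one_pow, neg_one_smul]; exact dgen_neg ha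

theorem dgen_isClassFunction {a : G → ℂ} (ha : IsGeneralizedCharacter G a) :
    IsClassFunction G a := by
  obtain ⟨χ1, ψ1, h1, h2, rfl⟩ := ha
  intro g h
  have e1 := Lib.Helper80.isClassFunction_of_isCharacter h1 g h
  have e2 := Lib.Helper80.isClassFunction_of_isCharacter h2 g h
  simp only [Pi.sub_apply, e1, e2]

end Gen

section Dade

variable {G : Type*} [Group G] [Fintype G] {A : Set G} {L : Subgroup G} [Fintype L]
  {H : G → Subgroup G}

/-- `L`-conjugacy of finite subsets -/
def conjSetoid (L : Subgroup G) : Setoid (Finset G) where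
  r B B' := ∃ l : L, B' = conjF (l : G) B
  iseqv :=
    { refl := fun B => ⟨1, by rw [Subgroup.coe_one, conjF_one]⟩
      symm := by
        rintro B B' ⟨l, rfl⟩
        refine ⟨l⁻¹, ?_⟩
        rw [← conjF_mul, Subgroup.coe_inv, inv_mul_cancel, conjF_one]
      trans := by
        rintro B B' B'' ⟨l, rfl⟩ ⟨l', rfl⟩
        refine ⟨l' * l, ?_⟩
        rw [Subgroup.coe_mul, conjF_mul] }

theorem conjSetoid_r {B B' : Finset G} :
    (conjSetoid L).r B B' ↔ ∃ l : L, B' = conjF (l : G) B := Iff.rfl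

theorem conjF_mem_dP (hD : DadeHypothesis A L H) {l : G} (hl : l ∈ L) {B : Finset G}
    (hB : B ∈ dP A) : conjF l B ∈ dP A := by
  rw [mem_dP] at hB ⊢
  exact ⟨conjF_subset hD hl hB.1, conjF_nonempty hB.2⟩

/-- the size of the `L`-class of `B` -/
theorem card_class (hD : DadeHypothesis A L H) {B : Finset G} (hB : B ∈ dP A) :
    ((dP A).filter (fun B' => (conjSetoid L).r B B')).card * Nat.card (dLB L B) = Nat.card L := by
  have himg : (dP A).filter (fun B' => (conjSetoid L).r B B') =
      Finset.univ.image (fun l : L => conjF (l : G) B) := by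
    ext B'
    rw [Finset.mem_filter, Finset.mem_image]
    constructor
    · rintro ⟨_, l, rfl⟩
      exact ⟨l, Finset.mem_univ _, rfl⟩
    · rintro ⟨l, _, rfl⟩
      exact ⟨conjF_mem_dP hD l.2 hB, l, rfl⟩
  rw [himg]
  have h1 := Finset.card_eq_sum_card_fiberwise (s := (Finset.univ : Finset L))
    (t := Finset.univ.image (fun l : L => conjF (l : G) B)) (f := fun l : L => conjF (l : G) B)
    (fun l _ => Finset.mem_image_of_mem _ (Finset.mem_univ l))
  have h2 : ∀ B' ∈ Finset.univ.image (fun l : L => conjF (l : G) B),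
      ((Finset.univ : Finset L).filter (fun l : L => conjF (l : G) B = B')).card =
        Nat.card (dLB L B) := by
    intro B' hB'
    rw [Finset.mem_image] at hB'
    obtain ⟨l₀, _, rfl⟩ := hB'
    rw [← Fintype.card_subtype, ← Nat.card_eq_fintype_card]
    apply Nat.card_congr
    have hiff : ∀ l : L, conjF (l : G) B = conjF (l₀ : G) B ↔
        (l₀ : G)⁻¹ * (l : G) ∈ dLB L B := by
      intro l
      rw [mem_dLB_iff_conjF]
      constructor
      · intro h
        refine ⟨L.mul_mem (L.inv_mem l₀.2) l.2, ?_⟩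
        rw [conjF_mul, h, ← conjF_mul, inv_mul_cancel, conjF_one]
      · rintro ⟨_, h⟩
        have h3 : conjF (l₀ : G) (conjF ((l₀ : G)⁻¹ * (l : G)) B) = conjF (l₀ : G) B := by rw [h]
        rw [← conjF_mul] at h3
        have e : (l₀ : G) * ((l₀ : G)⁻¹ * (l : G)) = l := by group
        rw [e] at h3
        exact h3
    refine
      { toFun := fun l => ⟨(l₀ : G)⁻¹ * ((l : L) : G), (hiff l.1).mp l.2⟩
        invFun := fun d => ⟨⟨(l₀ : G) * (d : G), L.mul_mem l₀.2 (mem_dLB.mp d.2).1⟩, by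
          rw [hiff]
          have e : (l₀ : G)⁻¹ * ((l₀ : G) * (d : G)) = d := by group
          show (l₀ : G)⁻¹ * ((l₀ : G) * (d : G)) ∈ dLB L B
          rw [e]; exact d.2⟩
        left_inv := fun l => Subtype.ext (Subtype.ext (by simp))
        right_inv := fun d => Subtype.ext (by simp) }
  rw [Finset.sum_congr rfl h2, Finset.sum_const, smul_eq_mul] at h1
  rw [← h1, Finset.card_univ, Nat.card_eq_fintype_card]

/-- Peterfalvi (2.7) -/
theorem dade_isGeneralizedCharacter (hD : DadeHypothesis A L H) {α : L → ℂ}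
    (hα : IsGeneralizedCharacter L α) (hαA : ∀ x : L, (x : G) ∉ A → α x = 0) :
    IsGeneralizedCharacter G (dadeIsometry A L H α) := by
  have hcl : IsClassFunction L α := dgen_isClassFunction hα
  -- choose the Φ_B
  have hex : ∀ B : Finset G, ∃ Φ : G → ℂ, B ∈ dP A →
      (IsGeneralizedCharacter G Φ ∧ ∀ g, (Nat.card (dLB L B) : ℂ) * Φ g = dS A H α g B) := by
    intro B
    by_cases hB : B ∈ dP A
    · obtain ⟨Φ, h1, h2⟩ := exists_PhiB hD hα hαA (mem_dP.mp hB).1 (mem_dP.mp hB).2
      exact ⟨Φ, fun _ => ⟨h1, h2⟩⟩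
    · exact ⟨0, fun h => absurd h hB⟩
  choose Φ hΦ using hex
  have hLpos : (Nat.card L : ℂ) ≠ 0 := by
    have : 0 < Nat.card L := Nat.card_pos
    exact_mod_cast this.ne'
  have hdpos : ∀ B : Finset G, (Nat.card (dLB L B) : ℂ) ≠ 0 := by
    intro B
    have : 0 < Nat.card (dLB L B) := Nat.card_pos
    exact_mod_cast this.ne'
  -- invariance
  have hinv : ∀ B ∈ dP A, ∀ B' ∈ dP A, (conjSetoid L).r B B' → Φ B = Φ B' := by
    rintro B hB B' hB' ⟨l, rfl⟩
    funext g
    have h1 := (hΦ B hB).2 g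
    have h2 := (hΦ _ hB').2 g
    rw [dS_conj hD hcl g l.2 (mem_dP.mp hB).1, ← h1, card_dLB_conjF l.2] at h2
    exact (mul_left_cancel₀ (hdpos B) h2).symm
  -- the expansion
  have hmain : dadeIsometry A L H α =
      ∑ B ∈ dP A, (((dP A).filter (fun B' => (conjSetoid L).r B B')).card : ℂ)⁻¹ •
        (((-1 : ℂ) ^ (B.card + 1)) • Φ B) := by
    funext g
    rw [Finset.sum_apply]
    have h1 := dade_expansion hD hcl g
    have h2 : (Nat.card L : ℂ) * dadeIsometry A L H α g = (Nat.card L : ℂ) *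
        ∑ B ∈ dP A, ((((dP A).filter (fun B' => (conjSetoid L).r B B')).card : ℂ)⁻¹ •
        (((-1 : ℂ) ^ (B.card + 1)) • Φ B)) g := by
      rw [h1, Finset.mul_sum]
      apply Finset.sum_congr rfl
      intro B hB
      have h3 := card_class hD hB
      have h4 : ((((dP A).filter (fun B' => (conjSetoid L).r B B')).card : ℕ) : ℂ) *
          (Nat.card (dLB L B) : ℂ) = (Nat.card L : ℂ) := by exact_mod_cast h3
      have hcpos : ((((dP A).filter (fun B' => (conjSetoid L).r B B')).card : ℕ) : ℂ) ≠ 0 := by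
        intro h0
        rw [h0, zero_mul] at h4
        exact hLpos h4.symm
      rw [← (hΦ B hB).2 g, ← h4]
      simp only [Pi.smul_apply, smul_eq_mul]
      field_simp
    exact mul_left_cancel₀ hLpos h2
  rw [hmain]
  apply sum_class_mem (dP A) (conjSetoid L)
    (fun B => ((-1 : ℂ) ^ (B.card + 1)) • Φ B) (IsGeneralizedCharacter G) dgen_zero
    (fun a b => dgen_add)
  · intro B hB
    exact dgen_neg_one_pow _ (hΦ B hB).1
  · intro B hB B' hB' hr
    obtain ⟨l, rfl⟩ := hr
    show ((-1 : ℂ) ^ (B.card + 1)) • Φ B = ((-1 : ℂ) ^ ((conjF (l : G) B).card + 1)) • Φ _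
    rw [conjF_card, hinv B hB _ hB' ⟨l, rfl⟩]

end Dade

end Cfsg.Agent.Lib.Helper25
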