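import Mathlib
import Cfsg.Agent.Lib.Helper26.IrrFactsInst

/-!
Signed irreducible characters and generalized characters of small norm (helper25).
-/

set_option autoImplicit false
set_option linter.unusedSectionVars false

namespace Cfsg.Agent.Lib.Helper25

open Cfsg Cfsg.Agent.Lib.Helper26
open scoped ComplexConjugate

section Norm3

variable {G : Type*} [Group G] [Fintype G]

/-- signed irreducible characters -/
def SIrr (G : Type*) [Group G] (e : G → ℂ) : Prop :=
  IsIrrCharacter G e ∨ IsIrrCharacter G (-e)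

theorem SIrr.neg {e : G → ℂ} (h : SIrr G e) : SIrr G (-e) := by
  rcases h with h | h
  · right; rwa [neg_neg]
  · left; exact h

theorem SIrr.gen {e : G → ℂ} (h : SIrr G e) : IsGeneralizedCharacter G e := by
  rcases h with h | h
  · exact isGeneralizedCharacter_of_isCharacter (IrrFacts.irr_isCharacter h)
  · have := gen_neg (isGeneralizedCharacter_of_isCharacter (IrrFacts.irr_isCharacter h))
    rwa [neg_neg] at this

theorem irr_norm' {χ : G → ℂ} (h : IsIrrCharacter G χ) : classInner χ χ = 1 := by
  rw [(irrFacts G).orthonormal χ χ h h, if_pos rfl]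

theorem SIrr.norm {e : G → ℂ} (h : SIrr G e) : classInner e e = 1 := by
  rcases h with h | h
  · exact irr_norm' h
  · have := irr_norm' h
    rwa [Helper26.classInner_neg_left, Helper26.classInner_neg_right, neg_neg] at this

/-- inner products of signed irreducible characters -/
theorem SIrr.inner_tri {e f : G → ℂ} (he : SIrr G e) (hf : SIrr G f) :
    (classInner e f = 1 ∧ e = f) ∨ (classInner e f = -1 ∧ e = -f) ∨ classInner e f = 0 := by
  classical
  have F := irrFacts G
  rcases he with he | he <;> rcases hf with hf | hf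
  · have h := F.orthonormal e f he hf
    by_cases hef : e = f
    · left; rw [h, if_pos hef]; exact ⟨rfl, hef⟩
    · right; right; rw [h, if_neg hef]
  · have h := F.orthonormal e (-f) he hf
    rw [Helper26.classInner_neg_right] at h
    by_cases hef : e = -f
    · right; left
      rw [if_pos hef] at h
      exact ⟨by rw [← h, neg_neg], hef⟩
    · right; right
      rw [if_neg hef] at h
      exact neg_eq_zero.mp h
  · have h := F.orthonormal (-e) f he hf
    rw [Helper26.classInner_neg_left] at h
    by_cases hef : -e = f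
    · right; left
      rw [if_pos hef] at h
      exact ⟨by rw [← h, neg_neg], by rw [← hef, neg_neg]⟩
    · right; right
      rw [if_neg hef] at h
      exact neg_eq_zero.mp h
  · have h := F.orthonormal (-e) (-f) he hf
    rw [Helper26.classInner_neg_left, Helper26.classInner_neg_right, neg_neg] at h
    by_cases hef : -e = -f
    · left
      rw [if_pos hef] at h
      exact ⟨h, neg_injective hef⟩
    · right; right
      rw [if_neg hef] at h
      exact h

theorem SIrr.inner_symm {e f : G → ℂ} (he : SIrr G e) (hf : SIrr G f) :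
    classInner f e = classInner e f := by
  rw [← Helper26.classInner_conj_symm]
  rcases he.inner_tri hf with h | h | h
  · rw [h.1]; simp
  · rw [h.1]; simp
  · rw [h]; simp

/-- inner product of generalized characters, as an integer -/
theorem inner_int' {a b : G → ℂ} (ha : IsGeneralizedCharacter G a)
    (hb : IsGeneralizedCharacter G b) : ∃ n : ℤ, classInner a b = n ∧ classInner b a = n := by
  obtain ⟨n, hn⟩ := (irrFacts G).inner_int ha hb
  refine ⟨n, hn, ?_⟩
  rw [← Helper26.classInner_conj_symm, hn]
  simp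

theorem sirr_of_norm_one {a : G → ℂ} (ha : IsGeneralizedCharacter G a)
    (h1 : classInner a a = 1) : SIrr G a := by
  obtain ⟨χ, hχ, h | h⟩ := (irrFacts G).norm_one ha h1
  · left; rw [h]; exact hχ
  · right; rw [h, neg_neg]; exact hχ

/-- peeling off a signed irreducible constituent -/
theorem peel (β : G → ℂ) (hβ : IsGeneralizedCharacter G β) (k : ℕ)
    (hk : classInner β β = k) (hk1 : 1 ≤ k) (hk3 : k ≤ 3) :
    ∃ e, SIrr G e ∧ classInner β e = 1 ∧ classInner e β = 1 ∧
      IsGeneralizedCharacter G (β - e) ∧ classInner (β - e) (β - e) = ((k - 1 : ℕ) : ℂ) := by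
  classical
  have F := irrFacts G
  obtain ⟨s, c, hs, hc, hβeq⟩ := F.exists_zcomb hβ
  have hex : ∃ χ₀, IsIrrCharacter G χ₀ ∧ classInner β χ₀ ≠ 0 := by
    by_contra hcon
    push Not at hcon
    have h0 : β = 0 := by
      rw [hβeq]
      apply Finset.sum_eq_zero
      intro χ hχ
      have h3 := hcon χ (hs χ hχ)
      rw [hβeq, F.inner_zcomb hs hc (hs χ hχ)] at h3
      have h4 : c χ = 0 := by exact_mod_cast h3
      rw [h4, zero_smul]
    rw [h0, Helper26.classInner_zero_left] at hk
    have : (k : ℂ) ≠ 0 := by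
      have : k ≠ 0 := by omega
      exact_mod_cast this
    exact this hk.symm
  obtain ⟨χ₀, hχ₀, hne⟩ := hex
  have hχ₀gen : IsGeneralizedCharacter G χ₀ :=
    isGeneralizedCharacter_of_isCharacter (IrrFacts.irr_isCharacter hχ₀)
  obtain ⟨n, hn, hn'⟩ := inner_int' hβ hχ₀gen
  have hn0 : n ≠ 0 := by
    intro h; apply hne; rw [hn, h]; simp
  have hγgen : IsGeneralizedCharacter G (β - n • χ₀) := F.gen_sub hβ (F.gen_zsmul n hχ₀gen)
  have hγnorm : classInner (β - n • χ₀) (β - n • χ₀) = (k : ℂ) - (n : ℂ) ^ 2 := by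
    rw [Helper26.classInner_sub_left, Helper26.classInner_sub_right, Helper26.classInner_sub_right,
      Helper26.classInner_zsmul_left, Helper26.classInner_zsmul_right,
      Helper26.classInner_zsmul_left, Helper26.classInner_zsmul_right, hk, hn, hn', irr_norm' hχ₀]
    ring
  obtain ⟨k', hk'⟩ := F.norm_nat hγgen
  have hkk : (k : ℤ) - n ^ 2 = k' := by
    have : (((k : ℤ) - n ^ 2 : ℤ) : ℂ) = ((k' : ℤ) : ℂ) := by
      push_cast; rw [← hγnorm, hk']
    exact_mod_cast this
  have hnsq : n ^ 2 = 1 := by
    have h3 : n ^ 2 ≤ 3 := by omega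
    have h4 : 0 < n ^ 2 := by positivity
    have h6 : -2 < n := by nlinarith
    have h7 : n < 2 := by nlinarith
    interval_cases n <;> omega
  have hn1 : n = 1 ∨ n = -1 := by
    have : (n - 1) * (n + 1) = 0 := by ring_nf; omega
    rcases mul_eq_zero.mp this with h | h
    · left; omega
    · right; omega
  have hk'eq : k' = k - 1 := by omega
  refine ⟨n • χ₀, ?_, ?_, ?_, hγgen, ?_⟩
  · rcases hn1 with h | h
    · left; rw [h, one_smul]; exact hχ₀
    · right; rw [h, neg_one_smul, neg_neg]; exact hχ₀
  · rw [Helper26.classInner_zsmul_right, hn]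
    have : ((n ^ 2 : ℤ) : ℂ) = 1 := by rw [hnsq]; simp
    push_cast at this
    rw [← this]; ring
  · rw [Helper26.classInner_zsmul_left, hn']
    have : ((n ^ 2 : ℤ) : ℂ) = 1 := by rw [hnsq]; simp
    push_cast at this
    rw [← this]; ring
  · rw [hk', hk'eq]

/-- a generalized character of norm `2` is the sum of two orthogonal signed irreducibles -/
theorem norm2_decomp (γ : G → ℂ) (hγ : IsGeneralizedCharacter G γ) (h2 : classInner γ γ = 2) :
    ∃ e₁ e₂, SIrr G e₁ ∧ SIrr G e₂ ∧ classInner e₁ e₂ = 0 ∧ γ = e₁ + e₂ := by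
  obtain ⟨e₁, he₁, h1, h1', hgen, hnorm⟩ := peel γ hγ 2 (by rw [h2]; norm_num) (by norm_num)
    (by norm_num)
  have he₂ : SIrr G (γ - e₁) := sirr_of_norm_one hgen (by rw [hnorm]; norm_num)
  refine ⟨e₁, γ - e₁, he₁, he₂, ?_, by abel⟩
  rw [Helper26.classInner_sub_right, h1', he₁.norm, sub_self]

/-- a generalized character of norm `3` is the sum of three orthogonal signed irreducibles -/
theorem norm3_decomp (β : G → ℂ) (hβ : IsGeneralizedCharacter G β) (h3 : classInner β β = 3) :
    ∃ e₁ e₂ e₃, SIrr G e₁ ∧ SIrr G e₂ ∧ SIrr G e₃ ∧ classInner e₁ e₂ = 0 ∧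
      classInner e₁ e₃ = 0 ∧ classInner e₂ e₃ = 0 ∧ β = e₁ + e₂ + e₃ := by
  obtain ⟨e₁, he₁, h1, h1', hgen, hnorm⟩ := peel β hβ 3 (by rw [h3]; norm_num) (by norm_num)
    (by norm_num)
  obtain ⟨e₂, e₃, he₂, he₃, h23, hγ⟩ := norm2_decomp (β - e₁) hgen (by rw [hnorm]; norm_num)
  have hsum : classInner e₁ e₂ + classInner e₁ e₃ = 0 := by
    rw [← Helper26.classInner_add_right, ← hγ, Helper26.classInner_sub_right, h1', he₁.norm,
      sub_self]
  have h12 : classInner e₁ e₂ = 0 := by
    rcases he₁.inner_tri he₂ with h | h | h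
    · exfalso
      rw [h.1, h.2, h23] at hsum
      norm_num at hsum
    · exfalso
      have h13 : classInner e₁ e₃ = 0 := by
        rw [h.2, Helper26.classInner_neg_left, h23, neg_zero]
      rw [h.1, h13] at hsum
      norm_num at hsum
    · exact h
  have h13 : classInner e₁ e₃ = 0 := by rw [h12, zero_add] at hsum; exact hsum
  refine ⟨e₁, e₂, e₃, he₁, he₂, he₃, h12, h13, h23, ?_⟩
  have : β = e₁ + (β - e₁) := by abel
  rw [this, hγ]; abel

/-- Bessel's identity for an orthonormal family of signed irreducibles and integer coefficients -/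
theorem bessel_int {ι : Type*} [Fintype ι] (c : ι → G → ℂ) (hc : ∀ i, SIrr G (c i))
    (horth : ∀ i j, i ≠ j → classInner (c i) (c j) = 0) (T : G → ℂ)
    (hT : IsGeneralizedCharacter G T) (k : ℕ) (hk : classInner T T = k) (n : ι → ℤ)
    (hn : ∀ i, classInner T (c i) = n i) :
    ∃ r : ℕ, (∑ i, (n i) ^ 2) + (r : ℤ) = k ∧
      classInner (T - ∑ i, n i • c i) (T - ∑ i, n i • c i) = r := by
  classical
  have F := irrFacts G
  have hn' : ∀ i, classInner (c i) T = n i := by
    intro i
    rw [← Helper26.classInner_conj_symm, hn]; simp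
  have hgen : IsGeneralizedCharacter G (T - ∑ i, n i • c i) :=
    F.gen_sub hT (F.gen_sum _ _ (fun i _ => F.gen_zsmul _ (hc i).gen))
  have h1 : classInner T (∑ i, n i • c i) = ∑ i, ((n i : ℂ)) ^ 2 := by
    rw [Helper26.classInner_sum_right]
    apply Finset.sum_congr rfl
    intro i _
    rw [Helper26.classInner_zsmul_right, hn]; ring
  have h2 : classInner (∑ i, n i • c i) T = ∑ i, ((n i : ℂ)) ^ 2 := by
    rw [Helper26.classInner_sum_left]
    apply Finset.sum_congr rfl
    intro i _
    rw [Helper26.classInner_zsmul_left, hn']; ring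
  have h3 : classInner (∑ i, n i • c i) (∑ i, n i • c i) = ∑ i, ((n i : ℂ)) ^ 2 := by
    rw [Helper26.classInner_sum_left]
    apply Finset.sum_congr rfl
    intro i _
    rw [Helper26.classInner_sum_right, Finset.sum_eq_single i]
    · rw [Helper26.classInner_zsmul_left, Helper26.classInner_zsmul_right, (hc i).norm]; ring
    · intro j _ hji
      rw [Helper26.classInner_zsmul_left, Helper26.classInner_zsmul_right,
        horth i j (Ne.symm hji)]; ring
    · intro h; exact absurd (Finset.mem_univ i) h
  have hnorm : classInner (T - ∑ i, n i • c i) (T - ∑ i, n i • c i)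
      = (k : ℂ) - ∑ i, ((n i : ℂ)) ^ 2 := by
    rw [Helper26.classInner_sub_left, Helper26.classInner_sub_right,
      Helper26.classInner_sub_right, hk, h1, h2, h3]
    ring
  obtain ⟨r, hr⟩ := F.norm_nat hgen
  refine ⟨r, ?_, hr⟩
  have : (((∑ i, (n i) ^ 2) + (r : ℤ) : ℤ) : ℂ) = ((k : ℤ) : ℂ) := by
    push_cast
    rw [← hr, hnorm]; ring
  exact_mod_cast this

end Norm3

end Cfsg.Agent.Lib.Helper25
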