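import Mathlib
import Cfsg.Agent.Lib.Helper75.GaloisPow

/-!
A complex number lying in a cyclotomic field and fixed by all automorphisms of `ℂ` acting on the
`m`-th roots of unity by a power map is rational.
-/

set_option autoImplicit false

namespace Cfsg.Agent.Lib.Helper25

theorem exists_rat_of_fixed' (m : ℕ) (hm : 0 < m) (ζ : ℂ) (hζ : IsPrimitiveRoot ζ m) (x : ℂ)
    (hx : x ∈ IntermediateField.adjoin ℚ ({ζ} : Set ℂ))
    (hfix : ∀ k : ℕ, k.Coprime m → ∀ σ : ℂ ≃+* ℂ, (∀ μ : ℂ, μ ^ m = 1 → σ μ = μ ^ k) → σ x = x) :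
    ∃ q : ℚ, x = q := by
  have : NeZero m := ⟨hm.ne'⟩
  have hζalg : IsAlgebraic ℚ ζ := ((hζ.isIntegral hm).tower_top (A := ℚ)).isAlgebraic
  let K : IntermediateField ℚ ℂ := IntermediateField.adjoin ℚ {ζ}
  have hKsub : K.toSubalgebra = Algebra.adjoin ℚ ({ζ} : Set ℂ) :=
    IntermediateField.adjoin_simple_toSubalgebra_of_isAlgebraic hζalg
  have hcyc : IsCyclotomicExtension {m} ℚ K := by
    change IsCyclotomicExtension {m} ℚ K.toSubalgebra
    rw [hKsub]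
    exact hζ.adjoin_isCyclotomicExtension ℚ
  have hgal : IsGalois ℚ K := IsCyclotomicExtension.isGalois {m} ℚ K
  have hfd : FiniteDimensional ℚ K := IsCyclotomicExtension.finiteDimensional {m} ℚ K
  have hxK : x ∈ K := hx
  have hζK : ζ ∈ K := IntermediateField.mem_adjoin_simple_self ℚ ζ
  let x' : K := ⟨x, hxK⟩
  let ζ' : K := ⟨ζ, hζK⟩
  have hζ' : IsPrimitiveRoot ζ' m :=
    IsPrimitiveRoot.of_map_of_injective (f := K.val) hζ Subtype.val_injective
  have hmem : x' ∈ Set.range (algebraMap ℚ K) := by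
    rw [IsGalois.mem_range_algebraMap_iff_fixed]
    intro f
    have hf1 : IsPrimitiveRoot (f ζ') m := hζ'.map_of_injective f.injective
    obtain ⟨k, -, hk⟩ := hζ'.eq_pow_of_pow_eq_one hf1.pow_eq_one
    have hkcop : k.Coprime m := by
      rw [← hk] at hf1
      exact (hζ'.pow_iff_coprime hm k).mp hf1
    obtain ⟨σ, hσ⟩ := Cfsg.Agent.Lib.Helper75.exists_ringEquiv_extending K.toSubalgebra f.toRingEquiv
    have hσζ : σ ζ = ζ ^ k := by
      have h1 := hσ ζ'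
      have h2 : ((f.toRingEquiv ζ' : K) : ℂ) = ζ ^ k := by
        change ((f ζ' : K) : ℂ) = ζ ^ k
        rw [← hk]
        rfl
      rw [h2] at h1
      exact h1
    have hσμ : ∀ μ : ℂ, μ ^ m = 1 → σ μ = μ ^ k := by
      intro μ hμ
      obtain ⟨j, -, hj⟩ := hζ.eq_pow_of_pow_eq_one hμ
      rw [← hj, map_pow, hσζ, ← pow_mul, ← pow_mul, mul_comm]
    have h3 := hfix k hkcop σ hσμ
    have h4 := hσ x'
    apply Subtype.ext
    change ((f x' : K) : ℂ) = x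
    rw [← h3]
    exact h4.symm
  obtain ⟨q, hq⟩ := hmem
  refine ⟨q, ?_⟩
  have : ((algebraMap ℚ K q : K) : ℂ) = x := by rw [hq]
  rw [← this]
  simp

theorem exists_rat_of_fixed (m : ℕ) (hm : 0 < m) (ζ : ℂ) (hζ : IsPrimitiveRoot ζ m) (x : ℂ)
    (hx : x ∈ Algebra.adjoin ℚ ({ζ} : Set ℂ))
    (hfix : ∀ k : ℕ, k.Coprime m → ∀ σ : ℂ ≃+* ℂ, (∀ μ : ℂ, μ ^ m = 1 → σ μ = μ ^ k) → σ x = x) :
    ∃ q : ℚ, x = q :=
  exists_rat_of_fixed' m hm ζ hζ x (IntermediateField.algebra_adjoin_le_adjoin ℚ _ hx) hfix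

end Cfsg.Agent.Lib.Helper25
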