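import Mathlib
import Cfsg.Agent.Lib.Helper24.PFCycDefs
import Cfsg.Agent.Lib.Helper24.PFCycDadeInd
import Cfsg.Agent.Lib.Helper4.PFTypes
import Cfsg.Agent.S1508
import Cfsg.Agent.Lib.Helper81.IrrTwist
import Cfsg.Agent.Lib.Helper78.CharMore

set_option autoImplicit false

/-!
# PF shared bookkeeping (helper24 batch 1b), modules [ETA-GAL], [ETA-CONJ], [ETA-INT] (helper25)
-/

namespace Cfsg.Agent.Lib.Helper25.PFCyc

open Cfsg Cfsg.Agent.Lib.Helper24.PFCyc Cfsg.Agent.Lib.Helper4.PF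

universe u

variable {G : Type u} [Group G] [Fintype G] {W₁ W₂ : Subgroup G}

/-- MODULE [ETA-GAL] -/
theorem eta_galChar (hW : IsSelfNormalizingCyclic W₁ W₂) (hodd : Odd (Nat.card ↥(W₁ ⊔ W₂)))
    (η : WChar W₁ W₂ → (G → ℂ)) (hη : IsCyclicTIFamily W₁ W₂ η) (σ : ℂ ≃+* ℂ)
    (ω : WChar W₁ W₂) : η (galChar σ ω) = fun g => σ (η ω g) := by
  symm
  apply Cfsg.Agent.S1508.family_unique W₁ W₂ hW hodd η hη
  · rcases hη.irr_or_neg ω with h | h
    · exact Or.inl (Cfsg.Agent.Lib.Helper81.isIrrCharacter_galois h σ)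
    · right
      have h1 := Cfsg.Agent.Lib.Helper81.isIrrCharacter_galois h σ
      have e : (-fun g => σ (η ω g)) = fun g => σ ((-η ω) g) := by
        funext g
        simp
      rw [e]
      exact h1
  · intro w hw1 hw2
    show σ (η ω w) = _
    rw [hη.eq_on ω w hw1 hw2, galChar_apply]

/-- A linear character of a finite group composed with complex conjugation is its inverse. -/
theorem galChar_conj (ω : WChar W₁ W₂) :
    galChar (Complex.conjAe.toRingEquiv) ω = ω⁻¹ := by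
  ext w
  rw [galChar_apply, MonoidHom.inv_apply, Units.val_inv_eq_inv_val]
  have h1 : ((ω w : ℂˣ) : ℂ) ^ (orderOf w) = 1 := by
    rw [← Units.val_pow_eq_pow_val, ← map_pow, pow_orderOf_eq_one, map_one, Units.val_one]
  have h2 : ‖((ω w : ℂˣ) : ℂ)‖ = 1 :=
    Complex.norm_eq_one_of_pow_eq_one h1 (orderOf_pos w).ne'
  show (starRingEnd ℂ) ((ω w : ℂˣ) : ℂ) = _
  rw [Complex.inv_def, Complex.normSq_eq_norm_sq, h2]
  simp

/-- MODULE [ETA-CONJ] (special case) -/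
theorem eta_inv (hW : IsSelfNormalizingCyclic W₁ W₂) (hodd : Odd (Nat.card ↥(W₁ ⊔ W₂)))
    (η : WChar W₁ W₂ → (G → ℂ)) (hη : IsCyclicTIFamily W₁ W₂ η)
    (ω : WChar W₁ W₂) : η ω⁻¹ = fun g => (starRingEnd ℂ) (η ω g) := by
  rw [← galChar_conj ω, eta_galChar hW hodd η hη]
  rfl

/-- MODULE [ETA-INT] -/
theorem eta_inner_int (η : WChar W₁ W₂ → (G → ℂ)) (hη : IsCyclicTIFamily W₁ W₂ η)
    (X : G → ℂ) (hX : IsGeneralizedCharacter G X) (ω : WChar W₁ W₂) :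
    ∃ n : ℤ, classInner X (η ω) = (n : ℂ) := by
  obtain ⟨χ₁, χ₂, h1, h2, rfl⟩ := hX
  have key : ∀ ψ : G → ℂ, IsIrrCharacter G ψ → ∃ n : ℤ, classInner (χ₁ - χ₂) ψ = (n : ℂ) := by
    intro ψ hψ
    obtain ⟨n₁, hn₁⟩ := Cfsg.Agent.Lib.Helper78.IsCharacter.exists_nat_classInner h1 ⟨ψ, hψ⟩
    obtain ⟨n₂, hn₂⟩ := Cfsg.Agent.Lib.Helper78.IsCharacter.exists_nat_classInner h2 ⟨ψ, hψ⟩
    refine ⟨(n₁ : ℤ) - (n₂ : ℤ), ?_⟩
    rw [Cfsg.Agent.Lib.Helper3.classInner_sub_left]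
    simp only at hn₁ hn₂
    rw [hn₁, hn₂]
    push_cast
    ring
  rcases hη.irr_or_neg ω with h | h
  · exact key _ h
  · obtain ⟨n, hn⟩ := key _ h
    refine ⟨-n, ?_⟩
    have e : η ω = (-1 : ℂ) • (-η ω) := by simp
    rw [e, Cfsg.Agent.Lib.Helper3.classInner_smul_right, hn]
    simp

end Cfsg.Agent.Lib.Helper25.PFCyc
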