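import Mathlib
import Cfsg.Agent.Lib.Helper75.BGChar
import Cfsg.Agent.Lib.Helper75.Clifford3
import Cfsg.Agent.Lib.Helper77.CenterIrr
import Cfsg.Agent.S0148

/-!
# Character-degree estimates for the coherence descent (Peterfalvi (6.1)) — helper25

* `mul_sum_degree_le` : if each `ψ ∈ F` (distinct irreducibles) has multiplicity `m` in the
  character `χ` then `m * ∑_{ψ ∈ F} ψ(1) ≤ χ(1)`.
* `degree_sq_mul_card_le` : `B ≤ D ≤ C ≤ G`, `[D, C] ≤ B`, `θ ∈ Irr(G)` with `B ≤ ker θ`; then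
  `θ(1)^2 |D| ≤ [G:C]^2 |C|`.
-/

set_option autoImplicit false

namespace Cfsg.Agent.Lib.Helper25.CohDescent

open Cfsg Cfsg.Agent.Lib.Helper78 Cfsg.Agent.Lib.Helper75
open scoped ComplexConjugate

universe u

section General

variable {G : Type u} [Group G] [Fintype G]

/-- multiplicities times degrees are bounded by the degree -/
theorem mul_sum_degree_le {χ : G → ℂ} (hχ : IsCharacter G χ) (F : Finset (IrrCharacter G)) (m : ℕ)
    (hm : ∀ ψ ∈ F, classInner χ (ψ : G → ℂ) = (m : ℂ)) :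
    m * ∑ ψ ∈ F, charDegree (ψ : G → ℂ) ≤ charDegree χ := by
  classical
  obtain ⟨c, hc⟩ := (isCharacter_iff_exists_nat_combination χ).mp hχ
  have hdeg := charDegree_nat_combination c hχ hc
  have hcm : ∀ ψ ∈ F, c ψ = m := by
    intro ψ hψ
    have h1 := hm ψ hψ
    rw [hc, classInner_nat_combination (fun φ => (c φ : ℂ)) ψ] at h1
    exact_mod_cast h1
  rw [hdeg, Finset.mul_sum]
  calc ∑ ψ ∈ F, m * charDegree (ψ : G → ℂ)
      = ∑ ψ ∈ F, c ψ * charDegree (ψ : G → ℂ) :=
        Finset.sum_congr rfl (fun ψ hψ => by rw [hcm ψ hψ])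
    _ ≤ ∑ ψ : IrrCharacter G, c ψ * charDegree (ψ : G → ℂ) :=
        Finset.sum_le_sum_of_subset (Finset.subset_univ F)

/-- the degree of an induced character -/
theorem charDegree_indFun (H : Subgroup G) {σ : H → ℂ} (hσ : IsCharacter H σ) :
    charDegree (indFun H σ) = H.index * charDegree σ := by
  have h1 := indFun_one H σ
  rw [IsCharacter.apply_one_eq_charDegree (Cfsg.Agent.S0148.result H σ hσ),
    IsCharacter.apply_one_eq_charDegree hσ] at h1
  exact_mod_cast h1

/-- `B ≤ D ≤ C ≤ G`, `[D, C] ≤ B ≤ ker θ` for `θ ∈ Irr(G)`: then `θ(1)^2 |D| ≤ [G:C]^2 |C|` -/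
theorem degree_sq_mul_card_le (B D C : Subgroup G) (hBD : B ≤ D) (hDC : D ≤ C)
    (hcent : ∀ x ∈ D, ∀ y ∈ C, x * y * x⁻¹ * y⁻¹ ∈ B) {θ : G → ℂ} (hθ : IsIrrCharacter G θ)
    (hB : ∀ b ∈ B, θ b = θ 1) :
    charDegree θ ^ 2 * Nat.card D ≤ C.index ^ 2 * Nat.card C := by
  classical
  have : Fintype C := Fintype.ofFinite C
  obtain ⟨σ, hσ⟩ := exists_constituent_res C hθ
  have hθc : IsCharacter G θ := IsIrrCharacter.isCharacter hθ
  have hres : IsCharacter C (fun c : C => θ c) := isCharacter_res C hθc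
  have hσc : IsCharacter C (σ : C → ℂ) := IsIrrCharacter.isCharacter σ.2
  -- `B ≤ ker σ`
  have hBσ : ∀ b : C, (b : G) ∈ B → (σ : C → ℂ) b = (σ : C → ℂ) 1 := by
    intro b hb
    exact constituent_ker hres σ hσ b (hB b hb)
  -- `D ≤ Z(σ)`
  have hDσ : ∀ z ∈ D.subgroupOf C, ‖(σ : C → ℂ) z‖ = ‖(σ : C → ℂ) 1‖ := by
    intro z hz
    rw [← Helper77.mem_irrCenter, Helper77.mem_irrCenter_iff_commutator]
    intro h
    rw [Helper77.mem_irrKer]
    apply hBσ
    rw [commutatorElement_def]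
    exact hcent z (Subgroup.mem_subgroupOf.mp hz) h h.2
  have h1 := Helper77.card_mul_sq_le σ (D.subgroupOf C) hDσ
  rw [Nat.card_congr (Subgroup.subgroupOfEquivOfLe hDC).toEquiv,
    IsCharacter.apply_one_eq_charDegree hσc] at h1
  have h1' : Nat.card D * charDegree (σ : C → ℂ) ^ 2 ≤ Nat.card C := by
    have h2 : ‖((charDegree (σ : C → ℂ) : ℕ) : ℂ)‖ = (charDegree (σ : C → ℂ) : ℝ) := by
      simp
    rw [h2] at h1
    exact_mod_cast h1
  -- `θ(1) ≤ [G:C] σ(1)`
  have hne : classInner (indFun C (σ : C → ℂ)) θ ≠ 0 := by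
    rw [frobenius_reciprocity C _ (IsCharacter.isClassFunction hθc), ← classInner_conj_symm]
    intro h0
    apply hσ
    have := congrArg conj h0
    simpa using this
  have h3 := (constituent_degree (Cfsg.Agent.S0148.result C _ hσc) ⟨θ, hθ⟩ hne).1
  rw [charDegree_indFun C hσc] at h3
  calc charDegree θ ^ 2 * Nat.card D
      ≤ (C.index * charDegree (σ : C → ℂ)) ^ 2 * Nat.card D :=
        Nat.mul_le_mul_right _ (Nat.pow_le_pow_left h3 2)
    _ = C.index ^ 2 * (Nat.card D * charDegree (σ : C → ℂ) ^ 2) := by ring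
    _ ≤ C.index ^ 2 * Nat.card C := Nat.mul_le_mul_left _ h1'

end General

section Sub

variable {L : Type u} [Group L] [Fintype L]

/-- the degree bound inside a subgroup `K` of `L` -/
theorem degree_sq_le_sub (K B D C : Subgroup L) (hBD : B ≤ D) (hDC : D ≤ C) (hCK : C ≤ K)
    (hcent : ∀ x ∈ D, ∀ y ∈ C, x * y * x⁻¹ * y⁻¹ ∈ B) {θ : K → ℂ} (hθ : IsIrrCharacter K θ)
    (hB : ∀ a : K, (a : L) ∈ B → θ a = θ 1) :
    charDegree θ ^ 2 ≤ C.relIndex K ^ 2 * D.relIndex C := by
  classical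
  have h := degree_sq_mul_card_le (G := K) (B.subgroupOf K) (D.subgroupOf K) (C.subgroupOf K)
    (fun x hx => hBD hx) (fun x hx => hDC hx)
    (fun x hx y hy => hcent x hx y hy) hθ (fun b hb => hB b hb)
  have hD : Nat.card (D.subgroupOf K) = Nat.card D :=
    Nat.card_congr (Subgroup.subgroupOfEquivOfLe (hDC.trans hCK)).toEquiv
  have hC : Nat.card (C.subgroupOf K) = Nat.card C :=
    Nat.card_congr (Subgroup.subgroupOfEquivOfLe hCK).toEquiv
  have hCD : Nat.card C = Nat.card D * D.relIndex C := by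
    have h1 := (D.subgroupOf C).card_mul_index
    rw [Nat.card_congr (Subgroup.subgroupOfEquivOfLe hDC).toEquiv] at h1
    exact h1.symm
  rw [hD, hC, hCD] at h
  have hpos : 0 < Nat.card D := Nat.card_pos
  have h2 : charDegree θ ^ 2 * Nat.card D ≤ (C.relIndex K ^ 2 * D.relIndex C) * Nat.card D := by
    calc charDegree θ ^ 2 * Nat.card D ≤ (C.subgroupOf K).index ^ 2 * (Nat.card D * D.relIndex C) := h
      _ = (C.relIndex K ^ 2 * D.relIndex C) * Nat.card D := by
        have : (C.subgroupOf K).index = C.relIndex K := rfl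
        rw [this]; ring
  exact Nat.le_of_mul_le_mul_right h2 hpos

/-- the contribution of a fibre of induction to `φ(1)^2 / ‖φ‖^2` -/
theorem fiber_bound (K : Subgroup L) {φ : L → ℂ} (hφ : IsCharacter L φ) (n : ℕ)
    (hn : classInner φ φ = (n : ℂ)) (F : Finset (IrrCharacter K))
    (hF : ∀ θ ∈ F, indFun K (θ : K → ℂ) = φ) :
    n * (K.index * ∑ θ ∈ F, charDegree (θ : K → ℂ) ^ 2) ≤ charDegree φ ^ 2 := by
  classical
  have : Fintype K := Fintype.ofFinite K
  have hres : IsCharacter K (fun k : K => φ k) := isCharacter_res K hφ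
  have hm : ∀ θ ∈ F, classInner (fun k : K => φ k) (θ : K → ℂ) = (n : ℂ) := by
    intro θ hθ
    rw [← frobenius_reciprocity' K _ (IsCharacter.isClassFunction hφ), hF θ hθ, hn]
  have h1 := mul_sum_degree_le hres F n hm
  have hdegres : charDegree (fun k : K => φ k) = charDegree φ := rfl
  rw [hdegres] at h1
  have hdeg : ∀ θ ∈ F, K.index * charDegree (θ : K → ℂ) = charDegree φ := by
    intro θ hθ
    rw [← charDegree_indFun K (IsIrrCharacter.isCharacter θ.2), hF θ hθ]
  calc n * (K.index * ∑ θ ∈ F, charDegree (θ : K → ℂ) ^ 2)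
      = n * ∑ θ ∈ F, (K.index * charDegree (θ : K → ℂ)) * charDegree (θ : K → ℂ) := by
        rw [Finset.mul_sum]
        congr 1
        apply Finset.sum_congr rfl
        intro θ _
        ring
    _ = n * ∑ θ ∈ F, charDegree φ * charDegree (θ : K → ℂ) := by
        congr 1
        apply Finset.sum_congr rfl
        intro θ hθ
        rw [hdeg θ hθ]
    _ = charDegree φ * (n * ∑ θ ∈ F, charDegree (θ : K → ℂ)) := by
        rw [← Finset.mul_sum]; ring
    _ ≤ charDegree φ * charDegree φ := Nat.mul_le_mul_left _ h1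
    _ = charDegree φ ^ 2 := by ring

end Sub

end Cfsg.Agent.Lib.Helper25.CohDescent
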