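import Mathlib
import Cfsg.Prelude.Def_OddOrderChar
import Cfsg.Agent.Lib.Helper25.CohDescent
import Cfsg.Agent.Lib.Helper25.Dual
import Cfsg.Agent.Lib.Helper74.KerSum
import Cfsg.Agent.Lib.Helper80.CharBasic

/-!
# Finite sets of induced characters for the coherence descent (Peterfalvi (6.1)) — helper25
-/

set_option autoImplicit false

namespace Cfsg.Agent.Lib.Helper25.CohDescent

open Cfsg Cfsg.Agent.Lib.Helper78 Cfsg.Agent.Lib.Helper75
open scoped ComplexConjugate

universe u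

section Linear

/-- a solvable finite group has a nontrivial linear character trivial on a given proper normal
subgroup -/
theorem exists_linear_nontrivial {K : Type u} [Group K] [Finite K] (hsolv : Group.IsSolvable K)
    (N : Subgroup K) [N.Normal] (hN : N ≠ ⊤) :
    ∃ f : K →* ℂˣ, f ≠ 1 ∧ ∀ n ∈ N, f n = 1 := by
  classical
  have hnt : Nontrivial (K ⧸ N) := QuotientGroup.nontrivial_iff.mpr hN
  have hlt := Group.IsSolvable.commutator_lt_top_of_nontrivial (K ⧸ N)
  obtain ⟨x, -, hx⟩ := SetLike.exists_of_lt hlt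
  have hc : ∀ a b : Abelianization (K ⧸ N), a * b = b * a := fun a b => mul_comm a b
  have hx' : (Abelianization.of x : Abelianization (K ⧸ N)) ∉ (⊥ : Subgroup (Abelianization (K ⧸ N))) := by
    rw [Subgroup.mem_bot]
    intro h
    apply hx
    have : x ∈ (Abelianization.of (G := K ⧸ N)).ker := h
    rwa [Abelianization.ker_of] at this
  obtain ⟨φ, -, hφ⟩ := exists_hom_ne_one hc ⊥ _ hx'
  refine ⟨(φ.comp Abelianization.of).comp (QuotientGroup.mk' N), ?_, ?_⟩
  · intro h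
    obtain ⟨k, rfl⟩ := QuotientGroup.mk'_surjective N x
    apply hφ
    have := DFunLike.congr_fun h k
    simpa using this
  · intro n hn
    have : (QuotientGroup.mk' N) n = 1 := by
      rw [QuotientGroup.mk'_apply, QuotientGroup.eq_one_iff]
      exact hn
    rw [MonoidHom.comp_apply, this, map_one]

end Linear

section Sets

variable {L : Type u} [Group L] [Fintype L]

/-- complex conjugation commutes with induction -/
theorem conjFun_indFun (K : Subgroup L) (θ : K → ℂ) :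
    Cfsg.conjFun (indFun K θ) = indFun K (Cfsg.conjFun θ) := by
  funext g
  unfold Cfsg.conjFun indFun
  rw [map_mul, map_inv₀, Complex.conj_natCast, map_sum]
  congr 1
  apply Finset.sum_congr rfl
  intro x _
  by_cases hx : x⁻¹ * g * x ∈ K
  · rw [extendByZero_of_mem _ _ hx, extendByZero_of_mem _ _ hx]
  · rw [extendByZero_of_not_mem _ _ hx, extendByZero_of_not_mem _ _ hx, map_zero]

theorem conjFun_conjFun {X : Type*} (f : X → ℂ) : Cfsg.conjFun (Cfsg.conjFun f) = f := by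
  funext x
  simp [Cfsg.conjFun]

open Classical in
/-- the nonprincipal irreducible characters of `K` with `X ∩ K` in the kernel -/
noncomputable def thetaSet (K X : Subgroup L) : Finset (IrrCharacter K) :=
  Finset.univ.filter (fun θ : IrrCharacter K => (θ : K → ℂ) ≠ (fun _ => 1) ∧
    ∀ a : K, (a : L) ∈ X → (θ : K → ℂ) a = (θ : K → ℂ) 1)

theorem mem_thetaSet (K X : Subgroup L) (θ : IrrCharacter K) :
    θ ∈ thetaSet K X ↔ ((θ : K → ℂ) ≠ (fun _ => 1) ∧
      ∀ a : K, (a : L) ∈ X → (θ : K → ℂ) a = (θ : K → ℂ) 1) := by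
  unfold thetaSet
  simp

open Classical in
/-- the functions induced from `thetaSet K X`, as a finite set -/
noncomputable def indSet (K X : Subgroup L) : Finset (L → ℂ) :=
  (thetaSet K X).image (fun θ : IrrCharacter K => indFun K (θ : K → ℂ))

theorem mem_indSet_iff (K X : Subgroup L) (φ : L → ℂ) :
    φ ∈ indSet K X ↔ φ ∈ inducedIrrAbove K X := by
  classical
  unfold indSet inducedIrrAbove
  rw [Finset.mem_image, Set.mem_setOf_eq]
  constructor
  · rintro ⟨θ, hθ, rfl⟩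
    rw [mem_thetaSet] at hθ
    exact ⟨θ, θ.2, hθ.1, hθ.2, rfl⟩
  · rintro ⟨θ, hθ, h1, h2, rfl⟩
    exact ⟨⟨θ, hθ⟩, (mem_thetaSet K X _).mpr ⟨h1, h2⟩, rfl⟩

theorem coe_indSet (K X : Subgroup L) : (↑(indSet K X) : Set (L → ℂ)) = inducedIrrAbove K X := by
  ext φ
  rw [Finset.mem_coe, mem_indSet_iff]

theorem inducedIrrAbove_subset_bot (K X : Subgroup L) :
    inducedIrrAbove K X ⊆ inducedIrrAbove K ⊥ := by
  rintro φ ⟨θ, hθ, h1, -, rfl⟩
  refine ⟨θ, hθ, h1, ?_, rfl⟩
  intro a ha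
  rw [Subgroup.mem_bot] at ha
  have : a = 1 := Subtype.ext ha
  rw [this]

theorem conj_mem_inducedIrrAbove (K X : Subgroup L) {φ : L → ℂ} (hφ : φ ∈ inducedIrrAbove K X) :
    Cfsg.conjFun φ ∈ inducedIrrAbove K X := by
  obtain ⟨θ, hθ, h1, h2, rfl⟩ := hφ
  refine ⟨Cfsg.conjFun θ, Cfsg.Agent.Lib.Helper81.isIrrCharacter_conj hθ, ?_, ?_, conjFun_indFun K θ⟩
  · intro h
    apply h1
    have := congrArg Cfsg.conjFun h
    rw [conjFun_conjFun] at this
    rw [this]
    funext x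
    simp [Cfsg.conjFun]
  · intro a ha
    unfold Cfsg.conjFun
    rw [h2 a ha]

end Sets

section Sums

variable {L : Type u} [Group L] [Fintype L]

/-- `∑_{θ ∈ Irr(K/A)^#} θ(1)^2 = [K:A] - 1` -/
theorem sum_sq_thetaSet (K A : Subgroup L) [hA : (A.subgroupOf K).Normal] :
    ∑ θ ∈ thetaSet K A, charDegree (θ : K → ℂ) ^ 2 + 1 = A.relIndex K := by
  classical
  have : Fintype K := Fintype.ofFinite K
  have : Fintype (A.subgroupOf K) := Fintype.ofFinite _
  have h := Cfsg.Agent.Lib.Helper74.sum_sq_degree_of_kernel_ge (G := K) (A.subgroupOf K)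
  let one' : IrrCharacter K := ⟨fun _ => 1, isIrrCharacter_one⟩
  have hfilter : Finset.univ.filter (fun χ : IrrCharacter K =>
      ∀ n ∈ A.subgroupOf K, (χ : K → ℂ) n = (χ : K → ℂ) 1) = insert one' (thetaSet K A) := by
    ext χ
    rw [Finset.mem_filter, Finset.mem_insert, mem_thetaSet]
    constructor
    · rintro ⟨-, h2⟩
      by_cases h1 : χ = one'
      · left; exact h1
      · right
        refine ⟨fun h3 => h1 (Subtype.ext h3), fun a ha => h2 a (Subgroup.mem_subgroupOf.mpr ha)⟩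
    · rintro (h1 | ⟨-, h2⟩)
      · refine ⟨Finset.mem_univ _, fun n _ => ?_⟩
        rw [h1]
      · exact ⟨Finset.mem_univ _, fun n hn => h2 n (Subgroup.mem_subgroupOf.mp hn)⟩
  have hnot : one' ∉ thetaSet K A := by
    rw [mem_thetaSet]
    rintro ⟨h1, -⟩
    exact h1 rfl
  rw [hfilter, Finset.sum_insert hnot] at h
  have h2 : ((∑ θ ∈ thetaSet K A, charDegree (θ : K → ℂ) ^ 2 + 1 : ℕ) : ℂ) =
      ((A.relIndex K : ℕ) : ℂ) := by
    have h3 : (A.subgroupOf K).index = A.relIndex K := rfl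
    rw [h3] at h
    rw [← h]
    push_cast
    have h4 : ∀ θ ∈ thetaSet K A, ((θ : K → ℂ) 1) ^ 2 = (charDegree (θ : K → ℂ) : ℂ) ^ 2 := by
      intro θ _
      rw [IsCharacter.apply_one_eq_charDegree (IsIrrCharacter.isCharacter θ.2)]
    rw [Finset.sum_congr rfl h4]
    simp only [one']
    ring
  exact_mod_cast h2

/-- the lower bound for `∑ φ(1)^2 / ‖φ‖^2` over a set containing `S(A)` -/
theorem sum_bound (K A : Subgroup L) [hA : (A.subgroupOf K).Normal] (S₁ : Finset (L → ℂ))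
    (hsub : indSet K A ⊆ S₁) (n : (L → ℂ) → ℕ) (hchar : ∀ φ ∈ S₁, IsCharacter L φ)
    (hn : ∀ φ ∈ S₁, classInner φ φ = (n φ : ℂ)) (hn0 : ∀ φ ∈ S₁, n φ ≠ 0) :
    (K.index : ℝ) * ((A.relIndex K : ℝ) - 1) ≤
      ∑ φ ∈ S₁, ((charDegree φ : ℝ) ^ 2 / (n φ : ℝ)) := by
  classical
  have h1 : ∑ φ ∈ indSet K A, ((charDegree φ : ℝ) ^ 2 / (n φ : ℝ)) ≤
      ∑ φ ∈ S₁, ((charDegree φ : ℝ) ^ 2 / (n φ : ℝ)) := by
    apply Finset.sum_le_sum_of_subset_of_nonneg hsub
    intro φ _ _
    positivity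
  refine le_trans ?_ h1
  -- fibrewise
  have h2 : ∀ φ ∈ indSet K A, (K.index : ℝ) * ∑ θ ∈ (thetaSet K A).filter
      (fun θ : IrrCharacter K => indFun K (θ : K → ℂ) = φ), (charDegree (θ : K → ℂ) : ℝ) ^ 2 ≤
      (charDegree φ : ℝ) ^ 2 / (n φ : ℝ) := by
    intro φ hφ
    have hφ1 := hsub hφ
    have hpos : (0 : ℝ) < (n φ : ℝ) := by
      have := Nat.pos_of_ne_zero (hn0 φ hφ1)
      exact_mod_cast this
    rw [le_div_iff₀ hpos]
    have h3 := fiber_bound K (hchar φ hφ1) (n φ) (hn φ hφ1)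
      ((thetaSet K A).filter (fun θ : IrrCharacter K => indFun K (θ : K → ℂ) = φ))
      (fun θ hθ => (Finset.mem_filter.mp hθ).2)
    have h4 : ((n φ * (K.index * ∑ θ ∈ (thetaSet K A).filter
        (fun θ : IrrCharacter K => indFun K (θ : K → ℂ) = φ), charDegree (θ : K → ℂ) ^ 2) : ℕ) : ℝ)
        ≤ ((charDegree φ ^ 2 : ℕ) : ℝ) := by exact_mod_cast h3
    push_cast at h4
    linarith
  have h5 : ∑ φ ∈ indSet K A, ∑ θ ∈ (thetaSet K A).filter
      (fun θ : IrrCharacter K => indFun K (θ : K → ℂ) = φ), (charDegree (θ : K → ℂ) : ℝ) ^ 2 =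
      ∑ θ ∈ thetaSet K A, (charDegree (θ : K → ℂ) : ℝ) ^ 2 := by
    apply Finset.sum_fiberwise_of_maps_to
    intro θ hθ
    exact Finset.mem_image_of_mem _ hθ
  have h6 : ∑ θ ∈ thetaSet K A, (charDegree (θ : K → ℂ) : ℝ) ^ 2 = (A.relIndex K : ℝ) - 1 := by
    have := sum_sq_thetaSet K A
    have h7 : ((∑ θ ∈ thetaSet K A, charDegree (θ : K → ℂ) ^ 2 + 1 : ℕ) : ℝ) =
        (A.relIndex K : ℝ) := by exact_mod_cast this
    push_cast at h7
    linarith
  calc (K.index : ℝ) * ((A.relIndex K : ℝ) - 1)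
      = ∑ φ ∈ indSet K A, (K.index : ℝ) * ∑ θ ∈ (thetaSet K A).filter
          (fun θ : IrrCharacter K => indFun K (θ : K → ℂ) = φ),
          (charDegree (θ : K → ℂ) : ℝ) ^ 2 := by
        rw [← Finset.mul_sum, h5, h6]
    _ ≤ ∑ φ ∈ indSet K A, ((charDegree φ : ℝ) ^ 2 / (n φ : ℝ)) := Finset.sum_le_sum h2

end Sums

section LinearMem

variable {L : Type u} [Group L] [Fintype L]

/-- `S(X)` contains a character of degree `[L:K]` when `K` is solvable and `X < K` -/
theorem exists_linear_mem (K X : Subgroup L) [hX : X.Normal] (hsolv : Group.IsSolvable K)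
    (hXK : X < K) :
    ∃ χ₁ ∈ inducedIrrAbove K X, charDegree χ₁ = K.index := by
  classical
  have hne : X.subgroupOf K ≠ ⊤ := by
    intro h
    rw [Subgroup.subgroupOf_eq_top] at h
    exact absurd h (not_le_of_gt hXK)
  obtain ⟨f, hf1, hfX⟩ := exists_linear_nontrivial hsolv (X.subgroupOf K) hne
  have hirr : IsIrrCharacter K (fun k : K => (f k : ℂ)) :=
    Cfsg.Agent.Lib.Helper80.isIrrCharacter_of_hom f
  refine ⟨indFun K (fun k : K => (f k : ℂ)), ⟨_, hirr, ?_, ?_, rfl⟩, ?_⟩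
  · intro h
    apply hf1
    ext k
    have := congrFun h k
    simpa using this
  · intro a ha
    rw [hfX a (Subgroup.mem_subgroupOf.mpr ha), map_one]
  · rw [charDegree_indFun K (IsIrrCharacter.isCharacter hirr)]
    have : charDegree (fun k : K => (f k : ℂ)) = 1 := by
      simp [charDegree]
    rw [this, mul_one]

/-- the degree of a member of `S(X)` -/
theorem charDegree_of_mem (K X : Subgroup L) {φ : L → ℂ} (hφ : φ ∈ inducedIrrAbove K X) :
    ∃ θ : K → ℂ, IsIrrCharacter K θ ∧ (∀ a : K, (a : L) ∈ X → θ a = θ 1) ∧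
      charDegree φ = K.index * charDegree θ := by
  obtain ⟨θ, hθ, -, h2, rfl⟩ := hφ
  exact ⟨θ, hθ, h2, charDegree_indFun K (IsIrrCharacter.isCharacter hθ)⟩

end LinearMem

end Cfsg.Agent.Lib.Helper25.CohDescent
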