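import Mathlib

/-!
# Counting with free conjugation actions on an abelian section (helper25)

* `dvd_card_of_forall_index_stabilizer` : an invariant finite set all of whose point stabilizers
  have index `e` has cardinality divisible by `e`.
* `index_dvd_relIndex_sub_one` : if `L/H₁` is "Frobenius with kernel `K/H₁`" (in centraliser form)
  and `H₁ ≤ N ≤ K` with `N ⊴ L`, then `[L:K] ∣ [N:H₁] - 1`.
* `exists_prime_pow_relIndex_of_no_normal_between` : if `K/H₁` is abelian and no normal subgroup of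
  `L` lies strictly between `H₁` and `K`, then `[K:H₁]` is a prime power.
-/

set_option autoImplicit false

namespace Cfsg.Agent.Lib.Helper25.FrobCount

universe u

open scoped commutatorElement

section Orbit

variable {G : Type*} {X : Type*} [Group G] [MulAction G X]

theorem dvd_card_of_forall_index_stabilizer [DecidableEq X] (Y : Finset X)
    (hY : ∀ g : G, ∀ y ∈ Y, g • y ∈ Y) (e : ℕ)
    (hstab : ∀ y ∈ Y, (MulAction.stabilizer G y).index = e) : e ∣ Y.card := by
  classical
  let f : X → MulAction.orbitRel.Quotient G X := Quotient.mk (MulAction.orbitRel G X)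
  have h1 : Y.card = ∑ b ∈ Y.image f, (Y.filter (fun y => f y = b)).card :=
    Finset.card_eq_sum_card_fiberwise (fun y hy => Finset.mem_image_of_mem f hy)
  rw [h1]
  apply Finset.dvd_sum
  intro b hb
  obtain ⟨y, hy, rfl⟩ := Finset.mem_image.mp hb
  have h2 : (↑(Y.filter (fun y' => f y' = f y)) : Set X) = MulAction.orbit G y := by
    ext y'
    simp only [Finset.coe_filter, Set.mem_setOf_eq]
    constructor
    · rintro ⟨-, h⟩
      exact (MulAction.orbitRel_apply).mp (Quotient.exact h)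
    · intro h
      obtain ⟨g, rfl⟩ := h
      refine ⟨hY g y hy, ?_⟩
      apply Quotient.sound
      exact (MulAction.orbitRel_apply).mpr ⟨g, rfl⟩
  have h3 : (Y.filter (fun y' => f y' = f y)).card = e := by
    rw [← hstab y hy, MulAction.index_stabilizer, ← h2, Set.ncard_coe_finset]
  rw [h3]

end Orbit

section Frob

variable {L : Type u} [Group L] [Finite L]

/-- the order of the image of `N ≥ H₁` in `L/H₁` -/
theorem card_map_mk (H₁ N : Subgroup L) [H₁.Normal] (hH₁N : H₁ ≤ N) :
    Nat.card (N.map (QuotientGroup.mk' H₁)) = H₁.relIndex N := by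
  have h1 : (N.map (QuotientGroup.mk' H₁)).index = N.index :=
    Subgroup.index_map_eq N (QuotientGroup.mk'_surjective H₁) (by rw [QuotientGroup.ker_mk']; exact hH₁N)
  have h2 := (N.map (QuotientGroup.mk' H₁)).card_mul_index
  rw [h1, ← Subgroup.index_eq_card, ← Subgroup.relIndex_mul_index hH₁N] at h2
  exact Nat.eq_of_mul_eq_mul_right (Nat.pos_of_ne_zero Subgroup.index_ne_zero_of_finite) h2

/-- Frobenius counting: `[L:K]` divides `[N:H₁] - 1` -/
theorem index_dvd_relIndex_sub_one (K H₁ N : Subgroup L) [hK : K.Normal] [hH₁ : H₁.Normal]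
    [hN : N.Normal] (hcomm : ⁅K, K⁆ ≤ H₁) (hH₁N : H₁ ≤ N) (hNK : N ≤ K)
    (hfrob : ∀ k ∈ K, k ∉ H₁ → ∀ x : L, x * k * x⁻¹ * k⁻¹ ∈ H₁ → x ∈ K) :
    K.index ∣ H₁.relIndex N - 1 := by
  classical
  have : Fintype (L ⧸ H₁) := Fintype.ofFinite _
  set π := QuotientGroup.mk' H₁ with hπ
  have hπs : Function.Surjective π := QuotientGroup.mk'_surjective H₁
  have hNn : (N.map π).Normal := Subgroup.Normal.map hN π hπs
  let Y : Finset (L ⧸ H₁) := (Finset.univ.filter (fun q => q ∈ N.map π)).erase 1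
  have hYcard : Y.card = H₁.relIndex N - 1 := by
    rw [Finset.card_erase_of_mem
        (by rw [Finset.mem_filter]; exact ⟨Finset.mem_univ _, Subgroup.one_mem _⟩), ← card_map_mk H₁ N hH₁N,
      Nat.card_eq_fintype_card, Fintype.card_subtype]
  rw [← hYcard]
  apply dvd_card_of_forall_index_stabilizer (G := ConjAct (L ⧸ H₁)) Y
  · intro g y hy
    rw [Finset.mem_erase, Finset.mem_filter] at hy ⊢
    obtain ⟨hy1, -, hy2⟩ := hy
    rw [ConjAct.smul_def]
    refine ⟨?_, Finset.mem_univ _, hNn.conj_mem y hy2 _⟩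
    intro h
    apply hy1
    have := congrArg (fun z => (ConjAct.ofConjAct g)⁻¹ * z * ConjAct.ofConjAct g) h
    simpa [mul_assoc] using this
  · intro y hy
    rw [Finset.mem_erase, Finset.mem_filter] at hy
    obtain ⟨hy1, -, hy2⟩ := hy
    obtain ⟨k, hkN, rfl⟩ := Subgroup.mem_map.mp hy2
    have hkH₁ : k ∉ H₁ := by
      intro h
      apply hy1
      rw [hπ, QuotientGroup.mk'_apply, QuotientGroup.eq_one_iff]
      exact h
    have hstab : MulAction.stabilizer (ConjAct (L ⧸ H₁)) (π k) =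
        (K.map π).comap (ConjAct.ofConjAct (G := L ⧸ H₁)).toMonoidHom := by
      ext g
      rw [MulAction.mem_stabilizer_iff, ConjAct.smul_def, Subgroup.mem_comap]
      obtain ⟨x, hx⟩ := hπs (ConjAct.ofConjAct g)
      change _ ↔ ConjAct.ofConjAct g ∈ K.map π
      rw [← hx]
      have hiff : π x * π k * (π x)⁻¹ = π k ↔ x * k * x⁻¹ * k⁻¹ ∈ H₁ := by
        rw [← QuotientGroup.eq_one_iff, ← QuotientGroup.mk'_apply, ← hπ, map_mul, map_mul, map_mul,
          map_inv, map_inv, mul_inv_eq_one]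
      rw [hiff]
      constructor
      · intro h
        exact Subgroup.mem_map_of_mem π (hfrob k (hNK hkN) hkH₁ x h)
      · intro h
        obtain ⟨x₀, hx₀, hx₀x⟩ := Subgroup.mem_map.mp h
        have hxK : x ∈ K := by
          have h1 : x₀⁻¹ * x ∈ H₁ := by
            rw [← QuotientGroup.eq_one_iff, ← QuotientGroup.mk'_apply, ← hπ, map_mul, map_inv,
              hx₀x, inv_mul_cancel]
          have h2 : x = x₀ * (x₀⁻¹ * x) := by group
          rw [h2]
          exact K.mul_mem hx₀ ((hH₁N.trans hNK) h1)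
        apply hcomm
        have := Subgroup.commutator_mem_commutator hxK (hNK hkN)
        rwa [commutatorElement_def] at this
    rw [hstab, Subgroup.index_comap_of_surjective _ (MulEquiv.surjective _),
      Subgroup.index_map_eq K hπs (by rw [hπ, QuotientGroup.ker_mk']; exact hH₁N.trans hNK)]

end Frob

section Numeric

theorem two_mul_add_one_le (e a : ℕ) (he : Odd e) (ha : Odd a) (ha1 : 1 < a) (h1 : e ∣ a - 1) :
    2 * e + 1 ≤ a := by
  obtain ⟨t, ht⟩ := h1
  have hev : Even (a - 1) := Nat.Odd.sub_odd ha odd_one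
  rw [ht] at hev
  have ht2 : Even t := by
    rcases Nat.even_mul.mp hev with h | h
    · exact absurd h (Nat.not_even_iff_odd.mpr he)
    · exact h
  obtain ⟨s, hs⟩ := ht2
  have hs1 : 1 ≤ s := by
    by_contra h
    have ht0 : t = 0 := by omega
    rw [ht0, mul_zero] at ht
    omega
  have : 2 * e ≤ e * t := by
    rw [hs]
    nlinarith
  omega

theorem numeric_between (e a b : ℕ) (he : Odd e) (ha : Odd a) (hb : Odd b) (ha1 : 1 < a)
    (hb1 : 1 < b) (h1 : e ∣ a - 1) (h2 : e ∣ a * b - 1) : 4 * e ^ 2 + 1 < a * b := by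
  have h3 : e ∣ b - 1 := by
    have hid : a * b - 1 = (a - 1) * b + (b - 1) := by
      obtain ⟨a', rfl⟩ := Nat.exists_eq_add_of_le ha1.le
      obtain ⟨b', rfl⟩ := Nat.exists_eq_add_of_le hb1.le
      simp only [Nat.add_sub_cancel_left]
      have : (1 + a') * (1 + b') = 1 + (a' * (1 + b') + b') := by ring
      rw [this, Nat.add_sub_cancel_left]
    rw [hid] at h2
    exact (Nat.dvd_add_right (Dvd.dvd.mul_right h1 b)).mp h2
  have ha2 := two_mul_add_one_le e a he ha ha1 h1
  have hb2 := two_mul_add_one_le e b he hb hb1 h3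
  have he1 : 1 ≤ e := by
    obtain ⟨k, hk⟩ := he
    omega
  have := Nat.mul_le_mul ha2 hb2
  nlinarith

end Numeric

section Between

variable {L : Type u} [Group L] [Finite L]

/-- a normal subgroup strictly between `H₁` and `K` forces `[K:H₁] > 4[L:K]^2 + 1` -/
theorem big_index_of_normal_between (K H₁ N : Subgroup L) [hK : K.Normal] [hH₁ : H₁.Normal]
    [hN : N.Normal] (hodd : Odd (Nat.card L)) (hcomm : ⁅K, K⁆ ≤ H₁) (hH₁N : H₁ < N) (hNK : N < K)
    (hfrob : ∀ k ∈ K, k ∉ H₁ → ∀ x : L, x * k * x⁻¹ * k⁻¹ ∈ H₁ → x ∈ K) :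
    4 * K.index ^ 2 + 1 < H₁.relIndex K := by
  have hmul : H₁.relIndex N * N.relIndex K = H₁.relIndex K :=
    Subgroup.relIndex_mul_relIndex H₁ N K hH₁N.le hNK.le
  have h1 := index_dvd_relIndex_sub_one K H₁ N hcomm hH₁N.le hNK.le hfrob
  have h2 := index_dvd_relIndex_sub_one K H₁ K hcomm (hH₁N.le.trans hNK.le) le_rfl hfrob
  rw [← hmul] at h2 ⊢
  have ha1 : 1 < H₁.relIndex N := by
    have h0 : H₁.relIndex N ≠ 0 := Subgroup.index_ne_zero_of_finite (H := H₁.subgroupOf N)
    have h1' : H₁.relIndex N ≠ 1 := by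
      intro h
      rw [Subgroup.relIndex_eq_one] at h
      exact absurd h (not_le_of_gt hH₁N)
    omega
  have hb1 : 1 < N.relIndex K := by
    have h0 : N.relIndex K ≠ 0 := Subgroup.index_ne_zero_of_finite (H := N.subgroupOf K)
    have h1' : N.relIndex K ≠ 1 := by
      intro h
      rw [Subgroup.relIndex_eq_one] at h
      exact absurd h (not_le_of_gt hNK)
    omega
  have he : Odd K.index := Odd.of_dvd_nat hodd (Subgroup.index_dvd_card K)
  have ha : Odd (H₁.relIndex N) :=
    Odd.of_dvd_nat hodd ((Subgroup.relIndex_dvd_card H₁ N).trans (Subgroup.card_subgroup_dvd_card N))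
  have hb : Odd (N.relIndex K) :=
    Odd.of_dvd_nat hodd ((Subgroup.relIndex_dvd_card N K).trans (Subgroup.card_subgroup_dvd_card K))
  exact numeric_between _ _ _ he ha hb ha1 hb1 h1 h2

/-- if `K/H₁` is abelian and no normal subgroup of `L` lies strictly between `H₁` and `K`, then
`[K:H₁]` is a prime power -/
theorem exists_prime_pow_relIndex_of_no_normal_between (K H₁ : Subgroup L) [hK : K.Normal]
    [hH₁ : H₁.Normal] (hcomm : ⁅K, K⁆ ≤ H₁) (hlt : H₁ < K)
    (hno : ¬ ∃ N : Subgroup L, N.Normal ∧ H₁ < N ∧ N < K) :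
    ∃ p n : ℕ, p.Prime ∧ H₁.relIndex K = p ^ n := by
  classical
  have h1 : H₁.relIndex K ≠ 1 := by
    intro h
    rw [Subgroup.relIndex_eq_one] at h
    exact absurd h (not_le_of_gt hlt)
  set p := (H₁.relIndex K).minFac with hp
  have hpp : p.Prime := Nat.minFac_prime h1
  have hpd : p ∣ H₁.relIndex K := Nat.minFac_dvd _
  have : Fact p.Prime := ⟨hpp⟩
  -- commuting modulo `H₁`
  have hcommute : ∀ a ∈ K, ∀ b ∈ K, Commute (QuotientGroup.mk' H₁ a) (QuotientGroup.mk' H₁ b) := by
    intro a ha b hb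
    have h2 : a * b * a⁻¹ * b⁻¹ ∈ H₁ := by
      apply hcomm
      have := Subgroup.commutator_mem_commutator ha hb
      rwa [commutatorElement_def] at this
    rw [← QuotientGroup.eq_one_iff, ← QuotientGroup.mk'_apply, map_mul, map_mul, map_mul, map_inv,
      map_inv] at h2
    unfold Commute SemiconjBy
    have h3 := congrArg (fun z => z * (QuotientGroup.mk' H₁ b) * (QuotientGroup.mk' H₁ a)) h2
    simpa [mul_assoc] using h3
  -- the subgroup of elements of order dividing `p` modulo `H₁`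
  let N : Subgroup L :=
    { carrier := {k | k ∈ K ∧ k ^ p ∈ H₁}
      one_mem' := ⟨K.one_mem, by rw [one_pow]; exact H₁.one_mem⟩
      mul_mem' := by
        rintro a b ⟨ha, hap⟩ ⟨hb, hbp⟩
        refine ⟨K.mul_mem ha hb, ?_⟩
        rw [← QuotientGroup.eq_one_iff, ← QuotientGroup.mk'_apply, map_pow, map_mul,
          (hcommute a ha b hb).mul_pow, ← map_pow, ← map_pow]
        rw [← QuotientGroup.eq_one_iff, ← QuotientGroup.mk'_apply] at hap hbp
        rw [hap, hbp, one_mul]
      inv_mem' := by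
        rintro a ⟨ha, hap⟩
        refine ⟨K.inv_mem ha, ?_⟩
        rw [inv_pow]
        exact H₁.inv_mem hap }
  have hNmem : ∀ k, k ∈ N ↔ k ∈ K ∧ k ^ p ∈ H₁ := fun k => Iff.rfl
  have hNn : N.Normal := by
    constructor
    intro k hk g
    rw [hNmem] at hk ⊢
    refine ⟨hK.conj_mem k hk.1 g, ?_⟩
    rw [conj_pow]
    exact hH₁.conj_mem _ hk.2 g
  have hH₁N : H₁ ≤ N := fun h hh => (hNmem h).mpr ⟨hlt.le hh, H₁.pow_mem hh p⟩
  have hNK : N ≤ K := fun k hk => ((hNmem k).mp hk).1
  -- Cauchy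
  have hcard : Nat.card (↥K ⧸ H₁.subgroupOf K) = H₁.relIndex K := by
    rw [← Subgroup.index_eq_card]; rfl
  obtain ⟨x, hx⟩ := exists_prime_orderOf_dvd_card' (G := ↥K ⧸ H₁.subgroupOf K) p
    (by rw [hcard]; exact hpd)
  obtain ⟨k, rfl⟩ := QuotientGroup.mk_surjective x
  have hkN : (k : L) ∈ N := by
    rw [hNmem]
    refine ⟨k.2, ?_⟩
    have h2 := pow_orderOf_eq_one (QuotientGroup.mk k : ↥K ⧸ H₁.subgroupOf K)
    rw [hx, ← QuotientGroup.mk_pow, QuotientGroup.eq_one_iff] at h2
    exact Subgroup.mem_subgroupOf.mp h2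
  have hkH₁ : (k : L) ∉ H₁ := by
    intro h
    have h2 : (QuotientGroup.mk k : ↥K ⧸ H₁.subgroupOf K) = 1 := by
      rw [QuotientGroup.eq_one_iff]
      exact Subgroup.mem_subgroupOf.mpr h
    rw [h2, orderOf_one] at hx
    exact hpp.one_lt.ne hx
  have hH₁ltN : H₁ < N := lt_of_le_of_ne hH₁N (fun h => hkH₁ (h ▸ hkN))
  have hNeq : N = K := by
    by_contra hne
    exact hno ⟨N, hNn, hH₁ltN, lt_of_le_of_ne hNK hne⟩
  -- `K/H₁` is a `p`-group
  have hpg : IsPGroup p (↥K ⧸ H₁.subgroupOf K) := by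
    intro y
    obtain ⟨k', rfl⟩ := QuotientGroup.mk_surjective y
    refine ⟨1, ?_⟩
    rw [pow_one, ← QuotientGroup.mk_pow, QuotientGroup.eq_one_iff]
    have : (k' : L) ∈ N := by rw [hNeq]; exact k'.2
    exact Subgroup.mem_subgroupOf.mpr ((hNmem _).mp this).2
  obtain ⟨n, hn⟩ := IsPGroup.iff_card.mp hpg
  exact ⟨p, n, hpp, by rw [← hcard, hn]⟩

end Between

end Cfsg.Agent.Lib.Helper25.FrobCount
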