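import Mathlib

/-!
# Nilpotent groups and their abelianizations (helper25)

* `card_abelianization_dvd` : a surjection induces divisibility of the orders of abelianizations.
* `card_eq_prime_pow_of_abelianization` : a finite nilpotent group whose abelianization is a
  `p`-group is a `p`-group.
* `comm_of_isCyclic_abelianization` : a finite nilpotent group with cyclic abelianization is abelian.
-/

set_option autoImplicit false

namespace Cfsg.Agent.Lib.Helper25.NilAb

universe u

theorem abelianization_of_surjective {X : Type*} [Group X] :
    Function.Surjective (Abelianization.of : X →* Abelianization X) :=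
  QuotientGroup.mk_surjective

theorem abelianization_map_surjective {X Y : Type*} [Group X] [Group Y] (f : X →* Y)
    (hf : Function.Surjective f) : Function.Surjective (Abelianization.map f) := by
  intro y
  obtain ⟨y', rfl⟩ := abelianization_of_surjective y
  obtain ⟨x, rfl⟩ := hf y'
  exact ⟨Abelianization.of x, rfl⟩

theorem card_abelianization_dvd {X Y : Type*} [Group X] [Group Y] (f : X →* Y)
    (hf : Function.Surjective f) :
    Nat.card (Abelianization Y) ∣ Nat.card (Abelianization X) :=
  Subgroup.card_dvd_of_surjective _ (abelianization_map_surjective f hf)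

open scoped IsMulCommutative in
/-- a finite nilpotent group whose abelianization has `p`-power order has `p`-power order -/
theorem card_eq_prime_pow_of_abelianization (p : ℕ) (hp : p.Prime) :
    ∀ (N : ℕ) (X : Type u) [Group X] [Finite X] [Group.IsNilpotent X], Nat.card X = N →
      (∃ n, Nat.card (Abelianization X) = p ^ n) → ∃ m, Nat.card X = p ^ m := by
  intro N
  induction N using Nat.strong_induction_on with
  | _ N ih =>
    intro X _ _ _ hcard hab
    obtain ⟨n, hn⟩ := hab
    by_cases hsub : Subsingleton X
    · exact ⟨0, by rw [pow_zero]; exact Nat.card_unique⟩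
    · rw [not_subsingleton_iff_nontrivial] at hsub
      have hZ : Subgroup.center X ≠ ⊥ := Group.IsNilpotent.center_ne_bot X
      have hZcard : 1 < Nat.card (Subgroup.center X) := (Subgroup.one_lt_card_iff_ne_bot _).mpr hZ
      -- the quotient by the centre
      have hlt : Nat.card (X ⧸ Subgroup.center X) < N := by
        rw [← hcard, ← Subgroup.index_eq_card]
        have h1 := (Subgroup.center X).card_mul_index
        have hpos : 0 < (Subgroup.center X).index :=
          Nat.pos_of_ne_zero Subgroup.index_ne_zero_of_finite
        nlinarith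
      have habq : ∃ j, Nat.card (Abelianization (X ⧸ Subgroup.center X)) = p ^ j := by
        have h1 := card_abelianization_dvd (QuotientGroup.mk' (Subgroup.center X))
          (QuotientGroup.mk'_surjective _)
        rw [hn] at h1
        obtain ⟨j, -, hj⟩ := (Nat.dvd_prime_pow hp).mp h1
        exact ⟨j, hj⟩
      obtain ⟨b, hb⟩ := ih _ hlt (X ⧸ Subgroup.center X) rfl habq
      rw [← Subgroup.index_eq_card] at hb
      -- every prime divisor of `|X|` is `p`
      have hprime : ∀ q : ℕ, q.Prime → q ∣ Nat.card X → q = p := by
        intro q hq hqd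
        rw [← (Subgroup.center X).card_mul_index, hb] at hqd
        rcases (Nat.Prime.dvd_mul hq).mp hqd with h1 | h1
        · -- `q ∣ |Z(X)|`
          by_contra hne
          have : Fact q.Prime := ⟨hq⟩
          obtain ⟨z, hz⟩ := exists_prime_orderOf_dvd_card' q h1
          -- the transfer
          have hT : (MonoidHom.transferCenterPow X (z : X) : X) = (z : X) ^ p ^ b := by
            rw [MonoidHom.transferCenterPow_apply, hb]
          have hzX : orderOf (z : X) = q := by
            rw [Subgroup.orderOf_coe]; exact hz
          have hcop : Nat.Coprime q (p ^ b) :=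
            Nat.Coprime.pow_right _ ((Nat.coprime_primes hq hp).mpr hne)
          have hord : orderOf ((z : X) ^ p ^ b) = q := by
            rw [← hzX] at hcop
            rw [Nat.Coprime.orderOf_pow hcop, hzX]
          -- the transfer factors through the abelianization
          have hfac : MonoidHom.transferCenterPow X (z : X) =
              Abelianization.lift (MonoidHom.transferCenterPow X) (Abelianization.of (z : X)) := rfl
          have h2 : orderOf (MonoidHom.transferCenterPow X (z : X)) ∣
              Nat.card (Abelianization X) := by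
            rw [hfac]
            exact dvd_trans (orderOf_map_dvd _ _) (orderOf_dvd_natCard _)
          rw [← Subgroup.orderOf_coe, hT, hord, hn] at h2
          exact hne ((Nat.prime_dvd_prime_iff_eq hq hp).mp (hq.dvd_of_dvd_pow h2))
        · exact (Nat.prime_dvd_prime_iff_eq hq hp).mp (hq.dvd_of_dvd_pow h1)
      have hne0 : Nat.card X ≠ 0 := Nat.card_pos.ne'
      by_cases h1 : Nat.card X = 1
      · exact ⟨0, by rw [h1, pow_zero]⟩
      · have := Nat.eq_prime_pow_of_unique_prime_dvd hne0 (fun {q} hq hqd => hprime q hq hqd)
        exact ⟨_, this⟩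

open scoped commutatorElement in
/-- a finite nilpotent group with cyclic abelianization is abelian -/
theorem comm_of_isCyclic_abelianization :
    ∀ (N : ℕ) (X : Type u) [Group X] [Finite X] [Group.IsNilpotent X], Nat.card X = N →
      IsCyclic (Abelianization X) → ∀ a b : X, a * b = b * a := by
  intro N
  induction N using Nat.strong_induction_on with
  | _ N ih =>
    intro X _ _ _ hcard hcyc
    by_cases hsub : Subsingleton X
    · intro a b; exact Subsingleton.elim _ _
    · rw [not_subsingleton_iff_nontrivial] at hsub
      have hZ : Subgroup.center X ≠ ⊥ := Group.IsNilpotent.center_ne_bot X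
      have hZcard : 1 < Nat.card (Subgroup.center X) := (Subgroup.one_lt_card_iff_ne_bot _).mpr hZ
      have hlt : Nat.card (X ⧸ Subgroup.center X) < N := by
        rw [← hcard, ← Subgroup.index_eq_card]
        have h1 := (Subgroup.center X).card_mul_index
        have hpos : 0 < (Subgroup.center X).index :=
          Nat.pos_of_ne_zero Subgroup.index_ne_zero_of_finite
        nlinarith
      have hcycq : IsCyclic (Abelianization (X ⧸ Subgroup.center X)) :=
        isCyclic_of_surjective (Abelianization.map (QuotientGroup.mk' (Subgroup.center X)))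
          (abelianization_map_surjective _ (QuotientGroup.mk'_surjective _))
      have hY := ih _ hlt (X ⧸ Subgroup.center X) rfl hcycq
      -- `X' ≤ Z(X)`
      have hle : commutator X ≤ Subgroup.center X := by
        rw [commutator_def, Subgroup.commutator_le]
        intro a _ b _
        rw [← QuotientGroup.eq_one_iff]
        change (QuotientGroup.mk' (Subgroup.center X)) ⁅a, b⁆ = 1
        rw [map_commutatorElement, commutatorElement_eq_one_iff_mul_comm]
        exact hY _ _
      -- `X/Z(X)` is a quotient of the abelianization, hence cyclic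
      let g : Abelianization X →* X ⧸ Subgroup.center X :=
        QuotientGroup.lift (commutator X) (QuotientGroup.mk' (Subgroup.center X))
          (by rw [QuotientGroup.ker_mk']; exact hle)
      have hg : Function.Surjective g := by
        intro y
        obtain ⟨x, rfl⟩ := QuotientGroup.mk'_surjective _ y
        exact ⟨Abelianization.of x, rfl⟩
      have hcycY : IsCyclic (X ⧸ Subgroup.center X) := isCyclic_of_surjective g hg
      have hcomm := MonoidHom.isMulCommutative_of_isCyclic_of_ker_le_center
        (QuotientGroup.mk' (Subgroup.center X)) (by rw [QuotientGroup.ker_mk'])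
      intro a b
      exact hcomm.is_comm.comm a b

section Sub

open scoped commutatorElement

variable {L : Type u} [Group L] [Finite L]

/-- `⁅K, K⁆ ⊔ M`, as a subgroup of `K` -/
theorem commutator_sup_subgroupOf (K M : Subgroup L) (hMK : M ≤ K) :
    (⁅K, K⁆ ⊔ M).subgroupOf K = commutator ↥K ⊔ M.subgroupOf K := by
  have hcK : ⁅K, K⁆ ≤ K := by
    rw [Subgroup.commutator_le]
    intro a ha b hb
    rw [commutatorElement_def]
    exact K.mul_mem (K.mul_mem (K.mul_mem ha hb) (K.inv_mem ha)) (K.inv_mem hb)
  apply Subgroup.map_injective K.subtype_injective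
  rw [Subgroup.map_subgroupOf_eq_of_le (sup_le hcK hMK), Subgroup.map_sup,
    Subgroup.map_subgroupOf_eq_of_le hMK, commutator_def, Subgroup.map_commutator,
    ← MonoidHom.range_eq_map, Subgroup.range_subtype]

/-- the abelianization of `K/M` has order `[K : K'M]` -/
theorem card_abelianization_quotient (K M : Subgroup L) (hMK : M ≤ K)
    [hn : (M.subgroupOf K).Normal] :
    Nat.card (Abelianization (↥K ⧸ M.subgroupOf K)) = (⁅K, K⁆ ⊔ M).relIndex K := by
  let f : ↥K →* Abelianization (↥K ⧸ M.subgroupOf K) :=
    Abelianization.of.comp (QuotientGroup.mk' (M.subgroupOf K))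
  have hf : Function.Surjective f :=
    abelianization_of_surjective.comp (QuotientGroup.mk'_surjective _)
  have hker : f.ker = (⁅K, K⁆ ⊔ M).subgroupOf K := by
    rw [commutator_sup_subgroupOf K M hMK]
    have h1 : f.ker = (commutator (↥K ⧸ M.subgroupOf K)).comap
        (QuotientGroup.mk' (M.subgroupOf K)) := by
      rw [← Abelianization.ker_of, MonoidHom.comap_ker]
    have h2 : commutator (↥K ⧸ M.subgroupOf K) =
        (commutator ↥K).map (QuotientGroup.mk' (M.subgroupOf K)) := by
      rw [commutator_def, commutator_def, Subgroup.map_commutator,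
        ← MonoidHom.range_eq_map, MonoidHom.range_eq_top.mpr (QuotientGroup.mk'_surjective _)]
    rw [h1, h2, Subgroup.comap_map_eq, QuotientGroup.ker_mk']
  have e := QuotientGroup.quotientKerEquivOfSurjective f hf
  rw [← Nat.card_congr e.toEquiv, ← Subgroup.index_eq_card, hker]
  rfl

/-- if `K/M` is nilpotent and `[K : K'M]` is a power of `p`, so is `[K : M]` -/
theorem relIndex_prime_pow_of_nilpotent (K M : Subgroup L) (hMK : M ≤ K)
    [hn : (M.subgroupOf K).Normal] (hnil : Group.IsNilpotent (↥K ⧸ M.subgroupOf K))
    (p : ℕ) (hp : p.Prime) (n : ℕ) (h : (⁅K, K⁆ ⊔ M).relIndex K = p ^ n) :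
    ∃ m, M.relIndex K = p ^ m := by
  have h1 := card_eq_prime_pow_of_abelianization p hp _ (↥K ⧸ M.subgroupOf K) rfl
    ⟨n, by rw [card_abelianization_quotient K M hMK, h]⟩
  obtain ⟨m, hm⟩ := h1
  refine ⟨m, ?_⟩
  rw [← hm, ← Subgroup.index_eq_card]
  rfl

/-- if `K/M` is nilpotent and `[K : K'M]` is a prime then `K' ≤ M` -/
theorem commutator_le_of_relIndex_prime (K M : Subgroup L) (hMK : M ≤ K)
    [hn : (M.subgroupOf K).Normal] (hnil : Group.IsNilpotent (↥K ⧸ M.subgroupOf K))
    (p : ℕ) (hp : p.Prime) (h : (⁅K, K⁆ ⊔ M).relIndex K = p) :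
    ⁅K, K⁆ ≤ M := by
  have : Fact p.Prime := ⟨hp⟩
  have hcyc : IsCyclic (Abelianization (↥K ⧸ M.subgroupOf K)) :=
    isCyclic_of_prime_card (p := p) (by rw [card_abelianization_quotient K M hMK, h])
  have hcomm := comm_of_isCyclic_abelianization _ (↥K ⧸ M.subgroupOf K) rfl hcyc
  rw [Subgroup.commutator_le]
  intro a ha b hb
  have h1 : (QuotientGroup.mk' (M.subgroupOf K)) ⁅(⟨a, ha⟩ : K), (⟨b, hb⟩ : K)⁆ = 1 := by
    rw [map_commutatorElement, commutatorElement_eq_one_iff_mul_comm]
    exact hcomm _ _
  rw [QuotientGroup.mk'_apply, QuotientGroup.eq_one_iff] at h1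
  exact Subgroup.mem_subgroupOf.mp h1

end Sub

end Cfsg.Agent.Lib.Helper25.NilAb
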