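import Mathlib
import Cfsg.Prelude.Def_OddOrderChar
import Cfsg.Agent.Lib.Helper25.CohDescent2
import Cfsg.Agent.Lib.Helper79.Integrality

/-!
# Characters nontrivial on a central subgroup (Peterfalvi (6.4)) — helper25

`K ⊴ L`, `Z ⊴ L`, `Z ≤ K`.  `NT K Z θ` says that `θ : K → ℂ` is nontrivial on `Z`.

* `mem_diff_iff` : `S ∖ S(Z) = {Ind θ | θ ∈ Irr K, θ nontrivial on Z}`.
* `diff_eq_irr` : if all of these are irreducible then `S ∖ S(Z)` is the set of irreducible characters of
  `L` that are nontrivial on `Z`.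
* `sum_fiber_degree` : the fibre of induction over an irreducible member has total degree `φ(1)`.
-/

set_option autoImplicit false

namespace Cfsg.Agent.Lib.Helper25.CohCentral

open Cfsg Cfsg.Agent.Lib.Helper78 Cfsg.Agent.Lib.Helper75 Cfsg.Agent.Lib.Helper25.CohDescent
open scoped ComplexConjugate

universe u

variable {L : Type u} [Group L] [Fintype L]

/-- `θ` is nontrivial on `Z` -/
def NT (K Z : Subgroup L) (θ : K → ℂ) : Prop := ∃ a : K, (a : L) ∈ Z ∧ θ a ≠ θ 1

section Basic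

variable (K Z : Subgroup L) [hK : K.Normal] [hZ : Z.Normal] (hZK : Z ≤ K)

include hZK in
/-- if `Ind θ ∈ S(Z)` then `Z ≤ ker θ` -/
theorem forall_eq_of_indFun_mem {θ : K → ℂ} (hθ : IsCharacter K θ)
    (h : indFun K θ ∈ inducedIrrAbove K Z) : ∀ a : K, (a : L) ∈ Z → θ a = θ 1 := by
  obtain ⟨θ', -, -, h2, heq⟩ := h
  intro a ha
  apply eq_of_indFun_eq K hθ a
  rw [heq]
  exact indFun_eq_of_forall_eq K Z hZK θ' h2 a ha

include hZK in
theorem mem_diff_iff (φ : L → ℂ) :
    φ ∈ inducedIrrAbove K ⊥ \ inducedIrrAbove K Z ↔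
      ∃ θ : K → ℂ, IsIrrCharacter K θ ∧ NT K Z θ ∧ φ = indFun K θ := by
  constructor
  · rintro ⟨⟨θ, hθ, h1, -, rfl⟩, hnot⟩
    refine ⟨θ, hθ, ?_, rfl⟩
    by_contra hnt
    apply hnot
    refine ⟨θ, hθ, h1, ?_, rfl⟩
    intro a ha
    by_contra hne
    exact hnt ⟨a, ha, hne⟩
  · rintro ⟨θ, hθ, ⟨a, ha, hne⟩, rfl⟩
    refine ⟨⟨θ, hθ, ?_, ?_, rfl⟩, ?_⟩
    · intro h1
      apply hne
      rw [h1]
    · intro b hb
      rw [Subgroup.mem_bot] at hb
      have : b = 1 := Subtype.ext hb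
      rw [this]
    · intro hmem
      exact hne (forall_eq_of_indFun_mem K Z hZK (IsIrrCharacter.isCharacter hθ) hmem a ha)

include hZK in
/-- `S ∖ S(Z)` as a set of irreducible characters -/
theorem diff_eq_irr
    (hirr : ∀ θ : K → ℂ, IsIrrCharacter K θ → NT K Z θ → IsIrrCharacter L (indFun K θ)) :
    inducedIrrAbove K ⊥ \ inducedIrrAbove K Z =
      {χ | IsIrrCharacter L χ ∧ ∃ z ∈ Z, χ z ≠ χ 1} := by
  classical
  have : Fintype K := Fintype.ofFinite K
  ext χ
  rw [mem_diff_iff K Z hZK]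
  constructor
  · rintro ⟨θ, hθ, ⟨a, ha, hne⟩, rfl⟩
    refine ⟨hirr θ hθ ⟨a, ha, hne⟩, (a : L), ha, ?_⟩
    intro h
    exact hne (eq_of_indFun_eq K (IsIrrCharacter.isCharacter hθ) a h)
  · rintro ⟨hχ, z, hz, hne⟩
    obtain ⟨θ, hθ⟩ := exists_constituent_res K hχ
    have hχc : IsCharacter L χ := IsIrrCharacter.isCharacter hχ
    have hne' : classInner (indFun K (θ : K → ℂ)) χ ≠ 0 := by
      rw [frobenius_reciprocity K _ (IsCharacter.isClassFunction hχc), ← classInner_conj_symm]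
      intro h0
      apply hθ
      have := congrArg conj h0
      simpa using this
    have hind : IsCharacter L (indFun K (θ : K → ℂ)) :=
      Cfsg.Agent.S0148.result K _ (IsIrrCharacter.isCharacter θ.2)
    have hnt : NT K Z (θ : K → ℂ) := by
      by_contra hnt
      have hall : ∀ a : K, (a : L) ∈ Z → (θ : K → ℂ) a = (θ : K → ℂ) 1 := by
        intro a ha
        by_contra hne2
        exact hnt ⟨a, ha, hne2⟩
      have h1 := indFun_eq_of_forall_eq K Z hZK (θ : K → ℂ) hall z hz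
      exact hne (constituent_ker hind ⟨χ, hχ⟩ hne' z h1)
    refine ⟨θ, θ.2, hnt, ?_⟩
    have h2 := hirr θ θ.2 hnt
    by_contra hneq
    apply hne'
    rw [classInner_irr h2 hχ, if_neg (fun h => hneq h.symm)]

end Basic

section Fiber

variable (K Z : Subgroup L) [hK : K.Normal] [hZ : Z.Normal] (hZK : Z ≤ K)

include hZK in
/-- the fibre of induction over an irreducible character nontrivial on `Z` has total degree `φ(1)` -/
theorem sum_fiber_degree
    (hirr : ∀ θ : K → ℂ, IsIrrCharacter K θ → NT K Z θ → IsIrrCharacter L (indFun K θ))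
    {φ : L → ℂ} (hφ : IsIrrCharacter L φ) (hφZ : ∃ z ∈ Z, φ z ≠ φ 1)
    [DecidablePred fun θ : IrrCharacter K => indFun K (θ : K → ℂ) = φ] :
    ∑ θ ∈ Finset.univ.filter (fun θ : IrrCharacter K => indFun K (θ : K → ℂ) = φ),
      charDegree (θ : K → ℂ) = charDegree φ := by
  classical
  have : Fintype K := Fintype.ofFinite K
  have hφc : IsCharacter L φ := IsIrrCharacter.isCharacter hφ
  have hres : IsCharacter K (fun k : K => φ k) := isCharacter_res K hφc
  obtain ⟨m, hm⟩ := (isCharacter_iff_exists_nat_combination _).mp hres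
  have hdeg := charDegree_nat_combination m hres hm
  have hdegres : charDegree (fun k : K => φ k) = charDegree φ := rfl
  rw [hdegres] at hdeg
  have hmψ : ∀ ψ : IrrCharacter K, (m ψ : ℂ) = classInner φ (indFun K (ψ : K → ℂ)) := by
    intro ψ
    rw [frobenius_reciprocity' K _ (IsCharacter.isClassFunction hφc)]
    conv_rhs => rw [hm]
    rw [classInner_nat_combination (fun ψ' => (m ψ' : ℂ)) ψ]
  have hmval : ∀ ψ : IrrCharacter K, m ψ = if indFun K (ψ : K → ℂ) = φ then 1 else 0 := by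
    intro ψ
    have h1 := hmψ ψ
    split_ifs with h
    · rw [h, classInner_irr_self hφ] at h1
      exact_mod_cast h1
    · by_cases hnt : NT K Z (ψ : K → ℂ)
      · rw [classInner_irr hφ (hirr ψ ψ.2 hnt), if_neg (fun h' => h h'.symm)] at h1
        exact_mod_cast h1
      · by_contra hne
        have hne' : classInner (indFun K (ψ : K → ℂ)) φ ≠ 0 := by
          rw [← classInner_conj_symm, ← h1]
          simpa using hne
        have hall : ∀ a : K, (a : L) ∈ Z → (ψ : K → ℂ) a = (ψ : K → ℂ) 1 := by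
          intro a ha
          by_contra hne2
          exact hnt ⟨a, ha, hne2⟩
        obtain ⟨z, hz, hzne⟩ := hφZ
        have hind : IsCharacter L (indFun K (ψ : K → ℂ)) :=
          Cfsg.Agent.S0148.result K _ (IsIrrCharacter.isCharacter ψ.2)
        exact hzne (constituent_ker hind ⟨φ, hφ⟩ hne' z
          (indFun_eq_of_forall_eq K Z hZK _ hall z hz))
  rw [hdeg, Finset.sum_filter]
  apply Finset.sum_congr rfl
  intro ψ _
  rw [hmval ψ]
  split_ifs <;> simp

end Fiber

section Count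

variable (K Z : Subgroup L) [hK : K.Normal] [hZ : Z.Normal] (hZK : Z ≤ K)

open Classical in
/-- `∑_{θ : Z ≤ ker θ} θ(1)^2 = [K:Z]` -/
theorem sum_sq_not_NT :
    ∑ θ ∈ Finset.univ.filter (fun θ : IrrCharacter K => ¬ NT K Z (θ : K → ℂ)),
      charDegree (θ : K → ℂ) ^ 2 = Z.relIndex K := by
  let one' : IrrCharacter K := ⟨fun _ => 1, isIrrCharacter_one⟩
  have hfilter : Finset.univ.filter (fun θ : IrrCharacter K => ¬ NT K Z (θ : K → ℂ)) =
      insert one' (thetaSet K Z) := by
    ext θ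
    rw [Finset.mem_filter, Finset.mem_insert, mem_thetaSet]
    constructor
    · rintro ⟨-, h⟩
      by_cases h1 : θ = one'
      · left; exact h1
      · right
        refine ⟨fun h3 => h1 (Subtype.ext h3), fun a ha => ?_⟩
        by_contra hne
        exact h ⟨a, ha, hne⟩
    · rintro (h1 | ⟨-, h2⟩)
      · refine ⟨Finset.mem_univ _, ?_⟩
        rintro ⟨a, -, hne⟩
        apply hne
        rw [h1]
      · refine ⟨Finset.mem_univ _, ?_⟩
        rintro ⟨a, ha, hne⟩
        exact hne (h2 a ha)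
  have hnot : one' ∉ thetaSet K Z := by
    rw [mem_thetaSet]
    rintro ⟨h1, -⟩
    exact h1 rfl
  have hone : charDegree (one' : K → ℂ) = 1 := by
    simp [charDegree, one']
  rw [hfilter, Finset.sum_insert hnot, hone, ← sum_sq_thetaSet K Z]
  ring

include hZK in
open Classical in
/-- the key count for the coherence of `S ∖ S(Z)` when `K` is a `p`-group -/
theorem key_count (p : ℕ) (hp : p.Prime) (m : ℕ) (hcard : Nat.card K = p ^ m)
    (hcop : Nat.Coprime p K.index) (hZc : ∀ z ∈ Z, ∀ k ∈ K, z * k = k * z)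
    (hirr : ∀ θ : K → ℂ, IsIrrCharacter K θ → NT K Z θ → IsIrrCharacter L (indFun K θ))
    (a : ℕ) (θ₀ : IrrCharacter K) (hθ₀ : NT K Z (θ₀ : K → ℂ))
    (hdeg₀ : charDegree (θ₀ : K → ℂ) = p ^ a)
    (θ₁ : IrrCharacter K) (hθ₁ : NT K Z (θ₁ : K → ℂ))
    (hdeg₁ : charDegree (θ₁ : K → ℂ) < p ^ a) :
    K.index ^ 2 * p ^ (2 * a) ≤
      ∑ φ ∈ (indSet K ⊥ \ indSet K Z).filter (fun φ => charDegree φ < K.index * p ^ a),
        charDegree φ ^ 2 := by
  have : Fintype K := Fintype.ofFinite K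
  have hepos : 0 < K.index := Nat.pos_of_ne_zero Subgroup.index_ne_zero_of_finite
  set Θ' : Finset (IrrCharacter K) := Finset.univ.filter
    (fun θ : IrrCharacter K => NT K Z (θ : K → ℂ) ∧ charDegree (θ : K → ℂ) < p ^ a) with hΘ'
  set S' : Finset (L → ℂ) := (indSet K ⊥ \ indSet K Z).filter
    (fun φ => charDegree φ < K.index * p ^ a) with hS'
  have hdegInd : ∀ θ : IrrCharacter K, charDegree (indFun K (θ : K → ℂ)) =
      K.index * charDegree (θ : K → ℂ) := fun θ =>
    charDegree_indFun K (IsIrrCharacter.isCharacter θ.2)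
  have hmemS : ∀ φ, φ ∈ indSet K ⊥ \ indSet K Z ↔
      ∃ θ : K → ℂ, IsIrrCharacter K θ ∧ NT K Z θ ∧ φ = indFun K θ := by
    intro φ
    rw [Finset.mem_sdiff, mem_indSet_iff, mem_indSet_iff, ← mem_diff_iff K Z hZK]
    rfl
  -- (1) induction maps `Θ'` to `S'`
  have hmaps : ∀ θ ∈ Θ', indFun K (θ : K → ℂ) ∈ S' := by
    intro θ hθ
    rw [hΘ', Finset.mem_filter] at hθ
    rw [hS', Finset.mem_filter, hmemS]
    refine ⟨⟨θ, θ.2, hθ.2.1, rfl⟩, ?_⟩
    rw [hdegInd]
    exact Nat.mul_lt_mul_of_pos_left hθ.2.2 hepos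
  -- (3) fibres
  have hfiber : ∀ φ ∈ S', Θ'.filter (fun θ : IrrCharacter K => indFun K (θ : K → ℂ) = φ) =
      Finset.univ.filter (fun θ : IrrCharacter K => indFun K (θ : K → ℂ) = φ) := by
    intro φ hφ
    rw [hS', Finset.mem_filter, hmemS] at hφ
    obtain ⟨⟨θ', hθ', ⟨b, hb, hbne⟩, rfl⟩, hlt⟩ := hφ
    ext θ
    simp only [hΘ', Finset.mem_filter, Finset.mem_univ, true_and]
    constructor
    · rintro ⟨-, h⟩; exact h
    · intro h
      refine ⟨⟨?_, ?_⟩, h⟩
      · by_contra hnt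
        have hall : ∀ c : K, (c : L) ∈ Z → (θ : K → ℂ) c = (θ : K → ℂ) 1 := by
          intro c hc
          by_contra hne2
          exact hnt ⟨c, hc, hne2⟩
        have h1 := indFun_eq_of_forall_eq K Z hZK (θ : K → ℂ) hall (b : L) hb
        rw [h] at h1
        exact hbne (eq_of_indFun_eq K (IsIrrCharacter.isCharacter hθ') b h1)
      · have h2 := hdegInd θ
        rw [h] at h2
        rw [h2] at hlt
        exact Nat.lt_of_mul_lt_mul_left hlt
  -- (4) each fibre
  have hfibsum : ∀ φ ∈ S', K.index * ∑ θ ∈ Θ'.filter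
      (fun θ : IrrCharacter K => indFun K (θ : K → ℂ) = φ), charDegree (θ : K → ℂ) ^ 2 =
      charDegree φ ^ 2 := by
    intro φ hφ
    rw [hfiber φ hφ]
    rw [hS', Finset.mem_filter, hmemS] at hφ
    obtain ⟨⟨θ', hθ', hnt', rfl⟩, -⟩ := hφ
    have hφirr := hirr θ' hθ' hnt'
    obtain ⟨b, hb, hbne⟩ := hnt'
    have hφZ : ∃ z ∈ Z, indFun K θ' z ≠ indFun K θ' 1 :=
      ⟨(b : L), hb, fun h => hbne (eq_of_indFun_eq K (IsIrrCharacter.isCharacter hθ') b h)⟩
    have hF1 := sum_fiber_degree K Z hZK hirr hφirr hφZ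
    have hd' : charDegree (indFun K θ') = K.index * charDegree θ' :=
      charDegree_indFun K (IsIrrCharacter.isCharacter hθ')
    have hconst : ∀ θ ∈ Finset.univ.filter
        (fun θ : IrrCharacter K => indFun K (θ : K → ℂ) = indFun K θ'),
        charDegree (θ : K → ℂ) = charDegree θ' := by
      intro θ hθ
      have h := (Finset.mem_filter.mp hθ).2
      have h2 := hdegInd θ
      rw [h, hd'] at h2
      exact (Nat.eq_of_mul_eq_mul_left hepos h2).symm
    have h3 : ∑ θ ∈ Finset.univ.filter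
        (fun θ : IrrCharacter K => indFun K (θ : K → ℂ) = indFun K θ'),
        charDegree (θ : K → ℂ) ^ 2 = charDegree θ' * charDegree (indFun K θ') := by
      rw [← hF1, Finset.mul_sum]
      apply Finset.sum_congr rfl
      intro θ hθ
      rw [hconst θ hθ]; ring
    rw [h3, hd']
    ring
  -- (2),(5)
  set g : ℕ := ∑ θ ∈ Θ', charDegree (θ : K → ℂ) ^ 2 with hg
  have hfw : ∑ φ ∈ S', ∑ θ ∈ Θ'.filter
      (fun θ : IrrCharacter K => indFun K (θ : K → ℂ) = φ), charDegree (θ : K → ℂ) ^ 2 = g :=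
    Finset.sum_fiberwise_of_maps_to hmaps _
  have hsum : ∑ φ ∈ S', charDegree φ ^ 2 = K.index * g := by
    rw [← hfw, Finset.mul_sum]
    exact Finset.sum_congr rfl (fun φ hφ => (hfibsum φ hφ).symm)
  -- (6) `e ∣ g`
  have hedvd : K.index ∣ g := by
    rw [← hfw]
    apply Finset.dvd_sum
    intro φ hφ
    rw [hfiber φ hφ]
    rw [hS', Finset.mem_filter, hmemS] at hφ
    obtain ⟨⟨θ', hθ', hnt', rfl⟩, -⟩ := hφ
    have hφirr := hirr θ' hθ' hnt'
    obtain ⟨b, hb, hbne⟩ := hnt'
    have hφZ : ∃ z ∈ Z, indFun K θ' z ≠ indFun K θ' 1 :=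
      ⟨(b : L), hb, fun h => hbne (eq_of_indFun_eq K (IsIrrCharacter.isCharacter hθ') b h)⟩
    have hF1 := sum_fiber_degree K Z hZK hirr hφirr hφZ
    have hd' : charDegree (indFun K θ') = K.index * charDegree θ' :=
      charDegree_indFun K (IsIrrCharacter.isCharacter hθ')
    have hconst : ∀ θ ∈ Finset.univ.filter
        (fun θ : IrrCharacter K => indFun K (θ : K → ℂ) = indFun K θ'),
        charDegree (θ : K → ℂ) = charDegree θ' := by
      intro θ hθ
      have h := (Finset.mem_filter.mp hθ).2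
      have h2 := hdegInd θ
      rw [h, hd'] at h2
      exact (Nat.eq_of_mul_eq_mul_left hepos h2).symm
    have h3 : ∑ θ ∈ Finset.univ.filter
        (fun θ : IrrCharacter K => indFun K (θ : K → ℂ) = indFun K θ'),
        charDegree (θ : K → ℂ) ^ 2 = charDegree θ' * charDegree (indFun K θ') := by
      rw [← hF1, Finset.mul_sum]
      apply Finset.sum_congr rfl
      intro θ hθ
      rw [hconst θ hθ]; ring
    rw [h3, hd']
    exact ⟨charDegree θ' * charDegree θ', by ring⟩
  -- degrees are powers of `p`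
  have hpow : ∀ θ : IrrCharacter K, ∃ b, b ≤ m ∧ charDegree (θ : K → ℂ) = p ^ b := by
    intro θ
    have h1 := Cfsg.Agent.Lib.Helper79.irr_charDegree_dvd_card θ
    rw [hcard] at h1
    exact (Nat.dvd_prime_pow hp).mp h1
  -- (7) `p^(2a) ∣ g`
  have hZidx : p ^ (2 * a) ∣ Z.relIndex K := by
    have h1 : Z.relIndex K ∣ p ^ m := by
      rw [← hcard]; exact Subgroup.relIndex_dvd_card Z K
    obtain ⟨j, -, hj⟩ := (Nat.dvd_prime_pow hp).mp h1
    have h2 := degree_sq_le_sub K ⊥ Z K bot_le hZK le_rfl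
      (fun x hx y hy => by
        rw [Subgroup.mem_bot, hZc x hx y hy]
        group) θ₀.2 (fun c hc => by
          rw [Subgroup.mem_bot] at hc
          have : c = 1 := Subtype.ext hc
          rw [this])
    rw [Subgroup.relIndex_self, one_pow, one_mul, hdeg₀, hj, ← pow_mul] at h2
    rw [hj]
    apply pow_dvd_pow
    have := (Nat.pow_le_pow_iff_right hp.one_lt).mp h2
    omega
  have hKdvd : p ^ (2 * a) ∣ Nat.card K := by
    have h1 : Z.relIndex K ∣ Nat.card K := Subgroup.relIndex_dvd_card Z K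
    exact hZidx.trans h1
  have hpdvd : p ^ (2 * a) ∣ g := by
    have htotal : ∑ θ : IrrCharacter K, charDegree (θ : K → ℂ) ^ 2 = Nat.card K :=
      sum_irr_charDegree_sq
    have hsplit1 : ∑ θ : IrrCharacter K, charDegree (θ : K → ℂ) ^ 2 =
        ∑ θ ∈ Finset.univ.filter (fun θ : IrrCharacter K => NT K Z (θ : K → ℂ)),
          charDegree (θ : K → ℂ) ^ 2 + Z.relIndex K := by
      rw [← sum_sq_not_NT K Z]
      exact (Finset.sum_filter_add_sum_filter_not _ _ _).symm
    have hsplit2 : ∑ θ ∈ Finset.univ.filter (fun θ : IrrCharacter K => NT K Z (θ : K → ℂ)),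
          charDegree (θ : K → ℂ) ^ 2 = g +
        ∑ θ ∈ (Finset.univ.filter (fun θ : IrrCharacter K => NT K Z (θ : K → ℂ))).filter
          (fun θ : IrrCharacter K => ¬ charDegree (θ : K → ℂ) < p ^ a), charDegree (θ : K → ℂ) ^ 2 := by
      rw [hg, hΘ', ← Finset.filter_filter]
      exact (Finset.sum_filter_add_sum_filter_not _ _ _).symm
    have hbig : p ^ (2 * a) ∣
        ∑ θ ∈ (Finset.univ.filter (fun θ : IrrCharacter K => NT K Z (θ : K → ℂ))).filter
          (fun θ : IrrCharacter K => ¬ charDegree (θ : K → ℂ) < p ^ a), charDegree (θ : K → ℂ) ^ 2 := by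
      apply Finset.dvd_sum
      intro θ hθ
      have h1 := (Finset.mem_filter.mp hθ).2
      obtain ⟨b, -, hb⟩ := hpow θ
      rw [hb] at h1 ⊢
      have hab : a ≤ b := by
        by_contra hlt
        apply h1
        exact Nat.pow_lt_pow_right hp.one_lt (by omega)
      rw [← pow_mul]
      exact pow_dvd_pow p (by omega)
    rw [hsplit1, hsplit2] at htotal
    have h4 : p ^ (2 * a) ∣ g + (∑ θ ∈ (Finset.univ.filter
        (fun θ : IrrCharacter K => NT K Z (θ : K → ℂ))).filter
          (fun θ : IrrCharacter K => ¬ charDegree (θ : K → ℂ) < p ^ a), charDegree (θ : K → ℂ) ^ 2 +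
          Z.relIndex K) := by
      rw [← add_assoc, htotal]; exact hKdvd
    exact (Nat.dvd_add_left (dvd_add hbig hZidx)).mp h4
  -- (8) `g > 0`
  have hgpos : 0 < g := by
    have hmem : θ₁ ∈ Θ' := by
      rw [hΘ', Finset.mem_filter]
      exact ⟨Finset.mem_univ _, hθ₁, hdeg₁⟩
    have h1 : charDegree (θ₁ : K → ℂ) ^ 2 ≤ g :=
      Finset.single_le_sum (f := fun θ : IrrCharacter K => charDegree (θ : K → ℂ) ^ 2)
        (fun _ _ => Nat.zero_le _) hmem
    have h2 := Cfsg.Agent.Lib.Helper79.irr_charDegree_pos θ₁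
    have : 0 < charDegree (θ₁ : K → ℂ) ^ 2 := by positivity
    omega
  -- (9)
  have hcop' : Nat.Coprime (K.index) (p ^ (2 * a)) := (Nat.Coprime.pow_left _ hcop).symm
  have hmul : K.index * p ^ (2 * a) ∣ g := Nat.Coprime.mul_dvd_of_dvd_of_dvd hcop' hedvd hpdvd
  have hle : K.index * p ^ (2 * a) ≤ g := Nat.le_of_dvd hgpos hmul
  rw [hsum]
  calc K.index ^ 2 * p ^ (2 * a) = K.index * (K.index * p ^ (2 * a)) := by ring
    _ ≤ K.index * g := Nat.mul_le_mul_left _ hle

end Count

end Cfsg.Agent.Lib.Helper25.CohCentral
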