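/-
helper25: module SZCH-[G-COPRIME] of helper6's project SZCH (S4775): elements of different pieces
`Q`, `K`, `A₁`, `A₂` of a Suzuki group are not conjugate (coprime orders).
-/
import Mathlib
import Cfsg.Agent.Lib.Helper6.SzCh.Defs

set_option autoImplicit false

namespace Cfsg.Agent.Lib.Helper25.SzCh

open Cfsg Cfsg.Agent.Lib.Helper6.SzCh

universe u

variable {G : Type u} [Group G]

/-! ### arithmetic -/

theorem gcop_r_sq (m : ℕ) : rOf m ^ 2 = 2 * qOf m := by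
  unfold rOf qOf
  rw [← pow_mul, ← pow_succ']
  congr 1
  ring

theorem gcop_r_le (m : ℕ) : rOf m ≤ qOf m := by
  unfold rOf qOf
  exact Nat.pow_le_pow_right (by norm_num) (by omega)

theorem gcop_q_pos (m : ℕ) : 0 < qOf m := by
  unfold qOf; positivity

theorem gcop_q_even (m : ℕ) : 2 ∣ qOf m := by
  unfold qOf
  exact dvd_pow_self 2 (by omega)

theorem gcop_r_dvd_pow (m : ℕ) : rOf m ∣ 2 ^ (m + 1) := by
  unfold rOf; exact dvd_rfl

theorem gcop_mul_aux (q r n₂ : ℕ) (hr : r ^ 2 = 2 * q) (hle : r ≤ q) (h₂ : n₂ + r = q + 1) :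
    (q + r + 1) * n₂ = q ^ 2 + 1 := by
  have h3 : n₂ = q + 1 - r := by omega
  subst h3
  zify [show r ≤ q + 1 by omega] at hr ⊢
  linear_combination -hr

/-- `n₁ n₂ = q² + 1` -/
theorem gcop_mul (m n₂ : ℕ) (h₂ : n₂ + rOf m = qOf m + 1) :
    (qOf m + rOf m + 1) * n₂ = qOf m ^ 2 + 1 :=
  gcop_mul_aux _ _ _ (gcop_r_sq m) (gcop_r_le m) h₂

/-- `gcd (q² (q - 1), q² + 1) = 1` -/
theorem gcop_coprime_B (m : ℕ) : Nat.Coprime (qOf m ^ 2 * (qOf m - 1)) (qOf m ^ 2 + 1) := by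
  apply Nat.Coprime.mul_left
  · simp
  · have hpos := gcop_q_pos m
    obtain ⟨t, ht⟩ : ∃ t, qOf m = t + 1 := ⟨qOf m - 1, by omega⟩
    have heven := gcop_q_even m
    rw [ht] at heven ⊢
    have e : (t + 1) ^ 2 + 1 = t * (t + 2) + 2 := by ring
    rw [e, Nat.add_sub_cancel, Nat.coprime_mul_left_add_right]
    rw [Nat.coprime_two_right]
    rcases Nat.even_or_odd t with h | h
    · exfalso
      obtain ⟨s, hs⟩ := h
      omega
    · exact h

/-- `gcd (n₁, n₂) = 1` -/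
theorem gcop_coprime_A (m n₂ : ℕ) (h₂ : n₂ + rOf m = qOf m + 1) :
    Nat.Coprime (qOf m + rOf m + 1) n₂ := by
  have heven := gcop_q_even m
  have hmul := gcop_mul m n₂ h₂
  -- a common divisor divides `n₁ - n₂ = 2 r = 2 ^ (m + 2)` and `n₁` is odd
  have hdiff : qOf m + rOf m + 1 = n₂ + 2 * rOf m := by omega
  have hodd : Nat.Coprime (qOf m + rOf m + 1) 2 := by
    rw [Nat.coprime_two_right]
    have hr2 : 2 ∣ rOf m := by unfold rOf; exact dvd_pow_self 2 (by omega)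
    obtain ⟨a, ha⟩ := heven
    obtain ⟨b, hb⟩ := hr2
    exact ⟨a + b, by omega⟩
  have h2r : 2 * rOf m = 2 ^ (m + 2) := by unfold rOf; ring
  have hc : Nat.Coprime (qOf m + rOf m + 1) (2 * rOf m) := by
    rw [h2r]; exact Nat.Coprime.pow_right _ hodd
  -- gcd(n₁, n₂) = gcd(n₂ + 2r, n₂) = gcd(2r, n₂), and it divides n₁
  apply Nat.Coprime.symm
  have : Nat.Coprime (qOf m + rOf m + 1) (n₂ + 2 * rOf m - 2 * rOf m) → Nat.Coprime n₂
      (qOf m + rOf m + 1) := by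
    intro h; rw [Nat.add_sub_cancel] at h; exact h.symm
  apply this
  rw [← hdiff]
  apply Nat.Coprime.symm
  apply Nat.Coprime.symm
  -- Coprime n₁ (n₁ - 2r)
  rw [Nat.Coprime, Nat.gcd_comm]
  have h5 : Nat.gcd (qOf m + rOf m + 1 - 2 * rOf m) (qOf m + rOf m + 1) ∣ 2 * rOf m := by
    have d1 : Nat.gcd (qOf m + rOf m + 1 - 2 * rOf m) (qOf m + rOf m + 1) ∣
        qOf m + rOf m + 1 - 2 * rOf m := Nat.gcd_dvd_left _ _
    have d2 : Nat.gcd (qOf m + rOf m + 1 - 2 * rOf m) (qOf m + rOf m + 1) ∣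
        qOf m + rOf m + 1 := Nat.gcd_dvd_right _ _
    have := Nat.dvd_sub d2 d1
    have e : qOf m + rOf m + 1 - (qOf m + rOf m + 1 - 2 * rOf m) = 2 * rOf m := by omega
    rwa [e] at this
  have h6 : Nat.gcd (qOf m + rOf m + 1 - 2 * rOf m) (qOf m + rOf m + 1) ∣
      qOf m + rOf m + 1 := Nat.gcd_dvd_right _ _
  exact Nat.eq_one_of_dvd_coprimes hc h6 h5

/-! ### orders of elements of `B` -/

/-- `b ^ n ∈ Q k ^ n` for `b = u k` -/
theorem gcop_pow_form (D : SzData G) {u k : G} (hu : u ∈ D.Q) (hk : k ∈ D.K) (n : ℕ) :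
    ∃ u' ∈ D.Q, (u * k) ^ n = u' * k ^ n := by
  induction n with
  | zero => exact ⟨1, D.Q.one_mem, by simp⟩
  | succ n ih =>
    obtain ⟨u', hu', he⟩ := ih
    have hkn : k ^ n ∈ Subgroup.normalizer (D.Q : Set G) := D.K_le (D.K.pow_mem hk n)
    have hconj : k ^ n * u * (k ^ n)⁻¹ ∈ D.Q := by
      have := (Subgroup.mem_normalizer_iff.1 hkn u).1 hu
      exact this
    refine ⟨u' * (k ^ n * u * (k ^ n)⁻¹), D.Q.mul_mem hu' hconj, ?_⟩
    rw [pow_succ, he, pow_succ]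
    group

theorem gcop_orderOf_dvd_B [Finite G] (D : SzData G) {b : G} (hb : b ∈ D.B) :
    orderOf b ∣ qOf D.m ^ 2 * (qOf D.m - 1) := by
  obtain ⟨u, hu, k, hk, rfl⟩ := D.norm_eq b hb
  obtain ⟨u', hu', he⟩ := gcop_pow_form D hu hk (qOf D.m - 1)
  have hk1 : k ^ (qOf D.m - 1) = 1 := by
    have := Subgroup.orderOf_dvd_natCard D.K hk
    rw [D.card_K] at this
    exact orderOf_dvd_iff_pow_eq_one.1 this
  rw [hk1, mul_one] at he
  have hu1 : u' ^ (qOf D.m ^ 2) = 1 := by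
    have := Subgroup.orderOf_dvd_natCard D.Q hu'
    rw [D.card_Q] at this
    exact orderOf_dvd_iff_pow_eq_one.1 this
  apply orderOf_dvd_of_pow_eq_one
  rw [mul_comm, pow_mul, he, hu1]

theorem gcop_orderOf_conj (x b : G) : orderOf (x * b * x⁻¹) = orderOf b := by
  have := orderOf_injective (MulAut.conj x).toMonoidHom (MulAut.conj x).injective b
  simpa using this

/-! ### the three statements of the module -/

/-- a non-identity element of `B` is not conjugate into `A₁` or `A₂` -/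
theorem not_conj_B_A [Finite G] (D : SzData G) {b : G} (hb : b ∈ D.B) (x : G)
    (h : x * b * x⁻¹ ∈ D.A₁ ∨ x * b * x⁻¹ ∈ D.A₂) : b = 1 := by
  have h1 := gcop_orderOf_dvd_B D hb
  have hmul := gcop_mul D.m (Nat.card D.A₂) D.card_A₂
  have hcop := gcop_coprime_B D.m
  rw [← orderOf_eq_one_iff]
  rcases h with h | h
  · have h2 := Subgroup.orderOf_dvd_natCard D.A₁ h
    rw [gcop_orderOf_conj, D.card_A₁] at h2
    have h3 : orderOf b ∣ qOf D.m ^ 2 + 1 := by
      rw [← hmul]; exact Dvd.dvd.mul_right h2 _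
    exact Nat.eq_one_of_dvd_coprimes hcop h1 h3
  · have h2 := Subgroup.orderOf_dvd_natCard D.A₂ h
    rw [gcop_orderOf_conj] at h2
    have h3 : orderOf b ∣ qOf D.m ^ 2 + 1 := by
      rw [← hmul]; exact Dvd.dvd.mul_left h2 _
    exact Nat.eq_one_of_dvd_coprimes hcop h1 h3

/-- an element of `A₁` is conjugate into `A₂` only if it is the identity -/
theorem not_conj_A₁_A₂ [Finite G] (D : SzData G) {a : G} (ha : a ∈ D.A₁) (x : G)
    (h : x * a * x⁻¹ ∈ D.A₂) : a = 1 := by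
  rw [← orderOf_eq_one_iff]
  have h1 := Subgroup.orderOf_dvd_natCard D.A₁ ha
  rw [D.card_A₁] at h1
  have h2 := Subgroup.orderOf_dvd_natCard D.A₂ h
  rw [gcop_orderOf_conj] at h2
  exact Nat.eq_one_of_dvd_coprimes (gcop_coprime_A D.m _ D.card_A₂) h1 h2

/-- an element of `K` is conjugate into `Q` only if it is the identity -/
theorem not_conj_K_Q [Finite G] (D : SzData G) {k : G} (hk : k ∈ D.K) (x : G)
    (h : x * k * x⁻¹ ∈ D.Q) : k = 1 := by
  rw [← orderOf_eq_one_iff]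
  have h1 := Subgroup.orderOf_dvd_natCard D.K hk
  rw [D.card_K] at h1
  have h2 := Subgroup.orderOf_dvd_natCard D.Q h
  rw [gcop_orderOf_conj, D.card_Q] at h2
  have hcop : Nat.Coprime (qOf D.m - 1) (qOf D.m ^ 2) := by
    apply Nat.Coprime.pow_right
    have hpos := gcop_q_pos D.m
    obtain ⟨t, ht⟩ : ∃ t, qOf D.m = t + 1 := ⟨qOf D.m - 1, by omega⟩
    rw [ht, Nat.add_sub_cancel]
    simp
  exact Nat.eq_one_of_dvd_coprimes hcop h1 h2

end Cfsg.Agent.Lib.Helper25.SzCh
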