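/-
helper25: module SZCH-[C-VAL] of helper6's project SZCH (S4775): the values of a cuspidal
irreducible character of a Suzuki group on the Borel subgroup `B`.
-/
import Mathlib
import Cfsg.Agent.Lib.Helper6.SzCh.Defs
import Cfsg.Agent.Lib.Helper78.CharMore
import Cfsg.Agent.Lib.Helper78.CharValues
import Cfsg.Agent.Lib.Helper80.CharBasic
import Cfsg.Agent.Lib.Helper45.SzChGBasic
import Cfsg.Agent.Lib.Helper25.SzChGCoprime

set_option autoImplicit false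
set_option linter.style.haveILetI false

namespace Cfsg.Agent.Lib.Helper25.SzCh

open Cfsg Cfsg.Agent.Lib.Helper6.SzCh
open scoped ComplexConjugate Classical

universe u

variable {G : Type u} [Group G]

/-! ### `sumNe` as a finite sum -/

theorem cval_sumNe_eq_sum [Fintype G] (H : Subgroup G) (f : G → ℂ) :
    sumNe H f = ∑ x ∈ Finset.univ.filter (fun x : G => x ∈ H ∧ x ≠ 1), f x := by
  unfold sumNe
  rw [finsum_eq_sum_of_fintype]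
  exact (Finset.sum_subtype _ (by simp) f).symm

/-! ### arithmetic facts -/

theorem cval_h_ge_two (D : SzData G) : 2 ≤ D.h := by
  unfold SzData.h hOf
  calc 2 = 2 ^ 1 := by norm_num
    _ ≤ 2 ^ D.m := Nat.pow_le_pow_right (by norm_num) D.hm

theorem cval_q_cast (D : SzData G) : ((D.q - 1 : ℕ) : ℂ) = (D.q : ℂ) - 1 := by
  have := Cfsg.Agent.Lib.Helper45.SzCh.q_pos D
  rw [Nat.cast_sub (by omega)]
  simp

theorem cval_q_sub_ne_zero (D : SzData G) : (D.q : ℂ) - 1 ≠ 0 := by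
  rw [← cval_q_cast]
  have h1 := Cfsg.Agent.Lib.Helper45.SzCh.q_pos D
  have h2 := Cfsg.Agent.Lib.Helper45.SzCh.q_even D
  have : D.q - 1 ≠ 0 := by
    obtain ⟨s, hs⟩ := h2
    omega
  exact_mod_cast this

theorem cval_h_ne_zero (D : SzData G) : (D.h : ℂ) ≠ 0 := by
  have := cval_h_ge_two D
  have h : D.h ≠ 0 := by omega
  exact_mod_cast h

theorem cval_h_ne_one (D : SzData G) : (D.h : ℂ) ≠ 1 := by
  have := cval_h_ge_two D
  have h : D.h ≠ 1 := by omega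
  exact_mod_cast h

/-! ### the three characters `φ`, `ψ₁`, `ψ₂` are distinct -/

theorem cval_one_mem_Z (D : SzData G) : ((1 : ↥D.B) : G) ∈ D.Z := by
  rw [Subgroup.coe_one]; exact D.Z.one_mem

theorem cval_φ_one (D : SzData G) (T : BTable D) : T.φ 1 = (D.q : ℂ) - 1 :=
  T.φ_Z 1 (cval_one_mem_Z D)

theorem cval_φ_ne_ψ₁ (D : SzData G) (T : BTable D) : T.φ ≠ T.ψ₁ := by
  intro h
  have h1 := congrFun h 1
  rw [cval_φ_one, T.ψ₁_one] at h1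
  have h2 : (D.q : ℂ) - 1 ≠ 0 := cval_q_sub_ne_zero D
  have h3 : (D.h : ℂ) = 1 := by
    have : 1 * ((D.q : ℂ) - 1) = (D.h : ℂ) * ((D.q : ℂ) - 1) := by rw [one_mul]; exact h1
    exact (mul_right_cancel₀ h2 this).symm
  exact cval_h_ne_one D h3

theorem cval_φ_ne_ψ₂ (D : SzData G) (T : BTable D) : T.φ ≠ T.ψ₂ := by
  intro h
  have h1 := congrFun h 1
  rw [cval_φ_one, T.ψ₂_one] at h1
  have h2 : (D.q : ℂ) - 1 ≠ 0 := cval_q_sub_ne_zero D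
  have h3 : (D.h : ℂ) = 1 := by
    have : 1 * ((D.q : ℂ) - 1) = (D.h : ℂ) * ((D.q : ℂ) - 1) := by rw [one_mul]; exact h1
    exact (mul_right_cancel₀ h2 this).symm
  exact cval_h_ne_one D h3

/-- there is an element of `Q \ Z` -/
theorem cval_exists_QZ [Finite G] (D : SzData G) : ∃ x : G, x ∈ D.Q ∧ x ∉ D.Z := by
  have h := Cfsg.Agent.Lib.Helper45.SzCh.ncard_Q_diff_Z D
  have hpos : 0 < D.q * (D.q - 1) := by
    have h1 := Cfsg.Agent.Lib.Helper45.SzCh.q_pos D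
    have h2 := Cfsg.Agent.Lib.Helper45.SzCh.q_even D
    obtain ⟨s, hs⟩ := h2
    have : 0 < D.q - 1 := by omega
    positivity
  rw [← h] at hpos
  obtain ⟨x, hx⟩ := (Set.ncard_pos (Set.toFinite _)).1 hpos
  exact ⟨x, hx.1, hx.2⟩

theorem cval_ψ₁_ne_ψ₂ [Finite G] (D : SzData G) (T : BTable D) : T.ψ₁ ≠ T.ψ₂ := by
  intro h
  obtain ⟨x, hxQ, hxZ⟩ := cval_exists_QZ D
  have hxB : x ∈ D.B := Cfsg.Agent.Lib.Helper45.SzCh.Q_le_B D hxQ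
  have h1 := T.ψ_neg ⟨x, hxB⟩ hxQ hxZ
  have h2 := T.ψ_sq ⟨x, hxB⟩ hxQ hxZ
  rw [← h] at h1
  have h3 : T.ψ₁ ⟨x, hxB⟩ = 0 := by
    have : (2 : ℂ) * T.ψ₁ ⟨x, hxB⟩ = 0 := by linear_combination h1
    rcases mul_eq_zero.1 this with h | h
    · norm_num at h
    · exact h
  rw [h3] at h2
  have h4 : (D.h : ℂ) ^ 2 = 0 := by linear_combination h2
  exact cval_h_ne_zero D (pow_eq_zero_iff (by norm_num) |>.1 h4)

/-! ### the multiplicities -/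

theorem cval_floor_eq {z : ℂ} {n : ℕ} (h : z = n) : ((⌊z.re⌋₊ : ℕ) : ℂ) = z := by
  rw [h]
  simp

/-! ### the restriction of a cuspidal character to `B` -/

theorem cusp_res [Fintype G] (D : SzData G) [Fintype ↥D.B] (T : BTable D) {χ : G → ℂ}
    (hχ : IsIrrCharacter G χ) (hc : IsCusp D χ) (x : ↥D.B) :
    χ (x : G) = (T.pa χ : ℂ) * T.φ x + (T.pb χ : ℂ) * T.ψ₁ x + (T.pc χ : ℂ) * T.ψ₂ x := by
  have hres : IsCharacter ↥D.B (resB D χ) :=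
    Cfsg.Agent.Lib.Helper80.isCharacter_restrict D.B (Cfsg.Agent.Lib.Helper80.isCharacter_of_isIrr hχ)
  have hsum := Cfsg.Agent.Lib.Helper78.IsCharacter.eq_sum_irr hres
  have hx : χ (x : G) = ∑ ψ : IrrCharacter ↥D.B,
      classInner (resB D χ) (ψ : ↥D.B → ℂ) * (ψ : ↥D.B → ℂ) x := by
    have := congrFun hsum x
    rw [Finset.sum_apply] at this
    simpa [resB] using this
  -- the three special characters
  obtain ⟨Φ, hΦ⟩ : ∃ Φ : IrrCharacter ↥D.B, Φ = ⟨T.φ, T.irr_φ⟩ := ⟨_, rfl⟩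
  obtain ⟨Ψ₁, hΨ₁⟩ : ∃ Ψ₁ : IrrCharacter ↥D.B, Ψ₁ = ⟨T.ψ₁, T.irr_ψ₁⟩ := ⟨_, rfl⟩
  obtain ⟨Ψ₂, hΨ₂⟩ : ∃ Ψ₂ : IrrCharacter ↥D.B, Ψ₂ = ⟨T.ψ₂, T.irr_ψ₂⟩ := ⟨_, rfl⟩
  have hΦv : (Φ : ↥D.B → ℂ) = T.φ := by rw [hΦ]
  have hΨ₁v : (Ψ₁ : ↥D.B → ℂ) = T.ψ₁ := by rw [hΨ₁]
  have hΨ₂v : (Ψ₂ : ↥D.B → ℂ) = T.ψ₂ := by rw [hΨ₂]
  have hne12 : Φ ≠ Ψ₁ := fun h => cval_φ_ne_ψ₁ D T (by rw [← hΦv, ← hΨ₁v, h])
  have hne13 : Φ ≠ Ψ₂ := fun h => cval_φ_ne_ψ₂ D T (by rw [← hΦv, ← hΨ₂v, h])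
  have hne23 : Ψ₁ ≠ Ψ₂ := fun h => cval_ψ₁_ne_ψ₂ D T (by rw [← hΨ₁v, ← hΨ₂v, h])
  have hsub : ∑ ψ : IrrCharacter ↥D.B,
      classInner (resB D χ) (ψ : ↥D.B → ℂ) * (ψ : ↥D.B → ℂ) x =
      ∑ ψ ∈ ({Φ, Ψ₁, Ψ₂} : Finset (IrrCharacter ↥D.B)),
        classInner (resB D χ) (ψ : ↥D.B → ℂ) * (ψ : ↥D.B → ℂ) x := by
    symm
    apply Finset.sum_subset (Finset.subset_univ _)
    intro ψ _ hψ
    simp only [Finset.mem_insert, Finset.mem_singleton, not_or] at hψ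
    rcases T.complete ψ.1 ψ.2 with h | h | h | h
    · have := hc ψ.1 h
      unfold resB
      rw [this, zero_mul]
    · exact absurd (Subtype.ext (by rw [hΦv]; exact h)) hψ.1
    · exact absurd (Subtype.ext (by rw [hΨ₁v]; exact h)) hψ.2.1
    · exact absurd (Subtype.ext (by rw [hΨ₂v]; exact h)) hψ.2.2
  rw [hx, hsub, Finset.sum_insert (by simp [hne12, hne13]), Finset.sum_pair hne23, hΦv, hΨ₁v, hΨ₂v]
  obtain ⟨na, hna⟩ := Cfsg.Agent.Lib.Helper78.IsCharacter.exists_nat_classInner hres ⟨T.φ, T.irr_φ⟩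
  obtain ⟨nb, hnb⟩ := Cfsg.Agent.Lib.Helper78.IsCharacter.exists_nat_classInner hres ⟨T.ψ₁, T.irr_ψ₁⟩
  obtain ⟨nc, hnc⟩ := Cfsg.Agent.Lib.Helper78.IsCharacter.exists_nat_classInner hres ⟨T.ψ₂, T.irr_ψ₂⟩
  have ea : (T.pa χ : ℂ) = classInner (resB D χ) T.φ := cval_floor_eq hna
  have eb : (T.pb χ : ℂ) = classInner (resB D χ) T.ψ₁ := cval_floor_eq hnb
  have ec : (T.pc χ : ℂ) = classInner (resB D χ) T.ψ₂ := cval_floor_eq hnc
  rw [ea, eb, ec]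
  ring

theorem cusp_degree [Fintype G] (D : SzData G) [Fintype ↥D.B] (T : BTable D) {χ : G → ℂ}
    (hχ : IsIrrCharacter G χ) (hc : IsCusp D χ) :
    charDegree χ = (D.q - 1) * (T.pa χ + D.h * (T.pb χ + T.pc χ)) := by
  have h1 := Cfsg.Agent.Lib.Helper78.IsCharacter.apply_one_eq_charDegree
    (Cfsg.Agent.Lib.Helper78.IsIrrCharacter.isCharacter hχ)
  have h2 := cusp_res D T hχ hc 1
  rw [Subgroup.coe_one, cval_φ_one, T.ψ₁_one, T.ψ₂_one, h1] at h2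
  have h3 : ((charDegree χ : ℕ) : ℂ) =
      (((D.q - 1) * (T.pa χ + D.h * (T.pb χ + T.pc χ)) : ℕ) : ℂ) := by
    rw [h2]
    push_cast
    rw [cval_q_cast]
    ring
  exact_mod_cast h3

theorem cusp_sum_K [Fintype G] (D : SzData G) [Fintype ↥D.B] (T : BTable D) {χ : G → ℂ}
    (hχ : IsIrrCharacter G χ) (hc : IsCusp D χ) :
    sumNe D.K (fun g => χ g * conj (χ g)) = 0 := by
  unfold sumNe
  apply finsum_eq_zero_of_forall_eq_zero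
  rintro ⟨k, hk, hk1⟩
  have hkB : k ∈ D.B := D.K_le hk
  have hkQ : k ∉ D.Q := by
    intro hQ
    exact hk1 (not_conj_K_Q D hk 1 (by simpa using hQ))
  have h := cusp_res D T hχ hc ⟨k, hkB⟩
  rw [T.φ_off ⟨k, hkB⟩ hkQ, T.ψ₁_off ⟨k, hkB⟩ hkQ, T.ψ₂_off ⟨k, hkB⟩ hkQ] at h
  show χ k * conj (χ k) = 0
  have h0 : χ k = 0 := by
    have : χ ((⟨k, hkB⟩ : ↥D.B) : G) = 0 := by rw [h]; ring
    exact this
  rw [h0, zero_mul]

theorem cval_conj_of_sq {z : ℂ} {h : ℕ} (hz : z ^ 2 = -((h : ℂ) ^ 2)) : conj z = -z := by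
  have h1 : (z - Complex.I * h) * (z + Complex.I * h) = 0 := by
    have : Complex.I ^ 2 = -1 := Complex.I_sq
    linear_combination hz - (h : ℂ) ^ 2 * this
  rcases mul_eq_zero.1 h1 with h2 | h2
  · have : z = Complex.I * h := sub_eq_zero.1 h2
    rw [this]
    simp
  · have : z = -(Complex.I * h) := eq_neg_of_add_eq_zero_left h2
    rw [this]
    simp

theorem cusp_sum_Q [Fintype G] (D : SzData G) [Fintype ↥D.B] (T : BTable D) {χ : G → ℂ}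
    (hχ : IsIrrCharacter G χ) (hc : IsCusp D χ) :
    sumNe D.Q (fun g => χ g * conj (χ g)) = ((D.q : ℂ) - 1) *
      (((T.pa χ : ℂ) * ((D.q : ℂ) - 1) - (D.h : ℂ) * ((T.pb χ : ℂ) + (T.pc χ : ℂ))) ^ 2 +
        (D.q : ℂ) * ((T.pa χ : ℂ) ^ 2 + (D.h : ℂ) ^ 2 * ((T.pb χ : ℂ) - (T.pc χ : ℂ)) ^ 2)) := by
  rw [cval_sumNe_eq_sum]
  -- split `Q \ 1` into `Z \ 1` and `Q \ Z`
  have hsplit : Finset.univ.filter (fun x : G => x ∈ D.Q ∧ x ≠ 1) =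
      Finset.univ.filter (fun x : G => x ∈ D.Z ∧ x ≠ 1) ∪
        Finset.univ.filter (fun x : G => x ∈ D.Q ∧ x ∉ D.Z) := by
    ext x
    simp only [Finset.mem_filter, Finset.mem_univ, true_and, Finset.mem_union]
    constructor
    · rintro ⟨hQ, h1⟩
      by_cases hZ : x ∈ D.Z
      · exact Or.inl ⟨hZ, h1⟩
      · exact Or.inr ⟨hQ, hZ⟩
    · rintro (⟨hZ, h1⟩ | ⟨hQ, hZ⟩)
      · exact ⟨Cfsg.Agent.Lib.Helper45.SzCh.Z_le_Q D hZ, h1⟩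
      · exact ⟨hQ, Cfsg.Agent.Lib.Helper45.SzCh.ne_one_of_not_mem_Z D hZ⟩
  have hdisj : Disjoint (Finset.univ.filter (fun x : G => x ∈ D.Z ∧ x ≠ 1))
      (Finset.univ.filter (fun x : G => x ∈ D.Q ∧ x ∉ D.Z)) := by
    rw [Finset.disjoint_left]
    intro x h1 h2
    simp only [Finset.mem_filter, Finset.mem_univ, true_and] at h1 h2
    exact h2.2 h1.1
  rw [hsplit, Finset.sum_union hdisj]
  -- the values
  have hZval : ∀ x ∈ Finset.univ.filter (fun x : G => x ∈ D.Z ∧ x ≠ 1),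
      χ x * conj (χ x) =
        ((T.pa χ : ℂ) * ((D.q : ℂ) - 1) - (D.h : ℂ) * ((T.pb χ : ℂ) + (T.pc χ : ℂ))) ^ 2 := by
    intro x hx
    simp only [Finset.mem_filter, Finset.mem_univ, true_and] at hx
    have hxB : x ∈ D.B := Cfsg.Agent.Lib.Helper45.SzCh.Q_le_B D
      (Cfsg.Agent.Lib.Helper45.SzCh.Z_le_Q D hx.1)
    have hne : (⟨x, hxB⟩ : ↥D.B) ≠ 1 := by
      intro h; exact hx.2 (congrArg Subtype.val h)
    have h := cusp_res D T hχ hc ⟨x, hxB⟩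
    rw [T.φ_Z ⟨x, hxB⟩ hx.1, T.ψ₁_Z ⟨x, hxB⟩ hx.1 hne, T.ψ₂_Z ⟨x, hxB⟩ hx.1 hne] at h
    have h' : χ x = (T.pa χ : ℂ) * ((D.q : ℂ) - 1) -
        (D.h : ℂ) * ((T.pb χ : ℂ) + (T.pc χ : ℂ)) := by
      have : χ ((⟨x, hxB⟩ : ↥D.B) : G) = _ := h
      rw [this]; ring
    rw [h']
    simp only [map_sub, map_mul, map_add, map_natCast, map_one]
    ring
  have hQval : ∀ x ∈ Finset.univ.filter (fun x : G => x ∈ D.Q ∧ x ∉ D.Z),
      χ x * conj (χ x) =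
        (T.pa χ : ℂ) ^ 2 + (D.h : ℂ) ^ 2 * ((T.pb χ : ℂ) - (T.pc χ : ℂ)) ^ 2 := by
    intro x hx
    simp only [Finset.mem_filter, Finset.mem_univ, true_and] at hx
    have hxB : x ∈ D.B := Cfsg.Agent.Lib.Helper45.SzCh.Q_le_B D hx.1
    have h := cusp_res D T hχ hc ⟨x, hxB⟩
    rw [T.φ_QZ ⟨x, hxB⟩ hx.1 hx.2, T.ψ_neg ⟨x, hxB⟩ hx.1 hx.2] at h
    have hsq := T.ψ_sq ⟨x, hxB⟩ hx.1 hx.2
    have hconj := cval_conj_of_sq hsq
    have h' : χ x = -(T.pa χ : ℂ) + ((T.pb χ : ℂ) - (T.pc χ : ℂ)) * T.ψ₁ ⟨x, hxB⟩ := by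
      have : χ ((⟨x, hxB⟩ : ↥D.B) : G) = _ := h
      rw [this]; ring
    rw [h']
    simp only [map_sub, map_mul, map_add, map_neg, map_natCast, hconj]
    linear_combination (-((T.pb χ : ℂ) - (T.pc χ : ℂ)) ^ 2) * hsq
  rw [Finset.sum_congr rfl hZval, Finset.sum_congr rfl hQval, Finset.sum_const, Finset.sum_const]
  -- the cardinalities
  have hcZ : (Finset.univ.filter (fun x : G => x ∈ D.Z ∧ x ≠ 1)).card = D.q - 1 := by
    rw [← Cfsg.Agent.Lib.Helper45.SzCh.ncard_Z_diff D, ← Set.ncard_coe_finset]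
    congr 1
    ext x
    simp
  have hcQ : (Finset.univ.filter (fun x : G => x ∈ D.Q ∧ x ∉ D.Z)).card = D.q * (D.q - 1) := by
    rw [← Cfsg.Agent.Lib.Helper45.SzCh.ncard_Q_diff_Z D, ← Set.ncard_coe_finset]
    congr 1
    ext x
    simp
  rw [hcZ, hcQ, nsmul_eq_mul, nsmul_eq_mul]
  push_cast
  rw [cval_q_cast]
  ring

end Cfsg.Agent.Lib.Helper25.SzCh
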