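/-
helper25: module SZCH-[B-LIN] of helper6's project SZCH (S4775): the `q - 1` linear characters of
`B / Q ≅ K` for a Suzuki group.
-/
import Mathlib
import Cfsg.Agent.Lib.Helper6.SzCh.Defs
import Cfsg.Agent.Lib.Helper78.CharValues
import Cfsg.Agent.Lib.Helper80.CharBasic
import Cfsg.Agent.Lib.Helper25.LinChar
import Cfsg.Agent.Lib.Helper25.SzChGCoprime

set_option autoImplicit false
set_option linter.style.haveILetI false

namespace Cfsg.Agent.Lib.Helper25.SzCh

open Cfsg Cfsg.Agent.Lib.Helper6.SzCh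
open scoped ComplexConjugate Classical

universe u

variable {G : Type u} [Group G]

/-- a character of degree one is a homomorphism to `ℂˣ` -/
theorem blin_exists_hom {H : Type u} [Group H] {R : H → ℂ} (hR : IsCharacter H R) (h : R 1 = 1) :
    ∃ μ : H →* ℂˣ, R = fun g => ((μ g : ℂˣ) : ℂ) := by
  obtain ⟨n, ρ, rfl⟩ := hR
  have h' := h
  rw [Representation.char_one] at h'
  have hn : Module.finrank ℂ (Fin n → ℂ) = 1 := by exact_mod_cast h'
  let f : H →* ℂ := ⟨⟨ρ.character, h⟩, fun x y => by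
    simp only [Representation.character, map_mul]
    exact Cfsg.Agent.Lib.Helper78.trace_mul_of_finrank_eq_one hn _ _⟩
  exact ⟨f.toHomUnits, rfl⟩

theorem blin_Q_le_B (D : SzData G) : D.Q ≤ D.B := by
  unfold SzData.B
  exact Subgroup.le_normalizer

theorem blin_one_mem (D : SzData G) : ((1 : ↥D.B) : G) ∈ D.Q := by
  rw [Subgroup.coe_one]; exact D.Q.one_mem

/-- an `IsLinQ` character is a homomorphism to `ℂˣ` -/
theorem isLinQ_exists_hom (D : SzData G) {lam : ↥D.B → ℂ} (hl : IsLinQ D lam) :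
    ∃ μ : ↥D.B →* ℂˣ, lam = fun g => ((μ g : ℂˣ) : ℂ) :=
  blin_exists_hom (Cfsg.Agent.Lib.Helper80.isCharacter_of_isIrr hl.1) (hl.2 1 (blin_one_mem D))

theorem isLinQ_one (D : SzData G) : IsLinQ D (fun _ => 1) :=
  ⟨Cfsg.Agent.Lib.Helper80.isIrrCharacter_one, fun _ _ => rfl⟩

theorem isLinQ_map_mul [Finite G] (D : SzData G) {lam : ↥D.B → ℂ} (hl : IsLinQ D lam) (x y : ↥D.B) :
    lam (x * y) = lam x * lam y := by
  obtain ⟨μ, rfl⟩ := isLinQ_exists_hom D hl
  simp [map_mul]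

theorem isLinQ_map_one (D : SzData G) {lam : ↥D.B → ℂ} (hl : IsLinQ D lam) : lam 1 = 1 :=
  hl.2 1 (blin_one_mem D)

theorem isLinQ_norm [Finite G] (D : SzData G) {lam : ↥D.B → ℂ} (hl : IsLinQ D lam) (x : ↥D.B) :
    ‖lam x‖ = 1 := by
  obtain ⟨μ, rfl⟩ := isLinQ_exists_hom D hl
  exact Cfsg.Agent.Lib.Helper25.lin_norm_one μ x

theorem isLinQ_mul_conj [Finite G] (D : SzData G) {lam : ↥D.B → ℂ} (hl : IsLinQ D lam) (x : ↥D.B) :
    lam x * conj (lam x) = 1 := by
  rw [Complex.mul_conj, Complex.normSq_eq_norm_sq, isLinQ_norm D hl x]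
  simp

theorem isLinQ_inv [Finite G] (D : SzData G) {lam : ↥D.B → ℂ} (hl : IsLinQ D lam) (x : ↥D.B) :
    lam x⁻¹ = conj (lam x) := by
  have h1 : lam x⁻¹ * lam x = 1 := by
    rw [← isLinQ_map_mul D hl, inv_mul_cancel, isLinQ_map_one D hl]
  have h2 := isLinQ_mul_conj D hl x
  calc lam x⁻¹ = lam x⁻¹ * (lam x * conj (lam x)) := by rw [h2, mul_one]
    _ = conj (lam x) := by rw [← mul_assoc, h1, one_mul]

theorem isLinQ_conj [Finite G] (D : SzData G) {lam : ↥D.B → ℂ} (hl : IsLinQ D lam) :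
    IsLinQ D (fun x => conj (lam x)) := by
  obtain ⟨μ, hμ⟩ := isLinQ_exists_hom D hl
  have e : (fun x => conj (lam x)) = fun x => (((μ⁻¹) x : ℂˣ) : ℂ) := by
    funext x
    rw [hμ]
    exact Cfsg.Agent.Lib.Helper25.lin_conj μ x
  refine ⟨?_, fun u hu => ?_⟩
  · rw [e]
    exact Cfsg.Agent.Lib.Helper80.isIrrCharacter_of_hom μ⁻¹
  · show conj (lam u) = 1
    rw [hl.2 u hu, map_one]

/-- the decomposition `x = u k` inside `↥D.B` -/
theorem blin_decomp (D : SzData G) (x : ↥D.B) :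
    ∃ (u k : ↥D.B), (u : G) ∈ D.Q ∧ (k : G) ∈ D.K ∧ x = u * k := by
  obtain ⟨u, hu, k, hk, hx⟩ := D.norm_eq x x.2
  exact ⟨⟨u, blin_Q_le_B D hu⟩, ⟨k, D.K_le hk⟩, hu, hk, Subtype.ext hx⟩

/-- `λ (u k) = λ k` -/
theorem isLinQ_apply_mul [Finite G] (D : SzData G) {lam : ↥D.B → ℂ} (hl : IsLinQ D lam)
    {u k : ↥D.B} (hu : (u : G) ∈ D.Q) : lam (u * k) = lam k := by
  rw [isLinQ_map_mul D hl, hl.2 u hu, one_mul]

/-- a character of `B/Q` is determined by its restriction to `K` -/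
theorem isLinQ_ext [Finite G] (D : SzData G) {lam mu : ↥D.B → ℂ} (hl : IsLinQ D lam) (hm : IsLinQ D mu)
    (h : ∀ x : ↥D.B, (x : G) ∈ D.K → lam x = mu x) : lam = mu := by
  funext x
  obtain ⟨u, k, hu, hk, rfl⟩ := blin_decomp D x
  rw [isLinQ_apply_mul D hl hu, isLinQ_apply_mul D hm hu, h k hk]

theorem isLinQ_map_pow [Finite G] (D : SzData G) {lam : ↥D.B → ℂ} (hl : IsLinQ D lam) (x : ↥D.B)
    (n : ℕ) : lam (x ^ n) = lam x ^ n := by
  induction n with
  | zero => rw [pow_zero, pow_zero, isLinQ_map_one D hl]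
  | succ n ih => rw [pow_succ, pow_succ, isLinQ_map_mul D hl, ih]

/-- `|K|` is odd: only the trivial character is real -/
theorem isLinQ_conj_ne [Finite G] (D : SzData G) {lam : ↥D.B → ℂ} (hl : IsLinQ D lam)
    (hne : lam ≠ fun _ => 1) : (fun x => conj (lam x)) ≠ lam := by
  intro hreal
  apply hne
  apply isLinQ_ext D hl (isLinQ_one D)
  intro k hk
  have hsq : lam k ^ 2 = 1 := by
    have h1 := isLinQ_mul_conj D hl k
    have h2 : conj (lam k) = lam k := congrFun hreal k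
    rw [h2] at h1
    rw [pow_two]; exact h1
  have hpow : lam k ^ (qOf D.m - 1) = 1 := by
    rw [← isLinQ_map_pow D hl]
    have h1 : (k : G) ^ (qOf D.m - 1) = 1 := by
      have := Subgroup.orderOf_dvd_natCard D.K hk
      rw [D.card_K] at this
      exact orderOf_dvd_iff_pow_eq_one.1 this
    have h2 : k ^ (qOf D.m - 1) = 1 := Subtype.ext (by rw [Subgroup.coe_pow, h1]; rfl)
    rw [h2, isLinQ_map_one D hl]
  obtain ⟨t, ht⟩ : ∃ t, qOf D.m - 1 = 2 * t + 1 := by
    have h1 := gcop_q_even D.m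
    have h2 := gcop_q_pos D.m
    obtain ⟨s, hs⟩ := h1
    exact ⟨s - 1, by omega⟩
  rw [ht, pow_succ, pow_mul, hsq, one_pow, one_mul] at hpow
  exact hpow

/-- `Q` (inside `B`) is normal -/
instance blin_normal (D : SzData G) : (D.Q.subgroupOf D.B).Normal := by
  unfold SzData.B
  exact Subgroup.normal_in_normalizer

theorem blin_mk_eq_one (D : SzData G) {u : ↥D.B} (hu : (u : G) ∈ D.Q) :
    (QuotientGroup.mk u : ↥D.B ⧸ D.Q.subgroupOf D.B) = 1 := by
  rw [QuotientGroup.eq_one_iff, Subgroup.mem_subgroupOf]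
  exact hu

theorem card_isLinQ [Finite G] (D : SzData G) :
    Nat.card {lam : ↥D.B → ℂ // IsLinQ D lam} = D.q - 1 := by
  -- the map `K → B/Q`
  let f : ↥D.K →* ↥D.B ⧸ D.Q.subgroupOf D.B :=
    (QuotientGroup.mk' (D.Q.subgroupOf D.B)).comp
      (Subgroup.inclusion (show D.K ≤ D.B from D.K_le))
  have hfinj : Function.Injective f := by
    rw [injective_iff_map_eq_one]
    intro k hk
    have h1 : (Subgroup.inclusion (show D.K ≤ D.B from D.K_le) k) ∈ D.Q.subgroupOf D.B := by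
      rw [← QuotientGroup.eq_one_iff]; exact hk
    have hkQ : (k : G) ∈ D.Q := by
      rw [Subgroup.mem_subgroupOf] at h1; exact h1
    have h2 : (k : G) = 1 := not_conj_K_Q D k.2 1 (by simpa using hkQ)
    exact Subtype.ext h2
  have hfsurj : Function.Surjective f := by
    intro y
    induction y using QuotientGroup.induction_on with
    | H b =>
      obtain ⟨u, k, hu, hk, rfl⟩ := blin_decomp D b
      refine ⟨⟨(k : G), hk⟩, ?_⟩
      show (QuotientGroup.mk k : ↥D.B ⧸ D.Q.subgroupOf D.B) = QuotientGroup.mk (u * k)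
      rw [QuotientGroup.mk_mul, blin_mk_eq_one D hu, one_mul]
  let e : ↥D.K ≃* ↥D.B ⧸ D.Q.subgroupOf D.B := MulEquiv.ofBijective f ⟨hfinj, hfsurj⟩
  letI : CommGroup (↥D.B ⧸ D.Q.subgroupOf D.B) :=
    { (inferInstance : Group (↥D.B ⧸ D.Q.subgroupOf D.B)) with
      mul_comm := fun a b => by
        obtain ⟨x, rfl⟩ := hfsurj a
        obtain ⟨y, rfl⟩ := hfsurj b
        rw [← map_mul, ← map_mul]
        congr 1
        exact Subtype.ext (D.K_comm x x.2 y y.2) }
  have hcard : Nat.card ((↥D.B ⧸ D.Q.subgroupOf D.B) →* ℂˣ) =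
      Nat.card (↥D.B ⧸ D.Q.subgroupOf D.B) :=
    CommGroup.card_monoidHom_of_hasEnoughRootsOfUnity (↥D.B ⧸ D.Q.subgroupOf D.B) ℂ
  let F : ((↥D.B ⧸ D.Q.subgroupOf D.B) →* ℂˣ) → {lam : ↥D.B → ℂ // IsLinQ D lam} := fun ν =>
    ⟨fun b => ((ν (QuotientGroup.mk b) : ℂˣ) : ℂ),
      ⟨Cfsg.Agent.Lib.Helper80.isIrrCharacter_of_hom
          (ν.comp (QuotientGroup.mk' (D.Q.subgroupOf D.B))),
        fun u hu => by
          show ((ν (QuotientGroup.mk u) : ℂˣ) : ℂ) = 1
          rw [blin_mk_eq_one D hu, map_one, Units.val_one]⟩⟩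
  have hFbij : Function.Bijective F := by
    constructor
    · intro ν ν' h
      apply MonoidHom.ext
      intro y
      induction y using QuotientGroup.induction_on with
      | H b =>
        apply Units.ext
        exact congrFun (congrArg Subtype.val h) b
    · rintro ⟨lam, hl⟩
      obtain ⟨μ, rfl⟩ := isLinQ_exists_hom D hl
      have hker : D.Q.subgroupOf D.B ≤ μ.ker := by
        intro u hu
        rw [MonoidHom.mem_ker]
        apply Units.ext
        rw [Subgroup.mem_subgroupOf] at hu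
        have := hl.2 u hu
        simpa using this
      refine ⟨QuotientGroup.lift _ μ hker, ?_⟩
      apply Subtype.ext
      funext b
      show (((QuotientGroup.lift _ μ hker) (QuotientGroup.mk b) : ℂˣ) : ℂ) = ((μ b : ℂˣ) : ℂ)
      rw [QuotientGroup.lift_mk]
  rw [← Nat.card_eq_of_bijective F hFbij, hcard, ← Nat.card_congr e.toEquiv, D.card_K]
  rfl

/-- orthogonality on `K` -/
theorem isLinQ_sum_K [Finite G] (D : SzData G) {lam mu : ↥D.B → ℂ} (hl : IsLinQ D lam) (hm : IsLinQ D mu) :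
    (Nat.card D.K : ℂ)⁻¹ * ∑ᶠ k : ↥D.K, lam ⟨(k : G), D.K_le k.2⟩ * mu ⟨(k : G), D.K_le k.2⟩ =
      if mu = (fun x => conj (lam x)) then 1 else 0 := by
  haveI : Fintype ↥D.K := Fintype.ofFinite _
  rw [finsum_eq_sum_of_fintype]
  have hK0 : (Nat.card D.K : ℂ) ≠ 0 := Nat.cast_ne_zero.mpr Nat.card_pos.ne'
  obtain ⟨μ₁, hμ₁⟩ := isLinQ_exists_hom D hl
  obtain ⟨μ₂, hμ₂⟩ := isLinQ_exists_hom D hm
  by_cases hc : mu = (fun x => conj (lam x))
  · rw [if_pos hc]
    have h1 : ∀ k : ↥D.K, lam ⟨(k : G), D.K_le k.2⟩ * mu ⟨(k : G), D.K_le k.2⟩ = 1 := by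
      intro k
      rw [hc]
      exact isLinQ_mul_conj D hl _
    rw [Finset.sum_congr rfl (fun k _ => h1 k), Finset.sum_const, Finset.card_univ,
      nsmul_eq_mul, mul_one, ← Nat.card_eq_fintype_card, inv_mul_cancel₀ hK0]
  · rw [if_neg hc]
    let ν : ↥D.K →* ℂˣ := (μ₁ * μ₂).comp (Subgroup.inclusion (show D.K ≤ D.B from D.K_le))
    have hν : ∀ k : ↥D.K, lam ⟨(k : G), D.K_le k.2⟩ * mu ⟨(k : G), D.K_le k.2⟩ =
        ((ν k : ℂˣ) : ℂ) := by
      intro k
      rw [hμ₁, hμ₂]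
      simp [ν]
      rfl
    have hν1 : ν ≠ 1 := by
      intro h1
      apply hc
      apply isLinQ_ext D hm (isLinQ_conj D hl)
      intro x hx
      have h2 := hν ⟨(x : G), hx⟩
      rw [h1] at h2
      simp only [MonoidHom.one_apply, Units.val_one] at h2
      have h3 := isLinQ_mul_conj D hl x
      have h4 : lam x ≠ 0 := by
        intro h0; rw [h0, zero_mul] at h3; exact zero_ne_one h3
      have h5 : lam x * mu x = lam x * conj (lam x) := by rw [h3]; exact h2
      exact mul_left_cancel₀ h4 h5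
    rw [Finset.sum_congr rfl (fun k _ => hν k), Cfsg.Agent.Lib.Helper25.lin_sum_eq_zero ν hν1,
      mul_zero]

end Cfsg.Agent.Lib.Helper25.SzCh
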