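import Mathlib
import Cfsg.Agent.Lib.Helper6.InvCount

/-!
# Counting involutions in 2-transitive groups with trivial three-point stabilisers (helper25)

Abstract counting lemmas (no Zassenhaus predicate): `G` acts on `Ω`, 2-transitively (`h2`), only the
identity fixes three points (`h3`).  Uses `invs`, `invsMap` from helper6's `InvCount`.
-/

set_option autoImplicit false

namespace Cfsg.Agent.Lib.Helper25.ZassInv

open MulAction Cfsg.Agent.Lib.Helper6

variable {G Ω : Type*} [Group G] [MulAction G Ω]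

/-- conjugating a two-point stabiliser -/
theorem card_stab2_smul (g : G) (c d : Ω) :
    Nat.card ↥(stabilizer G (g • c) ⊓ stabilizer G (g • d) : Subgroup G) =
      Nat.card ↥(stabilizer G c ⊓ stabilizer G d : Subgroup G) := by
  symm
  apply Nat.card_congr
  refine ⟨fun η => ⟨g * η * g⁻¹, ?_, ?_⟩, fun η => ⟨g⁻¹ * η * g, ?_, ?_⟩, ?_, ?_⟩
  · show (g * η * g⁻¹) • (g • c) = g • c
    have h1 : (η : G) • c = c := η.2.1
    rw [mul_smul, mul_smul, inv_smul_smul, h1]
  · show (g * η * g⁻¹) • (g • d) = g • d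
    have h1 : (η : G) • d = d := η.2.2
    rw [mul_smul, mul_smul, inv_smul_smul, h1]
  · show (g⁻¹ * η * g) • c = c
    have h1 : (η : G) • (g • c) = g • c := η.2.1
    rw [mul_smul, mul_smul, h1, inv_smul_smul]
  · show (g⁻¹ * η * g) • d = d
    have h1 : (η : G) • (g • d) = g • d := η.2.2
    rw [mul_smul, mul_smul, h1, inv_smul_smul]
  · intro η
    apply Subtype.ext
    show g⁻¹ * (g * η * g⁻¹) * g = η
    group
  · intro η
    apply Subtype.ext
    show g * (g⁻¹ * η * g) * g⁻¹ = η
    group

/-- all two-point stabilisers have the same order -/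
theorem card_stab2_eq
    (h2 : ∀ a b c d : Ω, a ≠ b → c ≠ d → ∃ g : G, g • a = c ∧ g • b = d)
    {a b c d : Ω} (hab : a ≠ b) (hcd : c ≠ d) :
    Nat.card ↥(stabilizer G c ⊓ stabilizer G d : Subgroup G) =
      Nat.card ↥(stabilizer G a ⊓ stabilizer G b : Subgroup G) := by
  obtain ⟨g, rfl, rfl⟩ := h2 a b c d hab hcd
  exact card_stab2_smul g a b

/-- the order of a 2-transitive group -/
theorem card_group_eq [Finite G] [Fintype Ω]
    (h2 : ∀ a b c d : Ω, a ≠ b → c ≠ d → ∃ g : G, g • a = c ∧ g • b = d)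
    {a b : Ω} (hab : a ≠ b) :
    Nat.card G = Fintype.card Ω * (Fintype.card Ω - 1) *
      Nat.card ↥(stabilizer G a ⊓ stabilizer G b : Subgroup G) := by
  classical
  have h1 : Nat.card G = Nat.card (stabilizer G a) * Fintype.card Ω := by
    rw [← (stabilizer G a).card_mul_index, MulAction.index_stabilizer]
    congr 1
    have : orbit G a = Set.univ := by
      ext c
      simp only [Set.mem_univ, iff_true]
      by_cases hc : c = a
      · exact ⟨1, by simp [hc]⟩
      · obtain ⟨g, hg, -⟩ := h2 a b c a hab hc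
        exact ⟨g, hg⟩
    rw [this, Set.ncard_univ, Nat.card_eq_fintype_card]
  let S := stabilizer G a
  have hst : stabilizer S b = (stabilizer G a ⊓ stabilizer G b).subgroupOf S := by
    ext g
    simp only [mem_stabilizer_iff, Subgroup.mem_subgroupOf, Subgroup.mem_inf]
    constructor
    · intro h
      exact ⟨g.2, h⟩
    · intro h
      exact h.2
  have h3 : Nat.card S = Nat.card ↥(stabilizer G a ⊓ stabilizer G b : Subgroup G) *
      (Fintype.card Ω - 1) := by
    rw [← (stabilizer S b).card_mul_index, MulAction.index_stabilizer, hst]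
    congr 1
    · exact Nat.card_congr (Subgroup.subgroupOfEquivOfLe inf_le_left).toEquiv
    · have : orbit S b = {c | c ≠ a} := by
        ext c
        simp only [Set.mem_ofPred_eq]
        constructor
        · rintro ⟨g, rfl⟩ h
          have hga : (g : G) • a = a := g.2
          have : (g : G) • b = (g : G) • a := by rw [hga]; exact h
          exact hab (MulAction.injective (g : G) this).symm
        · intro hc
          obtain ⟨g, hga, hgb⟩ := h2 a b a c hab (Ne.symm hc)
          exact ⟨⟨g, hga⟩, hgb⟩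
      rw [this, Set.ncard_eq_toFinset_card']
      simp [Finset.filter_ne', Finset.card_erase_of_mem]
  rw [h1, h3]
  ring

section Fin

variable [Fintype Ω] [DecidableEq Ω]

/-- the number of fixed points of an involution has the parity of the degree -/
theorem card_fixed_modEq {t : G} (ht2 : t * t = 1) :
    (Finset.univ.filter (fun c : Ω => t • c = c)).card ≡ Fintype.card Ω [MOD 2] := by
  have hσ : (MulAction.toPerm t : Equiv.Perm Ω) ^ 2 ^ 1 = 1 := by
    ext c
    simp [pow_two, ← mul_smul, ht2]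
  have : Fact (Nat.Prime 2) := ⟨Nat.prime_two⟩
  have hmod := Equiv.Perm.card_compl_support_modEq (p := 2) (n := 1) hσ
  have hF : Finset.univ.filter (fun c : Ω => t • c = c)
      = (MulAction.toPerm t : Equiv.Perm Ω).supportᶜ := by
    ext c
    simp [Equiv.Perm.mem_support]
  rw [hF]
  exact hmod

/-- in even degree with two-point stabilisers of odd order, involutions fix no point -/
theorem fpf_of_even [Finite G]
    (h2 : ∀ a b c d : Ω, a ≠ b → c ≠ d → ∃ g : G, g • a = c ∧ g • b = d)
    {a b : Ω} (hab : a ≠ b) (heven : Even (Fintype.card Ω))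
    (hodd : Odd (Nat.card ↥(stabilizer G a ⊓ stabilizer G b : Subgroup G)))
    {t : G} (ht1 : t ≠ 1) (ht2 : t * t = 1) (c : Ω) : t • c ≠ c := by
  intro hc
  have hmod := card_fixed_modEq (Ω := Ω) ht2
  have hFeven : Even (Finset.univ.filter (fun c : Ω => t • c = c)).card := by
    rw [Nat.even_iff, hmod, ← Nat.even_iff]
    exact heven
  have hcF : c ∈ Finset.univ.filter (fun c : Ω => t • c = c) := by simp [hc]
  have h1 : 1 < (Finset.univ.filter (fun c : Ω => t • c = c)).card := by
    have hpos : 0 < (Finset.univ.filter (fun c : Ω => t • c = c)).card :=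
      Finset.card_pos.mpr ⟨c, hcF⟩
    obtain ⟨k, hk⟩ := hFeven
    omega
  obtain ⟨c1, hc1, d1, hd1, hcd⟩ := Finset.one_lt_card.mp h1
  simp only [Finset.mem_filter, Finset.mem_univ, true_and] at hc1 hd1
  have hmem : t ∈ (stabilizer G c1 ⊓ stabilizer G d1 : Subgroup G) := ⟨hc1, hd1⟩
  have hord : orderOf t = 2 := orderOf_eq_prime (by rw [pow_two]; exact ht2) ht1
  have hdvd : orderOf (⟨t, hmem⟩ : ↥(stabilizer G c1 ⊓ stabilizer G d1 : Subgroup G)) ∣
      Nat.card ↥(stabilizer G c1 ⊓ stabilizer G d1 : Subgroup G) := orderOf_dvd_natCard _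
  rw [Subgroup.orderOf_mk, hord, card_stab2_eq h2 hab hcd] at hdvd
  obtain ⟨k, hk⟩ := hodd
  omega

variable [Fintype G] [DecidableEq G]

/-- all the sets of involutions mapping `c` to `d ≠ c` have the same size -/
theorem card_invsMap_eq
    (h2 : ∀ a b c d : Ω, a ≠ b → c ≠ d → ∃ g : G, g • a = c ∧ g • b = d)
    {a b c d : Ω} (hab : a ≠ b) (hcd : c ≠ d) :
    (invsMap (G := G) c d).card = (invsMap (G := G) a b).card := by
  obtain ⟨g, rfl, rfl⟩ := h2 a b c d hab hcd
  exact card_invsMap_smul g a b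

/-- partition of the involutions by the image of `a` -/
theorem card_invs_eq_add
    (h2 : ∀ a b c d : Ω, a ≠ b → c ≠ d → ∃ g : G, g • a = c ∧ g • b = d)
    {a b : Ω} (hab : a ≠ b) :
    (invs G).card = (invsMap (G := G) a a).card +
      (Fintype.card Ω - 1) * (invsMap (G := G) a b).card := by
  rw [Finset.card_eq_sum_card_fiberwise (f := fun t : G => t • a) (s := invs G)
    (t := Finset.univ) (fun _ _ => Finset.mem_univ _)]
  rw [← Finset.add_sum_erase _ _ (Finset.mem_univ a)]
  congr 1
  rw [Finset.sum_const_nat (m := (invsMap (G := G) a b).card)]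
  · rw [Finset.card_erase_of_mem (Finset.mem_univ a), Finset.card_univ]
  · intro d hd
    exact card_invsMap_eq h2 hab (Finset.ne_of_mem_erase hd).symm

/-- in odd degree every involution has exactly one fixed point, so the involutions are counted by
their fixed point -/
theorem card_invs_odd
    (h2 : ∀ a b c d : Ω, a ≠ b → c ≠ d → ∃ g : G, g • a = c ∧ g • b = d)
    (h3 : ∀ g : G, ∀ a b c : Ω, a ≠ b → b ≠ c → a ≠ c → g • a = a → g • b = b → g • c = c → g = 1)
    (hodd : Odd (Fintype.card Ω)) {a b : Ω} (hab : a ≠ b) :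
    (invs G).card = Fintype.card Ω * (invsMap (G := G) a a).card := by
  have htrans : ∀ c : Ω, ∃ g : G, g • a = c := by
    intro c
    by_cases hc : c = a
    · exact ⟨1, by rw [one_smul, hc]⟩
    · obtain ⟨g, hg, -⟩ := h2 a b c a hab hc
      exact ⟨g, hg⟩
  have hi : ∀ c : Ω, (invsMap (G := G) c c).card = (invsMap (G := G) a a).card := by
    intro c
    obtain ⟨g, rfl⟩ := htrans c
    exact card_invsMap_smul g a a
  have hdc := Finset.sum_card_bipartiteAbove_eq_sum_card_bipartiteBelow (s := invs G)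
    (t := (Finset.univ : Finset Ω)) (r := fun t c => t • c = c)
  simp only [Finset.bipartiteAbove, Finset.bipartiteBelow] at hdc
  have hL : ∑ t ∈ invs G, (Finset.univ.filter (fun c : Ω => t • c = c)).card = (invs G).card := by
    rw [Finset.card_eq_sum_ones]
    apply Finset.sum_congr rfl
    intro t ht
    rw [mem_invs] at ht
    obtain ⟨c, hc, huniq⟩ := involution_existsUnique_fixed hodd h3 ht.1 ht.2
    rw [Finset.card_eq_one]
    refine ⟨c, ?_⟩
    ext d
    simp only [Finset.mem_filter, Finset.mem_univ, true_and, Finset.mem_singleton]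
    exact ⟨fun hd => huniq d hd, fun hd => hd ▸ hc⟩
  have hR : ∑ c : Ω, ((invs G).filter (fun t => t • c = c)).card =
      Fintype.card Ω * (invsMap (G := G) a a).card := by
    rw [Finset.sum_const_nat (m := (invsMap (G := G) a a).card)]
    · rw [Finset.card_univ]
    · intro c _
      exact hi c
  rw [← hL, hdc, hR]

/-- at most `|E|` involutions swap `a` and `b` -/
theorem card_invsMap_le {a b : Ω} :
    (invsMap (G := G) a b).card ≤ Nat.card ↥(stabilizer G a ⊓ stabilizer G b : Subgroup G) := by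
  classical
  let Ef : Finset G := Finset.univ.filter (fun η => η ∈ (stabilizer G a ⊓ stabilizer G b : Subgroup G))
  have hEf : Ef.card = Nat.card ↥(stabilizer G a ⊓ stabilizer G b : Subgroup G) := by
    rw [Nat.card_eq_fintype_card, Fintype.card_subtype]
  by_cases hemp : invsMap (G := G) a b = ∅
  · rw [hemp]; simp
  obtain ⟨w, hw⟩ := Finset.nonempty_iff_ne_empty.mpr hemp
  rw [mem_invsMap] at hw
  have hwb : w • b = a := by
    rw [← hw.2, ← mul_smul, hw.1.2, one_smul]
  rw [← hEf]
  apply Finset.card_le_card_of_injOn (fun t => w⁻¹ * t)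
  · intro t ht
    rw [Finset.mem_coe, mem_invsMap] at ht
    have htb : t • b = a := by
      rw [← ht.2, ← mul_smul, ht.1.2, one_smul]
    simp only [Ef, Finset.coe_filter, Finset.mem_univ, true_and, Set.mem_ofPred_eq]
    constructor
    · show (w⁻¹ * t) • a = a
      rw [mul_smul, ht.2, inv_smul_eq_iff, hw.2]
    · show (w⁻¹ * t) • b = b
      rw [mul_smul, htb, inv_smul_eq_iff, hwb]
  · intro t _ t' _ htt
    exact mul_left_cancel htt

/-- if an involution `w` swapping `a`, `b` inverts `E`, all of `wE` consists of such involutions -/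
theorem card_invsMap_ge {a b : Ω} (hab : a ≠ b) {w : G} (hw : w ∈ invsMap (G := G) a b)
    (hinv : ∀ η ∈ (stabilizer G a ⊓ stabilizer G b : Subgroup G), w * η * w⁻¹ = η⁻¹) :
    Nat.card ↥(stabilizer G a ⊓ stabilizer G b : Subgroup G) ≤ (invsMap (G := G) a b).card := by
  classical
  let Ef : Finset G := Finset.univ.filter (fun η => η ∈ (stabilizer G a ⊓ stabilizer G b : Subgroup G))
  have hEf : Ef.card = Nat.card ↥(stabilizer G a ⊓ stabilizer G b : Subgroup G) := by
    rw [Nat.card_eq_fintype_card, Fintype.card_subtype]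
  rw [mem_invsMap] at hw
  have hwinv : w⁻¹ = w := inv_eq_of_mul_eq_one_left hw.1.2
  rw [← hEf]
  apply Finset.card_le_card_of_injOn (fun η => w * η)
  · intro η hη
    simp only [Ef, Finset.coe_filter, Finset.mem_univ, true_and, Set.mem_ofPred_eq] at hη
    rw [Finset.mem_coe, mem_invsMap]
    have hηa : η • a = a := hη.1
    have h1 := hinv η hη
    rw [hwinv] at h1
    refine ⟨⟨?_, ?_⟩, ?_⟩
    · intro h
      have h' : w * η = 1 := h
      have : (w * η) • a = b := by rw [mul_smul, hηa, hw.2]
      rw [h', one_smul] at this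
      exact hab this
    · show w * η * (w * η) = 1
      calc w * η * (w * η) = (w * η * w) * η := by group
        _ = 1 := by rw [h1]; group
    · show (w * η) • a = b
      rw [mul_smul, hηa, hw.2]
  · intro η _ η' _ h
    exact mul_left_cancel h

/-- odd degree: the involutions fixing `a` are permuted regularly by `E` -/
theorem invsMap_self_odd
    (h2 : ∀ a b c d : Ω, a ≠ b → c ≠ d → ∃ g : G, g • a = c ∧ g • b = d)
    (h3 : ∀ g : G, ∀ a b c : Ω, a ≠ b → b ≠ c → a ≠ c → g • a = a → g • b = b → g • c = c → g = 1)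
    (hnodd : Odd (Fintype.card Ω)) {a b : Ω} (hab : a ≠ b)
    (hodd : Odd (Nat.card ↥(stabilizer G a ⊓ stabilizer G b : Subgroup G)))
    {x : G} (hx : x ∈ invsMap (G := G) a a) :
    (invsMap (G := G) a a).card = Nat.card ↥(stabilizer G a ⊓ stabilizer G b : Subgroup G) ∧
    ∀ t ∈ invsMap (G := G) a a,
      ∃ η ∈ (stabilizer G a ⊓ stabilizer G b : Subgroup G), η * x * η⁻¹ = t := by
  classical
  set e := Nat.card ↥(stabilizer G a ⊓ stabilizer G b : Subgroup G) with he
  let E : Subgroup G := stabilizer G a ⊓ stabilizer G b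
  let Ef : Finset G := Finset.univ.filter (fun η => η ∈ E)
  have hEf : Ef.card = e := by
    rw [he, Nat.card_eq_fintype_card, Fintype.card_subtype]
  rw [mem_invsMap] at hx
  obtain ⟨⟨hx1, hx2⟩, hxa⟩ := hx
  have hfixonly : ∀ t : G, t ≠ 1 → t * t = 1 → t • a = a → ∀ c, t • c = c → c = a := by
    intro t ht1 ht2 hta c hc
    by_contra hca
    have hmem : t ∈ (stabilizer G a ⊓ stabilizer G c : Subgroup G) := ⟨hta, hc⟩
    have hord : orderOf t = 2 := orderOf_eq_prime (by rw [pow_two]; exact ht2) ht1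
    have hdvd : orderOf (⟨t, hmem⟩ : ↥(stabilizer G a ⊓ stabilizer G c : Subgroup G)) ∣ e := by
      rw [he, ← card_stab2_eq h2 hab (Ne.symm hca)]
      exact orderOf_dvd_natCard _
    rw [Subgroup.orderOf_mk, hord] at hdvd
    obtain ⟨k, hk⟩ := hodd
    omega
  have hij := card_invsMap_self_eq (G := G) hnodd h2 h3 hab
  have hj : (invsMap (G := G) a b).card ≤ e := card_invsMap_le
  have hxb : x • b ≠ b := fun h => hab (hfixonly x hx1 hx2 hxa b h).symm
  have hxba : x • b ≠ a := by
    intro h
    rw [← hxa] at h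
    exact hab (smul_left_cancel x h).symm
  have hinjE : Set.InjOn (fun η : G => η * x * η⁻¹) (Ef : Set G) := by
    intro η1 h1 η2 h2' hη
    simp only [Ef, Finset.coe_filter, Finset.mem_univ, true_and, Set.mem_ofPred_eq] at h1 h2'
    simp only at hη
    have hcomm : (η2⁻¹ * η1) * x = x * (η2⁻¹ * η1) := by
      have := congrArg (fun z => η2⁻¹ * z * η1) hη
      simp only [mul_assoc, inv_mul_cancel, mul_one, inv_mul_cancel_left] at this
      simp only [mul_assoc]
      exact this
    have hmemE : η2⁻¹ * η1 ∈ E := E.mul_mem (E.inv_mem h2') h1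
    have h1' : (η2⁻¹ * η1) • a = a := hmemE.1
    have h2'' : (η2⁻¹ * η1) • b = b := hmemE.2
    have h3' : (η2⁻¹ * η1) • (x • b) = x • b := by
      rw [← mul_smul, hcomm, mul_smul, h2'']
    have := h3 _ a b (x • b) hab (Ne.symm hxb) (Ne.symm hxba) h1' h2'' h3'
    have := congrArg (fun z => η2 * z) this
    simpa using this
  have hmapsE : ∀ η ∈ Ef, η * x * η⁻¹ ∈ invsMap (G := G) a a := by
    intro η hη
    simp only [Ef, Finset.mem_filter, Finset.mem_univ, true_and] at hη
    have hηa : η • a = a := hη.1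
    rw [mem_invsMap]
    refine ⟨⟨?_, ?_⟩, ?_⟩
    · intro h
      apply hx1
      have := congrArg (fun z => η⁻¹ * z * η) h
      simpa [mul_assoc] using this
    · calc η * x * η⁻¹ * (η * x * η⁻¹) = η * (x * x) * η⁻¹ := by group
        _ = 1 := by rw [hx2]; group
    · rw [mul_smul, mul_smul, inv_smul_eq_iff.mpr hηa.symm, hxa, hηa]
  have hi : e ≤ (invsMap (G := G) a a).card := by
    rw [← hEf]
    exact Finset.card_le_card_of_injOn _ (fun η hη => hmapsE η hη) hinjE
  have hie : (invsMap (G := G) a a).card = e := le_antisymm (hij ▸ hj) hi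
  refine ⟨hie, ?_⟩
  have himg : Ef.image (fun η : G => η * x * η⁻¹) = invsMap (G := G) a a := by
    apply Finset.eq_of_subset_of_card_le
    · intro t ht
      obtain ⟨η, hη, rfl⟩ := Finset.mem_image.mp ht
      exact hmapsE η hη
    · rw [Finset.card_image_of_injOn hinjE, hEf, hie]
  intro t ht
  rw [← himg] at ht
  obtain ⟨η, hη, rfl⟩ := Finset.mem_image.mp ht
  simp only [Ef, Finset.mem_filter, Finset.mem_univ, true_and] at hη
  exact ⟨η, hη, rfl⟩

end Fin

/-- two involutions in the coset of swaps, both inverting the odd-order group `E`, are conjugate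
under `E` -/
theorem isConj_of_inverts [Finite G] {a b : Ω} {x y : G}
    (hodd : Odd (Nat.card ↥(stabilizer G a ⊓ stabilizer G b : Subgroup G)))
    (hxa : x • a = b) (hxb : x • b = a) (hya : y • a = b) (hyb : y • b = a)
    (hinv : ∀ η ∈ (stabilizer G a ⊓ stabilizer G b : Subgroup G), x * η * x⁻¹ = η⁻¹) :
    IsConj x y := by
  set E : Subgroup G := stabilizer G a ⊓ stabilizer G b with hE
  have hμ : y * x⁻¹ ∈ E := by
    have hxinva : x⁻¹ • a = b := by rw [inv_smul_eq_iff, hxb]
    have hxinvb : x⁻¹ • b = a := by rw [inv_smul_eq_iff, hxa]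
    constructor
    · show (y * x⁻¹) • a = a
      rw [mul_smul, hxinva, hyb]
    · show (y * x⁻¹) • b = b
      rw [mul_smul, hxinvb, hya]
  obtain ⟨k, hk⟩ := hodd
  -- ζ = μ^(k+1), ζ² = μ^(2k+2) = μ^(e+1) = μ
  set μ := y * x⁻¹ with hμdef
  have hμe : μ ^ (2 * k + 1) = 1 := by
    have h1 : (⟨μ, hμ⟩ : E) ^ Nat.card E = 1 := pow_card_eq_one'
    rw [hk] at h1
    exact congrArg Subtype.val h1
  let ζ := μ ^ (k + 1)
  have hζE : ζ ∈ E := E.pow_mem hμ _
  have hζ2 : ζ * ζ = μ := by
    show μ ^ (k + 1) * μ ^ (k + 1) = μ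
    rw [← pow_add]
    have : k + 1 + (k + 1) = (2 * k + 1) + 1 := by ring
    rw [this, pow_succ, hμe, one_mul]
  rw [isConj_iff]
  refine ⟨ζ, ?_⟩
  have h1 := hinv ζ⁻¹ (E.inv_mem hζE)
  rw [inv_inv] at h1
  -- ζ x ζ⁻¹ = ζ (x ζ⁻¹ x⁻¹) x = ζ ζ x = μ x = y
  calc ζ * x * ζ⁻¹ = ζ * (x * ζ⁻¹ * x⁻¹) * x := by group
    _ = ζ * ζ * x := by rw [h1]
    _ = μ * x := by rw [hζ2]
    _ = y := by rw [hμdef]; group

end Cfsg.Agent.Lib.Helper25.ZassInv
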