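import Mathlib
import Cfsg.Prelude.Def_Local
import Cfsg.Agent.Lib.Helper74.UpsEqDef
import Cfsg.Agent.Lib.Helper76.PCore

/-!
Structure of groups of `p`-length at most one (`Cfsg.PLengthLE p 1 G`): there is a normal
`p'`-subgroup `K` such that `K ⊔ S` is normal for every Sylow `p`-subgroup `S`, and consequently
`G = K · N_G(S)`.
-/

set_option autoImplicit false

namespace Cfsg.Agent.Lib.Helper25

open Cfsg

theorem upperPSeries_zero {G : Type*} [Group G] (p : ℕ) : (upperPSeries p G 0).1 = ⊥ := by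
  rw [upperPSeries]

theorem upperPSeries_even_succ' {G : Type*} [Group G] (p k : ℕ) :
    (upperPSeries p G (2 * k + 1)).1 =
      (pPrimeCore p (G ⧸ (upperPSeries p G (2 * k)).1)).comap (QuotientGroup.mk' _) := by
  have h : Even (2 * k) := ⟨k, by ring⟩
  rw [upperPSeries]
  simp only [h, if_true]

theorem upperPSeries_odd_succ' {G : Type*} [Group G] (p k : ℕ) :
    (upperPSeries p G (2 * k + 2)).1 =
      (pCore p (G ⧸ (upperPSeries p G (2 * k + 1)).1)).comap (QuotientGroup.mk' _) := by
  have h : ¬ Even (2 * k + 1) := by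
    rw [Nat.not_even_iff_odd]; exact ⟨k, rfl⟩
  show (upperPSeries p G ((2 * k + 1) + 1)).1 = _
  rw [upperPSeries]
  simp only [h, if_false]

/-- an element whose order is coprime to the index of a normal subgroup lies in it -/
theorem mem_of_orderOf_coprime_index {C : Type*} [Group C] [Finite C] (N : Subgroup C) [N.Normal]
    (h : C) (hcop : (orderOf h).Coprime N.index) : h ∈ N := by
  rw [← QuotientGroup.eq_one_iff]
  have h1 : ((h : C) : C ⧸ N) ^ (orderOf h) = 1 := by
    rw [← QuotientGroup.mk_pow, pow_orderOf_eq_one]; rfl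
  have h2 : ((h : C) : C ⧸ N) ^ N.index = 1 := by
    rw [Subgroup.index_eq_card]; exact pow_card_eq_one'
  have h3 : orderOf ((h : C) : C ⧸ N) ∣ Nat.gcd (orderOf h) N.index :=
    Nat.dvd_gcd (orderOf_dvd_of_pow_eq_one h1) (orderOf_dvd_of_pow_eq_one h2)
  rw [hcop.gcd_eq_one, Nat.dvd_one, orderOf_eq_one_iff] at h3
  exact h3

/-- Structure of a group of `p`-length at most one. -/
theorem plength_one_structure {G : Type*} [Group G] [Finite G] (p : ℕ) [Fact p.Prime]
    (h : PLengthLE p 1 G) :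
    ∃ K : Subgroup G, K.Normal ∧ (Nat.card K).Coprime p ∧
      ∀ S : Sylow p G, ((K ⊔ (S : Subgroup G) : Subgroup G)).Normal := by
  set U₀ := (upperPSeries p G 0).1 with hU₀
  set U₁ := (upperPSeries p G 1).1 with hU₁
  set U₂ := (upperPSeries p G 2).1 with hU₂
  have hU₀bot : U₀ = ⊥ := upperPSeries_zero p
  have e1 : U₁ = (pPrimeCore p (G ⧸ U₀)).comap (QuotientGroup.mk' U₀) := upperPSeries_even_succ' p 0
  have e2 : U₂ = (pCore p (G ⧸ U₁)).comap (QuotientGroup.mk' U₁) := upperPSeries_odd_succ' p 0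
  have e3 : (⊤ : Subgroup G) = (pPrimeCore p (G ⧸ U₂)).comap (QuotientGroup.mk' U₂) := by
    have := upperPSeries_even_succ' (G := G) p 1
    rw [← h]
    exact this
  -- |U₁| coprime to p
  have hU₁cop : (Nat.card U₁).Coprime p := by
    have hinj : Function.Injective (QuotientGroup.mk' U₀) := by
      rw [← MonoidHom.ker_eq_bot_iff, QuotientGroup.ker_mk', hU₀bot]
    have hdvd : Nat.card U₁ ∣ Nat.card (pPrimeCore p (G ⧸ U₀)) := by
      rw [e1]
      exact Subgroup.card_comap_dvd_of_injective _ _ hinj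
    exact Nat.Coprime.coprime_dvd_left hdvd (Cfsg.Agent.Lib.Helper76.pPrimeCore_coprime p)
  -- index of U₂ coprime to p
  have hU₂idx : (U₂.index).Coprime p := by
    have htop : pPrimeCore p (G ⧸ U₂) = ⊤ := by
      apply Subgroup.comap_injective (QuotientGroup.mk'_surjective U₂)
      rw [← e3, Subgroup.comap_top]
    have := Cfsg.Agent.Lib.Helper76.pPrimeCore_coprime (G := G ⧸ U₂) p
    rw [htop, Subgroup.card_top] at this
    rw [Subgroup.index_eq_card]
    exact this
  refine ⟨U₁, inferInstance, hU₁cop, ?_⟩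
  intro S
  have hSU₂ : (S : Subgroup G) ≤ U₂ := by
    intro s hs
    apply mem_of_orderOf_coprime_index
    obtain ⟨k, hk⟩ := IsPGroup.iff_orderOf.mp S.2 (⟨s, hs⟩ : S)
    have : orderOf s = p ^ k := by
      rw [← hk]
      exact Subgroup.orderOf_coe (⟨s, hs⟩ : S)
    rw [this]
    exact Nat.Coprime.pow_left k hU₂idx.symm
  have hU₁U₂ : U₁ ≤ U₂ := by
    rw [e2]
    intro x hx
    rw [Subgroup.mem_comap]
    have : (QuotientGroup.mk' U₁) x = 1 := (QuotientGroup.eq_one_iff x).mpr hx
    rw [this]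
    exact Subgroup.one_mem _
  have hEq : U₁ ⊔ (S : Subgroup G) = U₂ := by
    apply le_antisymm (sup_le hU₁U₂ hSU₂)
    intro x hx
    rw [e2, Subgroup.mem_comap] at hx
    have hsurj := QuotientGroup.mk'_surjective U₁
    have hle := Cfsg.Agent.Lib.Helper76.pCore_le_sylow p (S.mapSurjective hsurj)
    have hx' := hle hx
    rw [Sylow.coe_mapSurjective] at hx'
    obtain ⟨s, hs, hsx⟩ := hx'
    have h4 : s⁻¹ * x ∈ U₁ := by
      rw [← QuotientGroup.eq]
      exact hsx
    have : x = s * (s⁻¹ * x) := by group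
    rw [this]
    exact mul_mem (Subgroup.mem_sup_right hs) (Subgroup.mem_sup_left h4)
  rw [hEq]
  infer_instance

/-- Frattini argument for groups of `p`-length one: `G = K N_G(S)`. -/
theorem plength_one_frattini {G : Type*} [Group G] [Finite G] (p : ℕ) [Fact p.Prime]
    (h : PLengthLE p 1 G) :
    ∃ K : Subgroup G, K.Normal ∧ (Nat.card K).Coprime p ∧
      ∀ S : Sylow p G, K ⊔ Subgroup.normalizer ((S : Subgroup G) : Set G) = ⊤ := by
  obtain ⟨K, hK, hcop, hS⟩ := plength_one_structure p h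
  refine ⟨K, hK, hcop, ?_⟩
  intro S
  have hn := hS S
  have h1 := Sylow.normalizer_sup_eq_top' S (le_sup_right : (S : Subgroup G) ≤ K ⊔ (S : Subgroup G))
  rw [eq_top_iff, ← h1]
  apply sup_le le_sup_right
  apply sup_le le_sup_left
  exact le_sup_of_le_right Subgroup.le_normalizer

end Cfsg.Agent.Lib.Helper25
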