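import Mathlib
import Cfsg.Agent.Lib.Helper25.PLength

/-!
More on groups of `p`-length one: the statement with `K = O_{p'}(G)`; normal Sylow subgroups of
`G / O_{p'}(G)` are self-centralizing.
-/

set_option autoImplicit false

namespace Cfsg.Agent.Lib.Helper25

open Cfsg

/-- `O_{p'}(G) S ⊴ G` for a group of `p`-length at most one. -/
theorem plength_one_pPrimeCore {G : Type*} [Group G] [Finite G] (p : ℕ) [Fact p.Prime]
    (h : PLengthLE p 1 G) (S : Sylow p G) :
    ((pPrimeCore p G ⊔ (S : Subgroup G) : Subgroup G)).Normal := by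
  obtain ⟨K, hK, hcop, hS⟩ := plength_one_structure p h
  have hle : K ≤ pPrimeCore p G := Cfsg.Agent.Lib.Helper76.le_pPrimeCore p K hK hcop
  have heq : pPrimeCore p G ⊔ (S : Subgroup G) = pPrimeCore p G ⊔ (K ⊔ (S : Subgroup G)) := by
    rw [← sup_assoc, sup_eq_left.mpr hle]
  rw [heq]
  have := hS S
  infer_instance

/-- A finite group with a normal Sylow `p`-subgroup is `p`-solvable. -/
theorem isPSolvable_of_normal_sylow {G : Type*} [Group G] [Finite G] (p : ℕ) [Fact p.Prime]
    (P : Sylow p G) (hP : (P : Subgroup G).Normal) : IsPSolvable p G := by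
  refine ⟨2, ![⊥, (P : Subgroup G), ⊤], rfl, rfl, ?_, ?_, ?_⟩
  · rw [Fin.monotone_iff_le_succ]
    intro i
    fin_cases i
    · exact bot_le
    · exact le_top
  · intro i
    fin_cases i
    · exact (inferInstance : (⊥ : Subgroup G).Normal)
    · exact hP
    · exact (inferInstance : (⊤ : Subgroup G).Normal)
  · intro i
    fin_cases i
    · left
      obtain ⟨n, hn⟩ := IsPGroup.iff_card.mp P.2
      refine ⟨n, ?_⟩
      show (⊥ : Subgroup G).relIndex (P : Subgroup G) = p ^ n
      rw [Subgroup.relIndex_bot_left]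
      exact hn
    · right
      show ((P : Subgroup G).relIndex ⊤).Coprime p
      rw [Subgroup.relIndex_top_right]
      have := P.not_dvd_index
      exact (Nat.Coprime.symm ((Nat.Prime.coprime_iff_not_dvd Fact.out).mpr this))

end Cfsg.Agent.Lib.Helper25
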