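import Mathlib
import Cfsg.Agent.Lib.Helper24.PFCycDefs
import Cfsg.Agent.Lib.Helper24.PFCycDadeInd
import Cfsg.Agent.Lib.Helper4.PFTypes
import Cfsg.Agent.Lib.Helper25.PFCycEta
import Cfsg.Agent.Lib.Helper25.Dual2
import Cfsg.Agent.Lib.Helper25.DadeExp6
import Cfsg.Agent.Lib.Helper25.Norm3

set_option autoImplicit false
set_option linter.unusedVariables false
set_option linter.style.haveILetI false
set_option linter.unusedSectionVars false

/-!
# PF shared bookkeeping (helper24 batch 1b), module [B2-LAT] (helper25)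
-/

namespace Cfsg.Agent.Lib.Helper25.PFCyc

open Cfsg Cfsg.Agent.Lib.Helper24.PFCyc Cfsg.Agent.Lib.Helper4.PF
open scoped ComplexConjugate

universe u

variable {G : Type u} [Group G] [Fintype G] {W₁ W₂ : Subgroup G}

omit [Fintype G] in
/-- A linear character of `W` trivial on `W₁` and on `W₂` is trivial. -/
theorem eq_one_of_trivOn {ω : WChar W₁ W₂} (h1 : TrivOn W₁ ω) (h2 : TrivOn W₂ ω) : ω = 1 := by
  have hK : W₁ ⊔ W₂ ≤ (ω.ker).map (W₁ ⊔ W₂).subtype := by
    apply sup_le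
    · intro a ha
      exact ⟨⟨a, Subgroup.mem_sup_left ha⟩, h1 _ ha, rfl⟩
    · intro a ha
      exact ⟨⟨a, Subgroup.mem_sup_right ha⟩, h2 _ ha, rfl⟩
  ext w
  obtain ⟨w', hw', hww⟩ := hK w.2
  have : w' = w := Subtype.ext hww
  rw [← this, MonoidHom.mem_ker.mp hw']
  rfl

/-- The number of linear characters of `W` trivial on `W₂` is `|W₁|`. -/
theorem card_trivSet_right (hW : IsSelfNormalizingCyclic W₁ W₂) :
    (trivSet W₁ W₂ W₂).card = Nat.card W₁ := by
  classical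
  obtain ⟨-, -, hinf, hcomm, hcyc, -⟩ := hW
  haveI := hcyc
  have hc : ∀ a b : ↥(W₁ ⊔ W₂), a * b = b * a := by
    letI : CommGroup ↥(W₁ ⊔ W₂) := IsCyclic.commGroup
    exact fun a b => mul_comm a b
  have h1 := card_dualOf_mul hc (W₂.subgroupOf (W₁ ⊔ W₂))
  have h2 : dualOf (W₂.subgroupOf (W₁ ⊔ W₂)) = trivSet W₁ W₂ W₂ := by
    ext ω
    rw [mem_dualOf, mem_trivSet]
    constructor
    · intro h w hw
      exact h w (Subgroup.mem_subgroupOf.mpr hw)
    · intro h n hn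
      exact h n (Subgroup.mem_subgroupOf.mp hn)
  have h3 : Nat.card ↥(W₂.subgroupOf (W₁ ⊔ W₂)) = Nat.card W₂ :=
    Nat.card_congr (Subgroup.subgroupOfEquivOfLe le_sup_right).toEquiv
  -- `|W| = |W₁| |W₂|`
  have h4 : Nat.card ↥(W₁ ⊔ W₂) = Nat.card W₁ * Nat.card W₂ := by
    have hcompl : Subgroup.IsComplement' (W₁.subgroupOf (W₁ ⊔ W₂)) (W₂.subgroupOf (W₁ ⊔ W₂)) := by
      apply Subgroup.isComplement'_of_disjoint_and_mul_eq_univ
      · rw [disjoint_iff, Subgroup.eq_bot_iff_forall]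
        intro x hx
        have hx1 := Subgroup.mem_subgroupOf.mp (Subgroup.mem_inf.mp hx).1
        have hx2 := Subgroup.mem_subgroupOf.mp (Subgroup.mem_inf.mp hx).2
        have : (x : G) ∈ W₁ ⊓ W₂ := ⟨hx1, hx2⟩
        rw [hinf, Subgroup.mem_bot] at this
        exact Subtype.ext this
      · letI : CommGroup ↥(W₁ ⊔ W₂) := IsCyclic.commGroup
        rw [← Subgroup.normal_mul, ← Subgroup.subgroupOf_sup le_sup_left le_sup_right,
          Subgroup.subgroupOf_self]
        rfl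
    have := hcompl.card_mul_card
    rw [Nat.card_congr (Subgroup.subgroupOfEquivOfLe le_sup_left).toEquiv, h3] at this
    exact this.symm
  rw [h2, h3, h4] at h1
  have hpos : 0 < Nat.card W₂ := Nat.card_pos
  exact Nat.eq_of_mul_eq_mul_right hpos h1

section Lattice

variable (η : WChar W₁ W₂ → (G → ℂ)) (hη : IsCyclicTIFamily W₁ W₂ η)

theorem norm_re_nonneg' (f : G → ℂ) : 0 ≤ (classInner f f).re := by
  unfold Cfsg.classInner
  have h1 : ∑ g : G, f g * (starRingEnd ℂ) (f g) = ((∑ g : G, Complex.normSq (f g) : ℝ) : ℂ) := by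
    push_cast
    apply Finset.sum_congr rfl
    intro g _
    exact Complex.mul_conj (f g)
  have h2 : ((Nat.card G : ℂ))⁻¹ = (((Nat.card G : ℝ))⁻¹ : ℝ) := by push_cast; rfl
  rw [h1, h2, ← Complex.ofReal_mul, Complex.ofReal_re]
  apply mul_nonneg
  · positivity
  · exact Finset.sum_nonneg fun g _ => Complex.normSq_nonneg _

include hη in
open scoped Classical in
/-- inner product of two sums of members of the family -/
theorem inner_sum_sum (A B : Finset (WChar W₁ W₂)) :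
    classInner (∑ ω ∈ A, η ω) (∑ ω ∈ B, η ω) = ((A ∩ B).card : ℂ) := by
  classical
  rw [Cfsg.Agent.Lib.Helper3.classInner_sum_left]
  have h1 : ∀ ω ∈ A, classInner (η ω) (∑ ω' ∈ B, η ω') = if ω ∈ B then 1 else 0 := by
    intro ω _
    rw [Cfsg.Agent.Lib.Helper3.classInner_sum_right]
    simp only [hη.orthonormal]
    by_cases hωB : ω ∈ B
    · rw [if_pos hωB, Finset.sum_eq_single ω]
      · rw [if_pos rfl]
      · intro ω' _ hne
        rw [if_neg (Ne.symm hne)]
      · intro h; exact absurd hωB h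
    · rw [if_neg hωB]
      apply Finset.sum_eq_zero
      intro ω' hω'
      rw [if_neg]
      rintro rfl
      exact hωB hω'
  rw [Finset.sum_congr rfl h1, Finset.sum_ite, Finset.sum_const_zero, add_zero, Finset.sum_const,
    nsmul_eq_mul, mul_one, Finset.filter_mem_eq_inter]

include hη in
theorem inner_sum_left (A : Finset (WChar W₁ W₂)) (Y : G → ℂ) (n : WChar W₁ W₂ → ℤ)
    (hn : ∀ ω, classInner Y (η ω) = (n ω : ℂ)) :
    classInner (∑ ω ∈ A, η ω) Y = ((∑ ω ∈ A, n ω : ℤ) : ℂ) := by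
  rw [Cfsg.Agent.Lib.Helper3.classInner_sum_left]
  push_cast
  apply Finset.sum_congr rfl
  intro ω _
  rw [Cfsg.Agent.Lib.Helper3.classInner_conj_symm Y (η ω), hn]
  simp

include hη in
/-- Bessel's inequality for integer coefficients. -/
theorem bessel_int (A : Finset (WChar W₁ W₂)) (Y : G → ℂ) (n : WChar W₁ W₂ → ℤ)
    (hn : ∀ ω, classInner Y (η ω) = (n ω : ℂ)) :
    ((∑ ω ∈ A, n ω ^ 2 : ℤ) : ℝ) ≤ (classInner Y Y).re := by
  classical
  obtain ⟨Pj, hPj⟩ : ∃ Pj : G → ℂ, Pj = ∑ ω ∈ A, (n ω : ℂ) • η ω := ⟨_, rfl⟩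
  have h1 : classInner Y Pj = ((∑ ω ∈ A, n ω ^ 2 : ℤ) : ℂ) := by
    rw [hPj, Cfsg.Agent.Lib.Helper3.classInner_sum_right]
    push_cast
    apply Finset.sum_congr rfl
    intro ω _
    rw [Cfsg.Agent.Lib.Helper3.classInner_smul_right, hn]
    simp [pow_two]
  have h2 : classInner Pj Y = ((∑ ω ∈ A, n ω ^ 2 : ℤ) : ℂ) := by
    rw [Cfsg.Agent.Lib.Helper3.classInner_conj_symm Y Pj, h1]
    simp
  have h3 : classInner Pj Pj = ((∑ ω ∈ A, n ω ^ 2 : ℤ) : ℂ) := by
    conv_lhs => rw [hPj]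
    rw [Cfsg.Agent.Lib.Helper3.classInner_sum_left]
    push_cast
    apply Finset.sum_congr rfl
    intro ω hω
    rw [Cfsg.Agent.Lib.Helper3.classInner_smul_left,
      Cfsg.Agent.Lib.Helper3.classInner_sum_right]
    simp only [Cfsg.Agent.Lib.Helper3.classInner_smul_right, hη.orthonormal]
    rw [Finset.sum_eq_single ω]
    · rw [if_pos rfl]; simp [pow_two]
    · intro ω' _ hne
      rw [if_neg (Ne.symm hne), mul_zero]
    · intro h; exact absurd hω h
  have h4 : classInner (Y - Pj) (Y - Pj) =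
      classInner Y Y - ((∑ ω ∈ A, n ω ^ 2 : ℤ) : ℂ) := by
    rw [Cfsg.Agent.Lib.Helper3.classInner_sub_left, sub_eq_add_neg Y Pj,
      Cfsg.Agent.Lib.Helper3.classInner_add_right, Cfsg.Agent.Lib.Helper3.classInner_add_right,
      ← neg_one_smul ℂ Pj, Cfsg.Agent.Lib.Helper3.classInner_smul_right,
      Cfsg.Agent.Lib.Helper3.classInner_smul_right, h1, h2, h3]
    simp only [map_neg, map_one, neg_mul, one_mul]
    ring
  have h5 := norm_re_nonneg' (Y - Pj)
  rw [h4, Complex.sub_re] at h5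
  have h6 : (((∑ ω ∈ A, n ω ^ 2 : ℤ) : ℂ)).re = ((∑ ω ∈ A, n ω ^ 2 : ℤ) : ℝ) := by
    rw [← Complex.ofReal_intCast, Complex.ofReal_re]
  rw [h6] at h5
  linarith


end Lattice

theorem int_abs_le_sq (k : ℤ) : |k| ≤ k ^ 2 := by
  rcases abs_cases k with ⟨h1, h2⟩ | ⟨h1, h2⟩
  · rw [h1]; nlinarith
  · rw [h1]; nlinarith

theorem abs_sum_le_sum_sq {ι : Type*} (A : Finset ι) (n : ι → ℤ) :
    |∑ i ∈ A, n i| ≤ ∑ i ∈ A, n i ^ 2 :=
  (Finset.abs_sum_le_sum_abs _ _).trans (Finset.sum_le_sum fun i _ => int_abs_le_sq (n i))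

/-- MODULE [B2-LAT] -/
theorem b2_lattice (hW : IsSelfNormalizingCyclic W₁ W₂)
    (η : WChar W₁ W₂ → (G → ℂ)) (hη : IsCyclicTIFamily W₁ W₂ η)
    (hq : 3 ≤ Nat.card W₁)
    (X Z : G → ℂ) (hX : IsGeneralizedCharacter G X) (hZ : IsGeneralizedCharacter G Z)
    (hXn : classInner X X = 2) (hZn : classInner Z Z = 2 * (Nat.card W₁ : ℂ))
    (δ : ℂ) (hδ : δ = 1 ∨ δ = -1)
    (ψ ψ' : WChar W₁ W₂) (hψ : TrivOn W₁ ψ) (hψ' : TrivOn W₁ ψ') (hne : ψ ≠ ψ')
    (hrel : δ • Z - ((Nat.card W₁ : ℂ) * δ) • X =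
      (etaSum η ψ - etaSum η ψ') - (Nat.card W₁ : ℂ) • (η ψ - η ψ')) :
    X = δ • (η ψ - η ψ') ∧ Z = δ • (etaSum η ψ - etaSum η ψ') := by
  classical
  obtain ⟨q, hqdef⟩ : ∃ q : ℕ, q = Nat.card W₁ := ⟨_, rfl⟩
  rw [← hqdef] at hq hZn hrel
  have hT : (trivSet W₁ W₂ W₂).card = q := by rw [hqdef]; exact card_trivSet_right hW
  have hδ2 : δ * δ = 1 := by rcases hδ with h | h <;> rw [h] <;> norm_num
  have hδc : conj δ = δ := by rcases hδ with h | h <;> rw [h] <;> simp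
  -- the index sets
  obtain ⟨A, hAdef⟩ : ∃ A : Finset (WChar W₁ W₂), A = (trivSet W₁ W₂ W₂).image (fun φ => φ * ψ) :=
    ⟨_, rfl⟩
  obtain ⟨A', hA'def⟩ : ∃ A' : Finset (WChar W₁ W₂),
      A' = (trivSet W₁ W₂ W₂).image (fun φ => φ * ψ') := ⟨_, rfl⟩
  have hA : etaSum η ψ = ∑ ω ∈ A, η ω := by
    unfold etaSum
    rw [hAdef, Finset.sum_image]
    intro a _ b _ h
    exact mul_right_cancel h
  have hA' : etaSum η ψ' = ∑ ω ∈ A', η ω := by
    unfold etaSum
    rw [hA'def, Finset.sum_image]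
    intro a _ b _ h
    exact mul_right_cancel h
  have hAcard : A.card = q := by
    rw [hAdef, Finset.card_image_of_injective _ (fun a b h => mul_right_cancel h), hT]
  have hA'card : A'.card = q := by
    rw [hA'def, Finset.card_image_of_injective _ (fun a b h => mul_right_cancel h), hT]
  have hdisj : Disjoint A A' := by
    rw [Finset.disjoint_left]
    intro ω h1 h2
    rw [hAdef, Finset.mem_image] at h1
    rw [hA'def, Finset.mem_image] at h2
    obtain ⟨φ, hφ, rfl⟩ := h1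
    obtain ⟨φ', hφ', h⟩ := h2
    apply hne
    -- `ψ ψ'⁻¹` is trivial on `W₁` and on `W₂`
    have h1 : TrivOn W₁ (ψ * ψ'⁻¹) := hψ.mul hψ'.inv
    have h2 : TrivOn W₂ (ψ * ψ'⁻¹) := by
      intro w hw
      have e1 := congrArg (fun ω : WChar W₁ W₂ => ω w) h
      simp only [MonoidHom.mul_apply] at e1
      rw [(mem_trivSet.mp hφ) w hw, (mem_trivSet.mp hφ') w hw, one_mul, one_mul] at e1
      rw [MonoidHom.mul_apply, MonoidHom.inv_apply, e1, mul_inv_cancel]
    have h3 := eq_one_of_trivOn h1 h2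
    exact mul_inv_eq_one.mp h3
  have hinter : A ∩ A' = ∅ := Finset.disjoint_iff_inter_eq_empty.mp hdisj
  have hinter' : A' ∩ A = ∅ := by rw [Finset.inter_comm]; exact hinter
  -- `Y` and `S`
  obtain ⟨Y, hYdef⟩ : ∃ Y : G → ℂ, Y = δ • X - (η ψ - η ψ') := ⟨_, rfl⟩
  obtain ⟨S, hSdef⟩ : ∃ S : G → ℂ, S = (∑ ω ∈ A, η ω) - ∑ ω ∈ A', η ω := ⟨_, rfl⟩
  have hYgen : IsGeneralizedCharacter G Y := by
    have h1 : IsGeneralizedCharacter G (δ • X) := by
      rcases hδ with h | h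
      · rw [h, one_smul]; exact hX
      · rw [h, neg_one_smul]; exact dgen_neg hX
    have h2 : IsGeneralizedCharacter G (η ψ) := SIrr.gen (hη.irr_or_neg ψ)
    have h3 : IsGeneralizedCharacter G (η ψ') := SIrr.gen (hη.irr_or_neg ψ')
    have e : Y = δ • X + (-(η ψ) + η ψ') := by rw [hYdef]; abel
    rw [e]
    exact dgen_add h1 (dgen_add (dgen_neg h2) h3)
  have hn : ∀ ω, ∃ n : ℤ, classInner Y (η ω) = (n : ℂ) := fun ω => eta_inner_int η hη Y hYgen ω
  choose n hn using hn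
  have hrel' : δ • Z = S + (q : ℂ) • Y := by
    rw [hSdef, hYdef, ← hA, ← hA']
    funext g
    have h := congrFun hrel g
    simp only [Pi.sub_apply, Pi.smul_apply, smul_eq_mul, Pi.add_apply] at h ⊢
    linear_combination h
  -- norms
  have hZ' : classInner (δ • Z) (δ • Z) = 2 * (q : ℂ) := by
    rw [Cfsg.Agent.Lib.Helper3.classInner_smul_left, Cfsg.Agent.Lib.Helper3.classInner_smul_right,
      hδc, ← mul_assoc, hδ2, one_mul, hZn]
  have hSS : classInner S S = 2 * (q : ℂ) := by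
    have e : S = (∑ ω ∈ A, η ω) + (-1 : ℂ) • ∑ ω ∈ A', η ω := by rw [hSdef]; simp [sub_eq_add_neg]
    rw [e, Cfsg.Agent.Lib.Helper3.classInner_add_left, Cfsg.Agent.Lib.Helper3.classInner_add_right,
      Cfsg.Agent.Lib.Helper3.classInner_add_right, Cfsg.Agent.Lib.Helper3.classInner_smul_left,
      Cfsg.Agent.Lib.Helper3.classInner_smul_left, Cfsg.Agent.Lib.Helper3.classInner_smul_right,
      Cfsg.Agent.Lib.Helper3.classInner_smul_right, inner_sum_sum η hη, inner_sum_sum η hη,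
      inner_sum_sum η hη, inner_sum_sum η hη, Finset.inter_self, Finset.inter_self, hinter,
      hinter', hAcard, hA'card]
    simp
    ring
  obtain ⟨m, hmdef⟩ : ∃ m : ℤ, m = (∑ ω ∈ A, n ω) - ∑ ω ∈ A', n ω := ⟨_, rfl⟩
  have hSY : classInner S Y = (m : ℂ) := by
    rw [hSdef, Cfsg.Agent.Lib.Helper3.classInner_sub_left, inner_sum_left η hη A Y n hn,
      inner_sum_left η hη A' Y n hn, hmdef]
    push_cast
    ring
  have hYS : classInner Y S = (m : ℂ) := by
    rw [Cfsg.Agent.Lib.Helper3.classInner_conj_symm S Y, hSY]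
    simp
  have hq0 : (q : ℂ) ≠ 0 := by
    have : 0 < q := by omega
    exact_mod_cast this.ne'
  have hYY : (q : ℂ) * classInner Y Y = -2 * (m : ℂ) := by
    have h1 : classInner (S + (q : ℂ) • Y) (S + (q : ℂ) • Y) = 2 * (q : ℂ) := by
      rw [← hrel']; exact hZ'
    rw [Cfsg.Agent.Lib.Helper3.classInner_add_left, Cfsg.Agent.Lib.Helper3.classInner_add_right,
      Cfsg.Agent.Lib.Helper3.classInner_add_right, Cfsg.Agent.Lib.Helper3.classInner_smul_left,
      Cfsg.Agent.Lib.Helper3.classInner_smul_left, Cfsg.Agent.Lib.Helper3.classInner_smul_right,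
      Cfsg.Agent.Lib.Helper3.classInner_smul_right, hSS, hSY, hYS, Complex.conj_natCast] at h1
    have h2 : (q : ℂ) * ((q : ℂ) * classInner Y Y) = (q : ℂ) * (-2 * (m : ℂ)) := by
      linear_combination h1
    exact mul_left_cancel₀ hq0 h2
  -- real form
  have hre : (q : ℝ) * (classInner Y Y).re = -2 * (m : ℝ) := by
    have h := congrArg Complex.re hYY
    simp only [Complex.mul_re, Complex.natCast_re, Complex.natCast_im, zero_mul, sub_zero,
      Complex.neg_re, Complex.re_ofNat, Complex.intCast_re, Complex.neg_im, Complex.im_ofNat,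
      Complex.intCast_im, mul_zero, neg_zero] at h
    linarith
  -- Bessel
  have hbes := bessel_int η hη (A ∪ A') Y n hn
  rw [Finset.sum_union hdisj] at hbes
  obtain ⟨s, hsdef⟩ : ∃ s : ℤ, s = (∑ ω ∈ A, n ω ^ 2) + ∑ ω ∈ A', n ω ^ 2 := ⟨_, rfl⟩
  rw [← hsdef] at hbes
  have hms : |m| ≤ s := by
    rw [hmdef, hsdef]
    calc |(∑ ω ∈ A, n ω) - ∑ ω ∈ A', n ω| ≤ |∑ ω ∈ A, n ω| + |∑ ω ∈ A', n ω| := abs_sub _ _
      _ ≤ _ := add_le_add (abs_sum_le_sum_sq A n) (abs_sum_le_sum_sq A' n)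
  have hqpos : (0 : ℝ) < q := by
    have : 0 < q := by omega
    exact_mod_cast this
  have h1 : (q : ℝ) * (s : ℝ) ≤ -2 * (m : ℝ) := by
    rw [← hre]
    exact mul_le_mul_of_nonneg_left hbes hqpos.le
  have h2 : (q : ℤ) * s ≤ -2 * m := by exact_mod_cast h1
  have hs0 : 0 ≤ s := le_trans (abs_nonneg m) hms
  have h3 : 3 * s ≤ (q : ℤ) * s := by
    have : (3 : ℤ) ≤ (q : ℤ) := by exact_mod_cast hq
    exact mul_le_mul_of_nonneg_right this hs0
  obtain ⟨h4, h5⟩ := abs_le.mp hms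
  have hm0 : m = 0 := by omega
  have hYY0 : classInner Y Y = 0 := by
    rw [hm0] at hYY
    simp only [Int.cast_zero, mul_zero] at hYY
    rcases mul_eq_zero.mp hYY with h | h
    · exact absurd h hq0
    · exact h
  have hY0 : Y = 0 := Cfsg.Agent.Lib.Helper26.classInner_self_eq_zero hYY0
  constructor
  · have h6 : δ • X = η ψ - η ψ' := by
      rw [hYdef] at hY0
      exact sub_eq_zero.mp hY0
    calc X = (δ * δ) • X := by rw [hδ2, one_smul]
      _ = δ • (δ • X) := by rw [mul_smul]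
      _ = δ • (η ψ - η ψ') := by rw [h6]
  · rw [hY0, smul_zero, add_zero, hSdef, ← hA, ← hA'] at hrel'
    calc Z = (δ * δ) • Z := by rw [hδ2, one_smul]
      _ = δ • (δ • Z) := by rw [mul_smul]
      _ = δ • (etaSum η ψ - etaSum η ψ') := by rw [hrel']

end Cfsg.Agent.Lib.Helper25.PFCyc
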