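import Mathlib
import Cfsg.Agent.S1514
import Cfsg.Agent.S1530

/-!
# Feit's criterion for arbitrary pairs of groups, and coherence of sets of irreducible characters
of equal degree (no parity assumption)
-/

set_option autoImplicit false

namespace Cfsg.Agent.Lib.Helper25.FeitBase

open Cfsg Cfsg.Agent.Lib.Helper26
open scoped ComplexConjugate

universe u v

variable {N : Type u} [Group N] [Fintype N] {G : Type v} [Group G] [Fintype G]

/-- Feit's criterion (statement S1530) for an arbitrary pair of finite groups -/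
theorem feit_criterion (S₀ : Finset (N → ℂ)) (χ : N → ℂ)
    (hirr : ∀ ξ ∈ S₀, IsIrrCharacter N ξ) (hχ : IsIrrCharacter N χ) (hχS : χ ∉ S₀)
    (d : (N → ℂ) → ℕ) (hd : ∀ ξ ∈ insert χ S₀, ξ 1 = (d ξ : ℂ)) (τ : (N → ℂ) → (G → ℂ))
    (hτ : IsLinearIsometryOn (zspanOn (↑(insert χ S₀) : Set (N → ℂ)) {1}ᶜ) τ)
    (hτ1 : ∀ α ∈ zspanOn (↑(insert χ S₀) : Set (N → ℂ)) {1}ᶜ, τ α 1 = 0)
    (hcoh : IsCoherent (↑S₀ : Set (N → ℂ)) {1}ᶜ τ) (ψ : N → ℂ) (hψ : ψ ∈ S₀)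
    (hdvd : d ψ ∣ d χ) (hlt : 2 * d ψ * d χ < ∑ ξ ∈ S₀, d ξ ^ 2) :
    IsCoherent (↑(insert χ S₀) : Set (N → ℂ)) {1}ᶜ τ := by
  classical
  have F := irrFacts N
  have F' := irrFacts G
  obtain ⟨⟨α₀, hα₀, hα₀ne⟩, τ₁, hτ₁, hagree⟩ := hcoh
  have hsub : (↑S₀ : Set (N → ℂ)) ⊆ ↑(insert χ S₀) := by
    intro x hx
    simp only [Finset.coe_insert, Set.mem_insert_iff, Finset.mem_coe] at hx ⊢
    exact Or.inr hx
  refine ⟨⟨α₀, zspanOn_mono _ hsub hα₀, hα₀ne⟩, ?_⟩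
  obtain ⟨a, ha⟩ := hdvd
  obtain ⟨Γ, hΓgen, hΓnorm, hΓorth, hτβ⟩ := Cfsg.Agent.S1530.core F F' S₀ χ hirr hχ hχS d hd τ hτ
    hτ1 τ₁ hτ₁ hagree ψ hψ a ha hlt
  have hβ1 : (χ - a • ψ) 1 = 0 := by
    simp only [Pi.sub_apply, Pi.smul_apply, hd χ (Finset.mem_insert_self _ _),
      hd ψ (Finset.mem_insert_of_mem hψ), ha]
    push_cast
    simp only [nsmul_eq_mul]
    ring
  exact Cfsg.Agent.S1530.glue F F' S₀ χ hirr hχ hχS τ hτ τ₁ hτ₁ hagree ψ hψ a hβ1 Γ hΓgen hΓnorm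
    hΓorth hτβ

/-- two differences of irreducible characters with inner product `1` share exactly one term -/
theorem four_irr (F' : IrrFacts G) {A B C D : G → ℂ} (hA : IsIrrCharacter G A)
    (hB : IsIrrCharacter G B) (hC : IsIrrCharacter G C) (hD : IsIrrCharacter G D) (hAB : A ≠ B)
    (hCD : C ≠ D) (h : classInner (A - B) (C - D) = 1) :
    (A = C ∧ B ≠ D ∧ A ≠ D ∧ B ≠ C) ∨ (B = D ∧ A ≠ C ∧ A ≠ D ∧ B ≠ C) := by
  classical
  rw [classInner_sub_left, classInner_sub_right, classInner_sub_right, F'.orthonormal A C hA hC,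
    F'.orthonormal A D hA hD, F'.orthonormal B C hB hC, F'.orthonormal B D hB hD] at h
  by_cases h1 : A = C
  · by_cases h4 : B = D
    · exfalso
      have h2 : A ≠ D := fun e => hAB (e.trans h4.symm)
      have h3 : B ≠ C := fun e => hAB (h1.trans e.symm)
      rw [if_pos h1, if_neg h2, if_neg h3, if_pos h4] at h
      norm_num at h
    · left
      refine ⟨h1, h4, ?_, ?_⟩
      · intro h2; exact hCD (h1.symm.trans h2)
      · intro h3; exact hAB (h1.trans h3.symm)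
  · by_cases h4 : B = D
    · right
      refine ⟨h4, h1, ?_, ?_⟩
      · intro h2; exact hAB (h2.trans h4.symm)
      · intro h3; exact hCD (h3.symm.trans h4)
    · exfalso
      rw [if_neg h1, if_neg h4] at h
      split_ifs at h <;> norm_num at h

/-- additivity of a linear isometry over finite sums -/
theorem isom_sum {E : Set (N → ℂ)} (hE : IsZClosed E) {τ : (N → ℂ) → (G → ℂ)}
    (h : IsLinearIsometryOn E τ) (h0 : (0 : N → ℂ) ∈ E) {ι : Type*} (s : Finset ι)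
    (g : ι → N → ℂ) (hg : ∀ i ∈ s, g i ∈ E) :
    (∑ i ∈ s, g i) ∈ E ∧ τ (∑ i ∈ s, g i) = ∑ i ∈ s, τ (g i) := by
  classical
  induction s using Finset.induction_on with
  | empty =>
    rw [Finset.sum_empty, Finset.sum_empty]
    exact ⟨h0, isom_zero h h0⟩
  | insert a s ha ih =>
    obtain ⟨ih1, ih2⟩ := ih (fun i hi => hg i (Finset.mem_insert_of_mem hi))
    rw [Finset.sum_insert ha, Finset.sum_insert ha]
    refine ⟨hE.add _ (hg a (Finset.mem_insert_self a s)) _ ih1, ?_⟩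
    rw [isom_add h (hg a (Finset.mem_insert_self a s)) ih1, ih2]

/-- a set of irreducible characters of equal degree is coherent as soon as the values of the
isometry on the differences `χ₁ - ξ` are differences of an orthonormal family -/
theorem coherent_of_values (T : Finset (N → ℂ)) (hirr : ∀ ξ ∈ T, IsIrrCharacter N ξ)
    (d : ℂ) (hd : ∀ ξ ∈ T, ξ 1 = d) (hd0 : d ≠ 0) (χ₁ : N → ℂ) (h1 : χ₁ ∈ T)
    (τ : (N → ℂ) → (G → ℂ)) (hτ : IsLinearIsometryOn (zspanOn (↑T : Set (N → ℂ)) {1}ᶜ) τ)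
    (hne : ∃ α ∈ zspanOn (↑T : Set (N → ℂ)) {1}ᶜ, α ≠ 0)
    (f : (N → ℂ) → (G → ℂ))
    (hf : ∀ ξ ∈ T, ∀ η ∈ T, classInner (f ξ) (f η) = if ξ = η then 1 else 0)
    (hgen : ∀ ξ ∈ T, IsGeneralizedCharacter G (f ξ))
    (hval : ∀ ξ ∈ T, ξ ≠ χ₁ → τ (χ₁ - ξ) = f χ₁ - f ξ) :
    IsCoherent (↑T : Set (N → ℂ)) {1}ᶜ τ := by
  classical
  have F := irrFacts N
  have F' := irrFacts G
  have hTset : ∀ ξ ∈ (↑T : Set (N → ℂ)), IsIrrCharacter N ξ :=
    fun ξ hξ => hirr ξ (Finset.mem_coe.1 hξ)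
  have hβmem : ∀ ξ ∈ T, χ₁ - ξ ∈ zspanOn (↑T : Set (N → ℂ)) {1}ᶜ := by
    intro ξ hξ
    rw [mem_zspanOn_compl_one]
    refine ⟨zspan_sub (subset_zspan _ (Finset.mem_coe.2 h1))
      (subset_zspan _ (Finset.mem_coe.2 hξ)), ?_⟩
    rw [Pi.sub_apply, hd χ₁ h1, hd ξ hξ, sub_self]
  have hval' : ∀ ξ ∈ T, τ (χ₁ - ξ) = f χ₁ - f ξ := by
    intro ξ hξ
    by_cases h : ξ = χ₁
    · rw [h, sub_self, sub_self]
      exact isom_zero hτ (zspanOn_zero _ _)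
    · exact hval ξ hξ h
  refine ⟨hne, extMap T f, extMap_isometry F F' hirr hf hgen, ?_⟩
  intro α hα
  obtain ⟨hαspan, hα1⟩ := mem_zspanOn_compl_one.1 hα
  have hm : ∀ ξ, ∃ m : ℤ, ξ ∈ T → classInner α ξ = m := by
    intro ξ
    by_cases hξ : ξ ∈ T
    · obtain ⟨m, hm, -⟩ := F.zspan_inner_int hTset hαspan (hirr ξ hξ)
      exact ⟨m, fun _ => hm⟩
    · exact ⟨0, fun h => absurd h hξ⟩
  choose m hm using hm
  have hαeq : α = ∑ ξ ∈ T, classInner α ξ • ξ := F.zspan_eq_sum hirr hαspan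
  -- the coefficients sum to zero
  have hsum0 : ∑ ξ ∈ T, (m ξ : ℂ) = 0 := by
    have h2 : α 1 = (∑ ξ ∈ T, (m ξ : ℂ)) * d := by
      conv_lhs => rw [hαeq]
      rw [Finset.sum_apply, Finset.sum_mul]
      apply Finset.sum_congr rfl
      intro ξ hξ
      rw [Pi.smul_apply, smul_eq_mul, hm ξ hξ, hd ξ hξ]
    rw [hα1] at h2
    rcases mul_eq_zero.mp h2.symm with h | h
    · exact h
    · exact absurd h hd0
  -- `α` in terms of the differences
  have hαdiff : α = ∑ ξ ∈ T, (-(m ξ)) • (χ₁ - ξ) := by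
    funext x
    conv_lhs => rw [hαeq]
    rw [Finset.sum_apply, Finset.sum_apply]
    have e1 : ∀ ξ ∈ T, ((-(m ξ)) • (χ₁ - ξ)) x = (m ξ : ℂ) * ξ x - (m ξ : ℂ) * χ₁ x := by
      intro ξ _
      simp only [Pi.smul_apply, Pi.sub_apply, zsmul_eq_mul]
      push_cast
      ring
    rw [Finset.sum_congr rfl e1, Finset.sum_sub_distrib, ← Finset.sum_mul, hsum0, zero_mul,
      sub_zero]
    apply Finset.sum_congr rfl
    intro ξ hξ
    rw [Pi.smul_apply, smul_eq_mul, hm ξ hξ]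
  have hE := isZClosed_zspanOn (↑T : Set (N → ℂ)) ({1}ᶜ : Set N)
  have hτα : τ α = ∑ ξ ∈ T, (-(m ξ)) • (f χ₁ - f ξ) := by
    conv_lhs => rw [hαdiff]
    rw [(isom_sum hE hτ (zspanOn_zero _ _) T _
      (fun ξ hξ => zspanOn_zsmul _ (hβmem ξ hξ))).2]
    apply Finset.sum_congr rfl
    intro ξ hξ
    rw [isom_zsmul hτ _ (hβmem ξ hξ), hval' ξ hξ]
  rw [hτα]
  unfold extMap
  funext x
  rw [Finset.sum_apply, Finset.sum_apply]
  have e1 : ∀ ξ ∈ T, ((-(m ξ)) • (f χ₁ - f ξ)) x = (m ξ : ℂ) * f ξ x - (m ξ : ℂ) * f χ₁ x := by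
    intro ξ _
    simp only [Pi.smul_apply, Pi.sub_apply, zsmul_eq_mul]
    push_cast
    ring
  rw [Finset.sum_congr rfl e1, Finset.sum_sub_distrib, ← Finset.sum_mul, hsum0, zero_mul,
    sub_zero]
  apply Finset.sum_congr rfl
  intro ξ hξ
  rw [Pi.smul_apply, smul_eq_mul, hm ξ hξ]

/-- a set of at least two irreducible characters of equal degree is coherent -/
theorem coherent_of_equal_degree (T : Finset (N → ℂ)) (hirr : ∀ ξ ∈ T, IsIrrCharacter N ξ)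
    (d : ℂ) (hd : ∀ ξ ∈ T, ξ 1 = d) (χ₁ χ₂ : N → ℂ) (h1 : χ₁ ∈ T) (h2 : χ₂ ∈ T)
    (h12 : χ₂ ≠ χ₁) (τ : (N → ℂ) → (G → ℂ))
    (hτ : IsLinearIsometryOn (zspanOn (↑T : Set (N → ℂ)) {1}ᶜ) τ)
    (hτ1 : ∀ α ∈ zspanOn (↑T : Set (N → ℂ)) {1}ᶜ, τ α 1 = 0) :
    IsCoherent (↑T : Set (N → ℂ)) {1}ᶜ τ := by
  classical
  have F := irrFacts N
  have F' := irrFacts G
  have hd0 : d ≠ 0 := by
    obtain ⟨n, hn, hn1⟩ := F.deg_pos χ₁ (hirr χ₁ h1)
    rw [← hd χ₁ h1, hn1]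
    exact_mod_cast hn.ne'
  have hβmem : ∀ ξ ∈ T, χ₁ - ξ ∈ zspanOn (↑T : Set (N → ℂ)) {1}ᶜ := by
    intro ξ hξ
    rw [mem_zspanOn_compl_one]
    refine ⟨zspan_sub (subset_zspan _ (Finset.mem_coe.2 h1))
      (subset_zspan _ (Finset.mem_coe.2 hξ)), ?_⟩
    rw [Pi.sub_apply, hd χ₁ h1, hd ξ hξ, sub_self]
  have hβinner : ∀ ξ ∈ T, ∀ η ∈ T, ξ ≠ χ₁ → η ≠ χ₁ →
      classInner (τ (χ₁ - ξ)) (τ (χ₁ - η)) = if ξ = η then 2 else 1 := by
    intro ξ hξ η hη hξ1 hη1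
    rw [isom_inner hτ (hβmem ξ hξ) (hβmem η hη), classInner_sub_left, classInner_sub_right,
      classInner_sub_right, F.orthonormal χ₁ χ₁ (hirr _ h1) (hirr _ h1),
      F.orthonormal χ₁ η (hirr _ h1) (hirr _ hη), F.orthonormal ξ χ₁ (hirr _ hξ) (hirr _ h1),
      F.orthonormal ξ η (hirr _ hξ) (hirr _ hη), if_pos rfl, if_neg (Ne.symm hη1), if_neg hξ1]
    split_ifs <;> norm_num
  have hne : ∃ α ∈ zspanOn (↑T : Set (N → ℂ)) {1}ᶜ, α ≠ 0 := by
    refine ⟨χ₁ - χ₂, hβmem χ₂ h2, ?_⟩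
    intro h
    exact h12 (sub_eq_zero.mp h).symm
  -- decomposition of the images of the differences
  have hdec : ∀ ξ, ∃ A B : G → ℂ, ξ ∈ T → ξ ≠ χ₁ →
      (IsIrrCharacter G A ∧ IsIrrCharacter G B ∧ A ≠ B ∧ τ (χ₁ - ξ) = A - B) := by
    intro ξ
    by_cases hξ : ξ ∈ T ∧ ξ ≠ χ₁
    · obtain ⟨A, B, hA, hB, hAB, he⟩ := Cfsg.Agent.S1514.norm_two (τ (χ₁ - ξ))
        (isom_gen hτ (hβmem ξ hξ.1))
        (by rw [hβinner ξ hξ.1 ξ hξ.1 hξ.2 hξ.2, if_pos rfl]) (hτ1 _ (hβmem ξ hξ.1))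
      exact ⟨A, B, fun _ _ => ⟨hA, hB, hAB, he⟩⟩
    · exact ⟨0, 0, fun h1 h2 => absurd ⟨h1, h2⟩ hξ⟩
  choose A B hAB using hdec
  have hpair : ∀ ξ ∈ T, ∀ η ∈ T, ξ ≠ χ₁ → η ≠ χ₁ → ξ ≠ η →
      (A ξ = A η ∧ B ξ ≠ B η ∧ A ξ ≠ B η ∧ B ξ ≠ A η) ∨
      (B ξ = B η ∧ A ξ ≠ A η ∧ A ξ ≠ B η ∧ B ξ ≠ A η) := by
    intro ξ hξ η hη hξ1 hη1 hne'
    obtain ⟨a1, a2, a3, a4⟩ := hAB ξ hξ hξ1
    obtain ⟨b1, b2, b3, b4⟩ := hAB η hη hη1
    apply four_irr F' a1 a2 b1 b2 a3 b3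
    rw [← a4, ← b4, hβinner ξ hξ η hη hξ1 hη1, if_neg hne']
  have hdich : (∀ ξ ∈ T, ξ ≠ χ₁ → A ξ = A χ₂) ∨ (∀ ξ ∈ T, ξ ≠ χ₁ → B ξ = B χ₂) := by
    by_contra hcon
    rw [not_or] at hcon
    obtain ⟨hc1, hc2⟩ := hcon
    push Not at hc1 hc2
    obtain ⟨ξ, hξ, hξ1, hξA⟩ := hc1
    obtain ⟨η, hη, hη1, hηB⟩ := hc2
    have hξ2 : ξ ≠ χ₂ := fun e => hξA (by rw [e])
    have hη2 : η ≠ χ₂ := fun e => hηB (by rw [e])
    have e1 : B ξ = B χ₂ := by
      rcases hpair ξ hξ χ₂ h2 hξ1 h12 hξ2 with h | h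
      · exact absurd h.1 hξA
      · exact h.1
    have e2 : A η = A χ₂ := by
      rcases hpair η hη χ₂ h2 hη1 h12 hη2 with h | h
      · exact h.1
      · exact absurd h.1 hηB
    have hne' : ξ ≠ η := by
      intro e
      apply hξA
      rw [e, e2]
    rcases hpair ξ hξ η hη hξ1 hη1 hne' with h | h
    · exact hξA (h.1.trans e2)
    · exact hηB (h.1.symm.trans e1)
  obtain ⟨a1, a2, a3, a4⟩ := hAB χ₂ h2 h12
  rcases hdich with hall | hall
  · -- all differences share the first term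
    set f : (N → ℂ) → (G → ℂ) := fun ξ => if ξ = χ₁ then A χ₂ else B ξ with hfdef
    have hf1 : f χ₁ = A χ₂ := by simp [hfdef]
    have hfξ : ∀ ξ, ξ ≠ χ₁ → f ξ = B ξ := by
      intro ξ hξ
      simp [hfdef, hξ]
    apply coherent_of_values T hirr d hd hd0 χ₁ h1 τ hτ hne f
    · intro ξ hξ η hη
      by_cases hξ1 : ξ = χ₁
      · by_cases hη1 : η = χ₁
        · rw [hξ1, hη1, hf1, if_pos rfl]
          exact F'.irr_norm a1
        · rw [hξ1, hf1, hfξ η hη1, if_neg (Ne.symm hη1)]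
          obtain ⟨b1, b2, b3, b4⟩ := hAB η hη hη1
          rw [F'.orthonormal _ _ a1 b2, if_neg]
          rw [← hall η hη hη1]
          exact b3
      · by_cases hη1 : η = χ₁
        · rw [hη1, hf1, hfξ ξ hξ1, if_neg hξ1]
          obtain ⟨b1, b2, b3, b4⟩ := hAB ξ hξ hξ1
          rw [F'.orthonormal _ _ b2 a1, if_neg]
          rw [← hall ξ hξ hξ1]
          exact Ne.symm b3
        · rw [hfξ ξ hξ1, hfξ η hη1]
          obtain ⟨b1, b2, b3, b4⟩ := hAB ξ hξ hξ1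
          obtain ⟨c1, c2, c3, c4⟩ := hAB η hη hη1
          rw [F'.orthonormal _ _ b2 c2]
          by_cases hξη : ξ = η
          · rw [hξη, if_pos rfl, if_pos rfl]
          · rw [if_neg hξη, if_neg]
            rcases hpair ξ hξ η hη hξ1 hη1 hξη with h | h
            · exact h.2.1
            · exact absurd ((hall ξ hξ hξ1).trans (hall η hη hη1).symm) h.2.1
    · intro ξ hξ
      by_cases hξ1 : ξ = χ₁
      · rw [hξ1, hf1]
        exact isGeneralizedCharacter_of_isCharacter (IrrFacts.irr_isCharacter a1)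
      · rw [hfξ ξ hξ1]
        exact isGeneralizedCharacter_of_isCharacter
          (IrrFacts.irr_isCharacter (hAB ξ hξ hξ1).2.1)
    · intro ξ hξ hξ1
      rw [hf1, hfξ ξ hξ1, (hAB ξ hξ hξ1).2.2.2, hall ξ hξ hξ1]
  · -- all differences share the second term
    set f : (N → ℂ) → (G → ℂ) := fun ξ => if ξ = χ₁ then -B χ₂ else -A ξ with hfdef
    have hf1 : f χ₁ = -B χ₂ := by simp [hfdef]
    have hfξ : ∀ ξ, ξ ≠ χ₁ → f ξ = -A ξ := by
      intro ξ hξ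
      simp [hfdef, hξ]
    apply coherent_of_values T hirr d hd hd0 χ₁ h1 τ hτ hne f
    · intro ξ hξ η hη
      by_cases hξ1 : ξ = χ₁
      · by_cases hη1 : η = χ₁
        · rw [hξ1, hη1, hf1, if_pos rfl, classInner_neg_left, classInner_neg_right, neg_neg]
          exact F'.irr_norm a2
        · rw [hξ1, hf1, hfξ η hη1, if_neg (Ne.symm hη1), classInner_neg_left,
            classInner_neg_right, neg_neg]
          obtain ⟨b1, b2, b3, b4⟩ := hAB η hη hη1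
          rw [F'.orthonormal _ _ a2 b1, if_neg]
          rw [← hall η hη hη1]
          exact Ne.symm b3
      · by_cases hη1 : η = χ₁
        · rw [hη1, hf1, hfξ ξ hξ1, if_neg hξ1, classInner_neg_left, classInner_neg_right,
            neg_neg]
          obtain ⟨b1, b2, b3, b4⟩ := hAB ξ hξ hξ1
          rw [F'.orthonormal _ _ b1 a2, if_neg]
          rw [← hall ξ hξ hξ1]
          exact b3
        · rw [hfξ ξ hξ1, hfξ η hη1, classInner_neg_left, classInner_neg_right, neg_neg]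
          obtain ⟨b1, b2, b3, b4⟩ := hAB ξ hξ hξ1
          obtain ⟨c1, c2, c3, c4⟩ := hAB η hη hη1
          rw [F'.orthonormal _ _ b1 c1]
          by_cases hξη : ξ = η
          · rw [hξη, if_pos rfl, if_pos rfl]
          · rw [if_neg hξη, if_neg]
            rcases hpair ξ hξ η hη hξ1 hη1 hξη with h | h
            · exact absurd ((hall ξ hξ hξ1).trans (hall η hη hη1).symm) h.2.1
            · exact h.2.1
    · intro ξ hξ
      by_cases hξ1 : ξ = χ₁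
      · rw [hξ1, hf1]
        exact gen_neg (isGeneralizedCharacter_of_isCharacter (IrrFacts.irr_isCharacter a2))
      · rw [hfξ ξ hξ1]
        exact gen_neg (isGeneralizedCharacter_of_isCharacter
          (IrrFacts.irr_isCharacter (hAB ξ hξ hξ1).1))
    · intro ξ hξ hξ1
      rw [hf1, hfξ ξ hξ1, (hAB ξ hξ hξ1).2.2.2, hall ξ hξ hξ1]
      abel

end Cfsg.Agent.Lib.Helper25.FeitBase
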