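import Mathlib
import Cfsg.Agent.S0042
import Cfsg.Agent.S4108
import Cfsg.Agent.S4112
import Cfsg.Agent.Lib.Helper25.FrobCount
import Cfsg.Agent.Lib.Helper25.CohDescent2

/-!
# Frobenius kernels in centraliser form (helper25)

`H ⊴ N` proper nontrivial with `C_N(h) ≤ H` for `1 ≠ h ∈ H`:
* `coprime_card_index`, `isNilpotent_of_centralizer_le` (Thompson, via S0042);
* `quotient_frob` : the condition passes to `N/A` for `A ≤ H` normal in `N`;
* `index_dvd_relIndex_sub_one'`, `succ_index_le_relIndex` : Frobenius counting on central sections.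
-/

set_option autoImplicit false

namespace Cfsg.Agent.Lib.Helper25.FrobKernel

open scoped commutatorElement

section Basic

variable {N : Type*} [Group N] [Finite N] (H : Subgroup N) [hHn : H.Normal]

include hHn in
theorem coprime_card_index
    (hC : ∀ h ∈ H, h ≠ 1 → Subgroup.centralizer ({h} : Set N) ≤ H) :
    Nat.Coprime (Nat.card H) H.index :=
  (Cfsg.Agent.S4112.coprime_of_fpf H H hC).symm

include hHn in
/-- Thompson: a Frobenius kernel (in centraliser form) is nilpotent -/
theorem isNilpotent_of_centralizer_le (hH1 : H ≠ ⊥) (hH2 : H ≠ ⊤)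
    (hC : ∀ h ∈ H, h ≠ 1 → Subgroup.centralizer ({h} : Set N) ≤ H) :
    Group.IsNilpotent H := by
  obtain ⟨E, hE⟩ := Subgroup.exists_right_complement'_of_coprime (coprime_card_index H hC)
  have hinf : H ⊓ E = ⊥ := disjoint_iff.mp (Subgroup.IsComplement'.disjoint hE)
  have hsup : H ⊔ E = ⊤ := Subgroup.IsComplement'.sup_eq_top hE
  have hE1 : E ≠ ⊥ := by
    rintro rfl
    rw [sup_bot_eq] at hsup
    exact hH2 hsup
  have hfpf : ∀ h ∈ E, h ≠ 1 → ∀ n ∈ H, h * n = n * h → n = 1 := by
    intro h hh hh1 n hn hcomm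
    by_contra hn1
    have h1 : h ∈ Subgroup.centralizer ({n} : Set N) := by
      rw [Subgroup.mem_centralizer_singleton_iff]
      exact hcomm
    have h2 : h ∈ H ⊓ E := ⟨hC n hn hn1 h1, hh⟩
    rw [hinf, Subgroup.mem_bot] at h2
    exact hh1 h2
  obtain ⟨hfc, hker⟩ := Cfsg.Agent.S4108.frobenius_of_fpf H E hsup hinf hH1 hE1 hfpf
  obtain ⟨K, hK, -, hKnil⟩ := Cfsg.Agent.S0042.result E hfc
  have : K = H := by
    apply SetLike.coe_injective
    rw [hK, hker]
  rw [← this]
  exact hKnil

include hHn in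
/-- the Frobenius condition passes to quotients by normal subgroups inside the kernel -/
theorem quotient_frob (hC : ∀ h ∈ H, h ≠ 1 → Subgroup.centralizer ({h} : Set N) ≤ H)
    (A : Subgroup N) [hA : A.Normal] (hAH : A ≤ H) :
    ∀ k ∈ H, k ∉ A → ∀ x : N, x * k * x⁻¹ * k⁻¹ ∈ A → x ∈ H := by
  classical
  intro k hk hkA x hx
  by_contra hxH
  -- the stabiliser of the coset `kA`
  let St : Subgroup N :=
    (Subgroup.centralizer ({(QuotientGroup.mk' A) k} : Set (N ⧸ A))).comap (QuotientGroup.mk' A)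
  have hSt : ∀ t : N, t ∈ St ↔ t * k * t⁻¹ * k⁻¹ ∈ A := by
    intro t
    rw [Subgroup.mem_comap, Subgroup.mem_centralizer_singleton_iff,
      ← QuotientGroup.eq_one_iff (N := A), QuotientGroup.mk'_apply, QuotientGroup.mk'_apply,
      QuotientGroup.mk_mul, QuotientGroup.mk_mul, QuotientGroup.mk_mul, QuotientGroup.mk_inv,
      QuotientGroup.mk_inv, mul_inv_eq_one, mul_inv_eq_iff_eq_mul]
  have hxSt : x ∈ St := (hSt x).mpr hx
  -- a prime-power element outside `H`
  set xb : N ⧸ H := (QuotientGroup.mk' H) x with hxb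
  have hxb1 : xb ≠ 1 := by
    intro h
    apply hxH
    rwa [hxb, QuotientGroup.mk'_apply, QuotientGroup.eq_one_iff] at h
  have hr1 : orderOf xb ≠ 1 := by
    intro h
    exact hxb1 (orderOf_eq_one_iff.mp h)
  set q := (orderOf xb).minFac with hq
  have hqp : q.Prime := Nat.minFac_prime hr1
  have : Fact q.Prime := ⟨hqp⟩
  have hqr : q ∣ orderOf xb := Nat.minFac_dvd _
  have hn0 : orderOf x ≠ 0 := (orderOf_pos x).ne'
  obtain ⟨a, m, hqm, hn⟩ := Nat.exists_eq_pow_mul_and_not_dvd hn0 q hqp.one_lt.ne'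
  have hm0 : m ≠ 0 := by
    rintro rfl
    exact hqm (dvd_zero q)
  set y : N := x ^ m with hy
  have hyord : orderOf y = q ^ a := by
    rw [hy, orderOf_pow_of_dvd hm0 (Dvd.intro_left _ hn.symm), hn,
      Nat.mul_div_cancel _ (Nat.pos_of_ne_zero hm0)]
  have hyH : y ∉ H := by
    intro h
    have h1 : xb ^ m = 1 := by
      rw [hxb, ← map_pow, QuotientGroup.mk'_apply, QuotientGroup.eq_one_iff]
      exact h
    exact hqm (hqr.trans (orderOf_dvd_of_pow_eq_one h1))
  have hySt : ∀ i : ℤ, y ^ i ∈ St := fun i => St.zpow_mem (St.pow_mem hxSt m) i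
  -- the `q`-group generated by conjugation by `y`
  set c : ConjAct N := ConjAct.toConjAct y with hc
  have hco : orderOf c = q ^ a := by
    rw [hc, MulEquiv.orderOf_eq, hyord]
  have hpg : IsPGroup q (Subgroup.zpowers c) := by
    apply IsPGroup.of_card (n := a)
    rw [Nat.card_zpowers, hco]
  have hcmem : ∀ g : Subgroup.zpowers c, ConjAct.ofConjAct (g : ConjAct N) ∈ St := by
    rintro ⟨g, hg⟩
    obtain ⟨i, rfl⟩ := Subgroup.mem_zpowers_iff.mp hg
    change ConjAct.ofConjAct (c ^ i) ∈ St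
    rw [map_zpow, hc, ConjAct.ofConjAct_toConjAct]
    exact hySt i
  let S : SubMulAction (Subgroup.zpowers c) N :=
    { carrier := {z | k⁻¹ * z ∈ A}
      smul_mem' := by
        intro g z hz
        change k⁻¹ * z ∈ A at hz
        change k⁻¹ * (g • z) ∈ A
        rw [Subgroup.smul_def, ConjAct.smul_def]
        set t := ConjAct.ofConjAct (g : ConjAct N) with ht
        have h1 : t * k * t⁻¹ * k⁻¹ ∈ A := (hSt t).mp (hcmem g)
        have h2 : k⁻¹ * (t * k * t⁻¹ * k⁻¹) * k ∈ A := by
          have := hA.conj_mem _ h1 k⁻¹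
          simpa using this
        have h3 : t * (k⁻¹ * z) * t⁻¹ ∈ A := hA.conj_mem _ hz t
        have h4 : k⁻¹ * (t * z * t⁻¹) =
            (k⁻¹ * (t * k * t⁻¹ * k⁻¹) * k) * (t * (k⁻¹ * z) * t⁻¹) := by
          group
        rw [h4]
        exact A.mul_mem h2 h3 }
  have hScard : Nat.card S = Nat.card A := by
    apply Nat.card_congr
    refine ⟨fun z => ⟨k⁻¹ * (z : N), z.2⟩, fun a => ⟨k * (a : N), ?_⟩, ?_, ?_⟩
    · change k⁻¹ * (k * (a : N)) ∈ A
      rw [inv_mul_cancel_left]
      exact a.2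
    · intro z
      apply Subtype.ext
      change k * (k⁻¹ * (z : N)) = z
      rw [mul_inv_cancel_left]
    · intro a
      apply Subtype.ext
      change k⁻¹ * (k * (a : N)) = a
      rw [inv_mul_cancel_left]
  have hqA : ¬ q ∣ Nat.card S := by
    rw [hScard]
    intro h
    have h1 : q ∣ Nat.card H := h.trans (Subgroup.card_dvd_of_le hAH)
    have h2 : q ∣ H.index := by
      have h3 : orderOf xb ∣ Nat.card (N ⧸ H) := orderOf_dvd_natCard xb
      rw [← Subgroup.index_eq_card] at h3
      exact hqr.trans h3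
    have := Nat.Coprime.eq_one_of_dvd
      (Nat.Coprime.coprime_dvd_left h1 (coprime_card_index H hC)) h2
    exact hqp.one_lt.ne' this
  obtain ⟨⟨z, hz⟩, hfix⟩ := hpg.nonempty_fixed_point_of_prime_not_dvd_card S hqA
  have hfix' := hfix ⟨c, Subgroup.mem_zpowers c⟩
  have hyz : y * z * y⁻¹ = z := by
    have h1 := congrArg Subtype.val hfix'
    change (⟨c, Subgroup.mem_zpowers c⟩ : Subgroup.zpowers c) • z = z at h1
    rw [Subgroup.smul_def, ConjAct.smul_def, hc, ConjAct.ofConjAct_toConjAct] at h1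
    exact h1
  have hz' : k⁻¹ * z ∈ A := hz
  have hzH : z ∈ H := by
    have : z = k * (k⁻¹ * z) := by group
    rw [this]
    exact H.mul_mem hk (hAH hz')
  have hz1 : z ≠ 1 := by
    rintro rfl
    apply hkA
    rw [mul_one] at hz'
    simpa using A.inv_mem hz'
  apply hyH
  apply hC z hzH hz1
  rw [Subgroup.mem_centralizer_singleton_iff]
  calc y * z = y * z * y⁻¹ * y := by group
    _ = z * y := by rw [hyz]

end Basic

section Count

open Cfsg.Agent.Lib.Helper25.FrobCount

universe u

variable {L : Type u} [Group L] [Finite L]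

/-- Frobenius counting on a section `N/H₁` centralised by `K`: `[L:K]` divides `[N:H₁] - 1` -/
theorem index_dvd_relIndex_sub_one' (K H₁ N : Subgroup L) [hK : K.Normal] [hH₁ : H₁.Normal]
    [hN : N.Normal] (hcent : ∀ x ∈ K, ∀ n ∈ N, x * n * x⁻¹ * n⁻¹ ∈ H₁) (hH₁N : H₁ ≤ N)
    (hNK : N ≤ K)
    (hfrob : ∀ k ∈ K, k ∉ H₁ → ∀ x : L, x * k * x⁻¹ * k⁻¹ ∈ H₁ → x ∈ K) :
    K.index ∣ H₁.relIndex N - 1 := by
  classical
  have : Fintype (L ⧸ H₁) := Fintype.ofFinite _
  set π := QuotientGroup.mk' H₁ with hπ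
  have hπs : Function.Surjective π := QuotientGroup.mk'_surjective H₁
  have hNn : (N.map π).Normal := Subgroup.Normal.map hN π hπs
  let Y : Finset (L ⧸ H₁) := (Finset.univ.filter (fun q => q ∈ N.map π)).erase 1
  have hYcard : Y.card = H₁.relIndex N - 1 := by
    rw [Finset.card_erase_of_mem
        (by rw [Finset.mem_filter]; exact ⟨Finset.mem_univ _, Subgroup.one_mem _⟩),
      ← card_map_mk H₁ N hH₁N, Nat.card_eq_fintype_card, Fintype.card_subtype]
  rw [← hYcard]
  apply dvd_card_of_forall_index_stabilizer (G := ConjAct (L ⧸ H₁)) Y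
  · intro g y hy
    rw [Finset.mem_erase, Finset.mem_filter] at hy ⊢
    obtain ⟨hy1, -, hy2⟩ := hy
    rw [ConjAct.smul_def]
    refine ⟨?_, Finset.mem_univ _, hNn.conj_mem y hy2 _⟩
    intro h
    apply hy1
    have := congrArg (fun z => (ConjAct.ofConjAct g)⁻¹ * z * ConjAct.ofConjAct g) h
    simpa [mul_assoc] using this
  · intro y hy
    rw [Finset.mem_erase, Finset.mem_filter] at hy
    obtain ⟨hy1, -, hy2⟩ := hy
    obtain ⟨k, hkN, rfl⟩ := Subgroup.mem_map.mp hy2
    have hkH₁ : k ∉ H₁ := by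
      intro h
      apply hy1
      rw [hπ, QuotientGroup.mk'_apply, QuotientGroup.eq_one_iff]
      exact h
    have hstab : MulAction.stabilizer (ConjAct (L ⧸ H₁)) (π k) =
        (K.map π).comap (ConjAct.ofConjAct (G := L ⧸ H₁)).toMonoidHom := by
      ext g
      rw [MulAction.mem_stabilizer_iff, ConjAct.smul_def, Subgroup.mem_comap]
      obtain ⟨x, hx⟩ := hπs (ConjAct.ofConjAct g)
      change _ ↔ ConjAct.ofConjAct g ∈ K.map π
      rw [← hx]
      have hiff : π x * π k * (π x)⁻¹ = π k ↔ x * k * x⁻¹ * k⁻¹ ∈ H₁ := by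
        rw [← QuotientGroup.eq_one_iff, ← QuotientGroup.mk'_apply, ← hπ, map_mul, map_mul, map_mul,
          map_inv, map_inv, mul_inv_eq_one]
      rw [hiff]
      constructor
      · intro h
        exact Subgroup.mem_map_of_mem π (hfrob k (hNK hkN) hkH₁ x h)
      · intro h
        obtain ⟨x₀, hx₀, hx₀x⟩ := Subgroup.mem_map.mp h
        have hxK : x ∈ K := by
          have h1 : x₀⁻¹ * x ∈ H₁ := by
            rw [← QuotientGroup.eq_one_iff, ← QuotientGroup.mk'_apply, ← hπ, map_mul, map_inv,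
              hx₀x, inv_mul_cancel]
          have h2 : x = x₀ * (x₀⁻¹ * x) := by group
          rw [h2]
          exact K.mul_mem hx₀ ((hH₁N.trans hNK) h1)
        exact hcent x hxK k hkN
    rw [hstab, Subgroup.index_comap_of_surjective _ (MulEquiv.surjective _),
      Subgroup.index_map_eq K hπs (by rw [hπ, QuotientGroup.ker_mk']; exact hH₁N.trans hNK)]

/-- a nontrivial central section of a Frobenius kernel has order at least `[L:K] + 1` -/
theorem succ_index_le_relIndex (K H₁ N : Subgroup L) [hK : K.Normal] [hH₁ : H₁.Normal]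
    [hN : N.Normal] (hcent : ∀ x ∈ K, ∀ n ∈ N, x * n * x⁻¹ * n⁻¹ ∈ H₁) (hH₁N : H₁ < N)
    (hNK : N ≤ K)
    (hfrob : ∀ k ∈ K, k ∉ H₁ → ∀ x : L, x * k * x⁻¹ * k⁻¹ ∈ H₁ → x ∈ K) :
    K.index + 1 ≤ H₁.relIndex N := by
  have h1 := index_dvd_relIndex_sub_one' K H₁ N hcent hH₁N.le hNK hfrob
  have h0 : H₁.relIndex N ≠ 0 := Subgroup.index_ne_zero_of_finite (H := H₁.subgroupOf N)
  have h2 : H₁.relIndex N ≠ 1 := by
    intro h
    rw [Subgroup.relIndex_eq_one] at h
    exact absurd h (not_le_of_gt hH₁N)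
  have h3 : 0 < H₁.relIndex N - 1 := by omega
  have := Nat.le_of_dvd h3 h1
  omega

end Count

section Nilpotent

open Cfsg.Agent.Lib.Helper25.CohDescent

/-- in a finite nilpotent group the derived subgroup consists of non-generators -/
theorem eq_top_of_commutator_sup_eq_top {K : Type*} [Group K] [Finite K]
    (hnil : Group.IsNilpotent K) (R : Subgroup K) (h : commutator K ⊔ R = ⊤) : R = ⊤ := by
  by_contra hR
  obtain ⟨M, hM, hRM⟩ := (eq_top_or_exists_le_coatom R).resolve_left hR
  have hall : ∀ M' : Subgroup K, IsCoatom M' → M'.Normal :=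
    ((Group.isNilpotent_of_finite_tfae (G := K)).out 0 2 rfl rfl).mp hnil
  have hMn : M.Normal := hall M hM
  obtain ⟨f, hf1, hfM⟩ := exists_linear_nontrivial (K := K) inferInstance M hM.1
  apply hf1
  have h1 : commutator K ⊔ R ≤ f.ker := by
    apply sup_le (Abelianization.commutator_subset_ker f)
    intro x hx
    exact MonoidHom.mem_ker.mpr (hfM x (hRM hx))
  rw [h] at h1
  ext x
  have := h1 (Subgroup.mem_top x)
  rw [MonoidHom.mem_ker] at this
  rw [this]
  rfl

/-- a nontrivial Sylow subgroup of a finite nilpotent group is not contained in the derived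
subgroup -/
theorem sylow_not_le_commutator {K : Type*} [Group K] [Finite K] (hnil : Group.IsNilpotent K)
    (r : ℕ) [Fact r.Prime] (P : Sylow r K) (hr : r ∣ Nat.card K) :
    ¬ (P : Subgroup K) ≤ commutator K := by
  intro hle
  have hPn : (P : Subgroup K).Normal := inferInstance
  obtain ⟨R, hR⟩ := Subgroup.exists_right_complement'_of_coprime P.card_coprime_index
  have hsup : (P : Subgroup K) ⊔ R = ⊤ := Subgroup.IsComplement'.sup_eq_top hR
  have h1 : commutator K ⊔ R = ⊤ := by
    apply top_le_iff.mp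
    rw [← hsup]
    exact sup_le_sup_right hle R
  have hRtop := eq_top_of_commutator_sup_eq_top hnil R h1
  have hinf : (P : Subgroup K) ⊓ R = ⊥ :=
    disjoint_iff.mp (Subgroup.IsComplement'.disjoint hR)
  rw [hRtop, inf_top_eq] at hinf
  exact P.ne_bot_of_dvd_card hr hinf

variable {N : Type*} [Group N] [Finite N]

/-- the subgroups used in the descent for a nilpotent kernel not of prime power order: a normal
Sylow subgroup `Q` and the centre `C` of `H` -/
theorem exists_sylow_and_center (H : Subgroup N) [hHn : H.Normal] (hnil : Group.IsNilpotent H)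
    (hpp : ¬ ∃ p m : ℕ, p.Prime ∧ Nat.card H = p ^ m) :
    ∃ Q C : Subgroup N, Q.Normal ∧ C.Normal ∧ Q ≤ H ∧ C ≤ H ∧
      (∀ c ∈ C, ∀ h ∈ H, c * h = h * c) ∧ ¬ Q ≤ ⁅H, H⁆ ∧ ⁅H, H⁆ ⊔ Q ≠ H ∧
      ∀ X : Subgroup N, X ≤ Q → ¬ C ≤ X := by
  classical
  have hcard1 : Nat.card H ≠ 1 := by
    intro h
    exact hpp ⟨2, 0, Nat.prime_two, by rw [h, pow_zero]⟩
  have hnt : Nontrivial H := by
    rw [← Finite.one_lt_card_iff_nontrivial]
    have : 0 < Nat.card H := Nat.card_pos
    omega
  have hZ : Subgroup.center H ≠ ⊥ := Group.IsNilpotent.center_ne_bot H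
  have hZcard : Nat.card (Subgroup.center H) ≠ 1 := by
    intro h
    exact hZ (Subgroup.card_eq_one.mp h)
  obtain ⟨p, hp, hpZ⟩ := Nat.exists_prime_and_dvd hZcard
  have hpH : p ∣ Nat.card H := hpZ.trans (Subgroup.card_subgroup_dvd_card _)
  have hex : ∃ r : ℕ, r.Prime ∧ r ∣ Nat.card H ∧ r ≠ p := by
    by_contra hcon
    push Not at hcon
    apply hpp
    refine ⟨p, _, hp, Nat.eq_prime_pow_of_unique_prime_dvd Nat.card_pos.ne' ?_⟩
    intro d hd hdH
    exact hcon d hd hdH
  obtain ⟨r, hr, hrH, hrp⟩ := hex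
  have : Fact r.Prime := ⟨hr⟩
  let P : Sylow r H := default
  have hPn : (P : Subgroup H).Normal := inferInstance
  have hPc : (P : Subgroup H).Characteristic := P.characteristic_of_normal hPn
  obtain ⟨k, hk⟩ := IsPGroup.iff_card.mp P.2
  have hpr : ∀ X : Subgroup H, Nat.card X ∣ r ^ k → p ∣ Nat.card X → False := by
    intro X h1 h2
    have := (Nat.prime_dvd_prime_iff_eq hp hr).mp (hp.dvd_of_dvd_pow (h2.trans h1))
    exact hrp this.symm
  refine ⟨(P : Subgroup H).map H.subtype, (Subgroup.center H).map H.subtype, inferInstance,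
    inferInstance, Subgroup.map_subtype_le _, Subgroup.map_subtype_le _, ?_, ?_, ?_, ?_⟩
  · rintro c ⟨c', hc', rfl⟩ h hh
    have := Subgroup.mem_center_iff.mp hc' ⟨h, hh⟩
    have h2 := congrArg Subtype.val this
    exact h2.symm
  · rw [← Subgroup.map_subtype_commutator]
    intro h
    rw [Subgroup.map_subtype_le_map_subtype] at h
    exact sylow_not_le_commutator hnil r P hrH h
  · rw [← Subgroup.map_subtype_commutator, ← Subgroup.map_sup]
    intro h
    have h1 : (commutator H ⊔ (P : Subgroup H)).map H.subtype = (⊤ : Subgroup H).map H.subtype := by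
      rw [h, ← MonoidHom.range_eq_map, Subgroup.range_subtype]
    have h2 : commutator H ⊔ (P : Subgroup H) = ⊤ :=
      Subgroup.map_injective H.subtype_injective h1
    have h3 := eq_top_of_commutator_sup_eq_top hnil _ h2
    apply hpr ⊤
    · rw [← h3, hk]
    · rw [Subgroup.card_top]
      exact hpH
  · intro X hXQ hCX
    have h1 : (Subgroup.center H).map H.subtype ≤ (P : Subgroup H).map H.subtype := hCX.trans hXQ
    rw [Subgroup.map_subtype_le_map_subtype] at h1
    apply hpr (Subgroup.center H)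
    · rw [← hk]
      exact Subgroup.card_dvd_of_le h1
    · exact hpZ

end Nilpotent

end Cfsg.Agent.Lib.Helper25.FrobKernel
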