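import Mathlib
import Cfsg.Agent.Lib.Helper25.FeitBase
import Cfsg.Agent.Lib.Helper25.FrobKernel
import Cfsg.Agent.Lib.Helper25.CohDescent2
import Cfsg.Agent.Lib.Helper74.FrobInduced
import Cfsg.Agent.S1521

/-!
# Feit's coherence theorem for Frobenius groups: the descent (helper25)

`H ⊴ N` a Frobenius kernel (centraliser form), `S(A) = inducedIrrAbove H A`.
* `step` : Peterfalvi (6.1) for irreducible characters (no parity), through Feit's criterion.
* `chain` : iteration of `step` along `X ↦ ⁅X ⊔ C, H⁆`.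
* `base` : `S(H')` is coherent when `[H:H'] ≥ 2[N:H] + 1`.
-/

set_option autoImplicit false

namespace Cfsg.Agent.Lib.Helper25.FeitFrob

open Cfsg Cfsg.Agent.Lib.Helper26 Cfsg.Agent.Lib.Helper25.CohDescent
  Cfsg.Agent.Lib.Helper25.FeitBase Cfsg.Agent.Lib.Helper78
open scoped commutatorElement

section Numeric

/-- the numerical inequality for a step with a large central section -/
theorem numeric_central (e u v w : ℕ) (he : 1 ≤ e) (huv : u = v * w) (hw : e + 1 ≤ w)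
    (hu : (e + 1) ^ 2 ≤ u) : 4 * e ^ 2 * v < (u - 1) ^ 2 := by
  obtain ⟨a, ha⟩ : ∃ a, u = a + 1 := ⟨u - 1, by have : 1 ≤ u := by nlinarith
                                                omega⟩
  rw [ha, Nat.add_sub_cancel]
  have ha2 : e * (e + 2) ≤ a := by
    have : (e + 1) ^ 2 ≤ a + 1 := ha ▸ hu
    nlinarith
  -- `4 e² v w < w a²`
  have key : 4 * e ^ 2 * (a + 1) < (e + 1) * a ^ 2 := by
    have h1 : (e + 1) * e * (e + 2) * a ≤ (e + 1) * a ^ 2 := by
      have : e * (e + 2) * a ≤ a * a := Nat.mul_le_mul_right a ha2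
      nlinarith
    nlinarith [Nat.mul_le_mul_left (e * (e ^ 2 + 2)) ha2, Nat.mul_le_mul he he,
      Nat.mul_le_mul (Nat.mul_le_mul he he) he]
  have hwpos : 0 < w := by omega
  have h3 : 4 * e ^ 2 * v * w < a ^ 2 * w := by
    calc 4 * e ^ 2 * v * w = 4 * e ^ 2 * (a + 1) := by rw [mul_assoc, ← huv, ha]
      _ < (e + 1) * a ^ 2 := key
      _ ≤ w * a ^ 2 := Nat.mul_le_mul_right _ hw
      _ = a ^ 2 * w := mul_comm _ _
  exact Nat.lt_of_mul_lt_mul_right h3

end Numeric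

section Step

universe u v

variable {N : Type u} [Group N] [Fintype N] {G : Type v} [Group G] [Fintype G]

/-- `S(A) ⊆ S(B)` for `B ≤ A` -/
theorem inducedIrrAbove_anti (H : Subgroup N) {A B : Subgroup N} (hBA : B ≤ A) :
    inducedIrrAbove H A ⊆ inducedIrrAbove H B := by
  rintro φ ⟨θ, hθ, h1, h2, rfl⟩
  exact ⟨θ, hθ, h1, fun a ha => h2 a (hBA ha), rfl⟩

/-- Peterfalvi (6.1) for sets of irreducible characters, without parity assumption -/
theorem step (H : Subgroup N) [hHn : H.Normal] (hsolv : Group.IsSolvable H)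
    (hirr : ∀ φ ∈ inducedIrrAbove H ⊥, IsIrrCharacter N φ) (τ : (N → ℂ) → (G → ℂ))
    (hτ : IsLinearIsometryOn (zspanOn (inducedIrrAbove H ⊥) {1}ᶜ) τ)
    (hτ1 : ∀ α ∈ zspanOn (inducedIrrAbove H ⊥) {1}ᶜ, τ α 1 = 0)
    (X X' D : Subgroup N) [hXn : X.Normal] (hX'X : X' ≤ X) (hXD : X ≤ D)
    (hDH : D ≤ H) (hXH : X < H) (hcent : ∀ x ∈ D, ∀ y ∈ H, x * y * x⁻¹ * y⁻¹ ∈ X')
    (hcoh : IsCoherent (inducedIrrAbove H X) {1}ᶜ τ)
    (hlt : 4 * H.index ^ 2 * D.relIndex H < (X.relIndex H - 1) ^ 2) :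
    IsCoherent (inducedIrrAbove H X') {1}ᶜ τ := by
  classical
  have F := irrFacts N
  let d : (N → ℂ) → ℕ := fun φ => charDegree φ
  have hXsub : (↑(indSet H X) : Set (N → ℂ)) ⊆ inducedIrrAbove H ⊥ := by
    rw [coe_indSet]; exact inducedIrrAbove_subset_bot H X
  have hX'sub : (↑(indSet H X') : Set (N → ℂ)) ⊆ inducedIrrAbove H ⊥ := by
    rw [coe_indSet]; exact inducedIrrAbove_subset_bot H X'
  have hXX' : indSet H X ⊆ indSet H X' := by
    intro φ hφ
    rw [mem_indSet_iff] at hφ ⊢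
    exact inducedIrrAbove_anti H hX'X hφ
  have hd : ∀ φ ∈ inducedIrrAbove H ⊥, φ 1 = (d φ : ℂ) := fun φ hφ =>
    IsCharacter.apply_one_eq_charDegree (IsIrrCharacter.isCharacter (hirr φ hφ))
  -- the linear member of `S(X)`
  obtain ⟨χ₁, hχ₁X, hχ₁d⟩ := exists_linear_mem H X hsolv hXH
  have hχ₁X' : χ₁ ∈ indSet H X := (mem_indSet_iff H X χ₁).mpr hχ₁X
  have hHpos : 0 < H.index := Nat.pos_of_ne_zero (Subgroup.index_ne_zero_of_finite)
  -- numerical consequence for members of `S(X')`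
  have hnum : ∀ χ ∈ indSet H X', 2 * d χ + 1 < X.relIndex H ∧ H.index ∣ d χ := by
    intro χ hχ
    rw [mem_indSet_iff] at hχ
    obtain ⟨θ, hθ, hθB, hdeg⟩ := charDegree_of_mem H X' hχ
    have h1 := degree_sq_le_sub H X' D H (hX'X.trans hXD) hDH le_rfl hcent hθ hθB
    rw [Subgroup.relIndex_self, one_pow, one_mul] at h1
    have h3 : (2 * d χ) ^ 2 < (X.relIndex H - 1) ^ 2 := by
      calc (2 * d χ) ^ 2 = 4 * H.index ^ 2 * Cfsg.charDegree θ ^ 2 := by
            change (2 * Cfsg.charDegree χ) ^ 2 = _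
            rw [hdeg]; ring
        _ ≤ 4 * H.index ^ 2 * D.relIndex H := Nat.mul_le_mul_left _ h1
        _ < (X.relIndex H - 1) ^ 2 := hlt
    have h4 : 2 * d χ < X.relIndex H - 1 := lt_of_pow_lt_pow_left₀ 2 (Nat.zero_le _) h3
    refine ⟨by omega, ?_⟩
    change H.index ∣ Cfsg.charDegree χ
    rw [hdeg]
    exact Dvd.intro _ rfl
  -- main induction
  have key : ∀ S₁ : Finset (N → ℂ), indSet H X ⊆ S₁ → S₁ ⊆ indSet H X' →
      IsCoherent (↑S₁ : Set (N → ℂ)) {1}ᶜ τ := by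
    intro S₁
    induction S₁ using Finset.strongInduction with
    | H S₁ ih =>
      intro h1 h2
      by_cases heq : S₁ = indSet H X
      · rw [heq, coe_indSet]; exact hcoh
      · have hex : ∃ χ ∈ S₁, χ ∉ indSet H X := by
          by_contra hcon
          push Not at hcon
          exact heq (Finset.Subset.antisymm hcon h1)
        obtain ⟨χ, hχS₁, hχX⟩ := hex
        have hχX' : χ ∈ indSet H X' := h2 hχS₁
        set S₁' : Finset (N → ℂ) := S₁.erase χ with hS₁'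
        have hsub' : S₁' ⊆ S₁ := Finset.erase_subset _ _
        have hssub : S₁' ⊂ S₁ := Finset.erase_ssubset hχS₁
        have h1' : indSet H X ⊆ S₁' := by
          intro φ hφ
          rw [hS₁', Finset.mem_erase]
          refine ⟨?_, h1 hφ⟩
          rintro rfl
          exact hχX hφ
        have hcoh' := ih S₁' hssub h1' (hsub'.trans h2)
        have hS₁S : (↑S₁ : Set (N → ℂ)) ⊆ inducedIrrAbove H ⊥ := by
          intro φ hφ
          exact hX'sub (Finset.mem_coe.mpr (h2 (Finset.mem_coe.mp hφ)))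
        have hins : insert χ S₁' = S₁ := Finset.insert_erase hχS₁
        have hχS₁' : χ ∉ S₁' := Finset.notMem_erase χ S₁
        obtain ⟨hnum1, hnum2⟩ := hnum χ hχX'
        have hdvd : d χ₁ ∣ d χ := by
          change Cfsg.charDegree χ₁ ∣ d χ
          rw [hχ₁d]; exact hnum2
        have hsum := sum_bound H X S₁' h1' (fun _ => 1)
          (fun φ hφ => IsIrrCharacter.isCharacter (hirr φ (hS₁S (Finset.mem_coe.mpr (hsub' hφ)))))
          (fun φ hφ => by
            rw [F.irr_norm (hirr φ (hS₁S (Finset.mem_coe.mpr (hsub' hφ))))]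
            simp)
          (fun φ _ => one_ne_zero)
        have hineq : 2 * d χ₁ * d χ < ∑ ξ ∈ S₁', d ξ ^ 2 := by
          have e1 : d χ₁ = H.index := hχ₁d
          have hsum' : (H.index : ℝ) * ((X.relIndex H : ℝ) - 1) ≤
              ((∑ ξ ∈ S₁', d ξ ^ 2 : ℕ) : ℝ) := by
            refine le_trans hsum (le_of_eq ?_)
            push_cast
            apply Finset.sum_congr rfl
            intro φ _
            simp [d]
          have e2 : (2 * (d χ : ℝ) + 1) < (X.relIndex H : ℝ) := by exact_mod_cast hnum1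
          have e3 : (0 : ℝ) < (H.index : ℝ) := by exact_mod_cast hHpos
          have : ((2 * d χ₁ * d χ : ℕ) : ℝ) < ((∑ ξ ∈ S₁', d ξ ^ 2 : ℕ) : ℝ) := by
            refine lt_of_lt_of_le ?_ hsum'
            push_cast
            rw [e1]
            nlinarith
          exact_mod_cast this
        have hres := feit_criterion S₁' χ
          (fun ξ hξ => hirr ξ (hS₁S (Finset.mem_coe.mpr (hsub' hξ))))
          (hirr χ (hS₁S (Finset.mem_coe.mpr hχS₁))) hχS₁' d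
          (fun ξ hξ => hd ξ (hS₁S (Finset.mem_coe.mpr (hins ▸ hξ)))) τ
          (isom_mono (zspanOn_mono _ (by rw [hins]; exact hS₁S)) hτ)
          (fun α hα => hτ1 α (zspanOn_mono _ (by rw [hins]; exact hS₁S) hα))
          hcoh' χ₁ (h1' hχ₁X') hdvd hineq
        rw [hins] at hres
        exact hres
  have hT := key (indSet H X') hXX' (Finset.Subset.refl _)
  rw [coe_indSet] at hT
  exact hT

omit [Fintype N] in
/-- `⁅X ⊔ C, H⁆ ≤ X'` as soon as both `⁅X, H⁆` and `⁅C, H⁆` lie in the normal subgroup `X'` -/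
theorem commutator_sup_le (X C H X' : Subgroup N) [hXn : X.Normal] [hX'n : X'.Normal]
    (h1 : ⁅X, H⁆ ≤ X') (h2 : ⁅C, H⁆ ≤ X') : ⁅X ⊔ C, H⁆ ≤ X' := by
  rw [Subgroup.commutator_le]
  intro g hg h hh
  have hg' : g ∈ (↑(X ⊔ C) : Set N) := hg
  rw [Subgroup.normal_mul] at hg'
  obtain ⟨x, hx, c, hc, rfl⟩ := hg'
  rw [commutatorElement_mul_left_eq_conj_mul]
  exact X'.mul_mem (hX'n.conj_mem _ (h2 (Subgroup.commutator_mem_commutator hc hh)) x)
    (h1 (Subgroup.commutator_mem_commutator hx hh))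

/-- iteration of `step` along `X ↦ ⁅X ⊔ C, H⁆`, from `X₀ ≤ H'` down to `⁅C, H⁆` -/
theorem chain (H : Subgroup N) [hHn : H.Normal] (hnil : Group.IsNilpotent H)
    (hirr : ∀ φ ∈ inducedIrrAbove H ⊥, IsIrrCharacter N φ) (τ : (N → ℂ) → (G → ℂ))
    (hτ : IsLinearIsometryOn (zspanOn (inducedIrrAbove H ⊥) {1}ᶜ) τ)
    (hτ1 : ∀ α ∈ zspanOn (inducedIrrAbove H ⊥) {1}ᶜ, τ α 1 = 0)
    (C : Subgroup N) [hCn : C.Normal] (hCH : C ≤ H)
    (X₀ : Subgroup N) [hX₀n : X₀.Normal] (hX₀ : X₀ ≤ ⁅H, H⁆) (hCX₀ : ⁅C, H⁆ ≤ X₀)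
    (hHH : ⁅H, H⁆ < H) (hcoh : IsCoherent (inducedIrrAbove H X₀) {1}ᶜ τ)
    (hnum : ∀ X : Subgroup N, X.Normal → ⁅C, H⁆ ≤ X → X ≤ X₀ →
      4 * H.index ^ 2 * (X ⊔ C).relIndex H < (X.relIndex H - 1) ^ 2) :
    IsCoherent (inducedIrrAbove H ⁅C, H⁆) {1}ᶜ τ := by
  classical
  obtain ⟨n, hn⟩ := (Subgroup.isNilpotent_iff_lowerCentralSeries H).mp hnil
  have hsolv : Group.IsSolvable H := inferInstance
  have hCHn : (⁅C, H⁆ : Subgroup N).Normal := Subgroup.commutator_normal C H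
  have key : ∀ i : ℕ, ∃ X : Subgroup N, X.Normal ∧ ⁅C, H⁆ ≤ X ∧ X ≤ X₀ ∧
      X ≤ H.lowerCentralSeries (i + 1) ⊔ ⁅C, H⁆ ∧ IsCoherent (inducedIrrAbove H X) {1}ᶜ τ := by
    intro i
    induction i with
    | zero =>
      refine ⟨X₀, hX₀n, hCX₀, le_rfl, ?_, hcoh⟩
      rw [zero_add, Subgroup.lowerCentralSeries_succ, Subgroup.lowerCentralSeries_zero]
      exact hX₀.trans le_sup_left
    | succ i ih =>
      obtain ⟨X, hXn, hCX, hXX₀, hXlcs, hXcoh⟩ := ih
      have hXCn : (X ⊔ C : Subgroup N).Normal := Subgroup.sup_normal X C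
      have hX'n : (⁅X ⊔ C, H⁆ : Subgroup N).Normal := Subgroup.commutator_normal (X ⊔ C) H
      have hX'X : ⁅X ⊔ C, H⁆ ≤ X :=
        commutator_sup_le X C H X (Subgroup.commutator_le_left X H) hCX
      refine ⟨⁅X ⊔ C, H⁆, hX'n, Subgroup.commutator_mono le_sup_right le_rfl, hX'X.trans hXX₀,
        ?_, ?_⟩
      · have h1 : X ⊔ C ≤ H.lowerCentralSeries (i + 1) ⊔ C :=
          sup_le (hXlcs.trans (sup_le le_sup_left
            ((Subgroup.commutator_le_left C H).trans le_sup_right))) le_sup_right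
        have hsn : (H.lowerCentralSeries (i + 1 + 1) ⊔ ⁅C, H⁆ : Subgroup N).Normal :=
          Subgroup.sup_normal _ _
        calc ⁅X ⊔ C, H⁆ ≤ ⁅H.lowerCentralSeries (i + 1) ⊔ C, H⁆ :=
              Subgroup.commutator_mono h1 le_rfl
          _ ≤ H.lowerCentralSeries (i + 1 + 1) ⊔ ⁅C, H⁆ := by
              apply commutator_sup_le _ C H _ _ le_sup_right
              rw [Subgroup.lowerCentralSeries_succ H (i + 1)]
              exact le_sup_left
      · apply step H hsolv hirr τ hτ hτ1 X ⁅X ⊔ C, H⁆ (X ⊔ C) hX'X le_sup_left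
          (sup_le (hXX₀.trans (hX₀.trans hHH.le)) hCH) (lt_of_le_of_lt (hXX₀.trans hX₀) hHH) ?_
          hXcoh (hnum X hXn hCX hXX₀)
        intro x hx y hy
        have := Subgroup.commutator_mem_commutator hx hy
        rwa [commutatorElement_def] at this
  obtain ⟨X, hXn, hCX, hXX₀, hXlcs, hXcoh⟩ := key n
  have hXeq : X = ⁅C, H⁆ := by
    apply le_antisymm _ hCX
    have h1 : H.lowerCentralSeries (n + 1) ≤ H.lowerCentralSeries n :=
      H.lowerCentralSeries_antitone (Nat.le_succ n)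
    rw [hn] at h1
    calc X ≤ H.lowerCentralSeries (n + 1) ⊔ ⁅C, H⁆ := hXlcs
      _ ≤ ⊥ ⊔ ⁅C, H⁆ := sup_le_sup_right h1 _
      _ = ⁅C, H⁆ := bot_sup_eq _
  rw [← hXeq]
  exact hXcoh

/-- `S(H')` is coherent when it has at least two members -/
theorem base (H : Subgroup N) [hHn : H.Normal] (hsolv : Group.IsSolvable H)
    (hirr : ∀ φ ∈ inducedIrrAbove H ⊥, IsIrrCharacter N φ) (τ : (N → ℂ) → (G → ℂ))
    (hτ : IsLinearIsometryOn (zspanOn (inducedIrrAbove H ⊥) {1}ᶜ) τ)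
    (hτ1 : ∀ α ∈ zspanOn (inducedIrrAbove H ⊥) {1}ᶜ, τ α 1 = 0)
    (hHH : ⁅H, H⁆ < H) (hbig : 2 * H.index + 1 ≤ (⁅H, H⁆ : Subgroup N).relIndex H) :
    IsCoherent (inducedIrrAbove H ⁅H, H⁆) {1}ᶜ τ := by
  classical
  have F := irrFacts N
  have hcn : (⁅H, H⁆ : Subgroup N).Normal := Subgroup.commutator_normal H H
  have hsub : (↑(indSet H ⁅H, H⁆) : Set (N → ℂ)) ⊆ inducedIrrAbove H ⊥ := by
    rw [coe_indSet]; exact inducedIrrAbove_subset_bot H _
  have hirr' : ∀ ξ ∈ indSet H ⁅H, H⁆, IsIrrCharacter N ξ :=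
    fun ξ hξ => hirr ξ (hsub (Finset.mem_coe.mpr hξ))
  have hdeg : ∀ ξ ∈ indSet H ⁅H, H⁆, ξ 1 = (H.index : ℂ) := by
    intro ξ hξ
    rw [mem_indSet_iff] at hξ
    exact Cfsg.Agent.S1521.apply_one_of_mem_abelian H ⁅H, H⁆ hHH.le le_rfl hξ
  obtain ⟨χ₁, hχ₁, hχ₁d⟩ := exists_linear_mem H ⁅H, H⁆ hsolv hHH
  have hχ₁' : χ₁ ∈ indSet H ⁅H, H⁆ := (mem_indSet_iff H _ χ₁).mpr hχ₁
  have hHpos : 0 < H.index := Nat.pos_of_ne_zero (Subgroup.index_ne_zero_of_finite)
  have hex : ∃ χ₂ ∈ indSet H ⁅H, H⁆, χ₂ ≠ χ₁ := by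
    by_contra hcon
    push Not at hcon
    have hF : ∀ θ ∈ thetaSet H ⁅H, H⁆, indFun H (θ : H → ℂ) = χ₁ := by
      intro θ hθ
      apply hcon
      exact Finset.mem_image_of_mem _ hθ
    have h1 := fiber_bound H (IsIrrCharacter.isCharacter (hirr' χ₁ hχ₁')) 1
      (by rw [F.irr_norm (hirr' χ₁ hχ₁')]; simp) (thetaSet H ⁅H, H⁆) hF
    rw [hχ₁d, one_mul, pow_two] at h1
    have h2 : ∑ θ ∈ thetaSet H ⁅H, H⁆, charDegree (θ : H → ℂ) ^ 2 ≤ H.index :=
      Nat.le_of_mul_le_mul_left h1 hHpos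
    have h3 := sum_sq_thetaSet H ⁅H, H⁆
    omega
  obtain ⟨χ₂, hχ₂, hne⟩ := hex
  have hres := coherent_of_equal_degree (indSet H ⁅H, H⁆) hirr' (H.index : ℂ) hdeg χ₁ χ₂ hχ₁' hχ₂
    hne τ (isom_mono (zspanOn_mono _ hsub) hτ) (fun α hα => hτ1 α (zspanOn_mono _ hsub hα))
  rw [coe_indSet] at hres
  exact hres

end Step

end Cfsg.Agent.Lib.Helper25.FeitFrob
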