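import Mathlib
import Cfsg.Prelude.Def_Characters
import Cfsg.Prelude.Def_OddOrderChar
import Cfsg.Agent.Lib.Helper3.IrrBasis
import Cfsg.Agent.Lib.Helper25.Induced

set_option autoImplicit false
set_option linter.unusedSectionVars false
set_option linter.style.haveILetI false

/-!
# PF sec. 13/14, module [W] (helper25): the `S`-local restriction formula

`S` a finite group, `P ≤ K` normal subgroups.  If a class function `Φ` of `S`, vanishing off `K` and
at `1`, is orthogonal to all degree-zero combinations `θ'(1) Ind θ - θ(1) Ind θ'` of characters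
induced from irreducible characters `θ, θ'` of `K` that are not constant on the cosets of `P`,
then on `K \ {1}` the function `Φ` agrees with a class function of `S` that is constant on the
cosets of `P`.
-/

namespace Cfsg.Agent.Lib.Helper25.PF13W

open scoped ComplexConjugate
open Cfsg.Agent.Lib.Helper3

variable {S : Type*} [Group S] [Fintype S]

/-- The average over the cosets of `P`. -/
noncomputable def avgP (P : Subgroup S) [Fintype ↥P] (F : S → ℂ) : S → ℂ :=
  fun s => (Nat.card P : ℂ)⁻¹ * ∑ y : ↥P, F ((y : S) * s)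

theorem card_ne_zero (P : Subgroup S) : (Nat.card P : ℂ) ≠ 0 :=
  Nat.cast_ne_zero.mpr Nat.card_pos.ne'

theorem avgP_mul_left (P : Subgroup S) [Fintype ↥P] (F : S → ℂ) (y₀ : S) (hy₀ : y₀ ∈ P) (s : S) :
    avgP P F (y₀ * s) = avgP P F s := by
  unfold avgP
  congr 1
  apply Fintype.sum_equiv (Equiv.mulRight (⟨y₀, hy₀⟩ : ↥P))
  intro y
  simp [mul_assoc]

theorem avgP_isClassFunction (P : Subgroup S) [Fintype ↥P] [P.Normal] {F : S → ℂ}
    (hF : Cfsg.IsClassFunction S F) : Cfsg.IsClassFunction S (avgP P F) := by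
  intro s t
  unfold avgP
  congr 1
  apply Fintype.sum_equiv (MulAut.conjNormal (t⁻¹ : S) : ↥P ≃* ↥P).toEquiv
  intro y
  have h1 : ((MulAut.conjNormal (t⁻¹ : S) : ↥P ≃* ↥P).toEquiv y : S) = t⁻¹ * (y : S) * t := by
    simp
  rw [h1]
  have h2 : (y : S) * (t * s * t⁻¹) = t * ((t⁻¹ * (y : S) * t) * s) * t⁻¹ := by
    simp [mul_assoc]
  rw [h2, hF]

theorem avgP_eq_zero_of_not_mem (K P : Subgroup S) [Fintype ↥P] (hPK : P ≤ K) {F : S → ℂ}
    (hF : ∀ s, s ∉ K → F s = 0) {s : S} (hs : s ∉ K) : avgP P F s = 0 := by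
  unfold avgP
  rw [Finset.sum_eq_zero, mul_zero]
  intro y _
  apply hF
  intro h
  apply hs
  have := K.mul_mem (K.inv_mem (hPK y.2)) h
  simpa using this

theorem sum_sub_avgP (P : Subgroup S) [Fintype ↥P] (F : S → ℂ) (s : S) :
    ∑ y : ↥P, (F ((y : S) * s) - avgP P F ((y : S) * s)) = 0 := by
  rw [Finset.sum_sub_distrib]
  have h1 : ∀ y : ↥P, avgP P F ((y : S) * s) = avgP P F s := fun y => avgP_mul_left P F y y.2 s
  rw [Finset.sum_congr rfl (fun y _ => h1 y), Finset.sum_const, Finset.card_univ, nsmul_eq_mul]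
  unfold avgP
  rw [← mul_assoc, ← Nat.card_eq_fintype_card, mul_inv_cancel₀ (card_ne_zero P), one_mul, sub_self]

/-- A function constant on the cosets of `P` is orthogonal to a function with zero coset sums. -/
theorem sum_mul_conj_eq_zero (P : Subgroup S) [Fintype ↥P] {g β : S → ℂ}
    (hg : ∀ y ∈ P, ∀ s, g (y * s) = g s) (hβ : ∀ s, ∑ y : ↥P, β ((y : S) * s) = 0) :
    ∑ s : S, g s * conj (β s) = 0 := by
  have h1 : ∀ y : ↥P, ∑ s : S, g s * conj (β s) = ∑ s : S, g s * conj (β ((y : S) * s)) := by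
    intro y
    rw [← Equiv.sum_comp (Equiv.mulLeft (y : S))]
    apply Finset.sum_congr rfl
    intro s _
    simp only [Equiv.coe_mulLeft]
    rw [hg y y.2]
  have h2 : (Nat.card P : ℂ) * ∑ s : S, g s * conj (β s) = 0 := by
    rw [Nat.card_eq_fintype_card, ← Finset.card_univ, ← nsmul_eq_mul, ← Finset.sum_const]
    rw [Finset.sum_congr rfl (fun y _ => h1 y), Finset.sum_comm]
    apply Finset.sum_eq_zero
    intro s _
    rw [← Finset.mul_sum, ← map_sum, hβ, map_zero, mul_zero]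
  rcases mul_eq_zero.mp h2 with h | h
  · exact absurd h (card_ne_zero P)
  · exact h

/-- `|P| [s = 1] - [s ∈ P]`. -/
noncomputable def RR (P : Subgroup S) : S → ℂ :=
  open scoped Classical in
  fun s => (if s = 1 then (Nat.card P : ℂ) else 0) - (if s ∈ P then 1 else 0)

theorem RR_isClassFunction (P : Subgroup S) [hP : P.Normal] : Cfsg.IsClassFunction S (RR P) := by
  classical
  intro s t
  unfold RR
  have h1 : t * s * t⁻¹ = 1 ↔ s = 1 := by
    constructor
    · intro h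
      have : s = t⁻¹ * (t * s * t⁻¹) * t := by simp [mul_assoc]
      rw [this, h]; simp
    · rintro rfl; simp
  have h2 : t * s * t⁻¹ ∈ P ↔ s ∈ P := by
    constructor
    · intro h
      have := hP.conj_mem _ h t⁻¹
      simpa [mul_assoc] using this
    · intro h; exact hP.conj_mem _ h t
  simp only [h1, h2]

theorem RR_sum (P : Subgroup S) [Fintype ↥P] (s : S) : ∑ y : ↥P, RR P ((y : S) * s) = 0 := by
  classical
  unfold RR
  rw [Finset.sum_sub_distrib]
  by_cases hs : s ∈ P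
  · have h1 : ∀ y : ↥P, ((y : S) * s ∈ P) := fun y => P.mul_mem y.2 hs
    have h2 : ∑ y : ↥P, (if (y : S) * s = 1 then (Nat.card P : ℂ) else 0) = (Nat.card P : ℂ) := by
      rw [Finset.sum_eq_single (⟨s, hs⟩⁻¹ : ↥P)]
      · rw [if_pos]; simp
      · intro y _ hy
        rw [if_neg]
        intro h
        apply hy
        apply Subtype.ext
        rw [Subgroup.coe_inv]
        exact eq_inv_of_mul_eq_one_left h
      · intro h; exact absurd (Finset.mem_univ _) h
    rw [h2]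
    simp only [h1, if_true, Finset.sum_const, Finset.card_univ, nsmul_eq_mul, mul_one]
    rw [Nat.card_eq_fintype_card, sub_self]
  · have h1 : ∀ y : ↥P, ¬ ((y : S) * s ∈ P) := by
      intro y h
      apply hs
      have := P.mul_mem (P.inv_mem y.2) h
      simpa using this
    have h3 : ∀ y : ↥P, ¬ ((y : S) * s = 1) := by
      intro y h
      apply h1 y
      rw [h]; exact P.one_mem
    simp only [h1, h3, if_false, Finset.sum_const_zero, sub_self]

theorem RR_eq_zero_of_not_mem (K P : Subgroup S) (hPK : P ≤ K) {s : S} (hs : s ∉ K) :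
    RR P s = 0 := by
  classical
  unfold RR
  have h1 : s ≠ 1 := by rintro rfl; exact hs K.one_mem
  have h2 : s ∉ P := fun h => hs (hPK h)
  simp [h1, h2]

theorem RR_inner (P : Subgroup S) [Fintype ↥P] {β : S → ℂ} (hβ1 : β 1 = 0)
    (hβ : ∀ s, ∑ y : ↥P, β ((y : S) * s) = 0) : ∑ s : S, RR P s * conj (β s) = 0 := by
  classical
  unfold RR
  simp only [sub_mul, Finset.sum_sub_distrib, ite_mul, zero_mul, one_mul]
  rw [Finset.sum_ite_eq' Finset.univ (1 : S), if_pos (Finset.mem_univ _), hβ1, map_zero, mul_zero,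
    zero_sub, neg_eq_zero]
  rw [← Finset.sum_filter]
  have h1 := hβ 1
  have h2 : ∑ s ∈ Finset.univ.filter (fun s : S => s ∈ P), conj (β s) =
      ∑ y : ↥P, conj (β ((y : S) * 1)) := by
    rw [Finset.sum_subtype (Finset.univ.filter (fun s : S => s ∈ P)) (p := fun s => s ∈ P)
      (fun s => by simp) (fun s => conj (β s))]
    apply Finset.sum_congr rfl
    intro y _
    rw [mul_one]
  rw [h2, ← map_sum, h1, map_zero]

theorem eq_zero_of_classInner_self {f : S → ℂ} (h : Cfsg.classInner f f = 0) : f = 0 := by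
  unfold Cfsg.classInner at h
  rcases mul_eq_zero.mp h with h | h
  · exact absurd (inv_eq_zero.mp h) (Nat.cast_ne_zero.mpr Nat.card_pos.ne')
  · have h1 : ∀ s : S, f s * conj (f s) = ((Complex.normSq (f s) : ℝ) : ℂ) := fun s =>
      Complex.mul_conj (f s)
    rw [Finset.sum_congr rfl (fun s _ => h1 s), ← Complex.ofReal_sum] at h
    have h2 : ∑ s : S, Complex.normSq (f s) = 0 := by exact_mod_cast h
    have h3 := (Finset.sum_eq_zero_iff_of_nonneg (fun s _ => Complex.normSq_nonneg (f s))).mp h2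
    funext s
    exact Complex.normSq_eq_zero.mp (h3 s (Finset.mem_univ _))

/-- **[W-core]**: the linear algebra. -/
theorem W_core (K P : Subgroup S) [Fintype ↥P] [P.Normal] (hPK : P ≤ K) (Φ : S → ℂ)
    (hΦc : Cfsg.IsClassFunction S Φ) (hΦK : ∀ s, s ∉ K → Φ s = 0)
    (hkey : ∀ β : S → ℂ, Cfsg.IsClassFunction S β → (∀ s, s ∉ K → β s = 0) →
      (∀ s, ∑ y : ↥P, β ((y : S) * s) = 0) → β 1 = 0 → Cfsg.classInner Φ β = 0) :
    ∃ f : S → ℂ, Cfsg.IsClassFunction S f ∧ (∀ y ∈ P, ∀ s : S, f (y * s) = f s) ∧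
      (∀ s, s ∉ K → f s = 0) ∧ ∀ a : S, a ≠ 1 → Φ a = f a := by
  classical
  obtain ⟨c, hc⟩ : ∃ c : ℂ, Φ 1 - avgP P Φ 1 = c * ((Nat.card P : ℂ) - 1) := by
    by_cases h1 : (Nat.card P : ℂ) - 1 = 0
    · refine ⟨0, ?_⟩
      rw [zero_mul]
      have h2 : Nat.card P = 1 := by
        have : (Nat.card P : ℂ) = 1 := sub_eq_zero.mp h1
        exact_mod_cast this
      have h3 := sum_sub_avgP P Φ 1
      haveI : Subsingleton ↥P := (Nat.card_eq_one_iff_unique.mp h2).1
      rw [Fintype.sum_subsingleton _ (1 : ↥P)] at h3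
      simpa using h3
    · exact ⟨(Φ 1 - avgP P Φ 1) / ((Nat.card P : ℂ) - 1), by field_simp⟩
  obtain ⟨β, hβdef⟩ : ∃ β : S → ℂ, β = Φ - avgP P Φ - c • RR P := ⟨_, rfl⟩
  have hβc : Cfsg.IsClassFunction S β := by
    rw [hβdef]
    exact isClassFunction_sub (isClassFunction_sub hΦc (avgP_isClassFunction P hΦc))
      (isClassFunction_smul c (RR_isClassFunction P))
  have hβK : ∀ s, s ∉ K → β s = 0 := by
    intro s hs
    rw [hβdef]
    simp only [Pi.sub_apply, Pi.smul_apply, smul_eq_mul]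
    rw [hΦK s hs, avgP_eq_zero_of_not_mem K P hPK hΦK hs, RR_eq_zero_of_not_mem K P hPK hs]
    simp
  have hβ0 : ∀ s, ∑ y : ↥P, β ((y : S) * s) = 0 := by
    intro s
    rw [hβdef]
    simp only [Pi.sub_apply, Pi.smul_apply, smul_eq_mul]
    rw [Finset.sum_sub_distrib, sum_sub_avgP, ← Finset.mul_sum, RR_sum]
    simp
  have hβ1 : β 1 = 0 := by
    rw [hβdef]
    simp only [Pi.sub_apply, Pi.smul_apply, smul_eq_mul]
    rw [hc]
    unfold RR
    simp [P.one_mem]
  have h1 := hkey β hβc hβK hβ0 hβ1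
  have h2 : Cfsg.classInner (avgP P Φ) β = 0 := by
    unfold Cfsg.classInner
    rw [sum_mul_conj_eq_zero P (fun y hy s => avgP_mul_left P Φ y hy s) hβ0, mul_zero]
  have h3 : Cfsg.classInner (RR P) β = 0 := by
    unfold Cfsg.classInner
    rw [RR_inner P hβ1 hβ0, mul_zero]
  have h4 : Cfsg.classInner β β = 0 := by
    have e : Cfsg.classInner β β = Cfsg.classInner Φ β - Cfsg.classInner (avgP P Φ) β -
        c * Cfsg.classInner (RR P) β := by
      conv_lhs => rw [hβdef]
      rw [classInner_sub_left, classInner_sub_left, classInner_smul_left, ← hβdef]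
    rw [e, h1, h2, h3]
    simp
  have h5 := eq_zero_of_classInner_self h4
  refine ⟨fun s => avgP P Φ s - c * (if s ∈ P then 1 else 0), ?_, ?_, ?_, ?_⟩
  · intro s t
    have h6 := avgP_isClassFunction P hΦc s t
    have h7 : t * s * t⁻¹ ∈ P ↔ s ∈ P := by
      constructor
      · intro h
        have := (inferInstance : P.Normal).conj_mem _ h t⁻¹
        simpa [mul_assoc] using this
      · intro h; exact (inferInstance : P.Normal).conj_mem _ h t
    simp only [h6, h7]
  · intro y hy s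
    have h7 : y * s ∈ P ↔ s ∈ P := by
      constructor
      · intro h
        have := P.mul_mem (P.inv_mem hy) h
        simpa using this
      · intro h; exact P.mul_mem hy h
    simp only [avgP_mul_left P Φ y hy s, h7]
  · intro s hs
    have h2 : s ∉ P := fun h => hs (hPK h)
    simp [avgP_eq_zero_of_not_mem K P hPK hΦK hs, h2]
  · intro a ha
    have h6 := congrFun h5 a
    rw [hβdef] at h6
    simp only [Pi.sub_apply, Pi.smul_apply, smul_eq_mul, Pi.zero_apply] at h6
    unfold RR at h6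
    simp only [ha, if_false, zero_sub] at h6
    have : Φ a = avgP P Φ a + c * (-(if a ∈ P then 1 else 0)) := by
      linear_combination h6
    rw [this]; ring


/-- `θ` is constant on the cosets of `P` in `K`. -/
def TransInv (K P : Subgroup S) (θ : ↥K → ℂ) : Prop :=
  ∀ y : ↥K, (y : S) ∈ P → ∀ a : ↥K, θ (y * a) = θ a

/-- **[W-link]**: orthogonality to the degree-zero combinations of the induced characters gives
orthogonality to all class functions on `K` with zero `P`-coset sums vanishing at `1`. -/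
theorem W_link (K P : Subgroup S) [Fintype ↥K] [Fintype ↥P] (hPK : P ≤ K) (Φ : S → ℂ)
    (hΦc : Cfsg.IsClassFunction S Φ)
    (hperp : ∀ θ θ' : ↥K → ℂ, Cfsg.IsIrrCharacter ↥K θ → Cfsg.IsIrrCharacter ↥K θ' →
      ¬ TransInv K P θ → ¬ TransInv K P θ' →
      θ' 1 * Cfsg.classInner Φ (Cfsg.indFun K θ) = θ 1 * Cfsg.classInner Φ (Cfsg.indFun K θ'))
    (β : S → ℂ) (hβc : Cfsg.IsClassFunction S β) (hβK : ∀ s, s ∉ K → β s = 0)
    (hβ0 : ∀ s, ∑ y : ↥P, β ((y : S) * s) = 0) (hβ1 : β 1 = 0) : Cfsg.classInner Φ β = 0 := by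
  classical
  haveI : Fintype (Cfsg.IrrCharacter ↥K) := Fintype.ofFinite _
  obtain ⟨b, hbdef⟩ : ∃ b : ↥K → ℂ, b = fun k : ↥K => β (k : S) := ⟨_, rfl⟩
  obtain ⟨φK, hφKdef⟩ : ∃ φK : ↥K → ℂ, φK = fun k : ↥K => Φ (k : S) := ⟨_, rfl⟩
  have hbc : Cfsg.IsClassFunction ↥K b := by
    intro g h
    rw [hbdef]
    exact hβc (g : S) (h : S)
  -- step 2: reduce to an inner product on `K`
  have h2 : ∑ s : S, Φ s * conj (β s) = ∑ k : ↥K, φK k * conj (b k) := by
    have h := Cfsg.Agent.Lib.Helper25.sum_extendByZero_mul K (fun k => conj (b k)) Φ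
    have e1 : ∀ s : S, Φ s * conj (β s) = Cfsg.extendByZero K (fun k => conj (b k)) s * Φ s := by
      intro s
      by_cases hs : s ∈ K
      · rw [Cfsg.Agent.Lib.Helper25.extendByZero_mem K _ hs, hbdef, mul_comm]
      · rw [Cfsg.Agent.Lib.Helper25.extendByZero_not_mem K _ hs, hβK s hs, map_zero, mul_zero,
          zero_mul]
    rw [Finset.sum_congr rfl (fun s _ => e1 s), h, hφKdef]
    apply Finset.sum_congr rfl
    intro k _
    rw [mul_comm]
  -- the coefficients
  have hexp := Cfsg.Agent.Lib.Helper3.classFunction_expansion b hbc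
  -- step 4
  have h4 : ∀ θ : Cfsg.IrrCharacter ↥K, Cfsg.classInner φK (θ : ↥K → ℂ) =
      Cfsg.classInner Φ (Cfsg.indFun K (θ : ↥K → ℂ)) := by
    intro θ
    have h := Cfsg.Agent.Lib.Helper25.frobenius_reciprocity K (θ : ↥K → ℂ) Φ hΦc
    rw [Cfsg.Agent.Lib.Helper3.classInner_conj_symm (θ : ↥K → ℂ) φK, Cfsg.Agent.Lib.Helper3.classInner_conj_symm (Cfsg.indFun K (θ : ↥K → ℂ)) Φ,
      h, hφKdef]
  -- step 5
  have h5 : ∀ θ : Cfsg.IrrCharacter ↥K, TransInv K P (θ : ↥K → ℂ) →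
      Cfsg.classInner b (θ : ↥K → ℂ) = 0 := by
    intro θ hθ
    haveI : Fintype ↥(P.subgroupOf K) := Fintype.ofFinite _
    have h := sum_mul_conj_eq_zero (P.subgroupOf K) (g := (θ : ↥K → ℂ)) (β := b)
      (fun y hy s => hθ y (Subgroup.mem_subgroupOf.mp hy) s) (by
        intro k
        have h0 := hβ0 (k : S)
        rw [← h0]
        apply Fintype.sum_equiv (Subgroup.subgroupOfEquivOfLe hPK).toEquiv
        intro y
        rw [hbdef]
        rfl)
    rw [Cfsg.Agent.Lib.Helper3.classInner_conj_symm]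
    unfold Cfsg.classInner
    rw [h, mul_zero, map_zero]
  -- degrees are real
  have hdeg : ∀ θ : Cfsg.IrrCharacter ↥K, conj ((θ : ↥K → ℂ) 1) = (θ : ↥K → ℂ) 1 := by
    intro θ
    obtain ⟨n, -, hn⟩ := Cfsg.Agent.Lib.Helper25.irr_exists_degree θ.2
    rw [hn, Complex.conj_natCast]
  -- the value at one
  have hb1 : ∑ θ : Cfsg.IrrCharacter ↥K, Cfsg.classInner b (θ : ↥K → ℂ) * (θ : ↥K → ℂ) 1 = 0 := by
    have h := congrFun hexp 1
    rw [Finset.sum_apply] at h
    simp only [Pi.smul_apply, smul_eq_mul] at h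
    rw [← h, hbdef]
    exact hβ1
  -- the main computation
  have hmain : Cfsg.classInner φK b = 0 := by
    rw [hexp, Cfsg.Agent.Lib.Helper3.classInner_sum_right]
    simp only [Cfsg.Agent.Lib.Helper3.classInner_smul_right]
    by_cases hex : ∃ θ₀ : Cfsg.IrrCharacter ↥K, ¬ TransInv K P (θ₀ : ↥K → ℂ)
    · obtain ⟨θ₀, hθ₀⟩ := hex
      have hθ₀1 : (θ₀ : ↥K → ℂ) 1 ≠ 0 := Cfsg.Agent.Lib.Helper25.irr_one_ne_zero θ₀.2
      obtain ⟨lam, hlam⟩ : ∃ lam : ℂ, lam =
          Cfsg.classInner Φ (Cfsg.indFun K (θ₀ : ↥K → ℂ)) / (θ₀ : ↥K → ℂ) 1 := ⟨_, rfl⟩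
      have hv : ∀ θ : Cfsg.IrrCharacter ↥K,
          conj (Cfsg.classInner b (θ : ↥K → ℂ)) * Cfsg.classInner φK (θ : ↥K → ℂ) =
          lam * conj (Cfsg.classInner b (θ : ↥K → ℂ) * (θ : ↥K → ℂ) 1) := by
        intro θ
        by_cases hθ : TransInv K P (θ : ↥K → ℂ)
        · rw [h5 θ hθ]; simp
        · have h := hperp (θ : ↥K → ℂ) (θ₀ : ↥K → ℂ) θ.2 θ₀.2 hθ hθ₀
          rw [h4 θ, map_mul, hdeg θ, hlam]
          field_simp
          linear_combination (conj (Cfsg.classInner b (θ : ↥K → ℂ))) * h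
      rw [Finset.sum_congr rfl (fun θ _ => hv θ), ← Finset.mul_sum, ← map_sum, hb1, map_zero,
        mul_zero]
    · push Not at hex
      apply Finset.sum_eq_zero
      intro θ _
      rw [h5 θ (hex θ), map_zero, zero_mul]
  unfold Cfsg.classInner at hmain ⊢
  rw [h2]
  rcases mul_eq_zero.mp hmain with h | h
  · exact absurd (inv_eq_zero.mp h) (Nat.cast_ne_zero.mpr Nat.card_pos.ne')
  · rw [h, mul_zero]

/-- **[W]**: the restriction formula.  `Φ` is a class function of `S` vanishing off `K`; if it is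
orthogonal to `θ'(1) Ind θ - θ(1) Ind θ'` for all `θ, θ' ∈ Irr(K)` not constant on the cosets of
`P`, then there is a class function `f` of `S`, constant on the cosets of `P` and vanishing off
`K`, with `Φ a = f a` for all `a ≠ 1`. -/
theorem W_restriction (K P : Subgroup S) [P.Normal] (hPK : P ≤ K) (Φ : S → ℂ)
    (hΦc : Cfsg.IsClassFunction S Φ) (hΦK : ∀ s, s ∉ K → Φ s = 0)
    (hperp : ∀ θ θ' : ↥K → ℂ, Cfsg.IsIrrCharacter ↥K θ → Cfsg.IsIrrCharacter ↥K θ' →
      ¬ TransInv K P θ → ¬ TransInv K P θ' →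
      θ' 1 * Cfsg.classInner Φ (Cfsg.indFun K θ) = θ 1 * Cfsg.classInner Φ (Cfsg.indFun K θ')) :
    ∃ f : S → ℂ, Cfsg.IsClassFunction S f ∧ (∀ y ∈ P, ∀ s : S, f (y * s) = f s) ∧
      (∀ s, s ∉ K → f s = 0) ∧ ∀ a : S, a ≠ 1 → Φ a = f a := by
  haveI : Fintype ↥K := Fintype.ofFinite _
  haveI : Fintype ↥P := Fintype.ofFinite _
  exact W_core K P hPK Φ hΦc hΦK (fun β hβc hβK hβ0 hβ1 =>
    W_link K P hPK Φ hΦc hperp β hβc hβK hβ0 hβ1)

/-- The hypothesis `hperp` follows from orthogonality to the (complex) degree-zero combinations. -/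
theorem hperp_of_orth (K : Subgroup S) (Φ : S → ℂ) (θ θ' : ↥K → ℂ)
    (h : Cfsg.classInner Φ (θ' 1 • Cfsg.indFun K θ - θ 1 • Cfsg.indFun K θ') = 0)
    (hθ : conj (θ 1) = θ 1) (hθ' : conj (θ' 1) = θ' 1) :
    θ' 1 * Cfsg.classInner Φ (Cfsg.indFun K θ) = θ 1 * Cfsg.classInner Φ (Cfsg.indFun K θ') := by
  rw [sub_eq_add_neg, Cfsg.Agent.Lib.Helper3.classInner_add_right, ← neg_smul, Cfsg.Agent.Lib.Helper3.classInner_smul_right,
    Cfsg.Agent.Lib.Helper3.classInner_smul_right, map_neg, hθ, hθ'] at h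
  linear_combination h


/-- The characters of `S` induced from the irreducible characters of `K` that are not constant on
the cosets of `P`. -/
def indIrrNot (K P : Subgroup S) : Set (S → ℂ) :=
  {φ | ∃ θ : ↥K → ℂ, Cfsg.IsIrrCharacter ↥K θ ∧ ¬ TransInv K P θ ∧ φ = Cfsg.indFun K θ}

theorem indFun_one (K : Subgroup S) (θ : ↥K → ℂ) :
    Cfsg.indFun K θ 1 = (Nat.card K : ℂ)⁻¹ * ((Nat.card S : ℂ) * θ 1) := by
  unfold Cfsg.indFun
  congr 1
  have h : ∀ x : S, Cfsg.extendByZero K θ (x⁻¹ * 1 * x) = θ 1 := by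
    intro x
    have : x⁻¹ * 1 * x = ((1 : ↥K) : S) := by simp
    rw [this, Cfsg.Agent.Lib.Helper25.extendByZero_coe]
  rw [Finset.sum_congr rfl (fun x _ => h x), Finset.sum_const, Finset.card_univ, nsmul_eq_mul,
    Nat.card_eq_fintype_card]

/-- **[W]**, with the hypothesis in the form `Φ ⊥ ℤ[calS]⁰`. -/
theorem W_restriction_zspan (K P : Subgroup S) [P.Normal] (hPK : P ≤ K) (Φ : S → ℂ)
    (hΦc : Cfsg.IsClassFunction S Φ) (hΦK : ∀ s, s ∉ K → Φ s = 0)
    (horth : ∀ α ∈ Cfsg.zspanOn (indIrrNot K P) ({1}ᶜ : Set S), Cfsg.classInner Φ α = 0) :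
    ∃ f : S → ℂ, Cfsg.IsClassFunction S f ∧ (∀ y ∈ P, ∀ s : S, f (y * s) = f s) ∧
      (∀ s, s ∉ K → f s = 0) ∧ ∀ a : S, a ≠ 1 → Φ a = f a := by
  apply W_restriction K P hPK Φ hΦc hΦK
  intro θ θ' hθ hθ' hnθ hnθ'
  obtain ⟨n, -, hn⟩ := Cfsg.Agent.Lib.Helper25.irr_exists_degree hθ
  obtain ⟨n', -, hn'⟩ := Cfsg.Agent.Lib.Helper25.irr_exists_degree hθ'
  apply hperp_of_orth K Φ θ θ' _ (by rw [hn, Complex.conj_natCast])
    (by rw [hn', Complex.conj_natCast])
  apply horth
  constructor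
  · -- membership in the integer span
    have e : θ' 1 • Cfsg.indFun K θ - θ 1 • Cfsg.indFun K θ' =
        (n' : ℤ) • Cfsg.indFun K θ - (n : ℤ) • Cfsg.indFun K θ' := by
      rw [hn, hn']
      funext s
      simp
    rw [e]
    unfold Cfsg.zspan
    apply Submodule.sub_mem
    · exact Submodule.smul_mem _ _ (Submodule.subset_span ⟨θ, hθ, hnθ, rfl⟩)
    · exact Submodule.smul_mem _ _ (Submodule.subset_span ⟨θ', hθ', hnθ', rfl⟩)
  · intro x hx
    have hx1 : x = 1 := by
      by_contra h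
      exact hx h
    subst hx1
    simp only [Pi.sub_apply, Pi.smul_apply, smul_eq_mul, indFun_one]
    ring

end Cfsg.Agent.Lib.Helper25.PF13W
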