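import Mathlib
import Cfsg.Agent.Lib.Helper25.Norm3

/-!
Combinatorics of arrays of generalized characters of norm `3` (Feit–Thompson 13.1 / Peterfalvi 3.2),
helper25.
-/

set_option autoImplicit false
set_option linter.unusedSectionVars false

namespace Cfsg.Agent.Lib.Helper25

open Cfsg Cfsg.Agent.Lib.Helper26
open scoped ComplexConjugate

section Tri

variable {G : Type*} [Group G] [Fintype G]

/-- `β` is the sum of three orthonormal signed irreducibles -/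
structure Tri (β e₁ e₂ e₃ : G → ℂ) : Prop where
  h₁ : SIrr G e₁
  h₂ : SIrr G e₂
  h₃ : SIrr G e₃
  o₁₂ : classInner e₁ e₂ = 0
  o₁₃ : classInner e₁ e₃ = 0
  o₂₃ : classInner e₂ e₃ = 0
  eq : β = e₁ + e₂ + e₃

theorem exists_tri (β : G → ℂ) (hβ : IsGeneralizedCharacter G β) (h3 : classInner β β = 3) :
    ∃ e₁ e₂ e₃, Tri β e₁ e₂ e₃ := by
  obtain ⟨e₁, e₂, e₃, h1, h2, h3', o12, o13, o23, heq⟩ := norm3_decomp β hβ h3
  exact ⟨e₁, e₂, e₃, ⟨h1, h2, h3', o12, o13, o23, heq⟩⟩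

variable {β e₁ e₂ e₃ : G → ℂ}

theorem Tri.o₂₁ (h : Tri β e₁ e₂ e₃) : classInner e₂ e₁ = 0 := by
  rw [h.h₁.inner_symm h.h₂]; exact h.o₁₂

theorem Tri.o₃₁ (h : Tri β e₁ e₂ e₃) : classInner e₃ e₁ = 0 := by
  rw [h.h₁.inner_symm h.h₃]; exact h.o₁₃

theorem Tri.o₃₂ (h : Tri β e₁ e₂ e₃) : classInner e₃ e₂ = 0 := by
  rw [h.h₂.inner_symm h.h₃]; exact h.o₂₃

theorem Tri.inner_eq (h : Tri β e₁ e₂ e₃) (f : G → ℂ) :
    classInner β f = classInner e₁ f + classInner e₂ f + classInner e₃ f := by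
  rw [h.eq, Helper26.classInner_add_left, Helper26.classInner_add_left]

theorem Tri.inner_eq' (h : Tri β e₁ e₂ e₃) (f : G → ℂ) :
    classInner f β = classInner f e₁ + classInner f e₂ + classInner f e₃ := by
  rw [h.eq, Helper26.classInner_add_right, Helper26.classInner_add_right]

theorem Tri.c₁ (h : Tri β e₁ e₂ e₃) : classInner β e₁ = 1 := by
  rw [h.inner_eq, h.h₁.norm, h.o₂₁, h.o₃₁]; ring

theorem Tri.c₂ (h : Tri β e₁ e₂ e₃) : classInner β e₂ = 1 := by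
  rw [h.inner_eq, h.h₂.norm, h.o₁₂, h.o₃₂]; ring

theorem Tri.c₃ (h : Tri β e₁ e₂ e₃) : classInner β e₃ = 1 := by
  rw [h.inner_eq, h.h₃.norm, h.o₁₃, h.o₂₃]; ring

/-- the coefficient of a signed irreducible in a sum of three orthonormal ones -/
theorem Tri.master (h : Tri β e₁ e₂ e₃) {f : G → ℂ} (hf : SIrr G f) :
    (f = e₁ ∧ classInner β f = 1) ∨ (f = e₂ ∧ classInner β f = 1) ∨
    (f = e₃ ∧ classInner β f = 1) ∨ (f = -e₁ ∧ classInner β f = -1) ∨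
    (f = -e₂ ∧ classInner β f = -1) ∨ (f = -e₃ ∧ classInner β f = -1) ∨
    (classInner e₁ f = 0 ∧ classInner e₂ f = 0 ∧ classInner e₃ f = 0 ∧ classInner β f = 0) := by
  rcases h.h₁.inner_tri hf with h1 | h1 | h1
  · left
    refine ⟨h1.2.symm, ?_⟩
    rw [← h1.2]; exact h.c₁
  · right; right; right; left
    have : f = -e₁ := by rw [h1.2, neg_neg]
    refine ⟨this, ?_⟩
    rw [this, Helper26.classInner_neg_right, h.c₁]
  · rcases h.h₂.inner_tri hf with h2 | h2 | h2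
    · right; left
      refine ⟨h2.2.symm, ?_⟩
      rw [← h2.2]; exact h.c₂
    · right; right; right; right; left
      have : f = -e₂ := by rw [h2.2, neg_neg]
      refine ⟨this, ?_⟩
      rw [this, Helper26.classInner_neg_right, h.c₂]
    · rcases h.h₃.inner_tri hf with h3 | h3 | h3
      · right; right; left
        refine ⟨h3.2.symm, ?_⟩
        rw [← h3.2]; exact h.c₃
      · right; right; right; right; right; left
        have : f = -e₃ := by rw [h3.2, neg_neg]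
        refine ⟨this, ?_⟩
        rw [this, Helper26.classInner_neg_right, h.c₃]
      · right; right; right; right; right; right
        refine ⟨h1, h2, h3, ?_⟩
        rw [h.inner_eq, h1, h2, h3]; ring

theorem Tri.mem_of_coef_one (h : Tri β e₁ e₂ e₃) {f : G → ℂ} (hf : SIrr G f)
    (h1 : classInner β f = 1) : f = e₁ ∨ f = e₂ ∨ f = e₃ := by
  rcases h.master hf with h' | h' | h' | h' | h' | h' | h'
  · exact Or.inl h'.1
  · exact Or.inr (Or.inl h'.1)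
  · exact Or.inr (Or.inr h'.1)
  · rw [h'.2] at h1; norm_num at h1
  · rw [h'.2] at h1; norm_num at h1
  · rw [h'.2] at h1; norm_num at h1
  · rw [h'.2.2.2] at h1; norm_num at h1

theorem Tri.norm (h : Tri β e₁ e₂ e₃) : classInner β β = 3 := by
  rw [h.inner_eq', h.c₁, h.c₂, h.c₃]; norm_num

theorem Tri.gen (h : Tri β e₁ e₂ e₃) : IsGeneralizedCharacter G β := by
  have F := irrFacts G
  rw [h.eq]
  exact F.gen_add (F.gen_add h.h₁.gen h.h₂.gen) h.h₃.gen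

theorem Tri.perm₁₂ (h : Tri β e₁ e₂ e₃) : Tri β e₂ e₁ e₃ :=
  ⟨h.h₂, h.h₁, h.h₃, h.o₂₁, h.o₂₃, h.o₁₃, by rw [h.eq]; abel⟩

theorem Tri.perm₂₃ (h : Tri β e₁ e₂ e₃) : Tri β e₁ e₃ e₂ :=
  ⟨h.h₁, h.h₃, h.h₂, h.o₁₃, h.o₁₂, h.o₃₂, by rw [h.eq]; abel⟩

theorem Tri.perm₁₃ (h : Tri β e₁ e₂ e₃) : Tri β e₃ e₂ e₁ :=
  ⟨h.h₃, h.h₂, h.h₁, h.o₃₂, h.o₃₁, h.o₂₁, by rw [h.eq]; abel⟩

end Tri

section F1

variable {G : Type*} [Group G] [Fintype G]

theorem unit_vec_int (a₁ a₂ a₃ r m₁ m₂ m₃ : ℤ) (hr : 0 ≤ r) (hsum : a₁ + a₂ + a₃ = 1)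
    (hsq : a₁ ^ 2 + a₂ ^ 2 + a₃ ^ 2 + r = 3)
    (hpar : r = 0 → (1 - a₁) * m₁ + (1 - a₂) * m₂ + (1 - a₃) * m₃ = 1) :
    (a₁ = 1 ∧ a₂ = 0 ∧ a₃ = 0) ∨ (a₁ = 0 ∧ a₂ = 1 ∧ a₃ = 0) ∨ (a₁ = 0 ∧ a₂ = 0 ∧ a₃ = 1) := by
  have b1 : -1 ≤ a₁ ∧ a₁ ≤ 1 := by constructor <;> nlinarith [sq_nonneg a₂, sq_nonneg a₃]
  have b2 : -1 ≤ a₂ ∧ a₂ ≤ 1 := by constructor <;> nlinarith [sq_nonneg a₁, sq_nonneg a₃]
  have b3 : -1 ≤ a₃ ∧ a₃ ≤ 1 := by constructor <;> nlinarith [sq_nonneg a₁, sq_nonneg a₂]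
  obtain ⟨b1l, b1u⟩ := b1
  obtain ⟨b2l, b2u⟩ := b2
  obtain ⟨b3l, b3u⟩ := b3
  interval_cases a₁ <;> interval_cases a₂ <;> interval_cases a₃ <;> simp_all <;> omega

/-- Bessel for three orthonormal signed irreducibles -/
theorem bessel3 {e₁ e₂ e₃ : G → ℂ} (h₁ : SIrr G e₁) (h₂ : SIrr G e₂) (h₃ : SIrr G e₃)
    (o₁₂ : classInner e₁ e₂ = 0) (o₁₃ : classInner e₁ e₃ = 0) (o₂₃ : classInner e₂ e₃ = 0)
    (T : G → ℂ) (hT : IsGeneralizedCharacter G T) (k : ℕ) (hk : classInner T T = k)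
    (a₁ a₂ a₃ : ℤ) (ha₁ : classInner T e₁ = a₁) (ha₂ : classInner T e₂ = a₂)
    (ha₃ : classInner T e₃ = a₃) :
    ∃ r : ℕ, a₁ ^ 2 + a₂ ^ 2 + a₃ ^ 2 + (r : ℤ) = k ∧
      (r = 0 → T = a₁ • e₁ + a₂ • e₂ + a₃ • e₃) := by
  have o₂₁ : classInner e₂ e₁ = 0 := by rw [h₁.inner_symm h₂]; exact o₁₂
  have o₃₁ : classInner e₃ e₁ = 0 := by rw [h₁.inner_symm h₃]; exact o₁₃
  have o₃₂ : classInner e₃ e₂ = 0 := by rw [h₂.inner_symm h₃]; exact o₂₃
  obtain ⟨r, hr, hres⟩ := bessel_int (![e₁, e₂, e₃] : Fin 3 → G → ℂ)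
    (by intro i; fin_cases i <;> simp [*])
    (by intro i j hij; fin_cases i <;> fin_cases j <;> simp_all)
    T hT k hk (![a₁, a₂, a₃] : Fin 3 → ℤ)
    (by intro i; fin_cases i <;> simp [*])
  refine ⟨r, ?_, ?_⟩
  · simpa [Fin.sum_univ_three] using hr
  · intro hr0
    rw [hr0, Nat.cast_zero] at hres
    have h0 := Helper26.classInner_self_eq_zero hres
    have h1 : T = ∑ i, (![a₁, a₂, a₃] : Fin 3 → ℤ) i • (![e₁, e₂, e₃] : Fin 3 → G → ℂ) i :=
      sub_eq_zero.mp h0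
    rw [h1]
    simp [Fin.sum_univ_three]

theorem f1core {u v w e₁ e₂ e₃ : G → ℂ} (hu : Tri u e₁ e₂ e₃)
    (hv : IsGeneralizedCharacter G v) (hw : IsGeneralizedCharacter G w)
    (nv : classInner v v = 3) (huv : classInner u v = 1) (hwu : classInner w u = 1)
    (hwv : classInner w v = 0) :
    (classInner v e₁ = 1 ∧ classInner v e₂ = 0 ∧ classInner v e₃ = 0) ∨
    (classInner v e₁ = 0 ∧ classInner v e₂ = 1 ∧ classInner v e₃ = 0) ∨
    (classInner v e₁ = 0 ∧ classInner v e₂ = 0 ∧ classInner v e₃ = 1) := by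
  obtain ⟨a₁, ha₁, ha₁'⟩ := inner_int' hv hu.h₁.gen
  obtain ⟨a₂, ha₂, ha₂'⟩ := inner_int' hv hu.h₂.gen
  obtain ⟨a₃, ha₃, ha₃'⟩ := inner_int' hv hu.h₃.gen
  obtain ⟨m₁, hm₁, -⟩ := inner_int' hw hu.h₁.gen
  obtain ⟨m₂, hm₂, -⟩ := inner_int' hw hu.h₂.gen
  obtain ⟨m₃, hm₃, -⟩ := inner_int' hw hu.h₃.gen
  obtain ⟨r, hr, hr0⟩ := bessel3 hu.h₁ hu.h₂ hu.h₃ hu.o₁₂ hu.o₁₃ hu.o₂₃ v hv 3
    (by rw [nv]; norm_num) a₁ a₂ a₃ ha₁ ha₂ ha₃
  have hsum : a₁ + a₂ + a₃ = 1 := by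
    have := hu.inner_eq v
    rw [huv, ha₁', ha₂', ha₃'] at this
    exact_mod_cast this.symm
  have hpar : (r : ℤ) = 0 → (1 - a₁) * m₁ + (1 - a₂) * m₂ + (1 - a₃) * m₃ = 1 := by
    intro h
    have hv' := hr0 (by exact_mod_cast h)
    have h1 := hu.inner_eq' w
    rw [hwu, hm₁, hm₂, hm₃] at h1
    have h2 : classInner w v = a₁ * m₁ + a₂ * m₂ + a₃ * m₃ := by
      rw [hv', Helper26.classInner_add_right, Helper26.classInner_add_right,
        Helper26.classInner_zsmul_right, Helper26.classInner_zsmul_right,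
        Helper26.classInner_zsmul_right, hm₁, hm₂, hm₃]
    rw [hwv] at h2
    have h3 : ((1 - a₁) * m₁ + (1 - a₂) * m₂ + (1 - a₃) * m₃ : ℂ) = 1 := by
      linear_combination h2 - h1
    exact_mod_cast h3
  have key := unit_vec_int a₁ a₂ a₃ r m₁ m₂ m₃ (by positivity) hsum (by exact_mod_cast hr) hpar
  rcases key with ⟨h1, h2, h3⟩ | ⟨h1, h2, h3⟩ | ⟨h1, h2, h3⟩
  · left; rw [ha₁, ha₂, ha₃, h1, h2, h3]; simp
  · right; left; rw [ha₁, ha₂, ha₃, h1, h2, h3]; simp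
  · right; right; rw [ha₁, ha₂, ha₃, h1, h2, h3]; simp

/-- two generalized characters of norm `3` with inner product `1` (and a parity witness) share
exactly one signed irreducible constituent -/
theorem f1cons {u v w : G → ℂ} (hu : IsGeneralizedCharacter G u)
    (hv : IsGeneralizedCharacter G v) (hw : IsGeneralizedCharacter G w)
    (nu : classInner u u = 3) (nv : classInner v v = 3) (huv : classInner u v = 1)
    (hwu : classInner w u = 1) (hwv : classInner w v = 0) :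
    ∃ e, SIrr G e ∧ classInner u e = 1 ∧ classInner v e = 1 ∧
      (∀ f, SIrr G f → classInner u f = 1 → f ≠ e → classInner v f = 0) ∧
      (∀ g, SIrr G g → classInner v g = 1 → g ≠ e → classInner u g = 0) := by
  obtain ⟨e₁, e₂, e₃, hT⟩ := exists_tri u hu nu
  have key : ∀ {e₁ e₂ e₃ : G → ℂ}, Tri u e₁ e₂ e₃ → classInner v e₁ = 1 →
      classInner v e₂ = 0 → classInner v e₃ = 0 →
      ∃ e, SIrr G e ∧ classInner u e = 1 ∧ classInner v e = 1 ∧
      (∀ f, SIrr G f → classInner u f = 1 → f ≠ e → classInner v f = 0) ∧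
      (∀ g, SIrr G g → classInner v g = 1 → g ≠ e → classInner u g = 0) := by
    intro e₁ e₂ e₃ hT h1 h2 h3
    refine ⟨e₁, hT.h₁, hT.c₁, h1, ?_, ?_⟩
    · intro f hf huf hfe
      rcases hT.mem_of_coef_one hf huf with h | h | h
      · exact absurd h hfe
      · rw [h]; exact h2
      · rw [h]; exact h3
    · intro g hg hvg hge
      rcases hT.master hg with h' | h' | h' | h' | h' | h' | h'
      · exact absurd h'.1 hge
      · rw [h'.1, h2] at hvg; norm_num at hvg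
      · rw [h'.1, h3] at hvg; norm_num at hvg
      · rw [h'.1, Helper26.classInner_neg_right, h1] at hvg; norm_num at hvg
      · rw [h'.1, Helper26.classInner_neg_right, h2] at hvg; norm_num at hvg
      · rw [h'.1, Helper26.classInner_neg_right, h3] at hvg; norm_num at hvg
      · exact h'.2.2.2
  rcases f1core hT hv hw nv huv hwu hwv with ⟨h1, h2, h3⟩ | ⟨h1, h2, h3⟩ | ⟨h1, h2, h3⟩
  · exact key hT h1 h2 h3
  · exact key hT.perm₁₂ h2 h1 h3
  · exact key hT.perm₁₃ h3 h2 h1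

/-- distinct constituents of a generalized character of norm `3` are orthogonal -/
theorem con_orth {β f g : G → ℂ} (hβ : IsGeneralizedCharacter G β) (h3 : classInner β β = 3)
    (hf : SIrr G f) (hg : SIrr G g) (hβf : classInner β f = 1) (hβg : classInner β g = 1)
    (hfg : f ≠ g) : classInner f g = 0 := by
  obtain ⟨e₁, e₂, e₃, hT⟩ := exists_tri β hβ h3
  rcases hT.mem_of_coef_one hf hβf with h | h | h <;>
    rcases hT.mem_of_coef_one hg hβg with h' | h' | h' <;> subst h <;> subst h'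
  · exact absurd rfl hfg
  · exact hT.o₁₂
  · exact hT.o₁₃
  · exact hT.o₂₁
  · exact absurd rfl hfg
  · exact hT.o₂₃
  · exact hT.o₃₁
  · exact hT.o₃₂
  · exact absurd rfl hfg

/-- three distinct constituents of a generalized character of norm `3` sum to it -/
theorem eq_sum_of_three {β f g h : G → ℂ} (hβ : IsGeneralizedCharacter G β)
    (h3 : classInner β β = 3) (hf : SIrr G f) (hg : SIrr G g) (hh : SIrr G h)
    (hβf : classInner β f = 1) (hβg : classInner β g = 1) (hβh : classInner β h = 1)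
    (hfg : f ≠ g) (hfh : f ≠ h) (hgh : g ≠ h) : Tri β f g h := by
  refine ⟨hf, hg, hh, con_orth hβ h3 hf hg hβf hβg hfg, con_orth hβ h3 hf hh hβf hβh hfh,
    con_orth hβ h3 hg hh hβg hβh hgh, ?_⟩
  obtain ⟨r, hr, hr0⟩ := bessel3 hf hg hh (con_orth hβ h3 hf hg hβf hβg hfg)
    (con_orth hβ h3 hf hh hβf hβh hfh) (con_orth hβ h3 hg hh hβg hβh hgh) β hβ 3
    (by rw [h3]; norm_num) 1 1 1 (by rw [hβf]; simp) (by rw [hβg]; simp) (by rw [hβh]; simp)
  have : r = 0 := by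
    have : ((r : ℤ)) = 0 := by
      have h' : (1 : ℤ) ^ 2 + 1 ^ 2 + 1 ^ 2 + (r : ℤ) = ((3 : ℕ) : ℤ) := hr
      norm_num at h'
      exact_mod_cast h'
    exact_mod_cast this
  have h' := hr0 this
  rw [h']; simp

end F1

end Cfsg.Agent.Lib.Helper25
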