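import Mathlib
import Cfsg.Agent.Lib.Helper25.CycArr

/-!
The near-pencil and quadrilateral configurations are impossible (Feit–Thompson 13.1 /
Peterfalvi 3.2 combinatorics), helper25.
-/

set_option autoImplicit false
set_option linter.unusedSectionVars false
set_option linter.unusedVariables false

namespace Cfsg.Agent.Lib.Helper25

open Cfsg Cfsg.Agent.Lib.Helper26
open scoped ComplexConjugate

section IntLemmas

theorem sum3 {M : Type*} [AddCommMonoid M] (f : Fin 3 → M) (i k l : Fin 3) (hik : i ≠ k)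
    (hil : i ≠ l) (hkl : k ≠ l) : f 0 + f 1 + f 2 = f i + f k + f l := by
  fin_cases i <;> fin_cases k <;> fin_cases l <;> simp at hik hil hkl ⊢ <;> abel

theorem exists_others (i : Fin 3) : ∃ k l : Fin 3, i ≠ k ∧ i ≠ l ∧ k ≠ l := by
  fin_cases i
  · exact ⟨1, 2, by decide, by decide, by decide⟩
  · exact ⟨0, 2, by decide, by decide, by decide⟩
  · exact ⟨0, 1, by decide, by decide, by decide⟩

theorem sq_le_three_bound (x : ℤ) (h : x ^ 2 ≤ 3) : -1 ≤ x ∧ x ≤ 1 := by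
  constructor <;> nlinarith

theorem np_int1 (A Pi Pk Pl Ui Uk Ul r : ℤ) (hr : 0 ≤ r)
    (h0 : A + Pi + Ui = 0) (h1 : A + Pk + Uk = 0) (h2 : A + Pl + Ul = 0)
    (h3 : Pi + Pk + Pl = 1)
    (hsq : A ^ 2 + (Pi ^ 2 + Pk ^ 2 + Pl ^ 2) + (Ui ^ 2 + Uk ^ 2 + Ul ^ 2) + r = 3) :
    A = 0 ∧ r = 1 ∧ ((Pi = 1 ∧ Ui = -1 ∧ Pk = 0 ∧ Uk = 0 ∧ Pl = 0 ∧ Ul = 0) ∨
      (Pk = 1 ∧ Uk = -1 ∧ Pi = 0 ∧ Ui = 0 ∧ Pl = 0 ∧ Ul = 0) ∨
      (Pl = 1 ∧ Ul = -1 ∧ Pi = 0 ∧ Ui = 0 ∧ Pk = 0 ∧ Uk = 0)) := by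
  obtain ⟨bA1, bA2⟩ := sq_le_three_bound A (by
    linarith [sq_nonneg Pi, sq_nonneg Pk, sq_nonneg Pl, sq_nonneg Ui, sq_nonneg Uk, sq_nonneg Ul])
  obtain ⟨bPi1, bPi2⟩ := sq_le_three_bound Pi (by
    linarith [sq_nonneg A, sq_nonneg Pk, sq_nonneg Pl, sq_nonneg Ui, sq_nonneg Uk, sq_nonneg Ul])
  obtain ⟨bPk1, bPk2⟩ := sq_le_three_bound Pk (by
    linarith [sq_nonneg A, sq_nonneg Pi, sq_nonneg Pl, sq_nonneg Ui, sq_nonneg Uk, sq_nonneg Ul])
  have hUi : Ui = -A - Pi := by omega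
  have hUk : Uk = -A - Pk := by omega
  have hUl : Ul = -A - Pl := by omega
  have hPl : Pl = 1 - Pi - Pk := by omega
  subst hUi hUk hUl
  subst hPl
  interval_cases A <;> interval_cases Pi <;> interval_cases Pk <;> norm_num at hsq ⊢ <;> omega

theorem np_int2 (A Pi Pk Pl Ui Uk Ul W r : ℤ) (hr : 0 ≤ r)
    (h0 : A + Pi + Ui = 1) (h1 : A + Pk + Uk = 0) (h2 : A + Pl + Ul = 0)
    (h3 : Pi + Pk + Pl = 0) (h4 : Pi - Ui + W = 1)
    (hsq : A ^ 2 + (Pi ^ 2 + Pk ^ 2 + Pl ^ 2) + (Ui ^ 2 + Uk ^ 2 + Ul ^ 2) + W ^ 2 + r = 3) :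
    A = 0 ∧ r = 0 ∧ W = 0 ∧ Pi = 1 ∧ Ui = 0 ∧ ((Pk = -1 ∧ Uk = 1 ∧ Pl = 0 ∧ Ul = 0) ∨
      (Pl = -1 ∧ Ul = 1 ∧ Pk = 0 ∧ Uk = 0)) := by
  obtain ⟨bA1, bA2⟩ := sq_le_three_bound A (by
    linarith [sq_nonneg Pi, sq_nonneg Pk, sq_nonneg Pl, sq_nonneg Ui, sq_nonneg Uk, sq_nonneg Ul,
      sq_nonneg W])
  obtain ⟨bPi1, bPi2⟩ := sq_le_three_bound Pi (by
    linarith [sq_nonneg A, sq_nonneg Pk, sq_nonneg Pl, sq_nonneg Ui, sq_nonneg Uk, sq_nonneg Ul,
      sq_nonneg W])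
  obtain ⟨bPk1, bPk2⟩ := sq_le_three_bound Pk (by
    linarith [sq_nonneg A, sq_nonneg Pi, sq_nonneg Pl, sq_nonneg Ui, sq_nonneg Uk, sq_nonneg Ul,
      sq_nonneg W])
  have hUi : Ui = 1 - A - Pi := by omega
  have hUk : Uk = -A - Pk := by omega
  have hUl : Ul = -A - Pl := by omega
  have hPl : Pl = - Pi - Pk := by omega
  have hW : W = 1 - Pi + Ui := by omega
  subst hUk hUl
  subst hPl
  subst hW
  subst hUi
  interval_cases A <;> interval_cases Pi <;> interval_cases Pk <;> norm_num at hsq ⊢ <;> omega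

theorem np_int3 (A Pi Pk Pl Ui Uk Ul W r : ℤ) (hr : 0 ≤ r)
    (h0 : A + Pi + Ui = 0) (h1 : A + Pk + Uk = 0) (h2 : A + Pl + Ul = 1)
    (h3 : Pi + Pk + Pl = 0) (h4 : Pi - Ui + W = 1) (h5 : Pi - Pk + Uk = 1)
    (hsq : A ^ 2 + (Pi ^ 2 + Pk ^ 2 + Pl ^ 2) + (Ui ^ 2 + Uk ^ 2 + Ul ^ 2) + W ^ 2 + r = 3) :
    False := by
  obtain ⟨bA1, bA2⟩ := sq_le_three_bound A (by
    linarith [sq_nonneg Pi, sq_nonneg Pk, sq_nonneg Pl, sq_nonneg Ui, sq_nonneg Uk, sq_nonneg Ul,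
      sq_nonneg W])
  obtain ⟨bPi1, bPi2⟩ := sq_le_three_bound Pi (by
    linarith [sq_nonneg A, sq_nonneg Pk, sq_nonneg Pl, sq_nonneg Ui, sq_nonneg Uk, sq_nonneg Ul,
      sq_nonneg W])
  obtain ⟨bPk1, bPk2⟩ := sq_le_three_bound Pk (by
    linarith [sq_nonneg A, sq_nonneg Pi, sq_nonneg Pl, sq_nonneg Ui, sq_nonneg Uk, sq_nonneg Ul,
      sq_nonneg W])
  have hUi : Ui = - A - Pi := by omega
  have hUk : Uk = -A - Pk := by omega
  have hUl : Ul = 1 - A - Pl := by omega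
  have hPl : Pl = - Pi - Pk := by omega
  have hW : W = 1 - Pi + Ui := by omega
  subst hUk
  subst hUl
  subst hPl
  subst hW
  subst hUi
  interval_cases A <;> interval_cases Pi <;> interval_cases Pk <;> norm_num at hsq ⊢ <;> omega

end IntLemmas

section Coords

variable {G : Type*} [Group G] [Fintype G]

theorem gen_inner_comm {a b : G → ℂ} (ha : IsGeneralizedCharacter G a)
    (hb : IsGeneralizedCharacter G b) : classInner b a = classInner a b := by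
  obtain ⟨n, h1, h2⟩ := inner_int' ha hb
  rw [h1, h2]

/-- integer coordinates with respect to an orthonormal family of signed irreducibles -/
theorem coords {ι : Type*} [Fintype ι] (c : ι → G → ℂ) (hc : ∀ i, SIrr G (c i))
    (horth : ∀ i j, i ≠ j → classInner (c i) (c j) = 0) (T : G → ℂ)
    (hT : IsGeneralizedCharacter G T) (k : ℕ) (hk : classInner T T = k) :
    ∃ (n : ι → ℤ) (r : ℕ) (R : G → ℂ), (∀ i, classInner T (c i) = n i) ∧
      (∑ i, (n i) ^ 2) + (r : ℤ) = k ∧ T = R + ∑ i, n i • c i ∧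
      IsGeneralizedCharacter G R ∧ classInner R R = r ∧ (∀ i, classInner R (c i) = 0) := by
  classical
  have F := irrFacts G
  have hex : ∀ i, ∃ n : ℤ, classInner T (c i) = n := fun i =>
    (inner_int' hT (hc i).gen).imp fun n h => h.1
  choose n hn using hex
  obtain ⟨r, hr, hres⟩ := bessel_int c hc horth T hT k hk n hn
  refine ⟨n, r, T - ∑ i, n i • c i, hn, hr, by abel, ?_, hres, ?_⟩
  · exact F.gen_sub hT (F.gen_sum _ _ (fun i _ => F.gen_zsmul _ (hc i).gen))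
  · intro i
    rw [Helper26.classInner_sub_left, hn, Helper26.classInner_sum_left,
      Finset.sum_eq_single i]
    · rw [Helper26.classInner_zsmul_left, (hc i).norm]; ring
    · intro j _ hji
      rw [Helper26.classInner_zsmul_left, horth j i hji]; ring
    · intro h; exact absurd (Finset.mem_univ i) h

/-- coordinates with respect to an orthonormal family of the shape `p₀ p₁ p₂ u₀ u₁ u₂ q…` -/
theorem coords_puq {κ : Type*} [Fintype κ] (p u : Fin 3 → G → ℂ) (q : κ → G → ℂ)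
    (hp : ∀ l, SIrr G (p l)) (hu : ∀ l, SIrr G (u l)) (hq : ∀ x, SIrr G (q x))
    (hpp : ∀ l m, l ≠ m → classInner (p l) (p m) = 0)
    (huu : ∀ l m, l ≠ m → classInner (u l) (u m) = 0)
    (hqq : ∀ x y, x ≠ y → classInner (q x) (q y) = 0)
    (hpu : ∀ l m, classInner (p l) (u m) = 0)
    (hpq : ∀ l x, classInner (p l) (q x) = 0)
    (huq : ∀ l x, classInner (u l) (q x) = 0)
    (T : G → ℂ) (hT : IsGeneralizedCharacter G T) (hk : classInner T T = 3) :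
    ∃ (P U : Fin 3 → ℤ) (Q : κ → ℤ) (r : ℕ) (R : G → ℂ),
      (∀ l, classInner T (p l) = P l) ∧ (∀ l, classInner T (u l) = U l) ∧
      (∀ x, classInner T (q x) = Q x) ∧
      (∑ x, Q x ^ 2) + (P 0 ^ 2 + P 1 ^ 2 + P 2 ^ 2) + (U 0 ^ 2 + U 1 ^ 2 + U 2 ^ 2) + (r : ℤ) = 3 ∧
      T = R + (∑ l, P l • p l + ∑ l, U l • u l + ∑ x, Q x • q x) ∧
      IsGeneralizedCharacter G R ∧ classInner R R = r ∧
      (∀ l, classInner R (p l) = 0) ∧ (∀ l, classInner R (u l) = 0) ∧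
      (∀ x, classInner R (q x) = 0) := by
  classical
  have hup : ∀ l m, classInner (u l) (p m) = 0 := fun l m => by
    rw [(hp m).inner_symm (hu l)]; exact hpu m l
  have hqp : ∀ x l, classInner (q x) (p l) = 0 := fun x l => by
    rw [(hp l).inner_symm (hq x)]; exact hpq l x
  have hqu : ∀ x l, classInner (q x) (u l) = 0 := fun x l => by
    rw [(hu l).inner_symm (hq x)]; exact huq l x
  obtain ⟨n, r, R, hn, hsq, hTeq, hRgen, hRnorm, hRorth⟩ :=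
    coords (Sum.elim p (Sum.elim u q)) (by rintro (l | l | x) <;> simp [hp, hu, hq])
      (by
        rintro (l | l | x) (m | m | y) h
        · exact hpp l m (fun h' => h (by rw [h']))
        · exact hpu l m
        · exact hpq l y
        · exact hup l m
        · exact huu l m (fun h' => h (by rw [h']))
        · exact huq l y
        · exact hqp x m
        · exact hqu x m
        · exact hqq x y (fun h' => h (by rw [h'])))
      T hT 3 (by rw [hk]; norm_num)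
  refine ⟨fun l => n (Sum.inl l), fun l => n (Sum.inr (Sum.inl l)),
    fun x => n (Sum.inr (Sum.inr x)), r, R, fun l => hn (Sum.inl l),
    fun l => hn (Sum.inr (Sum.inl l)), fun x => hn (Sum.inr (Sum.inr x)), ?_, ?_, hRgen, hRnorm,
    fun l => hRorth (Sum.inl l), fun l => hRorth (Sum.inr (Sum.inl l)),
    fun x => hRorth (Sum.inr (Sum.inr x))⟩
  · rw [Fintype.sum_sum_type, Fintype.sum_sum_type, Fin.sum_univ_three, Fin.sum_univ_three] at hsq
    have h3 : ((3 : ℕ) : ℤ) = 3 := by norm_num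
    rw [h3] at hsq
    linarith
  · rw [hTeq, Fintype.sum_sum_type, Fintype.sum_sum_type]
    simp only [Sum.elim_inl, Sum.elim_inr]
    abel

end Coords

section NPcore

variable {G : Type*} [Group G] [Fintype G]

theorem np_core (S T : Fin 3 → G → ℂ) (S₃ T₃ a : G → ℂ) (p u : Fin 3 → G → ℂ)
    (gT : ∀ l, IsGeneralizedCharacter G (T l)) (gT₃ : IsGeneralizedCharacter G T₃)
    (nT : ∀ l, classInner (T l) (T l) = 3) (nT₃ : classInner T₃ T₃ = 3)
    (TT : ∀ l m, l ≠ m → classInner (T l) (T m) = 1) (TT₃ : ∀ l, classInner (T l) T₃ = 1)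
    (TS : ∀ l m, classInner (T l) (S m) = if l = m then 1 else 0)
    (TS₃ : ∀ l, classInner (T l) S₃ = 0)
    (T₃S : ∀ l, classInner T₃ (S l) = 0) (T₃S₃ : classInner T₃ S₃ = 1)
    (ha : SIrr G a) (hp : ∀ l, SIrr G (p l)) (hu : ∀ l, SIrr G (u l))
    (hap : ∀ l, classInner a (p l) = 0) (hau : ∀ l, classInner a (u l) = 0)
    (hpp : ∀ l m, l ≠ m → classInner (p l) (p m) = 0)
    (huu : ∀ l m, l ≠ m → classInner (u l) (u m) = 0)
    (hpu : ∀ l m, classInner (p l) (u m) = 0)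
    (hS : ∀ l, S l = a + p l + u l) (hS₃ : S₃ = p 0 + p 1 + p 2) : False := by
  classical
  have F := irrFacts G
  have hpa : ∀ l, classInner (p l) a = 0 := fun l => by rw [ha.inner_symm (hp l)]; exact hap l
  have hua : ∀ l, classInner (u l) a = 0 := fun l => by rw [ha.inner_symm (hu l)]; exact hau l
  -- Step 1: coordinates of T₃
  obtain ⟨P, U, Q, r, R, hP, hU, hQ, hsq, hTeq, hRgen, hRnorm, hRp, hRu, hRq⟩ :=
    coords_puq p u (fun _ : Fin 1 => a) hp hu (fun _ => ha) hpp huu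
      (by intro x y h; exact absurd (Subsingleton.elim x y) h) hpu (fun l _ => hpa l)
      (fun l _ => hua l) T₃ gT₃ nT₃
  have e1 : ∀ l, Q 0 + P l + U l = 0 := by
    intro l
    have := T₃S l
    rw [hS, Helper26.classInner_add_right, Helper26.classInner_add_right, hQ 0, hP, hU] at this
    exact_mod_cast this
  have e2 : P 0 + P 1 + P 2 = 1 := by
    have := T₃S₃
    rw [hS₃, Helper26.classInner_add_right, Helper26.classInner_add_right, hP, hP, hP] at this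
    exact_mod_cast this
  rw [Fin.sum_univ_one] at hsq
  obtain ⟨hA0, hr1, hcases⟩ := np_int1 (Q 0) (P 0) (P 1) (P 2) (U 0) (U 1) (U 2) r
    (by positivity) (e1 0) (e1 1) (e1 2) e2 hsq
  obtain ⟨i, hPi, hUi, hrest⟩ : ∃ i, P i = 1 ∧ U i = -1 ∧ ∀ m, m ≠ i → P m = 0 ∧ U m = 0 := by
    rcases hcases with h | h | h
    · refine ⟨0, h.1, h.2.1, ?_⟩
      intro m hm
      fin_cases m
      · exact absurd rfl hm
      · exact ⟨h.2.2.1, h.2.2.2.1⟩
      · exact ⟨h.2.2.2.2.1, h.2.2.2.2.2⟩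
    · refine ⟨1, h.1, h.2.1, ?_⟩
      intro m hm
      fin_cases m
      · exact ⟨h.2.2.1, h.2.2.2.1⟩
      · exact absurd rfl hm
      · exact ⟨h.2.2.2.2.1, h.2.2.2.2.2⟩
    · refine ⟨2, h.1, h.2.1, ?_⟩
      intro m hm
      fin_cases m
      · exact ⟨h.2.2.1, h.2.2.2.1⟩
      · exact ⟨h.2.2.2.2.1, h.2.2.2.2.2⟩
      · exact absurd rfl hm
  -- Step 2: the residual `R` is a signed irreducible orthogonal to everything
  have hw : SIrr G R := sirr_of_norm_one hRgen (by rw [hRnorm]; exact_mod_cast hr1)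
  have hRa : classInner R a = 0 := hRq 0
  have haR : classInner a R = 0 := by rw [hw.inner_symm ha]; exact hRa
  have hpR : ∀ l, classInner (p l) R = 0 := fun l => by rw [hw.inner_symm (hp l)]; exact hRp l
  have huR : ∀ l, classInner (u l) R = 0 := fun l => by rw [hw.inner_symm (hu l)]; exact hRu l
  have hT₃eq : T₃ = R + (p i - u i) := by
    have s1 : ∑ l, P l • p l = p i := by
      rw [Finset.sum_eq_single i]
      · rw [hPi, one_smul]
      · intro m _ hm; rw [(hrest m hm).1, zero_smul]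
      · intro h; exact absurd (Finset.mem_univ i) h
    have s2 : ∑ l, U l • u l = - u i := by
      rw [Finset.sum_eq_single i]
      · rw [hUi, neg_smul, one_smul]
      · intro m _ hm; rw [(hrest m hm).2, zero_smul]
      · intro h; exact absurd (Finset.mem_univ i) h
    have s3 : ∑ x : Fin 1, Q x • (fun _ : Fin 1 => a) x = 0 := by
      rw [Fin.sum_univ_one, hA0, zero_smul]
    rw [hTeq, s1, s2, s3]; abel
  -- Step 3: coordinates with respect to the eight-element family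
  have hq : ∀ x : Fin 2, SIrr G (![a, R] x) := by
    intro x; fin_cases x
    · exact ha
    · exact hw
  have hqq : ∀ x y : Fin 2, x ≠ y → classInner (![a, R] x) (![a, R] y) = 0 := by
    intro x y h
    fin_cases x <;> fin_cases y
    · exact absurd rfl h
    · exact haR
    · exact hRa
    · exact absurd rfl h
  have hpq : ∀ l (x : Fin 2), classInner (p l) (![a, R] x) = 0 := by
    intro l x; fin_cases x
    · exact hpa l
    · exact hpR l
  have huq : ∀ l (x : Fin 2), classInner (u l) (![a, R] x) = 0 := by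
    intro l x; fin_cases x
    · exact hua l
    · exact huR l
  have key : ∀ j, ∃ (A W : ℤ) (P U : Fin 3 → ℤ) (r : ℕ),
      (∀ m, classInner (T j) (p m) = P m) ∧ (∀ m, classInner (T j) (u m) = U m) ∧
      (∀ m, A + P m + U m = if j = m then 1 else 0) ∧ P 0 + P 1 + P 2 = 0 ∧
      P i - U i + W = 1 ∧
      A ^ 2 + (P 0 ^ 2 + P 1 ^ 2 + P 2 ^ 2) + (U 0 ^ 2 + U 1 ^ 2 + U 2 ^ 2) + W ^ 2 + (r : ℤ) = 3 ∧
      (r = 0 → T j = ∑ l, P l • p l + ∑ l, U l • u l + (A • a + W • R)) := by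
    intro j
    obtain ⟨P, U, Q, r, R', hP, hU, hQ, hsq, hTeq, hR'gen, hR'norm, -, -, -⟩ :=
      coords_puq p u ![a, R] hp hu hq hpp huu hqq hpu hpq huq (T j) (gT j) (nT j)
    have hQ0 : classInner (T j) a = Q 0 := hQ 0
    have hQ1 : classInner (T j) R = Q 1 := hQ 1
    refine ⟨Q 0, Q 1, P, U, r, hP, hU, ?_, ?_, ?_, ?_, ?_⟩
    · intro m
      have := TS j m
      rw [hS, Helper26.classInner_add_right, Helper26.classInner_add_right, hQ0, hP, hU] at this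
      split_ifs at this ⊢ <;> exact_mod_cast this
    · have := TS₃ j
      rw [hS₃, Helper26.classInner_add_right, Helper26.classInner_add_right, hP, hP, hP] at this
      exact_mod_cast this
    · have := TT₃ j
      rw [hT₃eq, Helper26.classInner_add_right, Helper26.classInner_sub_right, hQ1, hP, hU] at this
      have h' : (Q 1 : ℤ) + (P i - U i) = 1 := by exact_mod_cast this
      linarith
    · rw [Fin.sum_univ_two] at hsq
      linarith
    · intro hr0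
      have hR0 : R' = 0 := Helper26.classInner_self_eq_zero (by rw [hR'norm, hr0]; simp)
      rw [hTeq, hR0, zero_add, Fin.sum_univ_two]
      rfl
  -- Step 4: `T i`
  have hno : ∀ k l, i ≠ k → i ≠ l → k ≠ l → T i = p i - p k + u k → False := by
    intro k l hik hil hkl hTi
    obtain ⟨A, W, P, U, r, hP, hU, eS, eS₃, eT₃, hsq, -⟩ := key l
    have h0 := eS i
    rw [if_neg (Ne.symm hil)] at h0
    have h1 := eS k
    rw [if_neg (Ne.symm hkl)] at h1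
    have h2 := eS l
    rw [if_pos rfl] at h2
    have h3 : P i + P k + P l = 0 := by rw [← sum3 P i k l hik hil hkl]; exact eS₃
    have h5 : P i - P k + U k = 1 := by
      have := TT l i (Ne.symm hil)
      rw [hTi, Helper26.classInner_add_right, Helper26.classInner_sub_right, hP, hP, hU] at this
      exact_mod_cast this
    have hsq' : A ^ 2 + (P i ^ 2 + P k ^ 2 + P l ^ 2) + (U i ^ 2 + U k ^ 2 + U l ^ 2) + W ^ 2
        + (r : ℤ) = 3 := by
      rw [← sum3 (fun m => P m ^ 2) i k l hik hil hkl, ← sum3 (fun m => U m ^ 2) i k l hik hil hkl]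
      exact hsq
    exact np_int3 A (P i) (P k) (P l) (U i) (U k) (U l) W r (by positivity) h0 h1 h2 h3 eT₃ h5 hsq'
  obtain ⟨k, l, hik, hil, hkl⟩ := exists_others i
  obtain ⟨A, W, P, U, r, hP, hU, eS, eS₃, eT₃, hsq, hTi⟩ := key i
  have h0 := eS i
  rw [if_pos rfl] at h0
  have h1 := eS k
  rw [if_neg hik] at h1
  have h2 := eS l
  rw [if_neg hil] at h2
  have h3 : P i + P k + P l = 0 := by rw [← sum3 P i k l hik hil hkl]; exact eS₃
  have hsq' : A ^ 2 + (P i ^ 2 + P k ^ 2 + P l ^ 2) + (U i ^ 2 + U k ^ 2 + U l ^ 2) + W ^ 2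
      + (r : ℤ) = 3 := by
    rw [← sum3 (fun m => P m ^ 2) i k l hik hil hkl, ← sum3 (fun m => U m ^ 2) i k l hik hil hkl]
    exact hsq
  obtain ⟨hA, hr0, hW, hPi', hUi', hc⟩ :=
    np_int2 A (P i) (P k) (P l) (U i) (U k) (U l) W r (by positivity) h0 h1 h2 h3 eT₃ hsq'
  have hTi' := hTi (by exact_mod_cast hr0)
  rw [Fin.sum_univ_three, Fin.sum_univ_three, sum3 (fun m => P m • p m) i k l hik hil hkl,
    sum3 (fun m => U m • u m) i k l hik hil hkl, hA, hW, hPi', hUi'] at hTi'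
  rcases hc with ⟨c1, c2, c3, c4⟩ | ⟨c1, c2, c3, c4⟩
  · apply hno k l hik hil hkl
    rw [hTi', c1, c2, c3, c4]
    simp only [one_smul, neg_smul, zero_smul, add_zero, zero_add]
    abel
  · apply hno l k hil hik (Ne.symm hkl)
    rw [hTi', c1, c2, c3, c4]
    simp only [one_smul, neg_smul, zero_smul, add_zero, zero_add]
    abel

end NPcore

section Rows

variable {G : Type*} [Group G] [Fintype G]

/-- two distinct constituents of a generalized character of norm `3` and the third one -/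
theorem tri_of_two {β f g : G → ℂ} (hβ : IsGeneralizedCharacter G β) (h3 : classInner β β = 3)
    (hf : SIrr G f) (hg : SIrr G g) (hβf : classInner β f = 1) (hβg : classInner β g = 1)
    (hfg : f ≠ g) : Tri β f g (β - f - g) := by
  obtain ⟨e₁, e₂, e₃, hT⟩ := exists_tri β hβ h3
  have key : ∀ {e₁ e₂ e₃ : G → ℂ}, Tri β e₁ e₂ e₃ → Tri β e₁ e₂ (β - e₁ - e₂) := by
    intro e₁ e₂ e₃ hT
    have : β - e₁ - e₂ = e₃ := by rw [hT.eq]; abel
    rw [this]; exact hT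
  rcases hT.mem_of_coef_one hf hβf with h | h | h <;>
    rcases hT.mem_of_coef_one hg hβg with h' | h' | h' <;> subst h <;> subst h'
  · exact absurd rfl hfg
  · exact key hT
  · exact key hT.perm₂₃
  · exact key hT.perm₁₂
  · exact absurd rfl hfg
  · exact key hT.perm₁₂.perm₂₃
  · exact key hT.perm₁₃.perm₂₃
  · exact key hT.perm₁₃
  · exact absurd rfl hfg

/-- two rows of an array of generalized characters with the Feit–Thompson Gram matrix -/
structure Arr2 {ι : Type*} (S T : ι → G → ℂ) : Prop where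
  gS : ∀ j, IsGeneralizedCharacter G (S j)
  gT : ∀ j, IsGeneralizedCharacter G (T j)
  nS : ∀ j, classInner (S j) (S j) = 3
  nT : ∀ j, classInner (T j) (T j) = 3
  SS : ∀ j l, j ≠ l → classInner (S j) (S l) = 1
  TT : ∀ j l, j ≠ l → classInner (T j) (T l) = 1
  TSd : ∀ j, classInner (T j) (S j) = 1
  TS : ∀ j l, j ≠ l → classInner (T j) (S l) = 0

variable {ι : Type*} {S T : ι → G → ℂ}

theorem Arr2.swap (h : Arr2 S T) : Arr2 T S where
  gS := h.gT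
  gT := h.gS
  nS := h.nT
  nT := h.nS
  SS := h.TT
  TT := h.SS
  TSd := fun j => by rw [gen_inner_comm (h.gT j) (h.gS j)]; exact h.TSd j
  TS := fun j l hjl => by rw [gen_inner_comm (h.gT l) (h.gS j)]; exact h.TS l j (Ne.symm hjl)

theorem Arr2.comp (h : Arr2 S T) {κ : Type*} (f : κ → ι) (hf : Function.Injective f) :
    Arr2 (fun x => S (f x)) (fun x => T (f x)) where
  gS := fun j => h.gS _
  gT := fun j => h.gT _
  nS := fun j => h.nS _
  nT := fun j => h.nT _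
  SS := fun j l hjl => h.SS _ _ (fun h' => hjl (hf h'))
  TT := fun j l hjl => h.TT _ _ (fun h' => hjl (hf h'))
  TSd := fun j => h.TSd _
  TS := fun j l hjl => h.TS _ _ (fun h' => hjl (hf h'))

theorem Arr2.common (h : Arr2 S T) {j l : ι} (hjl : j ≠ l) :
    ∃ e, SIrr G e ∧ classInner (S j) e = 1 ∧ classInner (S l) e = 1 ∧
      (∀ f, SIrr G f → classInner (S j) f = 1 → f ≠ e → classInner (S l) f = 0) ∧
      (∀ g, SIrr G g → classInner (S l) g = 1 → g ≠ e → classInner (S j) g = 0) :=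
  f1cons (h.gS j) (h.gS l) (h.gT j) (h.nS j) (h.nS l) (h.SS j l hjl) (h.TSd j) (h.TS j l hjl)

theorem Arr2.common_unique (h : Arr2 S T) {j l : ι} (hjl : j ≠ l) {f g : G → ℂ}
    (hf : SIrr G f) (hg : SIrr G g) (hjf : classInner (S j) f = 1)
    (hlf : classInner (S l) f = 1) (hjg : classInner (S j) g = 1)
    (hlg : classInner (S l) g = 1) : f = g := by
  obtain ⟨e, he, hje, hle, h1, h2⟩ := h.common hjl
  have hfe : f = e := by
    by_contra hne
    have := h1 f hf hjf hne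
    rw [hlf] at this; norm_num at this
  have hge : g = e := by
    by_contra hne
    have := h1 g hg hjg hne
    rw [hlg] at this; norm_num at this
  rw [hfe, hge]

theorem Arr2.other_orth (h : Arr2 S T) {j l : ι} (hjl : j ≠ l) {e f : G → ℂ}
    (he : SIrr G e) (hf : SIrr G f) (hje : classInner (S j) e = 1)
    (hle : classInner (S l) e = 1) (hjf : classInner (S j) f = 1) (hfe : f ≠ e) :
    classInner (S l) f = 0 := by
  obtain ⟨e', he', hje', hle', h1, h2⟩ := h.common hjl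
  have hee : e = e' := by
    by_contra hne
    have := h1 e he hje hne
    rw [hle] at this; norm_num at this
  exact h1 f hf hjf (by rw [← hee]; exact hfe)

/-- the near-pencil configuration is impossible -/
theorem Arr2.np_false (h : Arr2 S T) (c : Fin 3 → ι) (hc : Function.Injective c) (d : ι)
    (hd : ∀ l, c l ≠ d) (a : G → ℂ) (ha : SIrr G a) (hac : ∀ l, classInner (S (c l)) a = 1)
    (had : classInner (S d) a ≠ 1) : False := by
  classical
  have hex : ∀ l, ∃ e, SIrr G e ∧ classInner (S (c l)) e = 1 ∧ classInner (S d) e = 1 :=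
    fun l => by
      obtain ⟨e, he, h1, h2, -, -⟩ := h.common (hd l)
      exact ⟨e, he, h1, h2⟩
  choose p hp hcp hdp using hex
  have hpa : ∀ l, p l ≠ a := by
    intro l hl
    apply had
    rw [← hl]; exact hdp l
  have hcne : ∀ l m, l ≠ m → c l ≠ c m := fun l m hlm h' => hlm (hc h')
  have hpinj : ∀ l m, l ≠ m → p l ≠ p m := by
    intro l m hlm hpp
    apply hpa l
    exact h.common_unique (hcne l m hlm) (hp l) ha (hcp l) (by rw [hpp]; exact hcp m) (hac l)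
      (hac m)
  have hTd : Tri (S d) (p 0) (p 1) (p 2) :=
    eq_sum_of_three (h.gS d) (h.nS d) (hp 0) (hp 1) (hp 2) (hdp 0) (hdp 1) (hdp 2)
      (hpinj 0 1 (by decide)) (hpinj 0 2 (by decide)) (hpinj 1 2 (by decide))
  have hTc : ∀ l, Tri (S (c l)) a (p l) (S (c l) - a - p l) := fun l =>
    tri_of_two (h.gS _) (h.nS _) ha (hp l) (hac l) (hcp l) (Ne.symm (hpa l))
  have hpp : ∀ l m, l ≠ m → classInner (p l) (p m) = 0 := fun l m hlm =>
    con_orth (h.gS d) (h.nS d) (hp l) (hp m) (hdp l) (hdp m) (hpinj l m hlm)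
  have hu : ∀ l, SIrr G (S (c l) - a - p l) := fun l => (hTc l).h₃
  have hua : ∀ l, S (c l) - a - p l ≠ a := by
    intro l hl
    have h1 := (hTc l).o₁₃
    rw [hl, ha.norm] at h1
    norm_num at h1
  have hSp : ∀ l m, l ≠ m → classInner (S (c l)) (p m) = 0 := fun l m hlm =>
    h.other_orth (hcne m l (Ne.symm hlm)) ha (hp m) (hac m) (hac l) (hcp m) (hpa m)
  have hSu : ∀ l m, l ≠ m → classInner (S (c l)) (S (c m) - a - p m) = 0 := fun l m hlm =>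
    h.other_orth (hcne m l (Ne.symm hlm)) ha (hu m) (hac m) (hac l) (hTc m).c₃ (hua m)
  have hup : ∀ l m, classInner (S (c l) - a - p l) (p m) = 0 := by
    intro l m
    by_cases hlm : l = m
    · subst hlm; exact (hTc l).o₃₂
    · rw [Helper26.classInner_sub_left, Helper26.classInner_sub_left, hSp l m hlm,
        (hTc m).o₁₂, hpp l m hlm]
      ring
  have hpu : ∀ l m, classInner (p l) (S (c m) - a - p m) = 0 := fun l m => by
    rw [(hu m).inner_symm (hp l)]; exact hup m l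
  have huu : ∀ l m, l ≠ m → classInner (S (c l) - a - p l) (S (c m) - a - p m) = 0 := by
    intro l m hlm
    rw [Helper26.classInner_sub_left, Helper26.classInner_sub_left, hSu l m hlm,
      (hTc m).o₁₃, hpu l m]
    ring
  refine np_core (fun l => S (c l)) (fun l => T (c l)) (S d) (T d) a p
    (fun l => S (c l) - a - p l) (fun l => h.gT _) (h.gT d) (fun l => h.nT _) (h.nT d)
    (fun l m hlm => h.TT _ _ (hcne l m hlm)) (fun l => h.TT _ _ (hd l)) ?_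
    (fun l => h.TS _ _ (hd l)) (fun l => h.TS _ _ (Ne.symm (hd l))) (h.TSd d) ha hp hu
    (fun l => (hTc l).o₁₂) (fun l => (hTc l).o₁₃) hpp huu hpu (fun l => by abel) hTd.eq
  intro l m
  by_cases hlm : l = m
  · subst hlm; rw [if_pos rfl]; exact h.TSd _
  · rw [if_neg hlm]; exact h.TS _ _ (hcne l m hlm)

/-- a signed irreducible occurring in three entries of a row occurs in all of them -/
theorem Arr2.three_imp_all (h : Arr2 S T) {j k l : ι} (hjk : j ≠ k) (hjl : j ≠ l) (hkl : k ≠ l)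
    {a : G → ℂ} (ha : SIrr G a) (h1 : classInner (S j) a = 1) (h2 : classInner (S k) a = 1)
    (h3 : classInner (S l) a = 1) (m : ι) : classInner (S m) a = 1 := by
  by_contra hm
  have hmj : j ≠ m := fun h' => hm (by rw [← h']; exact h1)
  have hmk : k ≠ m := fun h' => hm (by rw [← h']; exact h2)
  have hml : l ≠ m := fun h' => hm (by rw [← h']; exact h3)
  refine h.np_false ![j, k, l] ?_ m ?_ a ha ?_ hm
  · intro x y hxy
    fin_cases x <;> fin_cases y <;> simp_all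
  · intro x; fin_cases x
    · exact hmj
    · exact hmk
    · exact hml
  · intro x; fin_cases x
    · exact h1
    · exact h2
    · exact h3

/-- the quadrilateral configuration is impossible (parity) -/
theorem k4_false {T₀ x₀₁ x₀₂ x₀₃ x₁₂ x₁₃ x₂₃ : G → ℂ} (hT : IsGeneralizedCharacter G T₀)
    (h₀₁ : SIrr G x₀₁) (h₀₂ : SIrr G x₀₂) (h₀₃ : SIrr G x₀₃) (h₁₂ : SIrr G x₁₂)
    (h₁₃ : SIrr G x₁₃) (h₂₃ : SIrr G x₂₃)
    (e0 : classInner T₀ (x₀₁ + x₀₂ + x₀₃) = 1) (e1 : classInner T₀ (x₀₁ + x₁₂ + x₁₃) = 0)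
    (e2 : classInner T₀ (x₀₂ + x₁₂ + x₂₃) = 0) (e3 : classInner T₀ (x₀₃ + x₁₃ + x₂₃) = 0) :
    False := by
  obtain ⟨n₀₁, hn₀₁, -⟩ := inner_int' hT h₀₁.gen
  obtain ⟨n₀₂, hn₀₂, -⟩ := inner_int' hT h₀₂.gen
  obtain ⟨n₀₃, hn₀₃, -⟩ := inner_int' hT h₀₃.gen
  obtain ⟨n₁₂, hn₁₂, -⟩ := inner_int' hT h₁₂.gen
  obtain ⟨n₁₃, hn₁₃, -⟩ := inner_int' hT h₁₃.gen
  obtain ⟨n₂₃, hn₂₃, -⟩ := inner_int' hT h₂₃.gen
  rw [Helper26.classInner_add_right, Helper26.classInner_add_right] at e0 e1 e2 e3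
  rw [hn₀₁, hn₀₂, hn₀₃] at e0
  rw [hn₀₁, hn₁₂, hn₁₃] at e1
  rw [hn₀₂, hn₁₂, hn₂₃] at e2
  rw [hn₀₃, hn₁₃, hn₂₃] at e3
  have f0 : n₀₁ + n₀₂ + n₀₃ = 1 := by exact_mod_cast e0
  have f1 : n₀₁ + n₁₂ + n₁₃ = 0 := by exact_mod_cast e1
  have f2 : n₀₂ + n₁₂ + n₂₃ = 0 := by exact_mod_cast e2
  have f3 : n₀₃ + n₁₃ + n₂₃ = 0 := by exact_mod_cast e3
  omega

/-- the entries of a row (with at least four columns) have a common constituent -/
theorem Arr2.row (h : Arr2 S T) {j₀ j₁ j₂ j₃ : ι} (h₀₁ : j₀ ≠ j₁) (h₀₂ : j₀ ≠ j₂) (h₀₃ : j₀ ≠ j₃)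
    (h₁₂ : j₁ ≠ j₂) (h₁₃ : j₁ ≠ j₃) (h₂₃ : j₂ ≠ j₃) :
    ∃ a, SIrr G a ∧ ∀ m, classInner (S m) a = 1 := by
  obtain ⟨x₀₁, s₀₁, a₀₁, b₀₁, -, -⟩ := h.common h₀₁
  obtain ⟨x₀₂, s₀₂, a₀₂, b₀₂, -, -⟩ := h.common h₀₂
  obtain ⟨x₀₃, s₀₃, a₀₃, b₀₃, -, -⟩ := h.common h₀₃
  obtain ⟨x₁₂, s₁₂, a₁₂, b₁₂, -, -⟩ := h.common h₁₂
  obtain ⟨x₁₃, s₁₃, a₁₃, b₁₃, -, -⟩ := h.common h₁₃
  obtain ⟨x₂₃, s₂₃, a₂₃, b₂₃, -, -⟩ := h.common h₂₃
  -- vertex 0
  by_cases e1 : x₀₁ = x₀₂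
  · exact ⟨x₀₁, s₀₁, h.three_imp_all h₀₁ h₀₂ h₁₂ s₀₁ a₀₁ b₀₁ (by rw [e1]; exact b₀₂)⟩
  by_cases e2 : x₀₁ = x₀₃
  · exact ⟨x₀₁, s₀₁, h.three_imp_all h₀₁ h₀₃ h₁₃ s₀₁ a₀₁ b₀₁ (by rw [e2]; exact b₀₃)⟩
  by_cases e3 : x₀₂ = x₀₃
  · exact ⟨x₀₂, s₀₂, h.three_imp_all h₀₂ h₀₃ h₂₃ s₀₂ a₀₂ b₀₂ (by rw [e3]; exact b₀₃)⟩
  -- vertex 1
  by_cases e4 : x₀₁ = x₁₂
  · exact ⟨x₀₁, s₀₁, h.three_imp_all h₀₁ h₀₂ h₁₂ s₀₁ a₀₁ b₀₁ (by rw [e4]; exact b₁₂)⟩
  by_cases e5 : x₀₁ = x₁₃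
  · exact ⟨x₀₁, s₀₁, h.three_imp_all h₀₁ h₀₃ h₁₃ s₀₁ a₀₁ b₀₁ (by rw [e5]; exact b₁₃)⟩
  by_cases e6 : x₁₂ = x₁₃
  · exact ⟨x₁₂, s₁₂, h.three_imp_all h₁₂ h₁₃ h₂₃ s₁₂ a₁₂ b₁₂ (by rw [e6]; exact b₁₃)⟩
  -- vertex 2
  by_cases e7 : x₀₂ = x₁₂
  · exact ⟨x₀₂, s₀₂, h.three_imp_all h₀₁ h₀₂ h₁₂ s₀₂ a₀₂ (by rw [e7]; exact a₁₂) b₀₂⟩
  by_cases e8 : x₀₂ = x₂₃
  · exact ⟨x₀₂, s₀₂, h.three_imp_all h₀₂ h₀₃ h₂₃ s₀₂ a₀₂ b₀₂ (by rw [e8]; exact b₂₃)⟩
  by_cases e9 : x₁₂ = x₂₃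
  · exact ⟨x₁₂, s₁₂, h.three_imp_all h₁₂ h₁₃ h₂₃ s₁₂ a₁₂ b₁₂ (by rw [e9]; exact b₂₃)⟩
  -- vertex 3
  by_cases e10 : x₀₃ = x₁₃
  · exact ⟨x₀₃, s₀₃, h.three_imp_all h₀₁ h₀₃ h₁₃ s₀₃ a₀₃ (by rw [e10]; exact a₁₃) b₀₃⟩
  by_cases e11 : x₀₃ = x₂₃
  · exact ⟨x₀₃, s₀₃, h.three_imp_all h₀₂ h₀₃ h₂₃ s₀₃ a₀₃ (by rw [e11]; exact a₂₃) b₀₃⟩
  by_cases e12 : x₁₃ = x₂₃
  · exact ⟨x₁₃, s₁₃, h.three_imp_all h₁₂ h₁₃ h₂₃ s₁₃ a₁₃ (by rw [e12]; exact a₂₃) b₁₃⟩
  -- the quadrilateral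
  exfalso
  have t0 : Tri (S j₀) x₀₁ x₀₂ x₀₃ :=
    eq_sum_of_three (h.gS _) (h.nS _) s₀₁ s₀₂ s₀₃ a₀₁ a₀₂ a₀₃ e1 e2 e3
  have t1 : Tri (S j₁) x₀₁ x₁₂ x₁₃ :=
    eq_sum_of_three (h.gS _) (h.nS _) s₀₁ s₁₂ s₁₃ b₀₁ a₁₂ a₁₃ e4 e5 e6
  have t2 : Tri (S j₂) x₀₂ x₁₂ x₂₃ :=
    eq_sum_of_three (h.gS _) (h.nS _) s₀₂ s₁₂ s₂₃ b₀₂ b₁₂ a₂₃ e7 e8 e9
  have t3 : Tri (S j₃) x₀₃ x₁₃ x₂₃ :=
    eq_sum_of_three (h.gS _) (h.nS _) s₀₃ s₁₃ s₂₃ b₀₃ b₁₃ b₂₃ e10 e11 e12
  refine k4_false (h.gT j₀) s₀₁ s₀₂ s₀₃ s₁₂ s₁₃ s₂₃ ?_ ?_ ?_ ?_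
  · rw [← t0.eq]; exact h.TSd j₀
  · rw [← t1.eq]; exact h.TS _ _ h₀₁
  · rw [← t2.eq]; exact h.TS _ _ h₀₂
  · rw [← t3.eq]; exact h.TS _ _ h₀₃

end Rows

end Cfsg.Agent.Lib.Helper25
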