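import Mathlib
import Cfsg.Agent.Lib.Helper25.CycNP

/-!
Decomposition of an array of generalized characters with the Feit–Thompson Gram matrix
(Feit–Thompson 13.1 / Peterfalvi 3.2 combinatorics), helper25.
-/

set_option autoImplicit false
set_option linter.unusedSectionVars false
set_option linter.unusedVariables false

namespace Cfsg.Agent.Lib.Helper25

open Cfsg Cfsg.Agent.Lib.Helper26
open scoped ComplexConjugate

section Decomp

variable {G : Type*} [Group G] [Fintype G]

theorem exists_three_avoiding {J : Type*} (f : Fin 4 → J) (hf : Function.Injective f) (j : J) :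
    ∃ g : Fin 3 → J, Function.Injective g ∧ ∀ x, g x ≠ j := by
  by_cases h : ∃ y, f y = j
  · obtain ⟨y, rfl⟩ := h
    exact ⟨f ∘ y.succAbove, hf.comp Fin.succAbove_right_injective,
      fun x h' => Fin.succAbove_ne y x (hf h')⟩
  · push Not at h
    exact ⟨f ∘ Fin.castSucc, hf.comp (Fin.castSucc_injective _), fun x => h _⟩

theorem pigeon3 {A B : Fin 3 → Prop} (h : ∀ x, A x ∨ B x) :
    ∃ x y, x ≠ y ∧ ((A x ∧ A y) ∨ (B x ∧ B y)) := by
  rcases h 0 with a0 | b0 <;> rcases h 1 with a1 | b1 <;> rcases h 2 with a2 | b2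
  · exact ⟨0, 1, by decide, Or.inl ⟨a0, a1⟩⟩
  · exact ⟨0, 1, by decide, Or.inl ⟨a0, a1⟩⟩
  · exact ⟨0, 2, by decide, Or.inl ⟨a0, a2⟩⟩
  · exact ⟨1, 2, by decide, Or.inr ⟨b1, b2⟩⟩
  · exact ⟨1, 2, by decide, Or.inl ⟨a1, a2⟩⟩
  · exact ⟨0, 2, by decide, Or.inr ⟨b0, b2⟩⟩
  · exact ⟨0, 1, by decide, Or.inr ⟨b0, b1⟩⟩
  · exact ⟨0, 1, by decide, Or.inr ⟨b0, b1⟩⟩

theorem two_int (c d r : ℤ) (hr : 0 ≤ r) (hs : c + d = -1) (hsq : 1 ^ 2 + c ^ 2 + d ^ 2 + r = 3) :
    (c = -1 ∧ d = 0) ∨ (c = 0 ∧ d = -1) := by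
  obtain ⟨b1, b2⟩ := sq_le_three_bound c (by nlinarith [sq_nonneg d])
  have hd : d = -1 - c := by omega
  subst hd
  interval_cases c <;> norm_num at hsq ⊢ <;> omega

/-- a constituent and the two others -/
theorem tri_of_one {β e : G → ℂ} (hβ : IsGeneralizedCharacter G β) (h3 : classInner β β = 3)
    (he : SIrr G e) (hβe : classInner β e = 1) : ∃ f g, Tri β e f g := by
  obtain ⟨e₁, e₂, e₃, hT⟩ := exists_tri β hβ h3
  rcases hT.mem_of_coef_one he hβe with h | h | h <;> subst h
  · exact ⟨_, _, hT⟩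
  · exact ⟨_, _, hT.perm₁₂⟩
  · exact ⟨_, _, hT.perm₁₃⟩

/-- a constituent is orthogonal to a signed irreducible that does not occur -/
theorem con_orth_of_zero {β e f : G → ℂ} (he : SIrr G e) (hf : SIrr G f)
    (hβe : classInner β e = 1) (hβf : classInner β f = 0) : classInner e f = 0 := by
  rcases he.inner_tri hf with h | h | h
  · exfalso
    rw [h.2, hβf] at hβe
    norm_num at hβe
  · exfalso
    rw [h.2, Helper26.classInner_neg_right, hβf] at hβe
    norm_num at hβe
  · exact h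

/-- an array of generalized characters with the Feit–Thompson Gram matrix -/
structure Arr {I J : Type*} (b : I → J → G → ℂ) : Prop where
  gen : ∀ i j, IsGeneralizedCharacter G (b i j)
  norm : ∀ i j, classInner (b i j) (b i j) = 3
  row : ∀ i j j', j ≠ j' → classInner (b i j) (b i j') = 1
  col : ∀ i i' j, i ≠ i' → classInner (b i j) (b i' j) = 1
  off : ∀ i i' j j', i ≠ i' → j ≠ j' → classInner (b i j) (b i' j') = 0

variable {I J : Type*} {b : I → J → G → ℂ}

theorem Arr.transpose (h : Arr b) : Arr (fun j i => b i j) where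
  gen := fun j i => h.gen i j
  norm := fun j i => h.norm i j
  row := fun j i i' hii' => h.col i i' j hii'
  col := fun j j' i hjj' => h.row i j j' hjj'
  off := fun j j' i i' hjj' hii' => h.off i i' j j' hii' hjj'

theorem Arr.rows (h : Arr b) {i i' : I} (hii' : i ≠ i') : Arr2 (b i) (b i') where
  gS := h.gen i
  gT := h.gen i'
  nS := h.norm i
  nT := h.norm i'
  SS := fun j l hjl => h.row i j l hjl
  TT := fun j l hjl => h.row i' j l hjl
  TSd := fun j => h.col i' i j (Ne.symm hii')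
  TS := fun j l hjl => h.off i' i j l (Ne.symm hii') hjl

theorem Arr.cols (h : Arr b) {j j' : J} (hjj' : j ≠ j') :
    Arr2 (fun i => b i j) (fun i => b i j') :=
  h.transpose.rows hjj'

theorem Arr.exists_row (h : Arr b) (fJ : Fin 4 → J) (hfJ : Function.Injective fJ) {i i' : I}
    (hii' : i ≠ i') : ∃ x, SIrr G x ∧ ∀ j, classInner (b i j) x = 1 :=
  (h.rows hii').row (hfJ.ne (by decide : (0 : Fin 4) ≠ 1)) (hfJ.ne (by decide : (0 : Fin 4) ≠ 2))
    (hfJ.ne (by decide : (0 : Fin 4) ≠ 3)) (hfJ.ne (by decide : (1 : Fin 4) ≠ 2))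
    (hfJ.ne (by decide : (1 : Fin 4) ≠ 3)) (hfJ.ne (by decide : (2 : Fin 4) ≠ 3))

theorem Arr.decomp (h : Arr b) (fJ : Fin 4 → J) (hfJ : Function.Injective fJ)
    (hI : (∃ i₀ i₁ : I, i₀ ≠ i₁ ∧ ∀ i, i = i₀ ∨ i = i₁) ∨
      ∃ fI : Fin 4 → I, Function.Injective fI) :
    ∃ (x : I → G → ℂ) (y : J → G → ℂ), (∀ i, SIrr G (x i)) ∧ (∀ j, SIrr G (y j)) ∧
      (∀ i j, classInner (b i j) (x i) = 1) ∧ (∀ i j, classInner (b i j) (y j) = 1) ∧
      (∀ i j, x i ≠ y j) ∧
      (∀ i i' j, i ≠ i' → classInner (b i j) (x i') = 0) ∧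
      (∀ i j j', j ≠ j' → classInner (b i j) (y j') = 0) := by
  classical
  have hI2 : ∀ i : I, ∃ i', i ≠ i' := by
    intro i
    rcases hI with ⟨i₀, i₁, h01, hall⟩ | ⟨fI, hfI⟩
    · by_cases hi : i = i₀
      · exact ⟨i₁, by rw [hi]; exact h01⟩
      · exact ⟨i₀, hi⟩
    · by_cases hi : i = fI 0
      · exact ⟨fI 1, by rw [hi]; exact hfI.ne (by decide)⟩
      · exact ⟨fI 0, hi⟩
  have hJ2 : ∀ j : J, ∃ j', j ≠ j' := by
    intro j
    by_cases hj : j = fJ 0
    · exact ⟨fJ 1, by rw [hj]; exact hfJ.ne (by decide)⟩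
    · exact ⟨fJ 0, hj⟩
  have hexx : ∀ i, ∃ x, SIrr G x ∧ ∀ j, classInner (b i j) x = 1 := by
    intro i
    obtain ⟨i', hii'⟩ := hI2 i
    exact h.exists_row fJ hfJ hii'
  choose x hx hbx using hexx
  have hexy : ∀ j, ∃ y, SIrr G y ∧ ∀ i, classInner (b i j) y = 1 := by
    intro j
    obtain ⟨j', hjj'⟩ := hJ2 j
    rcases hI with ⟨i₀, i₁, h01, hall⟩ | ⟨fI, hfI⟩
    · obtain ⟨e, he, h0, h1, -, -⟩ := (h.cols hjj').common h01
      refine ⟨e, he, ?_⟩
      intro i
      rcases hall i with hi | hi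
      · rw [hi]; exact h0
      · rw [hi]; exact h1
    · exact h.transpose.exists_row fI hfI hjj'
  choose y hy hby using hexy
  have hxy : ∀ i j, x i ≠ y j := by
    intro i j heq
    obtain ⟨i', hii'⟩ := hI2 i
    obtain ⟨f, g, hT⟩ := tri_of_one (h.gen i' j) (h.norm i' j) (hy j) (hby j i')
    obtain ⟨g3, hg3, hg3j⟩ := exists_three_avoiding fJ hfJ j
    have hstep : ∀ t : Fin 3, classInner (b i (g3 t)) (-f) = 1 ∨
        classInner (b i (g3 t)) (-g) = 1 := by
      intro t
      have he1 : classInner (b i (g3 t)) (y j) = ((1 : ℤ) : ℂ) := by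
        rw [← heq, hbx]; simp
      obtain ⟨c, hc, -⟩ := inner_int' (h.gen i (g3 t)) hT.h₂.gen
      obtain ⟨d, hd, -⟩ := inner_int' (h.gen i (g3 t)) hT.h₃.gen
      obtain ⟨r, hr, -⟩ := bessel3 hT.h₁ hT.h₂ hT.h₃ hT.o₁₂ hT.o₁₃ hT.o₂₃ (b i (g3 t))
        (h.gen _ _) 3 (by rw [h.norm]; norm_num) 1 c d he1 hc hd
      have hs : c + d = -1 := by
        have h0 := h.off i i' (g3 t) j hii' (hg3j t)
        rw [hT.inner_eq', he1, hc, hd] at h0
        have : (1 : ℤ) + c + d = 0 := by exact_mod_cast h0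
        linarith
      rcases two_int c d r (by positivity) hs (by exact_mod_cast hr) with ⟨h1, h2⟩ | ⟨h1, h2⟩
      · left
        rw [Helper26.classInner_neg_right, hc, h1]; simp
      · right
        rw [Helper26.classInner_neg_right, hd, h2]; simp
    obtain ⟨t₁, t₂, ht, hcase⟩ := pigeon3 hstep
    have hne : g3 t₁ ≠ g3 t₂ := fun h' => ht (hg3 h')
    have hxi₁ : classInner (b i (g3 t₁)) (y j) = 1 := by rw [← heq]; exact hbx _ _
    have hxi₂ : classInner (b i (g3 t₂)) (y j) = 1 := by rw [← heq]; exact hbx _ _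
    rcases hcase with ⟨h1, h2⟩ | ⟨h1, h2⟩
    · have := (h.rows hii').common_unique hne (hy j) hT.h₂.neg hxi₁ hxi₂ h1 h2
      have h0 := hT.o₁₂
      have h3 := (hy j).norm
      nth_rewrite 2 [this] at h3
      rw [Helper26.classInner_neg_right, h0] at h3
      norm_num at h3
    · have := (h.rows hii').common_unique hne (hy j) hT.h₃.neg hxi₁ hxi₂ h1 h2
      have h0 := hT.o₁₃
      have h3 := (hy j).norm
      nth_rewrite 2 [this] at h3
      rw [Helper26.classInner_neg_right, h0] at h3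
      norm_num at h3
  refine ⟨x, y, hx, hy, hbx, fun i j => hby j i, hxy, ?_, ?_⟩
  · intro i i' j hii'
    obtain ⟨j', hjj'⟩ := hJ2 j
    exact (h.cols hjj').other_orth (Ne.symm hii') (hy j) (hx i') (hby j i') (hby j i)
      (hbx i' j) (hxy i' j)
  · intro i j j' hjj'
    obtain ⟨i', hii'⟩ := hI2 i
    exact (h.rows hii').other_orth (Ne.symm hjj') (hx i) (hy j') (hbx i j') (hbx i j)
      (hby j' i) (Ne.symm (hxy i j'))

/-- the full decomposition `b i j = x i + y j + z i j` into orthonormal signed irreducibles -/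
theorem Arr.decomp_full (h : Arr b) (fJ : Fin 4 → J) (hfJ : Function.Injective fJ)
    (hI : (∃ i₀ i₁ : I, i₀ ≠ i₁ ∧ ∀ i, i = i₀ ∨ i = i₁) ∨
      ∃ fI : Fin 4 → I, Function.Injective fI) :
    ∃ (x : I → G → ℂ) (y : J → G → ℂ) (z : I → J → G → ℂ),
      (∀ i, SIrr G (x i)) ∧ (∀ j, SIrr G (y j)) ∧ (∀ i j, SIrr G (z i j)) ∧
      (∀ i j, b i j = x i + y j + z i j) ∧
      (∀ i i', i ≠ i' → classInner (x i) (x i') = 0) ∧
      (∀ j j', j ≠ j' → classInner (y j) (y j') = 0) ∧
      (∀ i j, classInner (x i) (y j) = 0) ∧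
      (∀ i i' j, classInner (x i') (z i j) = 0) ∧
      (∀ i j j', classInner (y j') (z i j) = 0) ∧
      (∀ i j i' j', (i ≠ i' ∨ j ≠ j') → classInner (z i j) (z i' j') = 0) := by
  classical
  obtain ⟨x, y, hx, hy, hbx, hby, hxy, hbx0, hby0⟩ := h.decomp fJ hfJ hI
  have hne : Nonempty I := by
    rcases hI with ⟨i₀, -, -, -⟩ | ⟨fI, -⟩
    · exact ⟨i₀⟩
    · exact ⟨fI 0⟩
  obtain ⟨i₀⟩ := hne
  have hT : ∀ i j, Tri (b i j) (x i) (y j) (b i j - x i - y j) := fun i j =>
    tri_of_two (h.gen i j) (h.norm i j) (hx i) (hy j) (hbx i j) (hby i j) (hxy i j)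
  have hxx : ∀ i i', i ≠ i' → classInner (x i) (x i') = 0 := fun i i' hii' =>
    con_orth_of_zero (hx i) (hx i') (hbx i (fJ 0)) (hbx0 i i' (fJ 0) hii')
  have hyy : ∀ j j', j ≠ j' → classInner (y j) (y j') = 0 := fun j j' hjj' =>
    con_orth_of_zero (hy j) (hy j') (hby i₀ j) (hby0 i₀ j j' hjj')
  have hxy0 : ∀ i j, classInner (x i) (y j) = 0 := fun i j => (hT i j).o₁₂
  have hyx0 : ∀ i j, classInner (y j) (x i) = 0 := fun i j => (hT i j).o₂₁
  have hzx : ∀ i i' j, classInner (b i j - x i - y j) (x i') = 0 := by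
    intro i i' j
    by_cases hii' : i = i'
    · subst hii'; exact (hT i j).o₃₁
    · rw [Helper26.classInner_sub_left, Helper26.classInner_sub_left, hbx0 i i' j hii',
        hxx i i' hii', hyx0 i' j]
      ring
  have hzy : ∀ i j j', classInner (b i j - x i - y j) (y j') = 0 := by
    intro i j j'
    by_cases hjj' : j = j'
    · subst hjj'; exact (hT i j).o₃₂
    · rw [Helper26.classInner_sub_left, Helper26.classInner_sub_left, hby0 i j j' hjj',
        hyy j j' hjj', hxy0 i j']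
      ring
  refine ⟨x, y, fun i j => b i j - x i - y j, hx, hy, fun i j => (hT i j).h₃,
    fun i j => by show b i j = x i + y j + (b i j - x i - y j); abel, hxx, hyy, hxy0, ?_, ?_, ?_⟩
  · intro i i' j
    show classInner (x i') (b i j - x i - y j) = 0
    rw [(hT i j).h₃.inner_symm (hx i')]; exact hzx i i' j
  · intro i j j'
    show classInner (y j') (b i j - x i - y j) = 0
    rw [(hT i j).h₃.inner_symm (hy j')]; exact hzy i j j'
  · intro i j i' j' hne
    show classInner (b i j - x i - y j) (b i' j' - x i' - y j') = 0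
    have hxb : classInner (x i) (b i' j') = if i = i' then 1 else 0 := by
      rw [← gen_inner_comm (hx i).gen (h.gen i' j')]
      split_ifs with hii'
      · rw [hii']; exact hbx i' j'
      · exact hbx0 i' i j' (Ne.symm hii')
    have hyb : classInner (y j) (b i' j') = if j = j' then 1 else 0 := by
      rw [← gen_inner_comm (hy j).gen (h.gen i' j')]
      split_ifs with hjj'
      · rw [hjj']; exact hby i' j'
      · exact hby0 i' j' j (Ne.symm hjj')
    have hzz : classInner (b i j - x i - y j) (b i' j' - x i' - y j')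
        = classInner (b i j - x i - y j) (b i' j') := by
      rw [Helper26.classInner_sub_right, Helper26.classInner_sub_right, hzx, hzy]; ring
    rw [hzz, Helper26.classInner_sub_left, Helper26.classInner_sub_left, hxb, hyb]
    by_cases hii' : i = i'
    · have hjj' : j ≠ j' := by
        rcases hne with h' | h'
        · exact absurd hii' h'
        · exact h'
      subst hii'
      rw [h.row i j j' hjj', if_pos rfl, if_neg hjj']; ring
    · by_cases hjj' : j = j'
      · subst hjj'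
        rw [h.col i i' j hii', if_neg hii', if_pos rfl]; ring
      · rw [h.off i i' j j' hii' hjj', if_neg hii', if_neg hjj']; ring

end Decomp

end Cfsg.Agent.Lib.Helper25
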