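import Mathlib
import Cfsg.Agent.Lib.Helper22.S1936Defs
import Cfsg.Agent.Lib.Helper47.Subnormal

/-!
# S1936-[EQV/PG] (sheet of helper22, §B3): bookkeeping for `θ(a) = O_p(C_G(a))`
-/

set_option autoImplicit false
set_option linter.unusedSectionVars false
universe u
open Cfsg.Agent.Lib.Helper22.S1936

namespace Cfsg.Agent.Lib.Helper25.S1936

variable {G : Type u} [Group G]

/-- `O_p` of a subgroup commutes with automorphisms of the ambient group (one inclusion). -/
theorem map_pCoreOf_le (p : ℕ) (φ : G ≃* G) (H : Subgroup G) :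
    (Cfsg.pCoreOf p H).map φ.toMonoidHom ≤ Cfsg.pCoreOf p (H.map φ.toMonoidHom) := by
  apply Cfsg.Agent.Lib.Helper47.le_pCoreOf
  · exact Subgroup.map_mono (Cfsg.Agent.Lib.Helper47.pCoreOf_le p H)
  · have h1 : H ≤ Subgroup.normalizer ((Cfsg.pCoreOf p H : Subgroup G) : Set G) :=
      Subgroup.le_normalizer.trans (Cfsg.Agent.Lib.Helper47.normalizer_le_normalizer_pCoreOf p H)
    exact (Subgroup.map_mono h1).trans (Subgroup.le_normalizer_map _)
  · exact (Cfsg.Agent.Lib.Helper47.pCoreOf_isPGroup p H).map _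

/-- `O_p` of a subgroup commutes with automorphisms of the ambient group. -/
theorem pCoreOf_map_equiv (p : ℕ) (φ : G ≃* G) (H : Subgroup G) :
    Cfsg.pCoreOf p (H.map φ.toMonoidHom) = (Cfsg.pCoreOf p H).map φ.toMonoidHom := by
  apply le_antisymm _ (map_pCoreOf_le p φ H)
  have h1 := map_pCoreOf_le p φ.symm (H.map φ.toMonoidHom)
  have h2 : (H.map φ.toMonoidHom).map φ.symm.toMonoidHom = H := by
    ext x
    simp only [Subgroup.mem_map, MulEquiv.coe_toMonoidHom, exists_exists_and_eq_and,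
      MulEquiv.symm_apply_apply, exists_eq_right]
  rw [h2] at h1
  intro x hx
  refine ⟨φ.symm x, h1 ⟨x, hx, rfl⟩, ?_⟩
  simp

/-- `C_G(g a g⁻¹) = g C_G(a) g⁻¹`. -/
theorem centralizer_conj (g a : G) :
    Subgroup.centralizer ({g * a * g⁻¹} : Set G) =
      (Subgroup.centralizer ({a} : Set G)).map (MulAut.conj g).toMonoidHom := by
  ext x
  simp only [Subgroup.mem_centralizer_iff, Set.mem_singleton_iff, forall_eq, Subgroup.mem_map,
    MulEquiv.coe_toMonoidHom, MulAut.conj_apply]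
  constructor
  · intro h
    refine ⟨g⁻¹ * x * g, ?_, by group⟩
    have : g⁻¹ * (g * a * g⁻¹ * x) * g = g⁻¹ * (x * (g * a * g⁻¹)) * g := by rw [h]
    calc a * (g⁻¹ * x * g) = g⁻¹ * (g * a * g⁻¹ * x) * g := by group
      _ = g⁻¹ * (x * (g * a * g⁻¹)) * g := this
      _ = g⁻¹ * x * g * a := by group
  · rintro ⟨y, hy, rfl⟩
    calc g * a * g⁻¹ * (g * y * g⁻¹) = g * (a * y) * g⁻¹ := by group
      _ = g * (y * a) * g⁻¹ := by rw [hy]
      _ = g * y * g⁻¹ * (g * a * g⁻¹) := by group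

variable [Finite G] {p : ℕ} [Fact p.Prime]

/-- SIGF-[EQV] (B3): equivariance of `θ`. -/
theorem theta_conj (g a : G) :
    theta p (g * a * g⁻¹) = (theta p a).map (MulAut.conj g).toMonoidHom := by
  unfold theta
  rw [centralizer_conj, pCoreOf_map_equiv]

/-- SIGF-[PG] (B3): `θ(a)` is a `p`-group inside `C(a)`, normalized by `C(a)`. -/
theorem theta_isPGroup (a : G) : IsPGroup p ↥(theta p a) :=
  Cfsg.Agent.Lib.Helper47.pCoreOf_isPGroup p _

theorem theta_le_centralizer (a : G) : theta p a ≤ Subgroup.centralizer ({a} : Set G) :=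
  Cfsg.Agent.Lib.Helper47.pCoreOf_le p _

theorem centralizer_le_normalizer_theta (a : G) :
    Subgroup.centralizer ({a} : Set G) ≤ Subgroup.normalizer ((theta p a : Subgroup G) : Set G) :=
  Subgroup.le_normalizer.trans (Cfsg.Agent.Lib.Helper47.normalizer_le_normalizer_pCoreOf p _)

end Cfsg.Agent.Lib.Helper25.S1936
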