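import Mathlib
import Cfsg.Agent.Lib.Helper22.S1936Defs

/-!
# S1936-[AP] and S1936-[OUT] (sheet of helper22, §D)
-/

set_option autoImplicit false
set_option linter.unusedSectionVars false
universe u
open Cfsg.Agent.Lib.Helper22.S1936

namespace Cfsg.Agent.Lib.Helper25.S1936

variable {G : Type u} [Group G] [Finite G] {p : ℕ} [Fact p.Prime]

/-- an involution of `M ⊓ M^g` forces `g ∈ M` when `M` is strongly embedded. -/
theorem mem_of_involution_mem_inf {M : Subgroup G} (hM : Cfsg.IsStronglyEmbedded M) {a g : G}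
    (ha : orderOf a = 2) (haM : a ∈ M) (hag : a ∈ conjSub M g) : g ∈ M := by
  by_contra hg
  have hodd := hM.2.2 g hg
  have hmem : a ∈ M ⊓ M.map (MulAut.conj g).toMonoidHom := ⟨haM, hag⟩
  have hdvd : orderOf (⟨a, hmem⟩ : ↥(M ⊓ M.map (MulAut.conj g).toMonoidHom)) ∣
      Nat.card ↥(M ⊓ M.map (MulAut.conj g).toMonoidHom) := orderOf_dvd_natCard _
  rw [Subgroup.orderOf_mk, ha] at hdvd
  exact (Nat.not_even_iff_odd.2 hodd) (even_iff_two_dvd.2 hdvd)

/-- DICH-[AP]: an involution of `M` and an involution outside `M` are apart. -/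
theorem apart_of_mem_of_not_mem {T : Sylow 2 G} {M : Subgroup G} (hD : SEDatum T M)
    {a u : G} (ha : orderOf a = 2) (haM : a ∈ M) (huM : u ∉ M) : Apart M a u := by
  rintro g ⟨hag, hug⟩
  have hg : g ∈ M := mem_of_involution_mem_inf hD.se ha haM hag
  obtain ⟨m, hm, rfl⟩ := hug
  apply huM
  show g * m * g⁻¹ ∈ M
  exact M.mul_mem (M.mul_mem hg hm) (M.inv_mem hg)

/-- a proper subgroup of a simple group of even order misses some involution. -/
theorem exists_involution_not_mem_of_ne_top (hG : MinCE p G) {M : Subgroup G} (hM : M ≠ ⊤) :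
    ∃ u : G, orderOf u = 2 ∧ u ∉ M := by
  by_contra hcon
  push Not at hcon
  have : IsSimpleGroup G := hG.simple
  -- an involution exists
  have h2 : 2 ∣ Nat.card G := even_iff_two_dvd.1 hG.even
  obtain ⟨t, ht⟩ := exists_prime_orderOf_dvd_card' 2 h2
  -- the normal closure of the involutions
  obtain ⟨N, hN⟩ : ∃ N : Subgroup G, N = Subgroup.normalClosure {u : G | orderOf u = 2} := ⟨_, rfl⟩
  have hNn : N.Normal := by rw [hN]; exact Subgroup.normalClosure_normal
  have hNM : N ≤ M := by
    rw [hN, Subgroup.normalClosure, Subgroup.closure_le]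
    intro x hx
    rw [Group.mem_conjugatesOfSet_iff] at hx
    obtain ⟨u, hu, hux⟩ := hx
    apply hcon
    obtain ⟨c, hc⟩ := isConj_iff.1 hux
    rw [← hc]
    show orderOf (c * u * c⁻¹) = 2
    have := orderOf_injective (MulAut.conj c).toMonoidHom (MulAut.conj c).injective u
    simp only [MulEquiv.coe_toMonoidHom, MulAut.conj_apply] at this
    rw [this]
    exact hu
  have htN : t ∈ N := by
    rw [hN]
    exact Subgroup.subset_normalClosure ht
  rcases hNn.eq_bot_or_eq_top with h | h
  · rw [h, Subgroup.mem_bot] at htN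
    rw [htN, orderOf_one] at ht
    omega
  · apply hM
    rw [eq_top_iff, ← h]
    exact hNM

/-- DICH-[OUT]: there is an involution outside `M`. -/
theorem exists_involution_not_mem (hG : MinCE p G) {T : Sylow 2 G} {M : Subgroup G} (hD : SEDatum T M) :
    ∃ u : G, orderOf u = 2 ∧ u ∉ M :=
  exists_involution_not_mem_of_ne_top hG hD.se.1

end Cfsg.Agent.Lib.Helper25.S1936
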