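import Mathlib
import Cfsg.Agent.Lib.Helper22.S1936Defs
import Cfsg.Agent.Lib.Helper25.S1936Apart
import Cfsg.Agent.S0076
import Cfsg.Agent.S1225

/-!
# S1936-[TRANS] (sheet of helper22, §C1): `N(T)` is transitive on the involutions of `T`
-/

set_option autoImplicit false
set_option linter.unusedSectionVars false
universe u
open Cfsg.Agent.Lib.Helper22.S1936

namespace Cfsg.Agent.Lib.Helper25.S1936

variable {G : Type u} [Group G] [Finite G] {p : ℕ} [Fact p.Prime]

/-- under `HP` with `p ≠ 2` every `2`-subgroup is commutative. -/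
theorem comm_of_two_group (h : HP p G) (hp2 : p ≠ 2) (S : Subgroup G) (hS : IsPGroup 2 ↥S) :
    ∀ x ∈ S, ∀ y ∈ S, x * y = y * x := by
  obtain ⟨n, hn⟩ := IsPGroup.iff_card.1 hS
  have hcop : (Nat.card ↥S).Coprime p := by
    rw [hn]
    exact Nat.Coprime.pow_left n ((Nat.coprime_primes Nat.prime_two Fact.out).2 (Ne.symm hp2))
  intro x hx y hy
  have := (h S hcop).1.is_comm.comm ⟨x, hx⟩ ⟨y, hy⟩
  exact congrArg Subtype.val this

/-- Sylow 2-subgroups are commutative in a `MinCE`. -/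
theorem sylow_two_comm (hG : MinCE p G) (T : Sylow 2 G) :
    ∀ x ∈ (T : Subgroup G), ∀ y ∈ (T : Subgroup G), x * y = y * x :=
  comm_of_two_group hG.hp (by have := hG.hp5; omega) (T : Subgroup G) T.isPGroup'

/-- Burnside's fusion lemma for elements of a commutative Sylow subgroup (from S0076). -/
theorem burnside_fusion {q : ℕ} [Fact q.Prime] (T : Sylow q G)
    (hT : ∀ x ∈ (T : Subgroup G), ∀ y ∈ (T : Subgroup G), x * y = y * x) {a b g : G}
    (haT : a ∈ (T : Subgroup G)) (hbT : b ∈ (T : Subgroup G)) (hg : g * a * g⁻¹ = b) :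
    ∃ n ∈ Subgroup.normalizer ((T : Subgroup G) : Set G), n * a * n⁻¹ = b := by
  have hfix : ∀ c ∈ (T : Subgroup G), ∀ x ∈ (T : Subgroup G),
      (fun y => x * y * x⁻¹) '' ({c} : Set G) = {c} := by
    intro c hc x hx
    rw [Set.image_singleton, hT x hx c hc, mul_inv_cancel_right]
  obtain ⟨n, hn, hnab⟩ := Cfsg.Agent.S0076.result T ({a} : Set G) ({b} : Set G)
    (by intro y hy; rw [Set.mem_singleton_iff] at hy; rw [hy]; exact haT)
    (by intro y hy; rw [Set.mem_singleton_iff] at hy; rw [hy]; exact hbT)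
    (hfix a haT) (hfix b hbT) g (by rw [Set.image_singleton, hg])
  refine ⟨n, hn, ?_⟩
  rw [Set.image_singleton] at hnab
  exact Set.singleton_eq_singleton_iff.1 hnab

/-- TSTR-[TRANS] (C1): `N(T)` is transitive on the involutions of `T` (S1225 + S0076). -/
theorem normalizer_transitive (hG : MinCE p G) (T : Sylow 2 G) (M : Subgroup G)
    (hM : Cfsg.IsStronglyEmbedded M) (hTM : (T : Subgroup G) ≤ M) {a b : G}
    (haT : a ∈ (T : Subgroup G)) (hbT : b ∈ (T : Subgroup G)) (ha : orderOf a = 2) (hb : orderOf b = 2) :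
    ∃ n ∈ Subgroup.normalizer ((T : Subgroup G) : Set G), n * a * n⁻¹ = b := by
  obtain ⟨u, hu, huM⟩ := exists_involution_not_mem_of_ne_top hG hM.1
  obtain ⟨d, -, hd⟩ := (Cfsg.Agent.S1225.result M hM u hu huM a b ha (hTM haT) hb (hTM hbT)).1
  exact burnside_fusion T (sylow_two_comm hG T) haT hbT hd

end Cfsg.Agent.Lib.Helper25.S1936
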