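import Mathlib
import Cfsg.Agent.Lib.Helper22.S1936Defs
import Cfsg.Agent.Lib.Helper25.S1936Theta
import Cfsg.Agent.Lib.Helper25.S1936Trans
import Cfsg.Agent.S0223

/-!
# S1936-[SE0] (sheet of helper22, §B7 as an `_of` lemma)
-/

set_option autoImplicit false
set_option linter.unusedSectionVars false
universe u
open Cfsg.Agent.Lib.Helper22.S1936

namespace Cfsg.Agent.Lib.Helper25.S1936

variable {G : Type u} [Group G] [Finite G] {p : ℕ} [Fact p.Prime]

/-- an element of `q`-power order of a subgroup `M` containing the Sylow `q`-subgroup `T` is `M`-conjugate into `T`. -/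
theorem exists_conj_mem_sylow {q : ℕ} [Fact q.Prime] (T : Sylow q G) (M : Subgroup G)
    (hTM : (T : Subgroup G) ≤ M) {t : G} (htM : t ∈ M) (ht : ∃ k : ℕ, orderOf t = q ^ k) :
    ∃ m ∈ M, ∃ a ∈ (T : Subgroup G), t = m * a * m⁻¹ := by
  obtain ⟨k, hk⟩ := ht
  have hZ : IsPGroup q ↥(Subgroup.zpowers (⟨t, htM⟩ : ↥M)) := by
    apply IsPGroup.of_card (n := k)
    rw [Nat.card_zpowers, Subgroup.orderOf_mk, hk]
  obtain ⟨Q, hQ⟩ := hZ.exists_le_sylow
  obtain ⟨m, hm⟩ := MulAction.exists_smul_eq ↥M (T.subtype hTM) Q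
  have htQ : (⟨t, htM⟩ : ↥M) ∈ (Q : Subgroup ↥M) := hQ (Subgroup.mem_zpowers _)
  rw [← hm, Sylow.coe_subgroup_smul, Subgroup.mem_pointwise_smul_iff_inv_smul_mem] at htQ
  have h1 : (MulAut.conj m)⁻¹ • (⟨t, htM⟩ : ↥M) = m⁻¹ * ⟨t, htM⟩ * m := by
    rw [← map_inv, MulAut.smul_def, MulAut.conj_apply, inv_inv]
  rw [h1] at htQ
  have h2 : ((m⁻¹ * ⟨t, htM⟩ * m : ↥M) : G) ∈ (T : Subgroup G) := by
    rw [Sylow.coe_subtype, Subgroup.mem_subgroupOf] at htQ
    exact htQ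
  refine ⟨m.1, m.2, _, h2, ?_⟩
  show t = m.1 * (m.1⁻¹ * t * m.1) * m.1⁻¹
  group

/-- conjugation preserves the order (explicit form). -/
theorem orderOf_conj_eq (c x : G) : orderOf (c * x * c⁻¹) = orderOf x := by
  have := orderOf_injective (MulAut.conj c).toMonoidHom (MulAut.conj c).injective x
  simpa only [MulEquiv.coe_toMonoidHom, MulAut.conj_apply] using this

/-- SIGM-[SE0] (B7 as an `_of` lemma): a proper subgroup containing `N(T)` and `C(a)` for all involutions `a ∈ T`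
is strongly embedded (S0223 + S0076). -/
theorem stronglyEmbedded_of (hG : MinCE p G) (T : Sylow 2 G) (M : Subgroup G) (hM : M ≠ ⊤)
    (hN : Subgroup.normalizer ((T : Subgroup G) : Set G) ≤ M)
    (hC : ∀ a ∈ (T : Subgroup G), orderOf a = 2 → Subgroup.centralizer ({a} : Set G) ≤ M) :
    Cfsg.IsStronglyEmbedded M := by
  have hTM : (T : Subgroup G) ≤ M := Subgroup.le_normalizer.trans hN
  have heven : Even (Nat.card ↥M) := by
    rw [even_iff_two_dvd]
    have h1 : 2 ∣ Nat.card ↥(T : Subgroup G) :=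
      T.dvd_card_of_dvd_card (even_iff_two_dvd.1 hG.even)
    exact h1.trans (Subgroup.card_dvd_of_le hTM)
  -- involutions of `M` are `M`-conjugate into `T`
  have hinv : ∀ t ∈ M, orderOf t = 2 → ∃ m ∈ M, ∃ a ∈ (T : Subgroup G), orderOf a = 2 ∧ t = m * a * m⁻¹ := by
    intro t htM ht
    obtain ⟨m, hm, a, ha, hta⟩ := exists_conj_mem_sylow T M hTM htM ⟨1, by rw [ht, pow_one]⟩
    refine ⟨m, hm, a, ha, ?_, hta⟩
    rw [← orderOf_conj_eq m a, ← hta, ht]
  rw [Cfsg.Agent.S0223.result M hM heven]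
  constructor
  · intro t htM ht
    obtain ⟨m, hm, a, haT, ha, rfl⟩ := hinv t htM ht
    rw [centralizer_conj]
    rintro _ ⟨y, hy, rfl⟩
    show m * y * m⁻¹ ∈ M
    exact M.mul_mem (M.mul_mem hm (hC a haT ha hy)) (M.inv_mem hm)
  · intro t htM s hsM ht hs hts
    obtain ⟨m, hm, a, haT, ha, rfl⟩ := hinv t htM ht
    obtain ⟨m', hm', b, hbT, hb, rfl⟩ := hinv s hsM hs
    obtain ⟨c, hc⟩ := isConj_iff.1 hts
    have hg : (m'⁻¹ * c * m) * a * (m'⁻¹ * c * m)⁻¹ = b := by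
      have : (m'⁻¹ * c * m) * a * (m'⁻¹ * c * m)⁻¹ = m'⁻¹ * (c * (m * a * m⁻¹) * c⁻¹) * m' := by group
      rw [this, hc]
      group
    obtain ⟨n, hn, hnab⟩ := burnside_fusion T (sylow_two_comm hG T) haT hbT hg
    refine ⟨m' * n * m⁻¹, M.mul_mem (M.mul_mem hm' (hN hn)) (M.inv_mem hm), ?_⟩
    rw [← hnab]
    group

end Cfsg.Agent.Lib.Helper25.S1936
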