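import Mathlib
import Cfsg.Prelude.Def_GeometricClasses
import Cfsg.Agent.Lib.Helper99.AschDefs

/-!
# ASCH-[C4] (project ASCH, helper99): Kronecker products a ⊗ b, 2 ≤ d, e  ⇒  class 4 / 7 / 8.

`geo_of_kronecker_aux` is the sheet statement `geo_of_kronecker` with the d = e = 2 case ([DET4],
`geo_of_kronecker_two_two`) taken as a hypothesis `hdet4`; the sheet-named theorem is in `AschC4.lean`
once [DET4] is on main.
-/

set_option autoImplicit false


namespace Cfsg.Agent.Lib.Helper25.AschC4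

open Cfsg Cfsg.Geo Cfsg.Agent.Lib.Helper99.Asch
open scoped MatrixGroups Matrix Kronecker

variable {n : ℕ} {F : Type*} [Field F]

theorem glReindex_val {κ ι : Type} [Fintype κ] [DecidableEq κ] [Fintype ι] [DecidableEq ι]
    (e : κ ≃ ι) (x : GL κ F) :
    ((glReindex e x : GL ι F) : Matrix ι ι F) = Matrix.reindex e e (x : Matrix κ κ F) := rfl

theorem mem_conj_reindex {κ : Type} [Fintype κ] [DecidableEq κ] (e' : Fin n ≃ κ)
    (B h : GL (Fin n) F) (S : Subgroup (GL κ F)) (hg : glReindex e' (B * h * B⁻¹) ∈ S) :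
    h ∈ (S.map (glReindex e'.symm).toMonoidHom).map (MulAut.conj B⁻¹).toMonoidHom := by
  refine ⟨B * h * B⁻¹, ⟨glReindex e' (B * h * B⁻¹), hg, ?_⟩, ?_⟩
  · apply Units.ext
    show ((glReindex e'.symm (glReindex e' (B * h * B⁻¹)) : GL (Fin n) F) :
      Matrix (Fin n) (Fin n) F) = _
    rw [glReindex_val, glReindex_val]
    ext i j
    simp
  · show B⁻¹ * (B * h * B⁻¹) * (B⁻¹)⁻¹ = h
    group


theorem geo_of_kronecker_aux [Fintype F]
    (hdet4 : ∀ (H : Subgroup (GL (Fin n) F)) (idx : Fin n ≃ Fin 2 × Fin 2) (B : GL (Fin n) F),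
      (∀ h ∈ H, ∃ (a b : GL (Fin 2) F),
        ((B * h * B⁻¹ : GL (Fin n) F) : Matrix (Fin n) (Fin n) F) =
        Matrix.reindex idx.symm idx.symm
          ((a : Matrix (Fin 2) (Fin 2) F) ⊗ₖ (b : Matrix (Fin 2) (Fin 2) F))) → Geo H)
    (H : Subgroup (GL (Fin n) F)) (d e : ℕ) (hd : 2 ≤ d) (he : 2 ≤ e)
    (idx : Fin n ≃ Fin d × Fin e) (B : GL (Fin n) F)
    (hH : ∀ h ∈ H, ∃ (a : GL (Fin d) F) (b : GL (Fin e) F),
      ((B * h * B⁻¹ : GL (Fin n) F) : Matrix (Fin n) (Fin n) F) =
      Matrix.reindex idx.symm idx.symm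
        ((a : Matrix (Fin d) (Fin d) F) ⊗ₖ (b : Matrix (Fin e) (Fin e) F))) :
    Geo H := by
  rcases lt_trichotomy d e with hlt | heq | hgt
  · -- class 4 with (d, e)
    refine ⟨tensorProductSubgroup d e idx B⁻¹, ?_, ?_⟩
    · right; right; right; right; right; left
      exact ⟨d, e, idx, B⁻¹, hd, hlt, rfl⟩
    · intro h hh
      obtain ⟨a, b, hab⟩ := hH h hh
      apply mem_conj_reindex idx B h
      refine ⟨a, b, ?_⟩
      rw [glReindex_val, hab]
      ext i j
      simp
  · subst heq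
    rcases Nat.lt_or_ge 2 d with h3 | h2
    · -- class 7 with t = 2
      refine ⟨tensorWreathSubgroup d 2
        (idx.trans (piFinTwoEquiv (fun _ => Fin d)).symm) B⁻¹, ?_, ?_⟩
      · right; right; right; right; right; right; right; right; left
        exact ⟨d, 2, _, B⁻¹, h3, le_refl 2, rfl⟩
      · intro h hh
        obtain ⟨a, b, hab⟩ := hH h hh
        apply mem_conj_reindex (idx.trans (piFinTwoEquiv (fun _ => Fin d)).symm) B h
        apply Subgroup.subset_closure
        left
        refine ⟨![a, b], ?_⟩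
        intro x y
        rw [glReindex_val, hab, Fin.prod_univ_two]
        simp [Matrix.kroneckerMap_apply]
    · have hd2 : d = 2 := le_antisymm h2 hd
      subst hd2
      exact hdet4 H idx B hH
  · -- class 4 with (e, d)
    refine ⟨tensorProductSubgroup e d (idx.trans (Equiv.prodComm _ _)) B⁻¹, ?_, ?_⟩
    · right; right; right; right; right; left
      exact ⟨e, d, _, B⁻¹, he, hgt, rfl⟩
    · intro h hh
      obtain ⟨a, b, hab⟩ := hH h hh
      apply mem_conj_reindex (idx.trans (Equiv.prodComm _ _)) B h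
      refine ⟨b, a, ?_⟩
      rw [glReindex_val, hab]
      ext i j
      simp [Matrix.kroneckerMap_apply, mul_comm]

end Cfsg.Agent.Lib.Helper25.AschC4
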