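import Mathlib
import Cfsg.Prelude.Def_GeometricClasses
import Cfsg.Agent.Lib.Helper37.BHRSU.Defs

/-!
# BHRSU-[P6] (project BHRSU, helper37): `SU_n(q)` normalises no absolutely irreducible `r`-group of
similitudes (`_of` form: the three KIT statements [K-NORMAL] [K-PERF] [K-IRR] are hypotheses).

NOTE: the Skel statement lacks `R ≤ similarityGroup (hermForm n F q)` (needed for
`x g x⁻¹ g⁻¹ ∈ SU`; it is available in class 6) and `r.Prime`; both are added here.  `r ≠ p` and the
characteristic are NOT needed: if `SU ≤ R` then `SU` is a perfect nilpotent group, hence trivial.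
-/

set_option autoImplicit false

namespace Cfsg.Agent.Lib.Helper25.BhrsuP6

open Cfsg Cfsg.Geo Cfsg.Agent.Lib.Helper70.AschU Cfsg.Agent.Lib.Helper37.BHRSU
open scoped MatrixGroups Matrix

open scoped IsMulCommutative in
/-- an element whose commutators with a perfect subgroup are central commutes with it
(after helper86's `BhrspP6`). -/
theorem commute_of_commutator_central {G : Type*} [Group G] (S : Subgroup G) (x : G)
    (hperf : commutator ↥S = ⊤)
    (hcen : ∀ g ∈ S, x * g * x⁻¹ * g⁻¹ ∈ Subgroup.center G) : ∀ g ∈ S, x * g = g * x := by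
  obtain ⟨φ, hφ⟩ : ∃ φ : ↥S →* ↥(Subgroup.center G), ∀ g : ↥S, (φ g).1 = x * g.1 * x⁻¹ * g.1⁻¹ := by
    refine ⟨MonoidHom.mk' (fun g => ⟨x * g.1 * x⁻¹ * g.1⁻¹, hcen g.1 g.2⟩) ?_, fun g => rfl⟩
    intro g h
    apply Subtype.ext
    show x * (g.1 * h.1) * x⁻¹ * (g.1 * h.1)⁻¹ =
      (x * g.1 * x⁻¹ * g.1⁻¹) * (x * h.1 * x⁻¹ * h.1⁻¹)
    have hz := Subgroup.mem_center_iff.mp (hcen h.1 h.2) (g.1⁻¹)
    have e1 : x * (g.1 * h.1) * x⁻¹ * (g.1 * h.1)⁻¹
        = x * g.1 * x⁻¹ * ((x * h.1 * x⁻¹ * h.1⁻¹) * g.1⁻¹) := by group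
    have e2 : (x * g.1 * x⁻¹ * g.1⁻¹) * (x * h.1 * x⁻¹ * h.1⁻¹) =
        x * g.1 * x⁻¹ * (g.1⁻¹ * (x * h.1 * x⁻¹ * h.1⁻¹)) := by group
    rw [e1, e2, hz]
  have hker : ∀ g : ↥S, φ g = 1 := by
    intro g
    have h1 : commutator ↥S ≤ φ.ker := Abelianization.commutator_subset_ker φ
    rw [hperf] at h1
    exact MonoidHom.mem_ker.mp (h1 (Subgroup.mem_top g))
  intro g hg
  have h1 := congrArg Subtype.val (hker ⟨g, hg⟩)
  rw [hφ] at h1
  have h2 : x * g * x⁻¹ * g⁻¹ = 1 := h1
  have : x * g = (x * g * x⁻¹ * g⁻¹) * (g * x) := by group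
  rw [this, h2, one_mul]

/-- `⁅S, S⁆ = S` as subgroups means that the group `↥S` is perfect. -/
theorem commutator_eq_top_of_perfect {G : Type*} [Group G] (S : Subgroup G) (h : ⁅S, S⁆ = S) :
    commutator ↥S = ⊤ := by
  apply Subgroup.map_injective S.subtype_injective
  rw [commutator_def, Subgroup.map_commutator, ← MonoidHom.range_eq_map, Subgroup.range_subtype, h]

variable {F : Type*} [Field F] {n : ℕ}

/-- scalars are central -/
theorem scalars_le_center : scalars (Fin n) F ≤ Subgroup.center (GL (Fin n) F) := by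
  intro z hz
  rw [mem_scalars_iff] at hz
  obtain ⟨c, hc⟩ := hz
  rw [Subgroup.mem_center_iff]
  intro g
  apply Units.ext
  rw [Units.val_mul, Units.val_mul, hc, Matrix.mul_smul, Matrix.smul_mul, Matrix.mul_one, Matrix.one_mul]

/-- conjugating a unitary isometry by a similitude gives an isometry -/
theorem conj_mem_GU {q : ℕ} (x : GL (Fin n) F) (hx : x ∈ similarityGroup (hermForm n F q))
    (g : GL (Fin n) F) (hg : g ∈ GU n F q) : x * g * x⁻¹ ∈ GU n F q := by
  obtain ⟨c, hc⟩ := hx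
  rw [mem_GU_iff] at hg ⊢
  intro u v
  have hinv : ∀ w : Fin n → F, (x : Matrix (Fin n) (Fin n) F) *ᵥ
      (((x⁻¹ : GL (Fin n) F) : Matrix (Fin n) (Fin n) F) *ᵥ w) = w := by
    intro w
    rw [Matrix.mulVec_mulVec, ← Units.val_mul, mul_inv_cancel, Units.val_one, Matrix.one_mulVec]
  have h1 : ∀ w : Fin n → F, ((x * g * x⁻¹ : GL (Fin n) F) : Matrix (Fin n) (Fin n) F) *ᵥ w =
      (x : Matrix (Fin n) (Fin n) F) *ᵥ ((g : Matrix (Fin n) (Fin n) F) *ᵥ
        (((x⁻¹ : GL (Fin n) F) : Matrix (Fin n) (Fin n) F) *ᵥ w)) := by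
    intro w
    rw [Units.val_mul, Units.val_mul, Matrix.mulVec_mulVec, Matrix.mulVec_mulVec]
  rw [h1, h1, hc, hg]
  have h2 := hc (((x⁻¹ : GL (Fin n) F) : Matrix (Fin n) (Fin n) F) *ᵥ u)
    (((x⁻¹ : GL (Fin n) F) : Matrix (Fin n) (Fin n) F) *ᵥ v)
  rw [hinv, hinv] at h2
  exact h2.symm

theorem conj_mem_SUg {q : ℕ} (x : GL (Fin n) F) (hx : x ∈ similarityGroup (hermForm n F q))
    (g : GL (Fin n) F) (hg : g ∈ SUg n F q) : x * g * x⁻¹ ∈ SUg n F q := by
  refine ⟨conj_mem_GU x hx g hg.1, ?_⟩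
  have hSLN : (specialLinear (Fin n) F).Normal := by
    unfold specialLinear; infer_instance
  exact hSLN.conj_mem g hg.2 x

/-- the trivial group does not act absolutely irreducibly in dimension `≥ 2`; more generally a group
of scalar matrices does not. -/
theorem not_absIrred_of_le_scalars (hn : 2 ≤ n) (R : Subgroup (GL (Fin n) F))
    (hR : R ≤ scalars (Fin n) F) : ¬ ActsAbsolutelyIrreducibly (matrixSet R) := by
  intro habs
  let i : Fin n := ⟨0, by omega⟩
  let j : Fin n := ⟨1, by omega⟩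
  have hij : i ≠ j := by
    intro h
    have := congrArg Fin.val h
    simp [i, j] at this
  obtain ⟨c, hc⟩ := habs.2 (Matrix.single i j (1 : F)) (by
    rintro s ⟨g, hg, rfl⟩
    obtain ⟨d, hd⟩ := (mem_scalars_iff g).mp (hR hg)
    show _ * (g : Matrix (Fin n) (Fin n) F) = (g : Matrix (Fin n) (Fin n) F) * _
    rw [hd, Matrix.mul_smul, Matrix.smul_mul, Matrix.mul_one, Matrix.one_mul])
  have := congrFun (congrFun hc i) j
  rw [Matrix.single_apply_same, Matrix.smul_apply, Matrix.one_apply_ne hij, smul_zero] at this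
  exact one_ne_zero this

variable [Fintype F] {q : ℕ}

/-- BHRSU-[P6], `_of` form: [K-NORMAL], [K-PERF], [K-IRR] as hypotheses; `R` consists of similitudes,
`r` is a prime. -/
theorem not_SUg_le_subgroupNormalizer_of (hn : 2 ≤ n)
    (hnormal : ∀ N : Subgroup (GL (Fin n) F), N ≤ SUg n F q →
      (∀ g ∈ SUg n F q, ∀ x ∈ N, g * x * g⁻¹ ∈ N) → N ≤ scalars (Fin n) F ∨ N = SUg n F q)
    (hperf : ⁅SUg n F q, SUg n F q⁆ = SUg n F q)
    (hirr : ActsAbsolutelyIrreducibly (matrixSet (SUg n F q)))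
    (r : ℕ) (hr : r.Prime) (R : Subgroup (GL (Fin n) F)) (hR : IsPGroup r R)
    (hsim : R ≤ similarityGroup (hermForm n F q))
    (habs : ActsAbsolutelyIrreducibly (matrixSet R)) : ¬ SUg n F q ≤ subgroupNormalizer R := by
  intro hle
  have hperf' : commutator ↥(SUg n F q) = ⊤ := commutator_eq_top_of_perfect _ hperf
  have hnormR : ∀ g ∈ SUg n F q, ∀ x, x ∈ R ↔ g * x * g⁻¹ ∈ R := by
    intro g hg
    have := hle hg
    unfold subgroupNormalizer at this
    exact Subgroup.mem_normalizer_iff.mp this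
  have hN : R ⊓ SUg n F q ≤ SUg n F q := inf_le_right
  have hnorm : ∀ g ∈ SUg n F q, ∀ x ∈ R ⊓ SUg n F q, g * x * g⁻¹ ∈ R ⊓ SUg n F q := by
    intro g hg x hx
    exact ⟨(hnormR g hg x).mp hx.1,
      (SUg n F q).mul_mem ((SUg n F q).mul_mem hg hx.2) ((SUg n F q).inv_mem hg)⟩
  rcases hnormal _ hN hnorm with hsc | hall
  · -- `R ⊓ SU` is scalar: then `R` is scalar
    have hRsc : R ≤ scalars (Fin n) F := by
      intro x hx
      have hmemN : ∀ g ∈ SUg n F q, x * g * x⁻¹ * g⁻¹ ∈ R ⊓ SUg n F q := by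
        intro g hg
        refine ⟨?_, (SUg n F q).mul_mem (conj_mem_SUg x (hsim hx) g hg) ((SUg n F q).inv_mem hg)⟩
        have h1 : g * x⁻¹ * g⁻¹ ∈ R := (hnormR g hg _).mp (R.inv_mem hx)
        have h2 : x * (g * x⁻¹ * g⁻¹) ∈ R := R.mul_mem hx h1
        have h3 : x * g * x⁻¹ * g⁻¹ = x * (g * x⁻¹ * g⁻¹) := by group
        rw [h3]; exact h2
      have hcen : ∀ g ∈ SUg n F q, x * g * x⁻¹ * g⁻¹ ∈ Subgroup.center (GL (Fin n) F) :=
        fun g hg => scalars_le_center (hsc (hmemN g hg))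
      have hcomm := commute_of_commutator_central (SUg n F q) x hperf' hcen
      obtain ⟨c, hc⟩ := hirr.2 (x : Matrix (Fin n) (Fin n) F) (by
        rintro s ⟨g, hg, rfl⟩
        have := congrArg (fun y : GL (Fin n) F => (y : Matrix (Fin n) (Fin n) F)) (hcomm g hg)
        simpa [Units.val_mul] using this)
      rw [mem_scalars_iff]
      have hc0 : c ≠ 0 := by
        rintro rfl
        have hdet := Matrix.GeneralLinearGroup.det_ne_zero x
        have hn0 : Nonempty (Fin n) := ⟨⟨0, by omega⟩⟩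
        rw [hc, zero_smul, Matrix.det_zero] at hdet
        exact hdet rfl
      exact ⟨Units.mk0 c hc0, hc⟩
    exact not_absIrred_of_le_scalars hn R hRsc habs
  · -- `SU ≤ R`: a perfect `r`-group is trivial
    have hle2 : SUg n F q ≤ R := by
      rw [← hall]; exact inf_le_left
    have hP : IsPGroup r ↥(SUg n F q) := hR.to_le hle2
    have : Fact r.Prime := ⟨hr⟩
    have : Finite (GL (Fin n) F) := Finite.of_injective _ Units.val_injective
    have : Group.IsNilpotent ↥(SUg n F q) := hP.isNilpotent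
    have hsub : Subsingleton ↥(SUg n F q) := by
      by_contra hns
      rw [not_subsingleton_iff_nontrivial] at hns
      have := Group.IsSolvable.commutator_lt_top_of_nontrivial ↥(SUg n F q)
      rw [hperf'] at this
      exact lt_irrefl _ this
    have hbot : SUg n F q ≤ scalars (Fin n) F := by
      intro g hg
      have : (⟨g, hg⟩ : ↥(SUg n F q)) = 1 := Subsingleton.elim _ _
      have hg1 : g = 1 := congrArg Subtype.val this
      rw [hg1]
      exact Subgroup.one_mem _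
    exact not_absIrred_of_le_scalars hn _ hbot hirr

end Cfsg.Agent.Lib.Helper25.BhrsuP6
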