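import Mathlib
import Cfsg.Prelude.Def_LieExceptional
import Cfsg.Agent.Lib.Helper59.Zassenhaus
import Cfsg.Agent.Lib.Helper59.ZassKernel
import Cfsg.Agent.Lib.Helper59.TwoTransFrob
import Cfsg.Agent.Lib.Helper59.TwoTransSimple
import Cfsg.Agent.Lib.Helper6.Zassenhaus
import Cfsg.Agent.Lib.Helper81.RealPrimePrep

/-!
# Reduction of Feit's theorem on Zassenhaus groups to the simple case (helper25)

A minimal normal subgroup `N` of a finite Zassenhaus group `G` on `Ω` is a simple Zassenhaus group
on `Ω` containing the Frobenius kernel of the point stabilizer, and its two-point stabilizer is a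
subgroup of that of `G`.
-/

set_option autoImplicit false

namespace Cfsg.Agent.Lib.Helper25.ZassReduce

open MulAction Cfsg.Agent.Lib.Helper59 Cfsg.Agent.Lib.Helper6

variable {G Ω : Type*} [Group G] [MulAction G Ω]

/-- A nontrivial normal subgroup of a Zassenhaus group which is simple is a Zassenhaus group. -/
theorem isZassenhaus_of_normal_simple [Finite Ω] (hZ : Cfsg.IsZassenhausGroup G Ω)
    (N : Subgroup G) [hN : N.Normal] (hne : N ≠ ⊥) [hs : IsSimpleGroup N] :
    Cfsg.IsZassenhausGroup N Ω := by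
  have hfaith : FaithfulSMul G Ω := hZ.1
  obtain ⟨a, b, hab, x, hxN, hx1, hxa, hxb⟩ := zass_exists_two_point hZ N hne
  refine ⟨⟨fun {n1 n2} h => ?_⟩, zass_normal_isMultiplyPretransitive hZ N hne, ?_, ?_, ?_⟩
  · apply Subtype.ext
    apply hfaith.eq_of_smul_eq_smul
    intro c
    exact h c
  · intro g a b c hab hbc hac ha hb hc
    apply Subtype.ext
    exact zass_three hZ (g : G) a b c hab hbc hac ha hb hc
  · refine ⟨⟨x, hxN⟩, ?_, a, b, hab, hxa, hxb⟩
    intro h
    exact hx1 (congrArg Subtype.val h)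
  · intro M hM hMt
    rcases hs.eq_bot_or_eq_top_of_normal M hM with h | h
    · exfalso
      subst h
      obtain ⟨m, hm⟩ := hMt.exists_smul_eq a b
      have : m = 1 := Subsingleton.elim _ _
      rw [this, one_smul] at hm
      exact hab hm
    · refine ⟨a, ?_⟩
      intro hbot
      have hmem : (⟨⟨x, hxN⟩, by rw [h]; exact Subgroup.mem_top _⟩ : M) ∈ stabilizer M a := by
        rw [mem_stabilizer_iff]
        exact hxa
      rw [hbot, Subgroup.mem_bot] at hmem
      apply hx1
      have := congrArg (fun z : M => ((z : N) : G)) hmem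
      exact this

/-- A minimal normal subgroup of a finite Zassenhaus group is simple. -/
theorem isSimpleGroup_of_minimal_normal [Finite G] [Finite Ω] (hZ : Cfsg.IsZassenhausGroup G Ω)
    (N : Subgroup G) [hN : N.Normal] (hne : N ≠ ⊥)
    (hmin : ∀ M : Subgroup G, M.Normal → M ≤ N → M = ⊥ ∨ M = N) : IsSimpleGroup N := by
  have hfaith : FaithfulSMul G Ω := hZ.1
  obtain ⟨a, b, hab, x, hxN, hx1, hxa, hxb⟩ := zass_exists_two_point hZ N hne
  have hne' : Nonempty Ω := ⟨a⟩
  have hprim := isPreprimitive_of_nonregular hZ.2.1 N hne hmin a x hxN hx1 hxa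
  exact isSimpleGroup_of_isPreprimitive hZ.2.1 N hne hmin hprim

/-- The Frobenius kernel of the point stabilizer of a Zassenhaus group lies in every nontrivial
normal subgroup that is itself a Zassenhaus group on the same set. -/
theorem kernel_le_of_isZassenhaus [Finite G] [Finite Ω] (hZ : Cfsg.IsZassenhausGroup G Ω)
    (N : Subgroup G) (hZN : Cfsg.IsZassenhausGroup N Ω) (a : Ω) (H : Subgroup G)
    (hHa : H ≤ stabilizer G a) (hHcard : Nat.card H + 1 = Nat.card Ω)
    (hHfix : ∀ u ∈ H, u ≠ 1 → ∀ c : Ω, u • c = c → c = a) : H ≤ N := by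
  have hH := eq_zassKernel hZ a H hHa hHcard hHfix
  have h1 := zass_card_kernel hZ a
  have h2 := zass_card_kernel hZN a
  have hsub : (Subtype.val '' (zassKernel N a) : Set G) ⊆ zassKernel G a := by
    rintro _ ⟨n, ⟨hna, hn⟩, rfl⟩
    refine ⟨hna, ?_⟩
    rcases hn with h | h
    · left; rw [h]; rfl
    · right; exact h
  have hcard : (zassKernel G a).ncard ≤ (Subtype.val '' (zassKernel N a) : Set G).ncard := by
    rw [Set.ncard_image_of_injective _ Subtype.val_injective]
    omega
  have heq := Set.eq_of_subset_of_ncard_le hsub hcard (Set.toFinite _)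
  intro u hu
  have : u ∈ zassKernel G a := by rw [← hH]; exact hu
  rw [← heq] at this
  obtain ⟨n, -, rfl⟩ := this
  exact n.2

/-- The two-point stabilizer of a subgroup has order dividing the two-point stabilizer of the
group. -/
theorem card_stab2_subgroup_dvd [Finite G] (N : Subgroup G) (a b : Ω) :
    Nat.card (stabilizer N a ⊓ stabilizer N b : Subgroup N) ∣
      Nat.card (stabilizer G a ⊓ stabilizer G b : Subgroup G) := by
  let f : (stabilizer N a ⊓ stabilizer N b : Subgroup N) →*
      (stabilizer G a ⊓ stabilizer G b : Subgroup G) :=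
    { toFun := fun x => ⟨((x : N) : G), by
        have h := x.2
        rw [Subgroup.mem_inf, mem_stabilizer_iff, mem_stabilizer_iff] at h
        rw [Subgroup.mem_inf, mem_stabilizer_iff, mem_stabilizer_iff]
        exact h⟩
      map_one' := rfl
      map_mul' := fun _ _ => rfl }
  have hf : Function.Injective f := by
    intro x y hxy
    apply Subtype.ext
    apply Subtype.ext
    exact congrArg (fun z : (stabilizer G a ⊓ stabilizer G b : Subgroup G) => (z : G)) hxy
  exact Subgroup.card_dvd_of_injective f hf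

/-- **Reduction of Feit's theorem to the simple case.** -/
theorem feit_of_simple_case {G Ω : Type*} [Group G] [Finite G] [MulAction G Ω] [Fintype Ω]
    (hZ : Cfsg.IsZassenhausGroup G Ω) {a b : Ω} (hab : a ≠ b) (h e : ℕ)
    (hh : Fintype.card Ω = h + 1)
    (he : Nat.card ↥(MulAction.stabilizer G a ⊓ MulAction.stabilizer G b : Subgroup G) = e)
    (hodd : Odd e) (H : Subgroup G) (hHa : H ≤ MulAction.stabilizer G a)
    (hHcard : Nat.card H + 1 = Fintype.card Ω)
    (hHfix : ∀ u ∈ H, u ≠ 1 → ∀ c : Ω, u • c = c → c = a)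
    (hsimple : ∀ (N : Subgroup G), IsSimpleGroup N → Cfsg.IsZassenhausGroup N Ω → ∀ e2 : ℕ,
      Nat.card ↥(MulAction.stabilizer N a ⊓ MulAction.stabilizer N b : Subgroup N) = e2 →
      Odd e2 → ∀ H2 : Subgroup N, H2 ≤ MulAction.stabilizer N a →
      Nat.card H2 + 1 = Fintype.card Ω → (∀ u ∈ H2, u ≠ 1 → ∀ c : Ω, u • c = c → c = a) →
      (h - 1 ≤ 2 * e2 ∨ (IsPGroup 2 H2 ∧ (∃ u v : H2, u * v ≠ v * u) ∧
        (commutator H2).index ≤ 4 * e2 ^ 2 + 1))) :
    h - 1 ≤ 2 * e ∨ (IsPGroup 2 H ∧ (∃ u v : H, u * v ≠ v * u) ∧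
      (commutator H).index ≤ 4 * e ^ 2 + 1) := by
  have htop : (⊤ : Subgroup G) ≠ ⊥ := by
    obtain ⟨g, hg, -⟩ := hZ.2.2.2.1
    intro h
    apply hg
    have : g ∈ (⊤ : Subgroup G) := Subgroup.mem_top g
    rw [h, Subgroup.mem_bot] at this
    exact this
  obtain ⟨N, hNn, hN1, -, hmin⟩ :=
    Cfsg.Agent.Lib.Helper81.exists_minimal_normal_le (⊤ : Subgroup G) htop
  have hNs : IsSimpleGroup N := isSimpleGroup_of_minimal_normal hZ N hN1 hmin
  have hZN : Cfsg.IsZassenhausGroup N Ω := isZassenhaus_of_normal_simple hZ N hN1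
  have hHcard' : Nat.card H + 1 = Nat.card Ω := by rw [hHcard, Nat.card_eq_fintype_card]
  have hHN : H ≤ N := kernel_le_of_isZassenhaus hZ N hZN a H hHa hHcard' hHfix
  have hdvd := card_stab2_subgroup_dvd N a b (G := G) (Ω := Ω)
  rw [he] at hdvd
  set e2 := Nat.card ↥(MulAction.stabilizer N a ⊓ MulAction.stabilizer N b : Subgroup N) with he2
  have hodd2 : Odd e2 := by
    obtain ⟨k, hk⟩ := hdvd
    rw [hk] at hodd
    exact (Nat.odd_mul.mp hodd).1
  have hepos : 0 < e := by
    rcases hodd with ⟨k, hk⟩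
    omega
  have hle : e2 ≤ e := Nat.le_of_dvd hepos hdvd
  let φ : H.subgroupOf N ≃* H := Subgroup.subgroupOfEquivOfLe hHN
  have hφ : ∀ u : H.subgroupOf N, ((φ u : H) : G) = ((u : N) : G) := fun u => rfl
  have key := hsimple N hNs hZN e2 rfl hodd2 (H.subgroupOf N)
    (by
      intro u hu
      rw [mem_stabilizer_iff]
      have := hHa (Subgroup.mem_subgroupOf.mp hu)
      rw [mem_stabilizer_iff] at this
      exact this)
    (by rw [Nat.card_congr φ.toEquiv, hHcard])
    (by
      intro u hu hu1 c hc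
      exact hHfix (u : G) (Subgroup.mem_subgroupOf.mp hu)
        (fun h => hu1 (Subtype.ext h)) c hc)
  rcases key with key | ⟨hp, ⟨u, v, huv⟩, hidx⟩
  · left
    omega
  · right
    refine ⟨hp.of_equiv φ, ⟨φ u, φ v, ?_⟩, ?_⟩
    · intro h
      apply huv
      apply φ.injective
      rw [map_mul, map_mul, h]
    · have hmap : (commutator (H.subgroupOf N)).map φ.toMonoidHom = commutator H := by
        rw [commutator_def, commutator_def, Subgroup.map_commutator,
          Subgroup.map_top_of_surjective _ φ.surjective]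
      have hidx' : (commutator H).index = (commutator (H.subgroupOf N)).index := by
        rw [← hmap]
        exact Subgroup.index_map_equiv _ φ
      rw [hidx']
      calc (commutator (H.subgroupOf N)).index ≤ 4 * e2 ^ 2 + 1 := hidx
        _ ≤ 4 * e ^ 2 + 1 := by
          have := Nat.pow_le_pow_left hle 2
          omega

end Cfsg.Agent.Lib.Helper25.ZassReduce
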