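import Mathlib
import Cfsg.Agent.Lib.Helper6.InvCount
import Cfsg.Agent.Lib.Helper40.FrobeniusDiv

/-!
# Counting pairs of involutions: a lower bound for the number of strongly real classes (helper25)

`sum_card_centralizer_invariant`: for a conjugation-invariant predicate `P`,
`∑_{g, P g} |C(g)| = |G| · #{classes inside P}`.

`sq_card_invs_le`: if every involution commutes with at most `B` involutions (itself included), then
`I² ≤ I·B + |G| · #{classes of strongly real non-involutions}`.
-/

set_option autoImplicit false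

namespace Cfsg.Agent.Lib.Helper25.InvPairs

open Cfsg.Agent.Lib.Helper6

variable {G : Type*} [Group G]

/-- strongly real non-involution: inverted by an involution, of order greater than two -/
def SR (g : G) : Prop :=
  g ≠ 1 ∧ g * g ≠ 1 ∧ ∃ x : G, (x ≠ 1 ∧ x * x = 1) ∧ x * g * x⁻¹ = g⁻¹

theorem SR_conj {g : G} (hg : SR g) (z : G) : SR (z * g * z⁻¹) := by
  obtain ⟨h1, h2, x, ⟨hx1, hx2⟩, hx⟩ := hg
  refine ⟨?_, ?_, z * x * z⁻¹, ⟨?_, ?_⟩, ?_⟩
  · intro h
    apply h1
    have := congrArg (fun w => z⁻¹ * w * z) h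
    simpa [mul_assoc] using this
  · intro h
    apply h2
    have : z * (g * g) * z⁻¹ = 1 := by
      rw [← h]; group
    have := congrArg (fun w => z⁻¹ * w * z) this
    simpa [mul_assoc] using this
  · intro h
    apply hx1
    have := congrArg (fun w => z⁻¹ * w * z) h
    simpa [mul_assoc] using this
  · calc z * x * z⁻¹ * (z * x * z⁻¹) = z * (x * x) * z⁻¹ := by group
      _ = 1 := by rw [hx2]; group
  · calc z * x * z⁻¹ * (z * g * z⁻¹) * (z * x * z⁻¹)⁻¹ = z * (x * g * x⁻¹) * z⁻¹ := by group
      _ = (z * g * z⁻¹)⁻¹ := by rw [hx]; group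

section Fin

variable [Fintype G]

open Classical in
/-- summing `|C(g)|` over a conjugation-invariant set counts the classes it contains -/
theorem sum_card_centralizer_invariant (P : G → Prop)
    (hP : ∀ g z : G, P g → P (z * g * z⁻¹)) :
    ∑ g ∈ Finset.univ.filter P, Nat.card (Subgroup.centralizer ({g} : Set G)) =
      Nat.card G * Nat.card {C : ConjClasses G // ∀ g : G, ConjClasses.mk g = C → P g} := by
  have hPc : ∀ g g' : G, ConjClasses.mk g' = ConjClasses.mk g → P g → P g' := by
    intro g g' hgg hg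
    obtain ⟨z, hz⟩ := isConj_iff.mp (ConjClasses.mk_eq_mk_iff_isConj.mp hgg.symm)
    rw [← hz]
    exact hP g z hg
  have hcent : ∀ g g' : G, ConjClasses.mk g' = ConjClasses.mk g →
      Nat.card (Subgroup.centralizer ({g'} : Set G)) = Nat.card (Subgroup.centralizer ({g} : Set G)) := by
    intro g g' hgg
    have h1 := Cfsg.Agent.Lib.Helper40.card_carrier_mul_card_centralizer g
    have h2 := Cfsg.Agent.Lib.Helper40.card_carrier_mul_card_centralizer g'
    rw [hgg] at h2
    have hpos : 0 < Nat.card (ConjClasses.mk g).carrier := by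
      have : Nonempty (ConjClasses.mk g).carrier := ⟨⟨g, ConjClasses.mem_carrier_mk⟩⟩
      exact Nat.card_pos
    exact Nat.eq_of_mul_eq_mul_left hpos (h2.trans h1.symm)
  rw [← Finset.sum_fiberwise (s := Finset.univ.filter P) (g := (ConjClasses.mk : G → ConjClasses G))]
  have h1 : ∀ C : ConjClasses G,
      ∑ x ∈ (Finset.univ.filter P).filter (fun x : G => ConjClasses.mk x = C),
        Nat.card (Subgroup.centralizer ({x} : Set G))
      = if (∀ g : G, ConjClasses.mk g = C → P g) then Nat.card G else 0 := by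
    intro C
    obtain ⟨g, rfl⟩ := ConjClasses.mk_surjective C
    by_cases hg : P g
    · have hall : ∀ g' : G, ConjClasses.mk g' = ConjClasses.mk g → P g' :=
        fun g' h' => hPc g g' h' hg
      rw [if_pos hall]
      have hfil : (Finset.univ.filter P).filter (fun x : G => ConjClasses.mk x = ConjClasses.mk g)
          = Finset.univ.filter (fun x : G => ConjClasses.mk x = ConjClasses.mk g) := by
        ext x
        simp only [Finset.mem_filter, Finset.mem_univ, true_and]
        exact ⟨fun h => h.2, fun h => ⟨hall x h, h⟩⟩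
      rw [hfil, Finset.sum_congr rfl (fun x hx => hcent g x (Finset.mem_filter.mp hx).2),
        Finset.sum_const, smul_eq_mul]
      rw [← Cfsg.Agent.Lib.Helper40.card_carrier_mul_card_centralizer g]
      congr 1
      rw [Nat.card_eq_fintype_card, ← Set.toFinset_card]
      congr 1
      ext x
      simp only [Finset.mem_filter, Finset.mem_univ, true_and, Set.mem_toFinset]
      rw [ConjClasses.mem_carrier_iff_mk_eq]
    · rw [if_neg (fun h => hg (h g rfl))]
      apply Finset.sum_eq_zero
      intro x hx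
      simp only [Finset.mem_filter, Finset.mem_univ, true_and] at hx
      exact absurd (hPc x g hx.2.symm hx.1) hg
  simp only [h1]
  rw [Finset.sum_ite, Finset.sum_const_zero, add_zero, Finset.sum_const, smul_eq_mul, mul_comm]
  congr 1
  rw [Nat.card_eq_fintype_card, Fintype.card_subtype]

variable [DecidableEq G]

/-- the pairs of involutions with product `p` -/
def pairsWith (p : G) : Finset (G × G) :=
  ((invs G) ×ˢ (invs G)).filter (fun xy => xy.1 * xy.2 = p)

theorem mem_pairsWith {p : G} {xy : G × G} :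
    xy ∈ pairsWith p ↔ ((xy.1 ≠ 1 ∧ xy.1 * xy.1 = 1) ∧ (xy.2 ≠ 1 ∧ xy.2 * xy.2 = 1)) ∧
      xy.1 * xy.2 = p := by
  simp [pairsWith, mem_invs]

theorem sum_card_pairsWith :
    ∑ p : G, (pairsWith p).card = (invs G).card ^ 2 := by
  rw [pow_two, ← Finset.card_product]
  exact (Finset.card_eq_sum_card_fiberwise (f := fun xy : G × G => xy.1 * xy.2)
    (s := (invs G) ×ˢ (invs G)) (t := Finset.univ) (fun _ _ => Finset.mem_univ _)).symm

theorem card_pairsWith_one : (pairsWith (1 : G)).card ≤ (invs G).card := by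
  apply Finset.card_le_card_of_injOn (fun xy => xy.1)
  · intro xy hxy
    rw [Finset.mem_coe, mem_pairsWith] at hxy
    rw [Finset.mem_coe, mem_invs]
    exact hxy.1.1
  · intro xy hxy xy' hxy' h
    rw [Finset.mem_coe, mem_pairsWith] at hxy hxy'
    have h1 : xy.1 = xy'.1 := h
    have h2 : xy.2 = xy'.2 := by
      have e1 : xy.2 = xy.1⁻¹ := (inv_eq_of_mul_eq_one_right hxy.2).symm
      have e2 : xy'.2 = xy'.1⁻¹ := (inv_eq_of_mul_eq_one_right hxy'.2).symm
      rw [e1, e2, h1]
    exact Prod.ext h1 h2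

theorem card_pairsWith_inv {p : G} (hp : p ∈ invs G) :
    (pairsWith p).card + 1 ≤ ((invs G).filter (fun x => x * p = p * x)).card := by
  have hpmem : p ∈ (invs G).filter (fun x => x * p = p * x) := by
    simp [hp]
  rw [← Finset.card_erase_add_one hpmem]
  apply Nat.add_le_add_right
  apply Finset.card_le_card_of_injOn (fun xy => xy.1)
  · intro xy hxy
    rw [Finset.mem_coe, mem_pairsWith] at hxy
    obtain ⟨⟨⟨hx1, hx2⟩, ⟨hy1, hy2⟩⟩, hxy'⟩ := hxy
    rw [mem_invs] at hp
    have hxinv : xy.1⁻¹ = xy.1 := inv_eq_of_mul_eq_one_left hx2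
    have hyinv : xy.2⁻¹ = xy.2 := inv_eq_of_mul_eq_one_left hy2
    have hcomm : xy.1 * xy.2 = xy.2 * xy.1 := by
      have : (xy.1 * xy.2)⁻¹ = xy.1 * xy.2 := by
        rw [hxy']; exact inv_eq_of_mul_eq_one_left hp.2
      rw [mul_inv_rev, hxinv, hyinv] at this
      exact this.symm
    rw [Finset.mem_coe, Finset.mem_erase, Finset.mem_filter, mem_invs]
    refine ⟨?_, ⟨hx1, hx2⟩, ?_⟩
    · intro h
      apply hy1
      have : xy.1 * xy.2 = xy.1 := by rw [hxy']; exact h.symm
      exact mul_left_cancel (this.trans (mul_one _).symm)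
    · rw [← hxy']
      calc xy.1 * (xy.1 * xy.2) = xy.1 * (xy.2 * xy.1) := by rw [hcomm]
        _ = xy.1 * xy.2 * xy.1 := by group
  · intro xy hxy xy' hxy' h
    rw [Finset.mem_coe, mem_pairsWith] at hxy hxy'
    have h1 : xy.1 = xy'.1 := h
    have h2 : xy.2 = xy'.2 := by
      have e1 : xy.2 = xy.1⁻¹ * p := by rw [← hxy.2]; group
      have e2 : xy'.2 = xy'.1⁻¹ * p := by rw [← hxy'.2]; group
      rw [e1, e2, h1]
    exact Prod.ext h1 h2

open Classical in
theorem card_pairsWith_other {p : G} (hp1 : p ≠ 1) (hp : p ∉ invs G) :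
    (pairsWith p).card ≤ (if SR p then Nat.card (Subgroup.centralizer ({p} : Set G)) else 0) := by
  classical
  by_cases hemp : pairsWith p = ∅
  · rw [hemp]; simp
  obtain ⟨xy₀, hxy₀⟩ := Finset.nonempty_iff_ne_empty.mpr hemp
  have hp2 : p * p ≠ 1 := by
    intro h
    exact hp (mem_invs.mpr ⟨hp1, h⟩)
  have hinvert : ∀ xy ∈ pairsWith p, xy.1 * p * xy.1⁻¹ = p⁻¹ := by
    intro xy hxy
    rw [mem_pairsWith] at hxy
    obtain ⟨⟨⟨hx1, hx2⟩, ⟨hy1, hy2⟩⟩, hxy'⟩ := hxy
    have hxinv : xy.1⁻¹ = xy.1 := inv_eq_of_mul_eq_one_left hx2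
    have hyinv : xy.2⁻¹ = xy.2 := inv_eq_of_mul_eq_one_left hy2
    rw [← hxy', mul_inv_rev, hxinv, hyinv]
    calc xy.1 * (xy.1 * xy.2) * xy.1 = (xy.1 * xy.1) * xy.2 * xy.1 := by group
      _ = xy.2 * xy.1 := by rw [hx2, one_mul]
  have hSR : SR p := by
    have h0 := (mem_pairsWith.mp hxy₀)
    exact ⟨hp1, hp2, xy₀.1, h0.1.1, hinvert xy₀ hxy₀⟩
  rw [if_pos hSR, Nat.card_eq_fintype_card, ← Finset.card_univ]
  apply Finset.card_le_card_of_injOn
    (fun xy => if h : xy ∈ pairsWith p then
      (⟨xy₀.1⁻¹ * xy.1, by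
        rw [Subgroup.mem_centralizer_singleton_iff]
        have e1 := hinvert xy h
        have e2 := hinvert xy₀ hxy₀
        have e3 : xy.1 * p = p⁻¹ * xy.1 := by
          rw [← e1]; group
        have e4 : xy₀.1⁻¹ * p⁻¹ = p * xy₀.1⁻¹ := by
          rw [← e2]; group
        calc xy₀.1⁻¹ * xy.1 * p = xy₀.1⁻¹ * (xy.1 * p) := by group
          _ = xy₀.1⁻¹ * (p⁻¹ * xy.1) := by rw [e3]
          _ = (xy₀.1⁻¹ * p⁻¹) * xy.1 := by group
          _ = p * xy₀.1⁻¹ * xy.1 := by rw [e4]
          _ = p * (xy₀.1⁻¹ * xy.1) := by group⟩ :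
        Subgroup.centralizer ({p} : Set G)) else 1)
  · intro _ _
    exact Finset.mem_coe.mpr (Finset.mem_univ _)
  · intro xy hxy xy' hxy' h
    rw [Finset.mem_coe] at hxy hxy'
    simp only [dif_pos hxy, dif_pos hxy'] at h
    have h1 : xy.1 = xy'.1 := by
      have := congrArg Subtype.val h
      exact mul_left_cancel this
    rw [mem_pairsWith] at hxy hxy'
    have h2 : xy.2 = xy'.2 := by
      have e1 : xy.2 = xy.1⁻¹ * p := by rw [← hxy.2]; group
      have e2 : xy'.2 = xy'.1⁻¹ * p := by rw [← hxy'.2]; group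
      rw [e1, e2, h1]
    exact Prod.ext h1 h2

open Classical in
/-- the main counting inequality -/
theorem sq_card_invs_le (B : ℕ) (hB1 : 1 ≤ B)
    (hB : ∀ t ∈ invs G, ((invs G).filter (fun x => x * t = t * x)).card ≤ B) :
    (invs G).card ^ 2 ≤ (invs G).card * B +
      Nat.card G * Nat.card {C : ConjClasses G // ∀ g : G, ConjClasses.mk g = C → SR g} := by
  rw [← sum_card_pairsWith, ← sum_card_centralizer_invariant SR (fun g z hg => SR_conj hg z)]
  have hF : ∀ p : G, (pairsWith p).card ≤
      (if p = 1 then (invs G).card else 0) + (if p ∈ invs G then B - 1 else 0) +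
      (if SR p then Nat.card (Subgroup.centralizer ({p} : Set G)) else 0) := by
    intro p
    by_cases hp1 : p = 1
    · subst hp1
      rw [if_pos rfl]
      have := card_pairsWith_one (G := G)
      omega
    · by_cases hpJ : p ∈ invs G
      · rw [if_neg hp1, if_pos hpJ]
        have h1 := card_pairsWith_inv hpJ
        have h2 := hB p hpJ
        omega
      · rw [if_neg hp1, if_neg hpJ]
        have := card_pairsWith_other hp1 hpJ
        omega
  refine (Finset.sum_le_sum (fun p _ => hF p)).trans ?_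
  rw [Finset.sum_add_distrib, Finset.sum_add_distrib, Finset.sum_ite_eq' Finset.univ (1 : G),
    if_pos (Finset.mem_univ _), ← Finset.sum_filter, ← Finset.sum_filter]
  have hfil : Finset.univ.filter (fun p : G => p ∈ invs G) = invs G := by
    ext p; simp
  rw [hfil, Finset.sum_const, smul_eq_mul]
  have : (invs G).card + (invs G).card * (B - 1) = (invs G).card * B := by
    obtain ⟨k, rfl⟩ : ∃ k, B = k + 1 := ⟨B - 1, by omega⟩
    rw [Nat.add_sub_cancel]; ring
  rw [this]

end Fin

end Cfsg.Agent.Lib.Helper25.InvPairs
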