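import Mathlib

/-!
# Frobenius complements of non-abelian kernels have odd order (helper25)

`H ⊴ N` with `C_N(h) ≤ H` for `1 ≠ h ∈ H`:
* `comm_of_involution` : an involution outside `H` inverts `H`, so `H` is abelian;
* `odd_card_of_not_comm` : if `|H|` is odd and `H` is not abelian then `|N|` is odd.
-/

set_option autoImplicit false

namespace Cfsg.Agent.Lib.Helper25.FrobOdd

variable {N : Type*} [Group N] [Finite N] (H : Subgroup N) [hHn : H.Normal]

include hHn in
/-- an involution outside a Frobenius kernel inverts it -/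
theorem inv_of_involution
    (hC : ∀ h ∈ H, h ≠ 1 → Subgroup.centralizer ({h} : Set N) ≤ H)
    (t : N) (ht : t * t = 1) (htH : t ∉ H) : ∀ k ∈ H, t * k * t⁻¹ = k⁻¹ := by
  classical
  have htinv : t⁻¹ = t := by
    rw [inv_eq_iff_mul_eq_one]
    exact ht
  let f : H → H := fun x => ⟨(x : N)⁻¹ * (t * x * t⁻¹), H.mul_mem (H.inv_mem x.2)
    (hHn.conj_mem _ x.2 t)⟩
  have hinj : Function.Injective f := by
    intro x y hxy
    have h1 : (x : N)⁻¹ * (t * x * t⁻¹) = (y : N)⁻¹ * (t * y * t⁻¹) := congrArg Subtype.val hxy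
    by_contra hne
    have hne' : (y : N) * (x : N)⁻¹ ≠ 1 := by
      intro h
      apply hne
      apply Subtype.ext
      have := mul_inv_eq_one.mp h
      exact this.symm
    have hmem : (y : N) * (x : N)⁻¹ ∈ H := H.mul_mem y.2 (H.inv_mem x.2)
    have hcent : t ∈ Subgroup.centralizer ({(y : N) * (x : N)⁻¹} : Set N) := by
      rw [Subgroup.mem_centralizer_singleton_iff]
      -- from h1 : x⁻¹ t x t⁻¹ = y⁻¹ t y t⁻¹
      have h2 : (x : N)⁻¹ * t * x = (y : N)⁻¹ * t * y := by
        have := congrArg (fun z => z * t) h1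
        simpa [mul_assoc] using this
      have h3 : t * x = x * ((y : N)⁻¹ * t * y) := by
        rw [← h2]; group
      calc t * (↑y * (↑x : N)⁻¹) = (y : N) * ((y : N)⁻¹ * t * y) * (x : N)⁻¹ := by group
        _ = (y : N) * ((x : N)⁻¹ * t * x) * (x : N)⁻¹ := by rw [h2]
        _ = ↑y * (↑x : N)⁻¹ * t := by group
    exact htH (hC _ hmem hne' hcent)
  have hsurj : Function.Surjective f := Finite.surjective_of_injective hinj
  intro k hk
  obtain ⟨x, hx⟩ := hsurj ⟨k, hk⟩
  have hx' : (x : N)⁻¹ * (t * x * t⁻¹) = k := congrArg Subtype.val hx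
  rw [← hx', htinv]
  have : ((x : N)⁻¹ * (t * x * t))⁻¹ = t⁻¹ * (x : N)⁻¹ * t⁻¹ * x := by group
  rw [this, htinv]
  calc t * ((x : N)⁻¹ * (t * x * t)) * t = t * (x : N)⁻¹ * t * x * (t * t) := by group
    _ = t * (x : N)⁻¹ * t * x := by rw [ht, mul_one]

include hHn in
/-- a Frobenius kernel admitting an involution outside it is abelian -/
theorem comm_of_involution
    (hC : ∀ h ∈ H, h ≠ 1 → Subgroup.centralizer ({h} : Set N) ≤ H)
    (t : N) (ht : t * t = 1) (htH : t ∉ H) : ∀ a ∈ H, ∀ b ∈ H, a * b = b * a := by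
  intro a ha b hb
  have h1 := inv_of_involution H hC t ht htH a ha
  have h2 := inv_of_involution H hC t ht htH b hb
  have h3 := inv_of_involution H hC t ht htH (a * b) (H.mul_mem ha hb)
  have h4 : t * (a * b) * t⁻¹ = (t * a * t⁻¹) * (t * b * t⁻¹) := by group
  rw [h4, h1, h2, mul_inv_rev] at h3
  -- a⁻¹ b⁻¹ = b⁻¹ a⁻¹
  have h5 := congrArg (fun z => z⁻¹) h3
  simp only [mul_inv_rev, inv_inv] at h5
  exact h5.symm

include hHn in
/-- a group with a non-abelian Frobenius kernel of odd order has odd order -/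
theorem odd_card_of_not_comm
    (hC : ∀ h ∈ H, h ≠ 1 → Subgroup.centralizer ({h} : Set N) ≤ H)
    (hodd : Odd (Nat.card H)) (hna : ¬ ∀ a ∈ H, ∀ b ∈ H, a * b = b * a) :
    Odd (Nat.card N) := by
  classical
  rw [← Nat.not_even_iff_odd]
  intro heven
  have h2 : 2 ∣ Nat.card N := even_iff_two_dvd.mp heven
  have : Fact (Nat.Prime 2) := ⟨Nat.prime_two⟩
  obtain ⟨t, ht⟩ := exists_prime_orderOf_dvd_card' 2 h2
  have ht2 : t * t = 1 := by
    have := pow_orderOf_eq_one t
    rw [ht, pow_two] at this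
    exact this
  have htH : t ∉ H := by
    intro hmem
    have h3 : orderOf (⟨t, hmem⟩ : H) ∣ Nat.card H := orderOf_dvd_natCard _
    rw [Subgroup.orderOf_mk, ht] at h3
    have := (even_iff_two_dvd.mpr h3)
    exact (Nat.not_even_iff_odd.mpr hodd) this
  exact hna (comm_of_involution H hC t ht2 htH)

end Cfsg.Agent.Lib.Helper25.FrobOdd
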