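import Mathlib
import Cfsg.Agent.Lib.Helper78.CharMore
import Cfsg.Agent.Lib.Helper79.Integrality

/-!
Irreducible constituents of a character: existence, degree bound, kernel.
-/

set_option autoImplicit false

namespace Cfsg.Agent.Lib.Helper25

open Cfsg Cfsg.Agent.Lib.Helper78

universe u

/-- a complex number of norm at most `d` with real part `d` equals `d` -/
theorem eq_of_norm_le_of_re_eq (z : ℂ) (d : ℝ) (hz : ‖z‖ ≤ d) (hre : z.re = d) : z = (d : ℂ) := by
  have him : z.im = 0 := by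
    have h1 : ‖z‖ ^ 2 ≤ d ^ 2 := by
      have h0 : 0 ≤ ‖z‖ := norm_nonneg _
      exact pow_le_pow_left₀ h0 hz 2
    rw [Complex.sq_norm, Complex.normSq_apply, hre] at h1
    have h2 : z.im * z.im ≤ 0 := by nlinarith
    have h3 : 0 ≤ z.im * z.im := mul_self_nonneg _
    have h4 : z.im * z.im = 0 := le_antisymm h2 h3
    exact mul_self_eq_zero.mp h4
  apply Complex.ext
  · simp [hre]
  · simp [him]

variable {G : Type u} [Group G] [Fintype G]

/-- An irreducible constituent `ξ` of a character `χ` has degree at most that of `χ`, and its kernel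
contains the kernel of `χ`. -/
theorem constituent_facts {χ : G → ℂ} (hχ : IsCharacter G χ) (ξ : IrrCharacter G)
    (hξ : classInner χ (ξ : G → ℂ) ≠ 0) :
    (∀ g : G, χ g = χ 1 → (ξ : G → ℂ) g = (ξ : G → ℂ) 1) ∧
      charDegree (ξ : G → ℂ) ≤ charDegree χ := by
  classical
  obtain ⟨m, hm⟩ := (isCharacter_iff_exists_nat_combination χ).mp hχ
  have hmξ : m ξ ≠ 0 := by
    intro h0
    apply hξ
    rw [hm, classInner_nat_combination (fun ψ => (m ψ : ℂ)) ξ, h0]
    simp
  have hdeg : ∀ ψ : IrrCharacter G, (ψ : G → ℂ) 1 = (charDegree (ψ : G → ℂ) : ℂ) :=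
    fun ψ => Cfsg.Agent.Lib.Helper79.irr_apply_one_eq_charDegree ψ
  have hval : ∀ g : G, χ g = ∑ ψ : IrrCharacter G, (m ψ : ℂ) * (ψ : G → ℂ) g := by
    intro g
    conv_lhs => rw [hm]
    rw [Finset.sum_apply]
    rfl
  constructor
  · intro g hg
    -- real parts
    have h1 : ∑ ψ : IrrCharacter G, (m ψ : ℝ) * ((charDegree (ψ : G → ℂ) : ℝ) - ((ψ : G → ℂ) g).re) = 0 := by
      have h2 : (χ 1).re - (χ g).re = 0 := by rw [hg]; ring
      rw [hval 1, hval g, Complex.re_sum, Complex.re_sum, ← Finset.sum_sub_distrib] at h2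
      rw [← h2]
      apply Finset.sum_congr rfl
      intro ψ _
      rw [hdeg ψ]
      simp [mul_sub]
    have hnorm : ∀ ψ : IrrCharacter G, ‖(ψ : G → ℂ) g‖ ≤ (charDegree (ψ : G → ℂ) : ℝ) :=
      fun ψ => Cfsg.Agent.Lib.Helper79.irr_norm_le ψ g
    have hnonneg : ∀ ψ ∈ (Finset.univ : Finset (IrrCharacter G)),
        0 ≤ (m ψ : ℝ) * ((charDegree (ψ : G → ℂ) : ℝ) - ((ψ : G → ℂ) g).re) := by
      intro ψ _
      apply mul_nonneg (Nat.cast_nonneg _)
      exact sub_nonneg.mpr ((Complex.re_le_norm _).trans (hnorm ψ))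
    have h3 := (Finset.sum_eq_zero_iff_of_nonneg hnonneg).mp h1 ξ (Finset.mem_univ ξ)
    have h4 : ((ξ : G → ℂ) g).re = (charDegree (ξ : G → ℂ) : ℝ) := by
      have hm0 : (m ξ : ℝ) ≠ 0 := Nat.cast_ne_zero.mpr hmξ
      have := (mul_eq_zero.mp h3).resolve_left hm0
      linarith
    rw [eq_of_norm_le_of_re_eq _ _ (hnorm ξ) h4, hdeg ξ]
    simp
  · have h1 : (charDegree χ : ℂ) = ((∑ ψ : IrrCharacter G, m ψ * charDegree (ψ : G → ℂ) : ℕ) : ℂ) := by
      rw [← IsCharacter.apply_one_eq_charDegree hχ, hval 1]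
      push_cast
      apply Finset.sum_congr rfl
      intro ψ _
      rw [hdeg ψ]
    have h2 : charDegree χ = ∑ ψ : IrrCharacter G, m ψ * charDegree (ψ : G → ℂ) := by
      exact_mod_cast h1
    rw [h2]
    calc charDegree (ξ : G → ℂ) ≤ m ξ * charDegree (ξ : G → ℂ) :=
          Nat.le_mul_of_pos_left _ (Nat.pos_of_ne_zero hmξ)
      _ ≤ ∑ ψ : IrrCharacter G, m ψ * charDegree (ψ : G → ℂ) :=
          Finset.single_le_sum (f := fun ψ : IrrCharacter G => m ψ * charDegree (ψ : G → ℂ))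
            (fun _ _ => Nat.zero_le _) (Finset.mem_univ ξ)

/-- A character with nonzero degree has an irreducible constituent. -/
theorem exists_constituent {χ : G → ℂ} (hχ : IsCharacter G χ) (h1 : χ 1 ≠ 0) :
    ∃ ξ : IrrCharacter G, classInner χ (ξ : G → ℂ) ≠ 0 := by
  by_contra hcon
  simp only [not_exists, not_not] at hcon
  apply h1
  have := IsCharacter.eq_sum_irr hχ
  rw [this]
  simp [hcon]

end Cfsg.Agent.Lib.Helper25
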