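import Cfsg.Agent.Lib.Helper25.BPEInt
import Cfsg.Agent.Lib.Helper52.BPBridge

/-!
# PROJECT BP (coordinator helper92), module BP-[L4-E-INT] (helper25): exact skeleton statement

`isIntegral_classInner_star` exactly as in `BP_SKEL4.lean.txt`, from `isIntegral_classInner_star_of`
(`BPEInt.lean`) and helper52's [L4-BRIDGE] `blockPart_eq_ev`.
-/

set_option autoImplicit false

namespace Cfsg.Agent.Lib.Helper25.BP

open Cfsg Cfsg.Agent.Lib.Helper16 Cfsg.Agent.Lib.Helper92.BP

variable {G : Type*} [Group G] [Finite G] {p : ℕ} [Fact p.Prime] {M : Ideal AlgInt}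
  [hMp : M.IsPrime]

/-- BP-[L4-E-INT] : the coefficient functions of `θ` on `Q × L` are algebraic integers -/
theorem isIntegral_classInner_star (hM : IsPModular p M) {μ : LocSys G}
    (hμ : IsLocalSystem p M μ) {χ : G → ℂ} (hχ : IsCharacter G χ) {θ : G → ℂ}
    (hθ : IsStar M p μ χ θ) {u : G} (hu : ∃ k : ℕ, orderOf u = p ^ k) (L : Subgroup G)
    [Fintype L] (hL : ∀ s ∈ L, ¬ p ∣ orderOf s) (hcomm : ∀ s ∈ L, u * s = s * u)
    (ζ : IrrCharacter L) :
    IsIntegral ℤ (classInner (fun s : L => θ (u * (s : G))) (ζ : L → ℂ)) :=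
  isIntegral_classInner_star_of hM hμ hχ hθ hu
    (fun _ hf _ hϑ s => Cfsg.Agent.Lib.Helper52.BP.blockPart_eq_ev hM hf hϑ s) L hL hcomm ζ

end Cfsg.Agent.Lib.Helper25.BP
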