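import Mathlib
import Cfsg.Prelude.Def_OddOrderLocal
import Cfsg.Agent.Lib.Helper55.Cores
import Cfsg.Agent.Lib.Helper49.RankOneCyclic

/-!
# Nilpotent subgroups: bridging lemmas on `O_q(H)` (as a subgroup of `G`)

Modules [NB] and [CYC] requested by helper51 (board #3075) for BG Theorem 15.7.
By helper25.
-/

set_option autoImplicit false
set_option linter.unusedVariables false
set_option linter.unusedSectionVars false
set_option linter.style.haveILetI false

namespace Cfsg.Agent.Lib.Helper25.NilBridge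

open Cfsg Cfsg.Agent.Lib.Helper55
open scoped commutatorElement

section Abs

variable {K : Type*} [Group K] [Finite K]

/-- A subgroup containing a Sylow `p`-subgroup for every prime `p` is everything. -/
theorem eq_top_of_forall_sylow_le (D : Subgroup K)
    (h : ∀ p : ℕ, ∀ _ : Fact p.Prime, ∃ S : Sylow p K, (S : Subgroup K) ≤ D) : D = ⊤ := by
  rw [← Subgroup.index_eq_one]
  by_contra hne
  obtain ⟨p, hp, hpd⟩ := Nat.exists_prime_and_dvd hne
  haveI : Fact p.Prime := ⟨hp⟩
  obtain ⟨S, hS⟩ := h p ⟨hp⟩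
  exact S.not_dvd_index (hpd.trans (Subgroup.index_dvd_of_le hS))

/-- In a finite nilpotent group every Sylow subgroup is the core. -/
theorem sylow_eq_pCore (hK : Group.IsNilpotent K) (q : ℕ) [Fact q.Prime] (S : Sylow q K) :
    (S : Subgroup K) = pCore q K := by
  have hn : (S : Subgroup K).Normal := by
    haveI := hK
    infer_instance
  exact le_antisymm (le_pCore hn S.isPGroup') (pCore_le_sylow S)

theorem le_pCore_of_isPGroup (hK : Group.IsNilpotent K) (q : ℕ) [Fact q.Prime] {B : Subgroup K}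
    (hB : IsPGroup q B) : B ≤ pCore q K := by
  obtain ⟨S, hS⟩ := hB.exists_le_sylow
  rw [← sylow_eq_pCore hK q S]
  exact hS

theorem pCore_disjoint_pPrimeCore (p : ℕ) [Fact p.Prime] : pCore p K ⊓ pPrimeCore p K = ⊥ := by
  rw [← disjoint_iff]
  apply Subgroup.disjoint_of_coprime_natCard
  obtain ⟨n, hn⟩ := (isPGroup_pCore (G := K) p).exists_card_eq
  rw [hn]
  exact Nat.Coprime.pow_left n (card_pPrimeCore_coprime (G := K) p).symm

theorem pCore_sup_pPrimeCore (hK : Group.IsNilpotent K) (q : ℕ) [Fact q.Prime] :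
    pCore q K ⊔ pPrimeCore q K = ⊤ := by
  apply eq_top_of_forall_sylow_le
  intro p hp
  haveI := hp
  obtain ⟨S⟩ : Nonempty (Sylow p K) := inferInstance
  refine ⟨S, ?_⟩
  by_cases hpq : p = q
  · subst hpq
    rw [sylow_eq_pCore hK p S]
    exact le_sup_left
  · refine le_trans ?_ le_sup_right
    have hn : (S : Subgroup K).Normal := by
      haveI := hK
      infer_instance
    apply le_pPrimeCore hn
    obtain ⟨n, hn⟩ := S.isPGroup'.exists_card_eq
    rw [hn]
    exact Nat.Coprime.pow_left n ((Nat.coprime_primes hp.out (Fact.out : q.Prime)).2 hpq)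

theorem commute_pCore_pPrimeCore (p : ℕ) [Fact p.Prime] {a b : K} (ha : a ∈ pCore p K)
    (hb : b ∈ pPrimeCore p K) : a * b = b * a := by
  haveI := pCore_normal' (G := K) p
  haveI := pPrimeCore_normal' (G := K) p
  exact Subgroup.commute_of_normal_of_disjoint _ _ inferInstance inferInstance
    (disjoint_iff.2 (pCore_disjoint_pPrimeCore p)) a b ha hb

theorem commute_pCore_pCore (q r : ℕ) [Fact q.Prime] [Fact r.Prime] (hqr : q ≠ r) {a b : K}
    (ha : a ∈ pCore q K) (hb : b ∈ pCore r K) : a * b = b * a := by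
  haveI := pCore_normal' (G := K) q
  haveI := pCore_normal' (G := K) r
  exact Subgroup.commute_of_normal_of_disjoint _ _ inferInstance inferInstance
    (IsPGroup.disjoint_of_ne q r hqr _ _ (isPGroup_pCore q) (isPGroup_pCore r)) a b ha hb

theorem pCore_inf_commutator_le (hK : Group.IsNilpotent K) (q : ℕ) [Fact q.Prime] :
    pCore q K ⊓ commutator K ≤ ⁅pCore q K, pCore q K⁆ := by
  haveI hQn := pCore_normal' (G := K) q
  haveI hKn := pPrimeCore_normal' (G := K) q
  have hdec : ∀ h : K, ∃ a ∈ pCore q K, ∃ b ∈ pPrimeCore q K, a * b = h := by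
    intro h
    have h1 : h ∈ pCore q K ⊔ pPrimeCore q K := by
      rw [pCore_sup_pPrimeCore hK q]; trivial
    rw [← SetLike.mem_coe, Subgroup.mul_normal] at h1
    exact Set.mem_mul.1 h1
  have hcomm : commutator K ≤ ⁅pCore q K, pCore q K⁆ ⊔ pPrimeCore q K := by
    rw [commutator_def, Subgroup.commutator_le]
    intro h1 _ h2 _
    obtain ⟨a1, ha1, b1, hb1, rfl⟩ := hdec h1
    obtain ⟨a2, ha2, b2, hb2, rfl⟩ := hdec h2
    have e : ⁅a1 * b1, a2 * b2⁆ = ⁅a1, a2⁆ * ⁅b1, b2⁆ := by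
      have c12 := commute_pCore_pPrimeCore q ha1 hb2
      have c21 := commute_pCore_pPrimeCore q ha2 hb1
      have c11 := commute_pCore_pPrimeCore q ha1 hb1
      have c22 := commute_pCore_pPrimeCore q ha2 hb2
      have c11' := commute_pCore_pPrimeCore q (inv_mem ha1) hb1
      have c12' := commute_pCore_pPrimeCore q (inv_mem ha1) hb2
      have c21' := commute_pCore_pPrimeCore q (inv_mem ha2) hb1
      have c22' := commute_pCore_pPrimeCore q (inv_mem ha2) hb2
      have d11 := commute_pCore_pPrimeCore q ha1 (inv_mem hb1)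
      have d12 := commute_pCore_pPrimeCore q ha1 (inv_mem hb2)
      have d21 := commute_pCore_pPrimeCore q ha2 (inv_mem hb1)
      have d22 := commute_pCore_pPrimeCore q ha2 (inv_mem hb2)
      have dd11 := commute_pCore_pPrimeCore q (inv_mem ha1) (inv_mem hb1)
      have dd12 := commute_pCore_pPrimeCore q (inv_mem ha1) (inv_mem hb2)
      have dd21 := commute_pCore_pPrimeCore q (inv_mem ha2) (inv_mem hb1)
      have dd22 := commute_pCore_pPrimeCore q (inv_mem ha2) (inv_mem hb2)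
      simp only [commutatorElement_def, mul_inv_rev]
      -- a1 b1 a2 b2 b1⁻¹ a1⁻¹ b2⁻¹ a2⁻¹ = a1 a2 a1⁻¹ a2⁻¹ b1 b2 b1⁻¹ b2⁻¹
      calc a1 * b1 * (a2 * b2) * (b1⁻¹ * a1⁻¹) * (b2⁻¹ * a2⁻¹)
          = a1 * (b1 * a2) * b2 * b1⁻¹ * a1⁻¹ * b2⁻¹ * a2⁻¹ := by simp only [mul_assoc]
        _ = a1 * (a2 * b1) * b2 * b1⁻¹ * a1⁻¹ * b2⁻¹ * a2⁻¹ := by rw [c21]
        _ = a1 * a2 * (b1 * b2 * b1⁻¹) * a1⁻¹ * b2⁻¹ * a2⁻¹ := by simp only [mul_assoc]
        _ = a1 * a2 * (a1⁻¹ * (b1 * b2 * b1⁻¹)) * b2⁻¹ * a2⁻¹ := by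
            rw [commute_pCore_pPrimeCore q (inv_mem ha1)
              (mul_mem (mul_mem hb1 hb2) (inv_mem hb1))]
            simp only [mul_assoc]
        _ = a1 * a2 * a1⁻¹ * ((b1 * b2 * b1⁻¹ * b2⁻¹) * a2⁻¹) := by simp only [mul_assoc]
        _ = a1 * a2 * a1⁻¹ * (a2⁻¹ * (b1 * b2 * b1⁻¹ * b2⁻¹)) := by
            rw [commute_pCore_pPrimeCore q (inv_mem ha2)
              (mul_mem (mul_mem (mul_mem hb1 hb2) (inv_mem hb1)) (inv_mem hb2))]
        _ = a1 * a2 * a1⁻¹ * a2⁻¹ * (b1 * b2 * b1⁻¹ * b2⁻¹) := by simp only [mul_assoc]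
    rw [e]
    exact Subgroup.mul_mem_sup (Subgroup.commutator_mem_commutator ha1 ha2)
      (by rw [commutatorElement_def]
          exact mul_mem (mul_mem (mul_mem hb1 hb2) (inv_mem hb1)) (inv_mem hb2))
  intro y hy
  obtain ⟨hyQ, hyC⟩ := hy
  have h1 := hcomm hyC
  rw [← SetLike.mem_coe, Subgroup.mul_normal] at h1
  obtain ⟨c, hc, k, hk, rfl⟩ := Set.mem_mul.1 h1
  have hcQ : c ∈ pCore q K := Subgroup.commutator_le_left (pCore q K) (pCore q K) hc
  have hkQ : k ∈ pCore q K := by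
    have := mul_mem (inv_mem hcQ) hyQ
    simpa using this
  have hk1 : k = 1 := by
    have : k ∈ pCore q K ⊓ pPrimeCore q K := ⟨hkQ, hk⟩
    rw [pCore_disjoint_pPrimeCore q] at this
    exact Subgroup.mem_bot.1 this
  rw [hk1, mul_one]
  exact hc

end Abs

section Main

variable {G : Type*} [Group G] [Finite G]

/-- NB1 -/
theorem exists_sylow_eq_pCore (H : Subgroup G) (hH : Group.IsNilpotent H) (q : ℕ) [Fact q.Prime] :
    ∃ S : Sylow q ↥H, (S : Subgroup ↥H) = Cfsg.pCore q ↥H := by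
  obtain ⟨S⟩ : Nonempty (Sylow q ↥H) := inferInstance
  exact ⟨S, sylow_eq_pCore hH q S⟩

/-- NB1' -/
theorem le_map_pCore_of_isPGroup (H : Subgroup G) (hH : Group.IsNilpotent H) (q : ℕ)
    [Fact q.Prime] {B : Subgroup G} (hBH : B ≤ H) (hB : IsPGroup q B) :
    B ≤ (Cfsg.pCore q ↥H).map H.subtype := by
  have h1 : IsPGroup q (B.subgroupOf H) := hB.comap_subtype
  have h2 := le_pCore_of_isPGroup hH q h1
  intro x hx
  exact ⟨⟨x, hBH hx⟩, h2 (Subgroup.mem_subgroupOf.2 hx), rfl⟩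

/-- NB2 -/
theorem le_of_forall_map_pCore_le (H : Subgroup G) (hH : Group.IsNilpotent H) {C : Subgroup G}
    (h : ∀ q : ℕ, q.Prime → (Cfsg.pCore q ↥H).map H.subtype ≤ C) : H ≤ C := by
  rw [← Subgroup.subgroupOf_eq_top]
  apply eq_top_of_forall_sylow_le
  intro p hp
  haveI := hp
  obtain ⟨S, hS⟩ := exists_sylow_eq_pCore H hH p
  refine ⟨S, ?_⟩
  rw [hS]
  intro x hx
  rw [Subgroup.mem_subgroupOf]
  exact h p hp.out ⟨x, hx, rfl⟩

/-- NB3 -/
theorem map_pCore_ne_bot (H : Subgroup G) (hH : Group.IsNilpotent H) (q : ℕ) [Fact q.Prime]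
    (hq : q ∣ Nat.card H) : (Cfsg.pCore q ↥H).map H.subtype ≠ ⊥ := by
  obtain ⟨S, hS⟩ := exists_sylow_eq_pCore H hH q
  rw [Ne, Subgroup.map_eq_bot_iff_of_injective _ H.subtype_injective, ← hS]
  exact S.ne_bot_of_dvd_card hq

/-- NB4 -/
theorem commute_of_mem_map_pCore (H : Subgroup G) (q r : ℕ) [Fact q.Prime] [Fact r.Prime]
    (hqr : q ≠ r) {a b : G} (ha : a ∈ (Cfsg.pCore q ↥H).map H.subtype)
    (hb : b ∈ (Cfsg.pCore r ↥H).map H.subtype) : a * b = b * a := by
  obtain ⟨a', ha', rfl⟩ := ha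
  obtain ⟨b', hb', rfl⟩ := hb
  have := commute_pCore_pCore q r hqr ha' hb'
  exact congrArg H.subtype this

/-- NB5 -/
theorem commute_of_mem_map_pCore_pPrimeCore (H : Subgroup G) (p : ℕ) [Fact p.Prime] {a b : G}
    (ha : a ∈ (Cfsg.pCore p ↥H).map H.subtype)
    (hb : b ∈ (Cfsg.pPrimeCore p ↥H).map H.subtype) : a * b = b * a := by
  obtain ⟨a', ha', rfl⟩ := ha
  obtain ⟨b', hb', rfl⟩ := hb
  have := commute_pCore_pPrimeCore p ha' hb'
  exact congrArg H.subtype this

/-- NB6 -/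
theorem map_pCore_inf_commutator_le (H : Subgroup G) (hH : Group.IsNilpotent H) (q : ℕ)
    [Fact q.Prime] :
    (Cfsg.pCore q ↥H).map H.subtype ⊓ ⁅H, H⁆ ≤
      ⁅(Cfsg.pCore q ↥H).map H.subtype, (Cfsg.pCore q ↥H).map H.subtype⁆ := by
  have h1 := pCore_inf_commutator_le hH q
  have h2 := Subgroup.map_mono (f := H.subtype) h1
  rw [Subgroup.map_inf _ _ _ H.subtype_injective, Subgroup.map_commutator,
    Subgroup.map_subtype_commutator] at h2
  exact h2

/-- NB7 -/
theorem normalizer_le_normalizer_map_pCore (H : Subgroup G) (hH : Group.IsNilpotent H) (q : ℕ)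
    [Fact q.Prime] :
    Subgroup.normalizer (H : Set G) ≤
      Subgroup.normalizer (((Cfsg.pCore q ↥H).map H.subtype : Subgroup G) : Set G) := by
  have key : ∀ g : G, g ∈ Subgroup.normalizer (H : Set G) →
      ∀ x ∈ (Cfsg.pCore q ↥H).map H.subtype, g * x * g⁻¹ ∈ (Cfsg.pCore q ↥H).map H.subtype := by
    intro g hg x hx
    have hOH : (Cfsg.pCore q ↥H).map H.subtype ≤ H := by
      rintro _ ⟨y, _, rfl⟩
      exact y.2
    have hP : IsPGroup q ((Cfsg.pCore q ↥H).map H.subtype) :=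
      (isPGroup_pCore (G := ↥H) q).map H.subtype
    have hBp : IsPGroup q (((Cfsg.pCore q ↥H).map H.subtype).map (MulAut.conj g).toMonoidHom) :=
      hP.map _
    have hBH : ((Cfsg.pCore q ↥H).map H.subtype).map (MulAut.conj g).toMonoidHom ≤ H := by
      rintro _ ⟨y, hy, rfl⟩
      have := (Subgroup.mem_normalizer_iff.1 hg y).1 (hOH hy)
      simpa using this
    exact le_map_pCore_of_isPGroup H hH q hBH hBp ⟨x, hx, by simp⟩
  intro g hg
  rw [Subgroup.mem_normalizer_iff]
  intro x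
  refine ⟨key g hg x, fun hx => ?_⟩
  have := key g⁻¹ (inv_mem hg) _ hx
  simpa [mul_assoc] using this

/-- [CYC] -/
theorem isCyclic_of_comm_of_pRankLE_one {A : Type*} [Group A] [Finite A]
    (hodd : Odd (Nat.card A)) (hc : ∀ a b : A, a * b = b * a)
    (hr : ∀ q : ℕ, q.Prime → Cfsg.PRankLE q 1 A) : IsCyclic A := by
  haveI : IsZGroup A := by
    refine ⟨fun p hp P => ?_⟩
    haveI : Fact p.Prime := ⟨hp⟩
    by_cases hp2 : p = 2
    · subst hp2
      have h1 : Nat.card P = 1 := by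
        obtain ⟨n, hn⟩ := P.isPGroup'.exists_card_eq
        have h2 : Nat.card P ∣ Nat.card A := Subgroup.card_subgroup_dvd_card _
        rcases Nat.eq_zero_or_pos n with h0 | h0
        · rw [hn, h0, pow_zero]
        · exfalso
          have : 2 ∣ Nat.card A := (dvd_pow_self 2 h0.ne').trans (hn ▸ h2)
          exact (Nat.not_even_iff_odd.2 hodd) (even_iff_two_dvd.2 this)
      haveI : Subsingleton P := (Nat.card_eq_one_iff_unique.1 h1).1
      infer_instance
    · apply Cfsg.Agent.Lib.Helper49.isCyclic_of_pRankLE_one hp2 P.isPGroup'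
      intro B hB hBe
      have h1 := hr p hp (B.map (P : Subgroup A).subtype) ?_ ?_
      · rwa [Nat.card_congr (Subgroup.equivMapOfInjective B _
          (P : Subgroup A).subtype_injective).symm.toEquiv] at h1
      · exact ⟨⟨fun a b => Subtype.ext (hc _ _)⟩⟩
      · rintro _ ⟨b, hb, rfl⟩
        have := hBe b hb
        exact congrArg (P : Subgroup A).subtype this
  haveI : Group.IsNilpotent A := by
    letI : CommGroup A := { (inferInstance : Group A) with mul_comm := hc }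
    infer_instance
  infer_instance

end Main

end Cfsg.Agent.Lib.Helper25.NilBridge
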