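import Mathlib

set_option autoImplicit false
set_option linter.style.haveILetI false

/-!
# PF sec. 13/14, module [AX] (helper25): the axis argument

`U` normalises a subgroup `P₁` of prime order `p`; `g` normalises `U`, and the `g`-conjugates of
the non-identity elements of `U₁ = C_U(P₁)` centralise no non-identity element of `P₁`.  Then
`a = |U : U₁|` divides `p - 1`, `|U₁| ≤ a` and `|U| ≤ a²`.
-/

namespace Cfsg.Agent.Lib.Helper25.PF13AX

variable {G : Type*} [Group G]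

/-- The action of `U ≤ N(P₁)` on `P₁`. -/
noncomputable def actHom (U P₁ : Subgroup G) (hUN : U ≤ Subgroup.normalizer (P₁ : Set G)) :
    ↥U →* MulAut ↥P₁ :=
  P₁.normalizerMonoidHom.comp (Subgroup.inclusion hUN)

theorem actHom_apply (U P₁ : Subgroup G) (hUN : U ≤ Subgroup.normalizer (P₁ : Set G))
    (u : ↥U) (x : ↥P₁) : ((actHom U P₁ hUN u) x : G) = (u : G) * (x : G) * (u : G)⁻¹ := rfl

theorem actHom_eq_one_iff (U P₁ : Subgroup G) (hUN : U ≤ Subgroup.normalizer (P₁ : Set G))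
    (u : ↥U) : actHom U P₁ hUN u = 1 ↔ ∀ x ∈ P₁, (u : G) * x = x * (u : G) := by
  constructor
  · intro h x hx
    have h1 := actHom_apply U P₁ hUN u ⟨x, hx⟩
    rw [h] at h1
    have h2 : x = (u : G) * x * (u : G)⁻¹ := h1
    calc (u : G) * x = ((u : G) * x * (u : G)⁻¹) * (u : G) := by simp [mul_assoc]
      _ = x * (u : G) := by rw [← h2]
  · intro h
    ext x
    rw [actHom_apply, MulAut.one_apply, h x x.2]
    simp

theorem ker_actHom (U P₁ : Subgroup G) (hUN : U ≤ Subgroup.normalizer (P₁ : Set G)) :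
    (actHom U P₁ hUN).ker = (U ⊓ Subgroup.centralizer (P₁ : Set G)).subgroupOf U := by
  ext u
  rw [MonoidHom.mem_ker, actHom_eq_one_iff, Subgroup.mem_subgroupOf, Subgroup.mem_inf,
    Subgroup.mem_centralizer_iff]
  constructor
  · intro h
    exact ⟨u.2, fun x hx => (h x hx).symm⟩
  · intro h x hx
    exact (h.2 x hx).symm

theorem relIndex_eq_card_range (U P₁ : Subgroup G) (hUN : U ≤ Subgroup.normalizer (P₁ : Set G)) :
    (U ⊓ Subgroup.centralizer (P₁ : Set G)).relIndex U = Nat.card (actHom U P₁ hUN).range := by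
  rw [← Subgroup.index_ker, ker_actHom]
  rfl

theorem relIndex_dvd (U P₁ : Subgroup G) (hUN : U ≤ Subgroup.normalizer (P₁ : Set G))
    {p : ℕ} (hp : p.Prime) (hP₁ : Nat.card P₁ = p) :
    (U ⊓ Subgroup.centralizer (P₁ : Set G)).relIndex U ∣ p - 1 := by
  have : Fact p.Prime := ⟨hp⟩
  have : Finite ↥P₁ := Nat.finite_of_card_ne_zero (by rw [hP₁]; exact hp.ne_zero)
  have : IsCyclic ↥P₁ := isCyclic_of_prime_card hP₁
  rw [relIndex_eq_card_range U P₁ hUN]
  have h1 : Nat.card (MulAut ↥P₁) = p - 1 := by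
    rw [IsCyclic.card_mulAut, hP₁, Nat.totient_prime hp]
  rw [← h1]
  exact Subgroup.card_subgroup_dvd_card _

/-- **The axis argument.** -/
theorem axis_bound (U P₁ : Subgroup G) [Finite U] (hUN : U ≤ Subgroup.normalizer (P₁ : Set G))
    {p : ℕ} (hp : p.Prime) (hP₁ : Nat.card P₁ = p) (g : G)
    (hg : g ∈ Subgroup.normalizer (U : Set G))
    (hfpf : ∀ z ∈ U, z ≠ 1 → (∀ x ∈ P₁, z * x = x * z) →
      ∀ x ∈ P₁, (g * z * g⁻¹) * x = x * (g * z * g⁻¹) → x = 1) :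
    (U ⊓ Subgroup.centralizer (P₁ : Set G)).relIndex U ∣ p - 1 ∧
    Nat.card ↥(U ⊓ Subgroup.centralizer (P₁ : Set G)) ≤
      (U ⊓ Subgroup.centralizer (P₁ : Set G)).relIndex U ∧
    Nat.card U ≤ (U ⊓ Subgroup.centralizer (P₁ : Set G)).relIndex U *
      (U ⊓ Subgroup.centralizer (P₁ : Set G)).relIndex U := by
  have : Finite ↥P₁ := Nat.finite_of_card_ne_zero (by rw [hP₁]; exact hp.ne_zero)
  have hdvd := relIndex_dvd U P₁ hUN hp hP₁
  -- a non-identity element of `P₁`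
  obtain ⟨x₀, hx₀, hx₀1⟩ : ∃ x₀ ∈ P₁, x₀ ≠ 1 := by
    have h1 : 1 < Nat.card ↥P₁ := by rw [hP₁]; exact hp.one_lt
    have : Nontrivial ↥P₁ := (Finite.one_lt_card_iff_nontrivial).mp h1
    obtain ⟨x, hx⟩ := exists_ne (1 : ↥P₁)
    exact ⟨x, x.2, fun h => hx (Subtype.ext h)⟩
  -- the injection `U₁ → range`
  have hconj : ∀ z ∈ U, g * z * g⁻¹ ∈ U := fun z hz =>
    ((Subgroup.mem_normalizer_iff.mp hg) z).mp hz
  let ψ : ↥(U ⊓ Subgroup.centralizer (P₁ : Set G)) → ↥(actHom U P₁ hUN).range := fun z =>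
    ⟨actHom U P₁ hUN ⟨g * (z : G) * g⁻¹, hconj _ (Subgroup.mem_inf.mp z.2).1⟩, ⟨_, rfl⟩⟩
  have hψ : Function.Injective ψ := by
    intro z z' h
    have h1 : actHom U P₁ hUN ⟨g * (z : G) * g⁻¹, hconj _ (Subgroup.mem_inf.mp z.2).1⟩ =
        actHom U P₁ hUN ⟨g * (z' : G) * g⁻¹, hconj _ (Subgroup.mem_inf.mp z'.2).1⟩ :=
      congrArg Subtype.val h
    by_contra hne
    have hw : ((z : G)⁻¹ * (z' : G)) ≠ 1 := by
      intro h2
      apply hne
      apply Subtype.ext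
      exact inv_mul_eq_one.mp h2
    have hwU : (z : G)⁻¹ * (z' : G) ∈ U :=
      U.mul_mem (U.inv_mem (Subgroup.mem_inf.mp z.2).1) (Subgroup.mem_inf.mp z'.2).1
    have hwC : ∀ x ∈ P₁, ((z : G)⁻¹ * (z' : G)) * x = x * ((z : G)⁻¹ * (z' : G)) := by
      have hc : (z : G)⁻¹ * (z' : G) ∈ Subgroup.centralizer (P₁ : Set G) :=
        Subgroup.mul_mem _ (Subgroup.inv_mem _ (Subgroup.mem_inf.mp z.2).2)
          (Subgroup.mem_inf.mp z'.2).2
      intro x hx
      exact ((Subgroup.mem_centralizer_iff.mp hc) x hx).symm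
    -- the conjugate of `w` acts trivially
    have h3 : actHom U P₁ hUN ⟨g * ((z : G)⁻¹ * (z' : G)) * g⁻¹, hconj _ hwU⟩ = 1 := by
      have e : (⟨g * ((z : G)⁻¹ * (z' : G)) * g⁻¹, hconj _ hwU⟩ : ↥U) =
          (⟨g * (z : G) * g⁻¹, hconj _ (Subgroup.mem_inf.mp z.2).1⟩ : ↥U)⁻¹ *
            ⟨g * (z' : G) * g⁻¹, hconj _ (Subgroup.mem_inf.mp z'.2).1⟩ := by
        apply Subtype.ext
        simp [mul_assoc]
      rw [e, map_mul, map_inv, h1, inv_mul_cancel]
    have h4 := (actHom_eq_one_iff U P₁ hUN _).mp h3 x₀ hx₀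
    exact hx₀1 (hfpf _ hwU hw hwC x₀ hx₀ h4)
  have hcard : Nat.card ↥(U ⊓ Subgroup.centralizer (P₁ : Set G)) ≤
      (U ⊓ Subgroup.centralizer (P₁ : Set G)).relIndex U := by
    rw [relIndex_eq_card_range U P₁ hUN]
    exact Nat.card_le_card_of_injective ψ hψ
  refine ⟨hdvd, hcard, ?_⟩
  have h5 : (U ⊓ Subgroup.centralizer (P₁ : Set G)).relIndex U *
      Nat.card ↥(U ⊓ Subgroup.centralizer (P₁ : Set G)) = Nat.card U := by
    have := Subgroup.relIndex_mul_relIndex (⊥ : Subgroup G)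
      (U ⊓ Subgroup.centralizer (P₁ : Set G)) U bot_le inf_le_left
    rw [Subgroup.relIndex_bot_left, Subgroup.relIndex_bot_left] at this
    rw [← this, mul_comm]
  rw [← h5]
  exact Nat.mul_le_mul_left _ hcard

/-- Odd order: `|U| ≤ ((p - 1) / 2)²`. -/
theorem axis_bound_odd (U P₁ : Subgroup G) [Finite U] (hUN : U ≤ Subgroup.normalizer (P₁ : Set G))
    {p : ℕ} (hp : p.Prime) (hp2 : p ≠ 2) (hP₁ : Nat.card P₁ = p) (hodd : Odd (Nat.card U)) (g : G)
    (hg : g ∈ Subgroup.normalizer (U : Set G))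
    (hfpf : ∀ z ∈ U, z ≠ 1 → (∀ x ∈ P₁, z * x = x * z) →
      ∀ x ∈ P₁, (g * z * g⁻¹) * x = x * (g * z * g⁻¹) → x = 1) :
    Nat.card U ≤ ((p - 1) / 2) * ((p - 1) / 2) := by
  obtain ⟨h1, -, h3⟩ := axis_bound U P₁ hUN hp hP₁ g hg hfpf
  have ha_odd : Odd ((U ⊓ Subgroup.centralizer (P₁ : Set G)).relIndex U) := by
    have : (U ⊓ Subgroup.centralizer (P₁ : Set G)).relIndex U ∣ Nat.card U :=
      Subgroup.relIndex_dvd_card _ _
    exact Odd.of_dvd_nat hodd this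
  have hp_odd : Odd p := hp.odd_of_ne_two hp2
  -- an odd divisor of the even number `p - 1` is at most `(p - 1) / 2`
  have h4 : (U ⊓ Subgroup.centralizer (P₁ : Set G)).relIndex U ≤ (p - 1) / 2 := by
    obtain ⟨k, hk⟩ := hp_odd
    have e1 : p - 1 = 2 * k := by omega
    rw [e1] at h1 ⊢
    have h5 : (U ⊓ Subgroup.centralizer (P₁ : Set G)).relIndex U ∣ k := by
      have hcop : Nat.Coprime ((U ⊓ Subgroup.centralizer (P₁ : Set G)).relIndex U) 2 :=
        Nat.Coprime.symm (Nat.coprime_two_left.mpr ha_odd)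
      exact hcop.dvd_of_dvd_mul_left h1
    have hk0 : 0 < k := by
      have := hp.two_le
      omega
    have := Nat.le_of_dvd hk0 h5
    omega
  calc Nat.card U ≤ _ := h3
    _ ≤ ((p - 1) / 2) * ((p - 1) / 2) := Nat.mul_le_mul h4 h4

end Cfsg.Agent.Lib.Helper25.PF13AX
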