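import Mathlib
import Cfsg.Prelude.Def_Blocks
import Cfsg.Agent.Lib.Helper78.CharMore
import Cfsg.Agent.Lib.Helper80.CharBasic
import Cfsg.Agent.Lib.Helper77.Linear

/-!
# S4503 module [BH-END] (helper75, board #3253)

Reduction of Brauer's `(p-1)/2` theorem to the Main Lemma: normal closure induction, and
"all constituents linear implies abelian".  By helper25.
-/

set_option autoImplicit false
set_option linter.unusedVariables false
set_option linter.unusedSectionVars false
set_option linter.style.haveILetI false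

open Cfsg

universe u

namespace Cfsg.Agent.Lib.Helper25.BrauerEnd

open Cfsg.Agent.Lib.Helper78 Cfsg.Agent.Lib.Helper80

/-- the factorization exponent is one -/
theorem factorization_eq_one {n p : ℕ} (hp : p.Prime) (hn : n ≠ 0) (hdiv : p ∣ n)
    (hsq : ¬ p ^ 2 ∣ n) : n.factorization p = 1 := by
  have h1 : 1 ≤ n.factorization p := (hp.dvd_iff_one_le_factorization hn).1 hdiv
  have h2 : ¬ 2 ≤ n.factorization p := fun h => hsq ((hp.pow_dvd_iff_le_factorization hn).2 h)
  omega

/-- An irreducible character which is constant is the trivial character. -/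
theorem irr_const_eq_one {G : Type u} [Group G] [Finite G] (Ξ : IrrCharacter G)
    (h : ∀ g : G, (Ξ : G → ℂ) g = (Ξ : G → ℂ) 1) : ∀ g : G, (Ξ : G → ℂ) g = 1 := by
  classical
  haveI : Fintype G := Fintype.ofFinite G
  have h1 : IsIrrCharacter G (fun _ : G => (1 : ℂ)) := Cfsg.Agent.Lib.Helper78.isIrrCharacter_one
  by_contra hne
  have hneq : (Ξ : G → ℂ) ≠ fun _ => 1 := by
    intro heq
    apply hne
    intro g
    rw [heq]
  have h0 := classInner_irr_ne Ξ.2 h1 hneq
  unfold classInner at h0
  have hsum : ∑ g : G, (Ξ : G → ℂ) g * (starRingEnd ℂ) (1 : ℂ) = (Nat.card G : ℂ) * (Ξ : G → ℂ) 1 := by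
    rw [Finset.sum_congr rfl (fun g _ => by rw [h g, map_one, mul_one]), Finset.sum_const,
      Finset.card_univ, Nat.card_eq_fintype_card, nsmul_eq_mul]
  rw [hsum, ← mul_assoc, inv_mul_cancel₀ (by exact_mod_cast (Nat.card_pos (α := G)).ne'), one_mul] at h0
  exact char_one_ne_zero_of_isIrr Ξ.2 h0

theorem brauer_end_aux (p : ℕ) (hp : p.Prime)
    (main : ∀ (H : Type u) [Group H] [Finite H] (Q : Sylow p H), Nat.card Q = p →
      (∀ Ξ : IrrCharacter H,
        (∀ y : H, y ∈ (Q : Subgroup H) → (Ξ : H → ℂ) y = (Ξ : H → ℂ) 1) →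
          ∀ g : H, (Ξ : H → ℂ) g = 1) →
      ∀ Ξ : IrrCharacter H, 2 * charDegree (Ξ : H → ℂ) + 1 < p → charDegree (Ξ : H → ℂ) = 1) :
    ∀ (n : ℕ) (G : Type u) [Group G] [Finite G], Nat.card G = n → p ∣ Nat.card G →
      ¬ p ^ 2 ∣ Nat.card G → (∀ H : Subgroup G, H.Normal → Nat.card H ≠ p) →
      ∀ χ : G → ℂ, IsCharacter G χ → (∀ g : G, χ g = χ 1 → g = 1) →
        p ≤ 2 * charDegree χ + 1 := by
  intro n
  induction n using Nat.strong_induction_on with
  | _ n ih =>
  intro G _ _ hn hdiv hsq hnn χ hχ hfaith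
  classical
  haveI : Fact p.Prime := ⟨hp⟩
  haveI : Fintype G := Fintype.ofFinite G
  obtain ⟨P⟩ : Nonempty (Sylow p G) := inferInstance
  have hPcard : Nat.card P = p := by
    rw [Sylow.card_eq_multiplicity, factorization_eq_one hp Nat.card_pos.ne' hdiv hsq, pow_one]
  obtain ⟨L, hL⟩ : ∃ L : Subgroup G, L = Subgroup.normalClosure ((P : Subgroup G) : Set G) :=
    ⟨_, rfl⟩
  haveI hLn : L.Normal := hL ▸ Subgroup.normalClosure_normal
  have hPL : (P : Subgroup G) ≤ L := hL ▸ Subgroup.le_normalClosure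
  by_cases hLtop : L = ⊤
  · -- case (b)
    by_contra hlt
    push Not at hlt
    have hH : ∀ Ξ : IrrCharacter G,
        (∀ y : G, y ∈ (P : Subgroup G) → (Ξ : G → ℂ) y = (Ξ : G → ℂ) 1) →
          ∀ g : G, (Ξ : G → ℂ) g = 1 := by
      intro Ξ hΞ
      apply irr_const_eq_one Ξ
      have hΞc := isCharacter_of_isIrr Ξ.2
      have hle : L ≤ charKer (Ξ : G → ℂ) hΞc := by
        rw [hL]
        apply Subgroup.normalClosure_le_normal
        intro y hy
        exact (mem_charKer hΞc y).2 (hΞ y hy)
      intro g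
      have : g ∈ charKer (Ξ : G → ℂ) hΞc := hle (by rw [hLtop]; trivial)
      exact (mem_charKer hΞc g).1 this
    have hmain := main G P hPcard hH
    obtain ⟨m, hm⟩ := (isCharacter_iff_exists_nat_combination χ).1 hχ
    -- degrees
    have hdegψ : ∀ ψ : IrrCharacter G, (ψ : G → ℂ) 1 = (charDegree (ψ : G → ℂ) : ℂ) :=
      fun ψ => char_one_eq_charDegree (isCharacter_of_isIrr ψ.2)
    have hdeg : charDegree χ = ∑ ψ : IrrCharacter G, m ψ * charDegree (ψ : G → ℂ) := by
      apply charDegree_natCast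
      rw [hm]
      simp only [Finset.sum_apply, Pi.smul_apply, smul_eq_mul, hdegψ]
      push_cast
      rfl
    have hlin : ∀ ψ : IrrCharacter G, m ψ ≠ 0 → charDegree (ψ : G → ℂ) = 1 := by
      intro ψ hψ
      apply hmain ψ
      have h1 : charDegree (ψ : G → ℂ) ≤ charDegree χ := by
        rw [hdeg]
        calc charDegree (ψ : G → ℂ) ≤ m ψ * charDegree (ψ : G → ℂ) :=
              Nat.le_mul_of_pos_left _ (Nat.pos_of_ne_zero hψ)
          _ ≤ ∑ φ : IrrCharacter G, m φ * charDegree (φ : G → ℂ) :=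
              Finset.single_le_sum (f := fun φ : IrrCharacter G => m φ * charDegree (φ : G → ℂ))
                (fun _ _ => Nat.zero_le _) (Finset.mem_univ ψ)
      omega
    -- G is commutative
    have hcomm : ∀ g h : G, g * h = h * g := by
      intro g h
      have hone : g * h * g⁻¹ * h⁻¹ = 1 := by
        apply hfaith
        rw [hm]
        simp only [Finset.sum_apply, Pi.smul_apply, smul_eq_mul]
        apply Finset.sum_congr rfl
        intro ψ _
        by_cases hψ : m ψ = 0
        · rw [hψ]; simp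
        · have h1 : (ψ : G → ℂ) 1 = 1 := by rw [hdegψ, hlin ψ hψ]; simp
          obtain ⟨φ, hφ⟩ := Cfsg.Agent.Lib.Helper77.exists_monoidHom_of_degree_one
            (isCharacter_of_isIrr ψ.2) h1
          rw [hφ, hφ]
          simp
      have := congrArg (fun z => z * h * g) hone
      simpa [mul_assoc] using this
    -- P is normal
    have hPn : (P : Subgroup G).Normal := by
      refine ⟨fun x hx g => ?_⟩
      rw [hcomm g x, mul_assoc, mul_inv_cancel, mul_one]
      exact hx
    exact hnn P hPn hPcard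
  · -- case (a)
    have hlt : Nat.card L < n := by
      rw [← hn]
      apply lt_of_le_of_ne (Subgroup.card_le_card_group L)
      intro h
      exact hLtop (Subgroup.eq_top_of_card_eq L h)
    have hLdvd : Nat.card L ∣ Nat.card G := Subgroup.card_subgroup_dvd_card L
    have hdivL : p ∣ Nat.card L := hPcard ▸ Subgroup.card_dvd_of_le hPL
    have hsqL : ¬ p ^ 2 ∣ Nat.card L := fun h => hsq (h.trans hLdvd)
    have hnnL : ∀ H : Subgroup L, H.Normal → Nat.card H ≠ p := by
      intro H hHn hHc
      let Q : Sylow p L := Sylow.ofCard H (by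
        rw [hHc, factorization_eq_one hp Nat.card_pos.ne' hdivL hsqL, pow_one])
      have hQ : (Q : Subgroup L) = H := Sylow.coe_ofCard H _
      have hQn : (Q : Subgroup L).Normal := hQ ▸ hHn
      haveI : (Q : Subgroup L).Characteristic := Sylow.characteristic_of_normal Q hQn
      haveI : H.Characteristic := hQ ▸ ‹(Q : Subgroup L).Characteristic›
      have hnorm : (H.map L.subtype).Normal := ConjAct.normal_of_characteristic_of_normal
      apply hnn (H.map L.subtype) hnorm
      rw [← hHc]
      exact Nat.card_congr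
        (Subgroup.equivMapOfInjective H L.subtype L.subtype_injective).symm.toEquiv
    have hres := ih (Nat.card L) hlt L rfl hdivL hsqL hnnL (fun h : L => χ h)
      (isCharacter_restrict L hχ) (by
        intro g hg
        have := hfaith (g : G) hg
        exact Subtype.ext this)
    exact hres

/-- MODULE [BH-END] of S4503, exact statement of board #3253. -/
theorem brauer_end {G : Type u} [Group G] [Finite G] (p : ℕ) (hp : p.Prime)
    (main : ∀ (H : Type u) [Group H] [Finite H] (Q : Sylow p H), Nat.card Q = p →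
      (∀ Ξ : IrrCharacter H,
        (∀ y : H, y ∈ (Q : Subgroup H) → (Ξ : H → ℂ) y = (Ξ : H → ℂ) 1) →
          ∀ g : H, (Ξ : H → ℂ) g = 1) →
      ∀ Ξ : IrrCharacter H, 2 * charDegree (Ξ : H → ℂ) + 1 < p → charDegree (Ξ : H → ℂ) = 1)
    (hdiv : p ∣ Nat.card G) (hsq : ¬ p ^ 2 ∣ Nat.card G)
    (hnn : ∀ H : Subgroup G, H.Normal → Nat.card H ≠ p) (χ : G → ℂ) (hχ : IsCharacter G χ)
    (hfaith : ∀ g : G, χ g = χ 1 → g = 1) : p ≤ 2 * charDegree χ + 1 :=
  brauer_end_aux p hp main (Nat.card G) G rfl hdiv hsq hnn χ hχ hfaith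

end Cfsg.Agent.Lib.Helper25.BrauerEnd
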