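import Mathlib
import Cfsg.Agent.Lib.Helper75.BrauerHalfC

set_option autoImplicit false
set_option linter.unusedSectionVars false

/-!
# S4503 module [BH-ETA] (helper25): Fourier facts on `P` for the `N_G(P)`-orbit sum `etaN`
-/

namespace Cfsg.Agent.Lib.Helper25.BHEta
open Cfsg Cfsg.Agent.Lib.Helper78 Cfsg.Agent.Lib.Helper16 Cfsg.Agent.Lib.Helper3.DefOneGen
  Cfsg.Agent.Lib.Helper75.McKayOne Cfsg.Agent.Lib.Helper75.BrauerHalf
open scoped ComplexConjugate IsMulCommutative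

universe u

variable {G : Type u} [Group G] [Fintype G] {p : ℕ} [hp : Fact p.Prime] (P : Sylow p G)
  (hP : Nat.card P = p)
variable [Fintype ↥(Subgroup.centralizer ((P : Subgroup G) : Set G))] [Fintype ↥(P : Subgroup G)]
  [IsMulCommutative ↥(P : Subgroup G)] [Fintype (↥(P : Subgroup G) →* ℂˣ)]
  [Fintype ↥(Subgroup.normalizer ((P : Subgroup G) : Set G))]
variable {M : Ideal AlgInt}

local notation "CP" => Subgroup.centralizer ((P : Subgroup G) : Set G)
local notation "NP" => Subgroup.normalizer ((P : Subgroup G) : Set G)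

attribute [local instance] nAct

theorem centralizer_le_normalizer' : CP ≤ NP := by
  intro g hg
  rw [Subgroup.mem_normalizer_iff]
  intro h
  rw [Subgroup.mem_centralizer_iff] at hg
  constructor
  · intro hh
    have := hg h hh
    have e : g * h * g⁻¹ = h := by rw [← this]; simp
    rw [e]; exact hh
  · intro hh
    have h2 : g⁻¹ * (g * h * g⁻¹) * g = h := by simp [mul_assoc]
    have := hg _ hh
    have e : g * h * g⁻¹ = h := by
      have e2 : g * (g * h * g⁻¹) * g⁻¹ = g * h * g⁻¹ := by rw [← this]; simp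
      have e3 : g * (g * h * g⁻¹) * g⁻¹ = g * (g * h * g⁻¹ * g⁻¹) := by simp [mul_assoc]
      have : g * h * g⁻¹ * g⁻¹ = h * g⁻¹ := by
        apply mul_left_cancel (a := g)
        rw [← e3, e2]; simp [mul_assoc]
      have := mul_right_cancel this
      exact this
    rw [← e]; exact hh

include hP in
theorem hS_aux : ∀ y : ↥(P : Subgroup G), y ≠ 1 → ∀ n : ↥NP,
    n • y = y ↔ n ∈ (CP).subgroupOf NP := by
  intro y hy n
  have hsmul : ∀ (n : ↥NP) (y : ↥(P : Subgroup G)),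
      ((n • y : ↥(P : Subgroup G)) : G) = (n : G) * (y : G) * (n : G)⁻¹ := fun _ _ => rfl
  have hy1 : (y : G) ≠ 1 := fun h => hy (Subtype.ext h)
  rw [Subgroup.mem_subgroupOf, mem_centralizer_iff_commute hP y.2 hy1]
  constructor
  · intro h
    have h' : (n : G) * (y : G) * (n : G)⁻¹ = (y : G) := by rw [← hsmul, h]
    exact (mul_inv_eq_iff_eq_mul.mp h').symm
  · intro h
    apply Subtype.ext
    rw [hsmul]
    exact mul_inv_eq_iff_eq_mul.mpr h.eq.symm

open scoped Classical in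
theorem filter_eq_dualRel (ψ₀ : ↥(P : Subgroup G) →* ℂˣ) :
    (Finset.univ.filter (fun ψ' : ↥(P : Subgroup G) →* ℂˣ =>
      ∃ m : ↥NP, dualTwist m ψ₀ = ψ')) =
    Finset.univ.filter (fun ψ' : ↥(P : Subgroup G) →* ℂˣ => dualRel ↥NP ψ₀ ψ') := by
  ext ψ'
  simp only [Finset.mem_filter, Finset.mem_univ, true_and]
  constructor
  · intro h
    exact dualRel_symm ((dualRel_iff ψ' ψ₀).mpr h)
  · intro h
    exact (dualRel_iff ψ' ψ₀).mp (dualRel_symm h)

open scoped Classical in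
theorem etaN_eq_sum (ψ₀ : ↥(P : Subgroup G) →* ℂˣ) (y : ↥(P : Subgroup G)) :
    etaN P ψ₀ y = ∑ ψ' ∈ Finset.univ.filter (fun ψ' : ↥(P : Subgroup G) →* ℂˣ =>
      ∃ m : ↥NP, dualTwist m ψ₀ = ψ'), ((ψ' y : ℂˣ) : ℂ) := by
  unfold etaN
  congr!

include hP in
open scoped Classical in
theorem card_orbitN {ψ₀ : ↥(P : Subgroup G) →* ℂˣ} (hψ₀ : ψ₀ ≠ 1) :
    (Finset.univ.filter (fun ψ' : ↥(P : Subgroup G) →* ℂˣ =>
      ∃ m : ↥NP, dualTwist m ψ₀ = ψ')).card = (CP).relIndex NP := by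
  rw [filter_eq_dualRel]
  have h1 := card_dualRel_class ((CP).subgroupOf NP) (hS_aux P hP) hψ₀
  have h2 : Nat.card ↥((CP).subgroupOf NP) = Nat.card ↥CP :=
    Nat.card_congr (Subgroup.subgroupOfEquivOfLe (centralizer_le_normalizer' P)).toEquiv
  have h3 := card_eq_card_mul_relIndex (centralizer_le_normalizer' P)
  rw [h2, ← Nat.card_eq_fintype_card, h3] at h1
  have hpos : 0 < Nat.card ↥CP := Nat.card_pos
  exact Nat.eq_of_mul_eq_mul_right hpos h1

include hP in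
theorem etaN_one {ψ₀ : ↥(P : Subgroup G) →* ℂˣ} (hψ₀ : ψ₀ ≠ 1) :
    etaN P ψ₀ 1 = ((CP).relIndex NP : ℂ) := by
  classical
  unfold etaN
  rw [← card_orbitN P hP hψ₀]
  simp [map_one]

theorem etaN_smul (ψ₀ : ↥(P : Subgroup G) →* ℂˣ) (n : ↥NP) (y : ↥(P : Subgroup G)) :
    etaN P ψ₀ (n • y) = etaN P ψ₀ y := by
  classical
  unfold etaN
  apply Finset.sum_nbij' (fun ψ' => dualTwist n ψ') (fun ψ' => dualTwist n⁻¹ ψ')
  · intro ψ' hψ'
    simp only [Finset.mem_filter, Finset.mem_univ, true_and] at hψ' ⊢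
    obtain ⟨m, hm⟩ := hψ'
    exact ⟨m * n, by rw [dualTwist_mul, hm]⟩
  · intro ψ' hψ'
    simp only [Finset.mem_filter, Finset.mem_univ, true_and] at hψ' ⊢
    obtain ⟨m, hm⟩ := hψ'
    exact ⟨m * n⁻¹, by rw [dualTwist_mul, hm]⟩
  · intro ψ' _
    exact dualTwist_inv_cancel n ψ'
  · intro ψ' _
    exact dualTwist_cancel_inv n ψ'
  · intro ψ' _
    rw [dualTwist_apply]

include hP in
theorem sum_etaN_normSq {ψ₀ : ↥(P : Subgroup G) →* ℂˣ} (hψ₀ : ψ₀ ≠ 1) :
    ∑ y : ↥(P : Subgroup G), etaN P ψ₀ y * conj (etaN P ψ₀ y) =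
      (p : ℂ) * ((CP).relIndex NP : ℂ) := by
  classical
  rw [← card_orbitN P hP hψ₀]
  simp_rw [etaN_eq_sum, map_sum, Finset.sum_mul_sum]
  rw [Finset.sum_comm]
  rw [Finset.card_eq_sum_ones, Nat.cast_sum, Finset.mul_sum]
  apply Finset.sum_congr rfl
  intro ψ' hψ'
  rw [Finset.sum_comm]
  simp_rw [dual_sum_mul_conj]
  rw [Finset.sum_ite_eq, if_pos hψ', card_P_eq P hP]
  simp

end Cfsg.Agent.Lib.Helper25.BHEta
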