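import Mathlib
import Cfsg.Agent.Lib.Helper75.BrauerHalfC

set_option autoImplicit false
set_option linter.unusedSectionVars false

/-!
# S4503 module [BH-GQEXC] (helper25): `gq` of an exceptional character is `-δ e`
-/

namespace Cfsg.Agent.Lib.Helper25.BHGqExc
open Cfsg Cfsg.Agent.Lib.Helper78 Cfsg.Agent.Lib.Helper16 Cfsg.Agent.Lib.Helper3.DefOneGen
  Cfsg.Agent.Lib.Helper75.McKayOne Cfsg.Agent.Lib.Helper75.BrauerHalf
open scoped ComplexConjugate IsMulCommutative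

universe u

variable {G : Type u} [Group G] [Fintype G] {p : ℕ} [hp : Fact p.Prime] (P : Sylow p G)
  (hP : Nat.card P = p)
variable [Fintype ↥(Subgroup.centralizer ((P : Subgroup G) : Set G))] [Fintype ↥(P : Subgroup G)]
  [IsMulCommutative ↥(P : Subgroup G)] [Fintype (↥(P : Subgroup G) →* ℂˣ)]
  [Fintype ↥(Subgroup.normalizer ((P : Subgroup G) : Set G))]

local notation "CP" => Subgroup.centralizer ((P : Subgroup G) : Set G)
local notation "NP" => Subgroup.normalizer ((P : Subgroup G) : Set G)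

/-- The sum of a nonprincipal linear character over the non-identity elements is `-1`. -/
theorem sum_ne_one_dual {A : Type*} [CommGroup A] [Fintype A]
    [DecidablePred (fun y : A => y ≠ 1)] {ψ : A →* ℂˣ} (hψ : ψ ≠ 1) :
    ∑ y ∈ Finset.univ.filter (fun y : A => y ≠ 1), ((ψ y : ℂˣ) : ℂ) = -1 := by
  classical
  have h0 := sum_dual_apply_eq_zero hψ
  rw [← Finset.sum_filter_add_sum_filter_not Finset.univ (fun y : A => y ≠ 1)] at h0
  have h1 : ∑ y ∈ Finset.univ.filter (fun y : A => ¬ y ≠ 1), ((ψ y : ℂˣ) : ℂ) = 1 := by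
    have : Finset.univ.filter (fun y : A => ¬ y ≠ 1) = {1} := by
      ext y; simp
    rw [this, Finset.sum_singleton, map_one, Units.val_one]
  rw [h1] at h0
  exact eq_neg_of_add_eq_zero_left h0

include hP in
theorem gq_exc (θ : IrrCharacter ↥CP) (ψ : ↥(P : Subgroup G) →* ℂˣ) (hψ : ψ ≠ 1) (F : G → ℂ)
    (δ : ℂ)
    (hform : ∀ y : ↥(P : Subgroup G), y ≠ 1 →
      fpart p CP F (θ : ↥CP → ℂ) (y : G) = δ *
        ∑ᶠ ψ' ∈ {ψ' : ↥(P : Subgroup G) →* ℂˣ | ∃ n : G, n ∈ thetaStab P θ ∧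
          ∀ w w' : ↥(P : Subgroup G), (w' : G) = n * (w : G) * n⁻¹ → ψ' w' = ψ w},
          ((ψ' y : ℂˣ) : ℂ)) :
    gq P F (θ : ↥CP → ℂ) = -(δ * ((CP).relIndex (thetaStab P θ) : ℂ)) := by
  classical
  obtain ⟨T, hTdef⟩ : ∃ T : Subgroup G, T = thetaStab P θ := ⟨_, rfl⟩
  have hTN : T ≤ NP := by rw [hTdef]; exact thetaStab_le P θ
  have hCT : CP ≤ T := by rw [hTdef]; exact centralizer_le_thetaStab P θ
  rw [← hTdef] at hform ⊢
  have hfinT : Fintype ↥T := Fintype.ofFinite _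
  let instT : MulDistribMulAction ↥T ↥(P : Subgroup G) :=
    MulDistribMulAction.compHom ↥(P : Subgroup G) (Subgroup.inclusion hTN)
  have hsmul : ∀ (n : ↥T) (y : ↥(P : Subgroup G)),
      ((n • y : ↥(P : Subgroup G)) : G) = (n : G) * (y : G) * (n : G)⁻¹ := fun _ _ => rfl
  have hS : ∀ y : ↥(P : Subgroup G), y ≠ 1 → ∀ n : ↥T, n • y = y ↔ n ∈ (CP).subgroupOf T := by
    intro y hy n
    have hy1 : (y : G) ≠ 1 := fun h => hy (Subtype.ext h)
    rw [Subgroup.mem_subgroupOf, mem_centralizer_iff_commute hP y.2 hy1]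
    constructor
    · intro h
      have h' : (n : G) * (y : G) * (n : G)⁻¹ = (y : G) := by rw [← hsmul, h]
      exact (mul_inv_eq_iff_eq_mul.mp h').symm
    · intro h
      apply Subtype.ext
      rw [hsmul]
      exact mul_inv_eq_iff_eq_mul.mpr h.eq.symm
  have hset : {ψ' : ↥(P : Subgroup G) →* ℂˣ | ∃ n : G, n ∈ T ∧
        ∀ w w' : ↥(P : Subgroup G), (w' : G) = n * w * n⁻¹ → ψ' w' = ψ w} =
      {ψ' : ↥(P : Subgroup G) →* ℂˣ | dualRel ↥T ψ ψ'} := by
    ext ψ'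
    simp only [Set.mem_ofPred_eq]
    constructor
    · rintro ⟨n, hn, h⟩
      exact ⟨⟨n, hn⟩, fun y => h y ((⟨n, hn⟩ : ↥T) • y) rfl⟩
    · rintro ⟨n, h⟩
      refine ⟨(n : G), n.2, ?_⟩
      intro w w' hw
      have : w' = n • w := Subtype.ext hw
      rw [this]
      exact h w
  -- the cardinality of the orbit
  have hcard : (Finset.univ.filter
      (fun ψ' : ↥(P : Subgroup G) →* ℂˣ => dualRel ↥T ψ ψ')).card = (CP).relIndex T := by
    have h1 := card_dualRel_class ((CP).subgroupOf T) hS hψ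
    have h2 : Nat.card ↥((CP).subgroupOf T) = Nat.card ↥CP :=
      Nat.card_congr (Subgroup.subgroupOfEquivOfLe hCT).toEquiv
    have h3 := card_eq_card_mul_relIndex hCT
    rw [h2, ← Nat.card_eq_fintype_card, h3] at h1
    have hpos : 0 < Nat.card ↥CP := Nat.card_pos
    exact Nat.eq_of_mul_eq_mul_right hpos h1
  unfold gq
  have h1 : ∀ y ∈ Finset.univ.filter (fun y : ↥(P : Subgroup G) => y ≠ 1),
      fpart p CP F (θ : ↥CP → ℂ) (y : G) =
        δ * ∑ ψ' ∈ Finset.univ.filter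
          (fun ψ' : ↥(P : Subgroup G) →* ℂˣ => dualRel ↥T ψ ψ'), ((ψ' y : ℂˣ) : ℂ) := by
    intro y hy
    rw [hform y (Finset.mem_filter.mp hy).2, hset,
      finsum_mem_eq_sum_filter_of_fintype]
    rfl
  rw [Finset.sum_congr rfl h1, ← Finset.mul_sum, Finset.sum_comm]
  have h2 : ∀ ψ' ∈ Finset.univ.filter
      (fun ψ' : ↥(P : Subgroup G) →* ℂˣ => dualRel ↥T ψ ψ'),
      ∑ y ∈ Finset.univ.filter (fun y : ↥(P : Subgroup G) => y ≠ 1), ((ψ' y : ℂˣ) : ℂ) = -1 := by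
    intro ψ' hψ'
    exact sum_ne_one_dual (dualRel_ne_one (Finset.mem_filter.mp hψ').2 hψ)
  rw [Finset.sum_congr rfl h2, Finset.sum_const, hcard]
  simp

end Cfsg.Agent.Lib.Helper25.BHGqExc
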