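import Mathlib

/-!
# Feit–Higman project (S1142): trigonometric tools for the DFT modules
-/

set_option autoImplicit false

namespace Cfsg.Agent.Lib.Helper25.FH

open Real Finset

/-- Dirichlet kernel: `(1 + 2 Σ_{k=1}^{h} cos(kφ)) sin(φ/2) = sin((h+1/2)φ)`. -/
theorem dirichlet (h : ℕ) (φ : ℝ) :
    (1 + 2 * ∑ k ∈ range h, cos (((k : ℝ) + 1) * φ)) * sin (φ / 2) = sin (((h : ℝ) + 1 / 2) * φ) := by
  induction h with
  | zero =>
    simp
    congr 1; ring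
  | succ h ih =>
    rw [sum_range_succ, mul_add, ← add_assoc, add_mul, ih]
    have e1 : ((h : ℝ) + 1) * φ = (((h : ℝ) + 1 / 2) * φ) + φ / 2 := by ring
    have e2 : (((h + 1 : ℕ) : ℝ) + 1 / 2) * φ = (((h : ℝ) + 1 / 2) * φ) + φ / 2 + φ / 2 := by
      push_cast; ring
    rw [e2, e1]
    rw [sin_add (((h : ℝ) + 1 / 2) * φ + φ / 2) (φ / 2), cos_add, sin_add]
    have hs := sin_sq_add_cos_sq (φ / 2)
    linear_combination (-(sin (((h : ℝ) + 1 / 2) * φ))) * hs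

/-- The kernel vanishes at `φ = 2π l / (2h+1)` for `(2h+1) ∤ l`. -/
theorem dir_zero_odd (h : ℕ) (l : ℤ) (hl : ¬ ((2 * (h : ℤ) + 1) ∣ l)) :
    1 + 2 * ∑ k ∈ range h, cos (((k : ℝ) + 1) * (2 * π * l / (2 * (h : ℝ) + 1))) = 0 := by
  have hn : (2 * (h : ℝ) + 1) ≠ 0 := by positivity
  have key := dirichlet h (2 * π * l / (2 * (h : ℝ) + 1))
  have e1 : ((h : ℝ) + 1 / 2) * (2 * π * l / (2 * (h : ℝ) + 1)) = (l : ℝ) * π := by
    field_simp
  rw [e1, sin_int_mul_pi] at key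
  rcases mul_eq_zero.mp key with h0 | h0
  · exact h0
  · exfalso
    rw [sin_eq_zero_iff] at h0
    obtain ⟨k, hk⟩ := h0
    apply hl
    refine ⟨k, ?_⟩
    have hpi : π ≠ 0 := pi_ne_zero
    have : (k : ℝ) * (2 * (h : ℝ) + 1) = (l : ℝ) := by
      have h5 : (k : ℝ) * π * (2 * (h : ℝ) + 1) = π * l := by
        rw [hk]; field_simp
      have h6 : π * ((k : ℝ) * (2 * (h : ℝ) + 1)) = π * l := by linarith
      exact mul_left_cancel₀ hpi h6
    have h2 : ((k * (2 * (h : ℤ) + 1) : ℤ) : ℝ) = ((l : ℤ) : ℝ) := by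
      push_cast; exact this
    have h3 := Int.cast_injective h2
    rw [← h3]; ring

/-- `(1 - 2x cos θ + x²) Σ_{k=1}^K x^k cos kθ = x cos θ - x² - x^(K+1) cos((K+1)θ) + x^(K+2) cos(Kθ)`. -/
theorem gam_identity (x θ : ℝ) (K : ℕ) :
    (1 - 2 * x * cos θ + x ^ 2) * ∑ k ∈ range K, x ^ (k + 1) * cos (((k : ℝ) + 1) * θ) =
      x * cos θ - x ^ 2 - x ^ (K + 1) * cos (((K : ℝ) + 1) * θ) + x ^ (K + 2) * cos ((K : ℝ) * θ) := by
  induction K with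
  | zero => simp
  | succ K ih =>
    rw [sum_range_succ, mul_add, ih]
    have e1 : (((K + 1 : ℕ) : ℝ) + 1) * θ = ((K : ℝ) + 1) * θ + θ := by push_cast; ring
    have e2 : ((K + 1 : ℕ) : ℝ) * θ = ((K : ℝ) + 1) * θ := by push_cast; ring
    have e3 : (K : ℝ) * θ = ((K : ℝ) + 1) * θ - θ := by ring
    rw [e1, e2, e3, cos_add, cos_sub]
    ring

/-- cosine orthogonality on `ℤ/(2h+1)` (half range with weights `1,2,…,2`). -/
theorem orth_odd (h j j0 : ℕ) (hj : 1 ≤ j) (hjh : j ≤ h) (hj0 : 1 ≤ j0) (hj0h : j0 ≤ h) :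
    1 + 2 * ∑ k ∈ range h, cos (2 * π * j * ((k : ℝ) + 1) / (2 * (h : ℝ) + 1)) *
        cos (2 * π * j0 * ((k : ℝ) + 1) / (2 * (h : ℝ) + 1)) =
      if j = j0 then (2 * (h : ℝ) + 1) / 2 else 0 := by
  have hn : (2 * (h : ℝ) + 1) ≠ 0 := by positivity
  have hprod : ∀ k : ℕ, cos (2 * π * j * ((k : ℝ) + 1) / (2 * (h : ℝ) + 1)) *
        cos (2 * π * j0 * ((k : ℝ) + 1) / (2 * (h : ℝ) + 1)) =
      (cos (((k : ℝ) + 1) * (2 * π * ((j : ℤ) - (j0 : ℤ) : ℤ) / (2 * (h : ℝ) + 1))) +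
        cos (((k : ℝ) + 1) * (2 * π * ((j : ℤ) + (j0 : ℤ) : ℤ) / (2 * (h : ℝ) + 1)))) / 2 := by
    intro k
    have e1 : ((k : ℝ) + 1) * (2 * π * ((j : ℤ) - (j0 : ℤ) : ℤ) / (2 * (h : ℝ) + 1)) =
        2 * π * j * ((k : ℝ) + 1) / (2 * (h : ℝ) + 1) - 2 * π * j0 * ((k : ℝ) + 1) / (2 * (h : ℝ) + 1) := by
      push_cast; field_simp
    have e2 : ((k : ℝ) + 1) * (2 * π * ((j : ℤ) + (j0 : ℤ) : ℤ) / (2 * (h : ℝ) + 1)) =
        2 * π * j * ((k : ℝ) + 1) / (2 * (h : ℝ) + 1) + 2 * π * j0 * ((k : ℝ) + 1) / (2 * (h : ℝ) + 1) := by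
      push_cast; field_simp
    rw [e1, e2, cos_sub, cos_add]; ring
  rw [sum_congr rfl (fun k _ => hprod k)]
  rw [← sum_div, sum_add_distrib]
  have hplus : 1 + 2 * ∑ k ∈ range h,
      cos (((k : ℝ) + 1) * (2 * π * ((j : ℤ) + (j0 : ℤ) : ℤ) / (2 * (h : ℝ) + 1))) = 0 := by
    apply dir_zero_odd
    intro hd
    have h1 : (0 : ℤ) < (j : ℤ) + j0 := by omega
    have h2 : (j : ℤ) + j0 < 2 * (h : ℤ) + 1 := by omega
    have := Int.le_of_dvd h1 hd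
    omega
  by_cases hjj : j = j0
  · subst hjj
    rw [if_pos rfl]
    have : ∑ k ∈ range h, cos (((k : ℝ) + 1) * (2 * π * ((j : ℤ) - (j : ℤ) : ℤ) / (2 * (h : ℝ) + 1)))
        = (h : ℝ) := by
      simp
    rw [this]
    linarith
  · rw [if_neg hjj]
    have hminus : 1 + 2 * ∑ k ∈ range h,
        cos (((k : ℝ) + 1) * (2 * π * ((j : ℤ) - (j0 : ℤ) : ℤ) / (2 * (h : ℝ) + 1))) = 0 := by
      apply dir_zero_odd
      intro hd
      have h0 : (j : ℤ) - j0 ≠ 0 := by omega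
      rcases lt_or_gt_of_ne h0 with hlt | hgt
      · have hd' : (2 * (h : ℤ) + 1) ∣ (j0 : ℤ) - j := by
          have := dvd_neg.mpr hd
          simpa using this
        have := Int.le_of_dvd (by omega) hd'
        omega
      · have := Int.le_of_dvd hgt hd
        omega
    linarith

end Cfsg.Agent.Lib.Helper25.FH
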