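import Mathlib
import Cfsg.Agent.Lib.Helper19.FHDefs
import Cfsg.Agent.Lib.Helper25.FHDftCommon

/-!
# Feit–Higman project (S1142): MODULE DFT-ODD
-/

set_option autoImplicit false
set_option linter.unusedVariables false

namespace Cfsg.Agent.Lib.Helper25.FH

open Real Finset Cfsg.Agent.Lib.Helper19.FH

theorem qq_self (q k : ℕ) : qq q q k = q ^ k := by
  unfold qq
  rw [← pow_add]
  congr 1
  omega

/-- for `θ = 2π j0/(2h+1)`: `cos((h+1)θ) = cos(hθ)`. -/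
theorem cos_succ_eq (h j0 : ℕ) :
    cos (((h : ℝ) + 1) * (2 * π * j0 / (2 * (h : ℝ) + 1))) =
      cos ((h : ℝ) * (2 * π * j0 / (2 * (h : ℝ) + 1))) := by
  have hn : (2 * (h : ℝ) + 1) ≠ 0 := by positivity
  have e : ((h : ℝ) + 1) * (2 * π * j0 / (2 * (h : ℝ) + 1)) =
      (j0 : ℝ) * (2 * π) - (h : ℝ) * (2 * π * j0 / (2 * (h : ℝ) + 1)) := by
    field_simp; ring
  rw [e, cos_nat_mul_two_pi_sub]

/-- the closed form of `Γ'(x) = 1 + 2 Σ_{k=1}^h x^k cos kθ`. -/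
theorem gam_odd (x θ : ℝ) (h : ℕ) (hg : cos (((h : ℝ) + 1) * θ) = cos ((h : ℝ) * θ)) :
    (1 - 2 * x * cos θ + x ^ 2) * (1 + 2 * ∑ k ∈ range h, x ^ (k + 1) * cos (((k : ℝ) + 1) * θ)) =
      (1 - x) * (1 + x - 2 * cos ((h : ℝ) * θ) * x ^ (h + 1)) := by
  have key := gam_identity x θ h
  rw [hg] at key
  linear_combination 2 * key

/-- abstract form of the odd DFT inversion: everything in terms of the real number `x = q`. -/
theorem odd_core (h : ℕ) (x N c00 : ℝ) (hx1 : 1 < x) (S : Finset ℕ) (hS : ∀ j ∈ S, 1 ≤ j ∧ j ≤ h)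
    (m : ℕ → ℝ) (j0 : ℕ) (hj0S : j0 ∈ S)
    (hNx : N * (x - 1) = (1 + x) * (x ^ (2 * h + 1) - 1))
    (hE0 : 1 + c00 + ∑ j ∈ S, m j * 2 = N)
    (hEk : ∀ k : ℕ, k < h → (x * x) ^ (k + 1) + c00 +
        ∑ j ∈ S, m j * (2 * x ^ (k + 1) *
          cos (2 * π * j * ((k : ℝ) + 1) / (2 * (h : ℝ) + 1))) = 0)
    (hTa : (0 : ℝ) = x - c00 + (x - 1) * ∑ j ∈ S, m j) :
    (2 * (h : ℝ) + 1) * m j0 *
        (1 + x * x - 2 * x * cos (2 * π * j0 / (2 * (h : ℝ) + 1))) =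
      N * (2 * x - 2 * x * cos (2 * π * j0 / (2 * (h : ℝ) + 1))) := by
  have hx0 : x ≠ 0 := by positivity
  have hn : (2 * (h : ℝ) + 1) ≠ 0 := by positivity
  obtain ⟨θ, hθ⟩ : ∃ θ : ℝ, θ = 2 * π * j0 / (2 * (h : ℝ) + 1) := ⟨_, rfl⟩
  rw [← hθ]
  -- c00 = x^n
  have hc00 : c00 = x ^ (2 * h + 1) := by
    have h1 : ∑ j ∈ S, m j * 2 = 2 * ∑ j ∈ S, m j := by rw [mul_sum]; simp [mul_comm]
    rw [h1] at hE0
    have h2 : (c00 - 1) * (x + 1) = N * (x - 1) := by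
      rw [← hE0]; linear_combination (2 : ℝ) * hTa
    rw [hNx] at h2
    have h3 : (x + 1) ≠ 0 := by positivity
    have h4 : (c00 - 1) * (x + 1) = (x ^ (2 * h + 1) - 1) * (x + 1) := by rw [h2]; ring
    have := mul_right_cancel₀ h3 h4
    linarith
  -- the angle of j0 at step k
  have hC : ∀ k : ℕ, cos (2 * π * j0 * ((k : ℝ) + 1) / (2 * (h : ℝ) + 1)) = cos (((k : ℝ) + 1) * θ) := by
    intro k; rw [hθ]; congr 1; field_simp
  -- orthogonality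
  have horth : ∀ j ∈ S, 1 + 2 * ∑ k ∈ range h,
      cos (2 * π * j * ((k : ℝ) + 1) / (2 * (h : ℝ) + 1)) * cos (((k : ℝ) + 1) * θ) =
        if j = j0 then (2 * (h : ℝ) + 1) / 2 else 0 := by
    intro j hj
    have := orth_odd h j j0 (hS j hj).1 (hS j hj).2 (hS j0 hj0S).1 (hS j0 hj0S).2
    rw [← this]
    congr 2
    apply sum_congr rfl
    intro k _
    rw [hC k]
  -- the combination
  obtain ⟨G1, hG1⟩ : ∃ G1 : ℝ, G1 = 1 + 2 * ∑ k ∈ range h, x ^ (k + 1) * cos (((k : ℝ) + 1) * θ) :=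
    ⟨_, rfl⟩
  obtain ⟨G2, hG2⟩ : ∃ G2 : ℝ,
      G2 = 1 + 2 * ∑ k ∈ range h, x⁻¹ ^ (k + 1) * cos (((k : ℝ) + 1) * θ) := ⟨_, rfl⟩
  have hcomb : G1 + c00 * G2 + (2 * (h : ℝ) + 1) * m j0 = N := by
    have hzero : ∑ k ∈ range h, 2 * (x⁻¹ ^ (k + 1) * cos (((k : ℝ) + 1) * θ)) *
        ((x * x) ^ (k + 1) + c00 + ∑ j ∈ S, m j * (2 * x ^ (k + 1) *
          cos (2 * π * j * ((k : ℝ) + 1) / (2 * (h : ℝ) + 1)))) = 0 := by
      apply sum_eq_zero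
      intro k hk
      rw [hEk k (mem_range.mp hk), mul_zero]
    have hterm : ∀ k : ℕ, 2 * (x⁻¹ ^ (k + 1) * cos (((k : ℝ) + 1) * θ)) *
        ((x * x) ^ (k + 1) + c00 + ∑ j ∈ S, m j * (2 * x ^ (k + 1) *
          cos (2 * π * j * ((k : ℝ) + 1) / (2 * (h : ℝ) + 1)))) =
        2 * (x ^ (k + 1) * cos (((k : ℝ) + 1) * θ)) +
        c00 * (2 * (x⁻¹ ^ (k + 1) * cos (((k : ℝ) + 1) * θ))) +
        ∑ j ∈ S, m j * (2 * (2 * (cos (2 * π * j * ((k : ℝ) + 1) / (2 * (h : ℝ) + 1)) *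
          cos (((k : ℝ) + 1) * θ)))) := by
      intro k
      have hz1 : x⁻¹ ^ (k + 1) * (x * x) ^ (k + 1) = x ^ (k + 1) := by
        rw [← mul_pow, ← mul_assoc, inv_mul_cancel₀ hx0, one_mul]
      have hz2 : x⁻¹ ^ (k + 1) * x ^ (k + 1) = 1 := by
        rw [← mul_pow, inv_mul_cancel₀ hx0, one_pow]
      rw [mul_add, mul_add, mul_sum]
      congr 1
      · congr 1
        · rw [← hz1]; ring
        · ring
      · apply sum_congr rfl
        intro j _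
        have : 2 * (x⁻¹ ^ (k + 1) * cos (((k : ℝ) + 1) * θ)) * (m j * (2 * x ^ (k + 1) *
            cos (2 * π * j * ((k : ℝ) + 1) / (2 * (h : ℝ) + 1)))) =
            (x⁻¹ ^ (k + 1) * x ^ (k + 1)) * (m j * (2 * (2 * (cos (2 * π * j * ((k : ℝ) + 1) /
              (2 * (h : ℝ) + 1)) * cos (((k : ℝ) + 1) * θ))))) := by ring
        rw [this, hz2, one_mul]
    rw [sum_congr rfl (fun k _ => hterm k), sum_add_distrib, sum_add_distrib, sum_comm] at hzero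
    have hA : ∑ j ∈ S, m j * (2 * (if j = j0 then (2 * (h : ℝ) + 1) / 2 else 0)) =
        (2 * (h : ℝ) + 1) * m j0 := by
      rw [sum_eq_single_of_mem j0 hj0S]
      · rw [if_pos rfl]; ring
      · intro j _ hjne
        rw [if_neg hjne]; ring
    rw [← hA, hG1, hG2, ← hE0]
    have hB : ∑ j ∈ S, m j * (2 * (if j = j0 then (2 * (h : ℝ) + 1) / 2 else 0)) =
        ∑ j ∈ S, m j * 2 + ∑ j ∈ S, ∑ k ∈ range h,
          m j * (2 * (2 * (cos (2 * π * j * ((k : ℝ) + 1) / (2 * (h : ℝ) + 1)) *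
            cos (((k : ℝ) + 1) * θ)))) := by
      rw [← sum_add_distrib]
      apply sum_congr rfl
      intro j hj
      rw [← horth j hj, ← mul_sum, ← mul_sum, ← mul_sum]
      ring
    rw [hB]
    have hC1 : ∑ k ∈ range h, 2 * (x ^ (k + 1) * cos (((k : ℝ) + 1) * θ)) =
        2 * ∑ k ∈ range h, x ^ (k + 1) * cos (((k : ℝ) + 1) * θ) := by rw [mul_sum]
    have hC2 : ∑ k ∈ range h, c00 * (2 * (x⁻¹ ^ (k + 1) * cos (((k : ℝ) + 1) * θ))) =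
        c00 * (2 * ∑ k ∈ range h, x⁻¹ ^ (k + 1) * cos (((k : ℝ) + 1) * θ)) := by
      rw [mul_sum, mul_sum]
    rw [hC1, hC2] at hzero
    linarith
  -- closed forms
  have hg := cos_succ_eq h j0
  rw [← hθ] at hg
  have hgam1 := gam_odd x θ h hg
  have hgam2 := gam_odd x⁻¹ θ h hg
  rw [← hG1] at hgam1
  rw [← hG2] at hgam2
  obtain ⟨g, hgdef⟩ : ∃ g : ℝ, g = cos ((h : ℝ) * θ) := ⟨_, rfl⟩
  obtain ⟨Q, hQdef⟩ : ∃ Q : ℝ, Q = x ^ h := ⟨_, rfl⟩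
  have hQ0 : Q ≠ 0 := by rw [hQdef]; positivity
  rw [← hgdef] at hgam1 hgam2
  have hxh1 : x ^ (h + 1) = x * Q := by rw [hQdef, pow_succ]; ring
  have hxn : x ^ (2 * h + 1) = x * Q * Q := by rw [hQdef]; ring
  have hxi : x⁻¹ ^ (h + 1) = (x * Q)⁻¹ := by rw [inv_pow, hxh1]
  rw [hxh1] at hgam1
  rw [hxi] at hgam2
  rw [hxn] at hc00 hNx
  -- G2 * D = (x - 1) * (x + 1 - 2 g / Q)
  obtain ⟨D, hD⟩ : ∃ D : ℝ, D = 1 + x * x - 2 * x * cos θ := ⟨_, rfl⟩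
  have hgam1' : D * G1 = (1 - x) * (1 + x - 2 * g * (x * Q)) := by
    rw [hD, ← hgam1]; ring
  have hgam2' : D * G2 * Q = (x - 1) * ((x + 1) * Q - 2 * g) := by
    have : D * G2 * Q = x ^ 2 * Q * ((1 - 2 * x⁻¹ * cos θ + x⁻¹ ^ 2) * G2) := by
      rw [hD]; field_simp; ring
    rw [this, hgam2]
    field_simp
  -- final algebra
  have hm : (2 * (h : ℝ) + 1) * m j0 = N - G1 - c00 * G2 := by linarith
  rw [← hD, hm]
  have hfin : (N - G1 - c00 * G2) * D * Q = N * (2 * x - 2 * x * cos θ) * Q := by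
    have e1 : (N - G1 - c00 * G2) * D * Q = N * D * Q - (D * G1) * Q - c00 * (D * G2 * Q) := by ring
    rw [e1, hgam1', hgam2', hc00]
    have hNx' : N * (x - 1) = (1 + x) * (x * Q * Q - 1) := hNx
    have hx1' : x - 1 ≠ 0 := by linarith
    have : N = (1 + x) * (x * Q * Q - 1) / (x - 1) := by
      field_simp; linarith
    rw [this, hD]
    field_simp
    ring
  exact mul_right_cancel₀ hQ0 hfin

/-- **MODULE DFT-ODD** (exact statement of board post #2981). -/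
theorem mult_formula_odd (h q : ℕ) (hh : 1 ≤ h) (hq : 2 ≤ q)
    (N₀ : ℕ) (hN : N₀ = ∑ k ∈ Finset.range (2 * h + 1), qq q q k + ∑ k ∈ Finset.range (2 * h + 1), qq q q (k + 1))
    (c00 : ℕ) (mult : ℕ → ℕ)
    (hE : ∀ k : ℕ, k ≤ h → ((q : ℝ) * q) ^ k + c00 +
        ∑ j ∈ angles (2 * h + 1), (mult j : ℝ) * (2 * (Real.sqrt ((q : ℝ) * q)) ^ k *
          Real.cos (2 * π * j * k / ((2 * h + 1 : ℕ) : ℝ))) = if k = 0 then (N₀ : ℝ) else 0)
    (hTa : (0 : ℝ) = q - c00 + ((q : ℝ) - 1) * ∑ j ∈ angles (2 * h + 1), (mult j : ℝ)) :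
    ∀ j ∈ angles (2 * h + 1), ((2 * h + 1 : ℕ) : ℝ) * mult j *
        ((1 + (q : ℝ) * q - yy (2 * h + 1) q q j) * ((q : ℝ) + q + yy (2 * h + 1) q q j)) =
      N₀ * (4 * (q : ℝ) * q - (yy (2 * h + 1) q q j) ^ 2) := by
  intro j0 hj0
  have hx1 : (1 : ℝ) < (q : ℝ) := by exact_mod_cast (by omega : 1 < q)
  have hsqrt : Real.sqrt ((q : ℝ) * q) = (q : ℝ) := Real.sqrt_mul_self (by positivity)
  have hncast : ((2 * h + 1 : ℕ) : ℝ) = 2 * (h : ℝ) + 1 := by push_cast; ring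
  have hS : ∀ j ∈ angles (2 * h + 1), 1 ≤ j ∧ j ≤ h := by
    intro j hj
    obtain ⟨h1, h2⟩ := mem_angles.mp hj
    exact ⟨h1, by omega⟩
  -- N₀
  have hNx : (N₀ : ℝ) * ((q : ℝ) - 1) = (1 + (q : ℝ)) * ((q : ℝ) ^ (2 * h + 1) - 1) := by
    have h1 : (N₀ : ℝ) = ∑ k ∈ Finset.range (2 * h + 1), (q : ℝ) ^ k +
        ∑ k ∈ Finset.range (2 * h + 1), (q : ℝ) ^ (k + 1) := by
      rw [hN]
      push_cast
      simp only [qq_self]
      push_cast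
      rfl
    have h2 : ∑ k ∈ Finset.range (2 * h + 1), (q : ℝ) ^ (k + 1) =
        (q : ℝ) * ∑ k ∈ Finset.range (2 * h + 1), (q : ℝ) ^ k := by
      rw [Finset.mul_sum]
      apply Finset.sum_congr rfl
      intro k _
      rw [pow_succ]; ring
    have h3 := geom_sum_mul (q : ℝ) (2 * h + 1)
    rw [h1, h2]
    linear_combination (1 + (q : ℝ)) * h3
  -- E0
  have hE0 : 1 + (c00 : ℝ) + ∑ j ∈ angles (2 * h + 1), (mult j : ℝ) * 2 = (N₀ : ℝ) := by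
    have := hE 0 (Nat.zero_le _)
    simpa using this
  -- Ek
  have hEk : ∀ k : ℕ, k < h → ((q : ℝ) * q) ^ (k + 1) + (c00 : ℝ) +
      ∑ j ∈ angles (2 * h + 1), (mult j : ℝ) * (2 * (q : ℝ) ^ (k + 1) *
        cos (2 * π * j * ((k : ℝ) + 1) / (2 * (h : ℝ) + 1))) = 0 := by
    intro k hk
    have := hE (k + 1) (by omega)
    rw [if_neg (Nat.succ_ne_zero k), hsqrt, hncast] at this
    rw [← this]
    push_cast
    rfl
  have key := odd_core h (q : ℝ) (N₀ : ℝ) (c00 : ℝ) hx1 (angles (2 * h + 1)) hS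
    (fun j => (mult j : ℝ)) j0 hj0 hNx hE0 hEk hTa
  -- conclusion
  have hy : yy (2 * h + 1) q q j0 = 2 * (q : ℝ) * cos (2 * π * j0 / (2 * (h : ℝ) + 1)) := by
    unfold yy
    rw [hsqrt, hncast]
  rw [hy, hncast]
  obtain ⟨c, hc⟩ : ∃ c : ℝ, c = cos (2 * π * j0 / (2 * (h : ℝ) + 1)) := ⟨_, rfl⟩
  rw [← hc] at key ⊢
  linear_combination (2 * (q : ℝ) + 2 * (q : ℝ) * c) * key

end Cfsg.Agent.Lib.Helper25.FH
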