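import Mathlib
import Cfsg.Prelude.Def_Local
import Cfsg.Prelude.Def_Transfer
import Cfsg.Agent.Lib.Helper41.PGV.Defs

/-!
# Project PGV (S3086), sub-project RED: hedge of leaf PGV-[PQ-REP] (helper25)

Thompson's `P × Q` lemma in representation form (T3), direct proof: exact sheet statement,
nested namespace `Cfsg.Agent.Lib.Helper41.PGV.H25`.  Mathlib only (+ `Defs.lean`).
-/

set_option autoImplicit false

universe v

namespace Cfsg.Agent.Lib.Helper41.PGV.H25

open Cfsg Cfsg.Agent.Lib.Helper41.PGV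

variable {p : ℕ} [Fact p.Prime]

/-- coprime action on an `F_p`-space: a vector of `im (T - 1)` fixed by `T`, `T ^ n = 1` with
`n` prime to `p`, is zero -/
theorem eq_zero_of_fixed_of_mem_range {V : Type*} [AddCommGroup V] [Module (ZMod p) V]
    (T : Module.End (ZMod p) V) (n : ℕ) (hn : T ^ n = 1) (hnp : n.Coprime p) (w : V)
    (hw : T w = w) (hr : ∃ v, w = T v - v) : w = 0 := by
  obtain ⟨v, rfl⟩ := hr
  have h1 : (∑ i ∈ Finset.range n, T ^ i) * (T - 1) = 0 := by
    rw [geom_sum_mul, hn, sub_self]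
  have h2 : (∑ i ∈ Finset.range n, T ^ i) (T v - v) = 0 := by
    have := congrArg (fun f : Module.End (ZMod p) V => f v) h1
    simpa [Module.End.mul_apply, LinearMap.sub_apply] using this
  have h3 : ∀ i : ℕ, (T ^ i) (T v - v) = T v - v := by
    intro i
    induction i with
    | zero => simp
    | succ k ih => rw [pow_succ, Module.End.mul_apply, hw, ih]
  have h4 : (∑ i ∈ Finset.range n, T ^ i) (T v - v) = n • (T v - v) := by
    rw [LinearMap.sum_apply, Finset.sum_congr rfl (fun i _ => h3 i), Finset.sum_const,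
      Finset.card_range]
  rw [h4, ← Nat.cast_smul_eq_nsmul (ZMod p)] at h2
  rcases smul_eq_zero.1 h2 with h | h
  · exfalso
    rw [ZMod.natCast_eq_zero_iff] at h
    have hp := (Fact.out : p.Prime)
    have : p ∣ Nat.gcd n p := Nat.dvd_gcd h dvd_rfl
    rw [hnp] at this
    exact hp.one_lt.ne' (Nat.dvd_one.1 this)
  · exact h

/-- a `p`-group acting linearly on a non-zero invariant subspace of an `F_p`-space has a
non-zero fixed vector there -/
theorem exists_fixed_ne_zero {G V : Type*} [Group G] [AddCommGroup V] [Finite V]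
    [Module (ZMod p) V] (ρ : Representation (ZMod p) G V) (D : Subgroup G) (hD : IsPGroup p D)
    (W : Submodule (ZMod p) V) (hW : W ≠ ⊥) (hinv : ∀ d ∈ D, ∀ w ∈ W, ρ d w ∈ W) :
    ∃ w ∈ W, w ≠ 0 ∧ ∀ d ∈ D, ρ d w = w := by
  classical
  let _ : MulAction D W :=
    { smul := fun d w => ⟨ρ (d : G) (w : V), hinv d d.2 w w.2⟩
      one_smul := fun w => by
        apply Subtype.ext
        show ρ ((1 : D) : G) (w : V) = w
        simp
      mul_smul := fun d e w => by
        apply Subtype.ext
        show ρ ((d * e : D) : G) (w : V) = ρ (d : G) (ρ (e : G) (w : V))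
        simp }
  have hsmul : ∀ (d : D) (w : W), ((d • w : W) : V) = ρ (d : G) (w : V) := fun _ _ => rfl
  obtain ⟨w₀, hw₀W, hw₀⟩ := (Submodule.ne_bot_iff W).1 hW
  have hpW : p ∣ Nat.card W := by
    have hp := (Fact.out : p.Prime)
    have h1 : addOrderOf (⟨w₀, hw₀W⟩ : W) ∣ p := by
      apply addOrderOf_dvd_of_nsmul_eq_zero
      rw [← Nat.cast_smul_eq_nsmul (ZMod p), ZMod.natCast_self, zero_smul]
    have h2 : addOrderOf (⟨w₀, hw₀W⟩ : W) ≠ 1 := by
      intro h
      rw [AddMonoid.addOrderOf_eq_one_iff] at h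
      exact hw₀ (congrArg Subtype.val h)
    have h3 : addOrderOf (⟨w₀, hw₀W⟩ : W) = p := by
      rcases (Nat.dvd_prime hp).1 h1 with h | h
      · exact absurd h h2
      · exact h
    have h4 := addOrderOf_dvd_natCard (⟨w₀, hw₀W⟩ : W)
    rwa [h3] at h4
  have h0 : (0 : W) ∈ MulAction.fixedPoints D W := by
    intro d
    apply Subtype.ext
    rw [hsmul]
    simp
  obtain ⟨b, hb, hne⟩ := hD.exists_fixed_point_of_prime_dvd_card_of_fixed_point W hpW h0
  refine ⟨(b : V), b.2, ?_, ?_⟩
  · intro h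
    apply hne
    apply Subtype.ext
    exact h.symm
  · intro d hd
    have := hb ⟨d, hd⟩
    have h2 := congrArg Subtype.val this
    rwa [hsmul] at h2

variable {G V : Type v} [Group G] [Finite G] [AddCommGroup V] [Finite V] [Module (ZMod p) V]
  {ρ : Representation (ZMod p) G V}

/-- **[PQ-REP]** (T3, Thompson `P × Q`).  `x` a `p'`-element centralizing the `p`-group `D` and
trivial on `C_V(D)` is trivial on `V`. -/
theorem pq_rep (hinj : Function.Injective ρ) (D : Subgroup G) (hD : IsPGroup p D) (x : G)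
    (hx : ∀ d ∈ D, d * x = x * d) (hxp : (orderOf x).Coprime p)
    (hfix : ∀ v ∈ fix ρ (D : Set G), ρ x v = v) : x = 1 := by
  apply hinj
  rw [map_one]
  have hn : (ρ x) ^ orderOf x = 1 := by
    rw [← map_pow, pow_orderOf_eq_one, map_one]
  -- the subspace `[V, x]`
  have hW : LinearMap.range (ρ x - 1) = ⊥ := by
    by_contra hne
    have hinv : ∀ d ∈ D, ∀ w ∈ LinearMap.range (ρ x - 1), ρ d w ∈ LinearMap.range (ρ x - 1) := by
      rintro d hd _ ⟨v, rfl⟩
      refine ⟨ρ d v, ?_⟩
      have hc : ρ d * ρ x = ρ x * ρ d := by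
        rw [← map_mul, ← map_mul, hx d hd]
      have hc' : ρ d (ρ x v) = ρ x (ρ d v) := by
        have := congrArg (fun f : Module.End (ZMod p) V => f v) hc
        simpa [Module.End.mul_apply] using this
      simp only [LinearMap.sub_apply, Module.End.one_apply, map_sub]
      rw [hc']
    obtain ⟨w, hwW, hw0, hwD⟩ := exists_fixed_ne_zero ρ D hD _ hne hinv
    have hwfix : w ∈ fix ρ (D : Set G) := fun d hd => hwD d hd
    obtain ⟨v, hv⟩ := hwW
    apply hw0
    apply eq_zero_of_fixed_of_mem_range (ρ x) (orderOf x) hn hxp w (hfix w hwfix)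
    refine ⟨v, ?_⟩
    rw [← hv]
    simp
  apply LinearMap.ext
  intro v
  have : (ρ x - 1) v ∈ LinearMap.range (ρ x - 1) := ⟨v, rfl⟩
  rw [hW, Submodule.mem_bot] at this
  simp only [LinearMap.sub_apply, Module.End.one_apply] at this
  rw [Module.End.one_apply]
  exact sub_eq_zero.1 this

end Cfsg.Agent.Lib.Helper41.PGV.H25
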