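import Mathlib
import Cfsg.Prelude.Def_GeometricClasses
import Cfsg.Agent.Lib.Helper99.AschDefs
import Cfsg.Agent.Lib.Helper99.U92.Defs

/-!
# U92-[PT2] (project ASCHU / U92, helper99): pure tensors with two factors.
-/

set_option autoImplicit false

namespace Cfsg.Agent.Lib.Helper99.U92

open Cfsg Cfsg.Geo Cfsg.Agent.Lib.Helper99.Asch Cfsg.Agent.Lib.Helper70.AschU
open Cfsg.Agent.Lib.Helper15.AschSlotNorm Cfsg.Agent.Lib.Helper15.AschUPure
open scoped MatrixGroups Matrix

variable {F : Type*} [Field F]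

theorem PT_two_apply {d : ℕ} (A B : Matrix (Fin d) (Fin d) F) (x y : Fin 2 → Fin d) :
    PT ![A, B] x y = A (x 0) (y 0) * B (x 1) (y 1) := by
  simp [PT, Fin.prod_univ_two]

theorem PT_two_mul {d : ℕ} (A B A' B' : Matrix (Fin d) (Fin d) F) :
    PT ![A, B] * PT ![A', B'] = PT ![A * A', B * B'] := by
  rw [PT_mul]
  congr 1
  funext i
  fin_cases i <;> rfl

theorem PT_two_one {d : ℕ} : PT ![(1 : Matrix (Fin d) (Fin d) F), 1] = 1 := by
  rw [← PT_one]
  congr 1
  funext i
  fin_cases i <;> rfl

theorem PT_two_transpose {d : ℕ} (A B : Matrix (Fin d) (Fin d) F) : (PT ![A, B])ᵀ = PT ![Aᵀ, Bᵀ] := by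
  rw [PT_transpose]
  congr 1
  funext i
  fin_cases i <;> rfl

theorem PT_two_map {d : ℕ} (τ : F ≃+* F) (A B : Matrix (Fin d) (Fin d) F) :
    (PT ![A, B]).map τ = PT ![A.map τ, B.map τ] := by
  rw [PT_map]
  congr 1
  funext i
  fin_cases i <;> rfl

theorem PT_two_smul_left {d : ℕ} (c : F) (A B : Matrix (Fin d) (Fin d) F) :
    PT ![c • A, B] = c • PT ![A, B] := by
  ext x y
  simp only [PT_two_apply, Matrix.smul_apply, smul_eq_mul, mul_assoc]

theorem PT_two_smul_right {d : ℕ} (c : F) (A B : Matrix (Fin d) (Fin d) F) :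
    PT ![A, c • B] = c • PT ![A, B] := by
  ext x y
  simp only [PT_two_apply, Matrix.smul_apply, smul_eq_mul]
  ring

theorem PT_two_add_left {d : ℕ} (A A' B : Matrix (Fin d) (Fin d) F) :
    PT ![A + A', B] = PT ![A, B] + PT ![A', B] := by
  ext x y
  simp only [PT_two_apply, Matrix.add_apply, add_mul]

theorem PT_two_add_right {d : ℕ} (A B B' : Matrix (Fin d) (Fin d) F) :
    PT ![A, B + B'] = PT ![A, B] + PT ![A, B'] := by
  ext x y
  simp only [PT_two_apply, Matrix.add_apply, mul_add]

theorem PT_two_single {d : ℕ} (x y : Fin 2 → Fin d) :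
    PT ![Matrix.single (x 0) (y 0) (1 : F), Matrix.single (x 1) (y 1) (1 : F)] = Matrix.single x y (1 : F) := by
  ext u v
  rw [PT_two_apply]
  simp only [Matrix.single_apply]
  by_cases h : x = u ∧ y = v
  · obtain ⟨rfl, rfl⟩ := h
    simp
  · rw [if_neg h]
    rw [not_and_or] at h
    rcases h with h | h
    · have : ¬ (x 0 = u 0 ∧ x 1 = u 1) := by
        rintro ⟨h0, h1⟩
        apply h
        funext i
        fin_cases i
        · exact h0
        · exact h1
      rw [not_and_or] at this
      rcases this with h' | h'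
      · simp [h']
      · simp [h']
    · have : ¬ (y 0 = v 0 ∧ y 1 = v 1) := by
        rintro ⟨h0, h1⟩
        apply h
        funext i
        fin_cases i
        · exact h0
        · exact h1
      rw [not_and_or] at this
      rcases this with h' | h'
      · simp [h']
      · simp [h']

/-- `M ⊗ N = 1` forces both factors to be scalar. -/
theorem PT_two_eq_one {d : ℕ} (hd : 0 < d) {M N : Matrix (Fin d) (Fin d) F} (h : PT ![M, N] = 1) :
    ∃ c : F, c ≠ 0 ∧ M = c • (1 : Matrix (Fin d) (Fin d) F) ∧ N = c⁻¹ • (1 : Matrix (Fin d) (Fin d) F) := by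
  have hent : ∀ i j k l : Fin d, M i j * N k l = if i = j ∧ k = l then 1 else 0 := by
    intro i j k l
    have h1 := congrFun (congrFun h ![i, k]) ![j, l]
    rw [PT_two_apply] at h1
    simp only [Matrix.cons_val_zero, Matrix.cons_val_one] at h1
    rw [h1, Matrix.one_apply]
    by_cases hc : i = j ∧ k = l
    · obtain ⟨rfl, rfl⟩ := hc
      simp
    · rw [if_neg hc, if_neg]
      intro heq
      apply hc
      constructor
      · simpa using congrFun heq 0
      · simpa using congrFun heq 1
  obtain ⟨i0⟩ : Nonempty (Fin d) := ⟨⟨0, hd⟩⟩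
  have h00 : M i0 i0 * N i0 i0 = 1 := by
    rw [hent]; simp
  have hM0 : M i0 i0 ≠ 0 := left_ne_zero_of_mul_eq_one h00
  have hN0 : N i0 i0 ≠ 0 := right_ne_zero_of_mul_eq_one h00
  refine ⟨M i0 i0, hM0, ?_, ?_⟩
  · ext i j
    have h1 := hent i j i0 i0
    rw [Matrix.smul_apply, Matrix.one_apply, smul_eq_mul]
    by_cases hij : i = j
    · subst hij
      simp only [and_self, if_true] at h1
      rw [if_pos rfl, mul_one]
      have : M i i * N i0 i0 = M i0 i0 * N i0 i0 := by rw [h1, h00]
      exact mul_right_cancel₀ hN0 this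
    · rw [if_neg hij, mul_zero]
      simp only [hij, false_and, if_false] at h1
      rcases mul_eq_zero.mp h1 with h' | h'
      · exact h'
      · exact absurd h' hN0
  · ext k l
    have h1 := hent i0 i0 k l
    rw [Matrix.smul_apply, Matrix.one_apply, smul_eq_mul]
    by_cases hkl : k = l
    · subst hkl
      simp only [and_self, if_true] at h1
      rw [if_pos rfl, mul_one]
      exact eq_inv_of_mul_eq_one_right h1
    · rw [if_neg hkl, mul_zero]
      simp only [hkl, and_false, if_false] at h1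
      rcases mul_eq_zero.mp h1 with h' | h'
      · exact absurd h' hM0
      · exact h'

theorem PT_two_left_cancel {d : ℕ} {M M' N : Matrix (Fin d) (Fin d) F} (hN : N ≠ 0)
    (h : PT ![M, N] = PT ![M', N]) : M = M' := by
  obtain ⟨k, l, hkl⟩ : ∃ k l, N k l ≠ 0 := by
    by_contra hcon
    push Not at hcon
    exact hN (by ext i j; exact hcon i j)
  ext i j
  have h1 := congrFun (congrFun h ![i, k]) ![j, l]
  rw [PT_two_apply, PT_two_apply] at h1
  simp only [Matrix.cons_val_zero, Matrix.cons_val_one] at h1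
  exact mul_right_cancel₀ hkl h1

theorem PT_two_right_cancel {d : ℕ} {M N N' : Matrix (Fin d) (Fin d) F} (hM : M ≠ 0)
    (h : PT ![M, N] = PT ![M, N']) : N = N' := by
  obtain ⟨i, j, hij⟩ : ∃ i j, M i j ≠ 0 := by
    by_contra hcon
    push Not at hcon
    exact hM (by ext i j; exact hcon i j)
  ext k l
  have h1 := congrFun (congrFun h ![i, k]) ![j, l]
  rw [PT_two_apply, PT_two_apply] at h1
  simp only [Matrix.cons_val_zero, Matrix.cons_val_one] at h1
  exact mul_left_cancel₀ hij h1

end Cfsg.Agent.Lib.Helper99.U92
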