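import Mathlib
import Cfsg.Prelude.Def_GeometricClasses
import Cfsg.Agent.Lib.Helper99.AschDefs
import Cfsg.Agent.Lib.Helper99.U92.Defs

/-!
# U92-[R3-SPAN] (project ASCHU / U92, helper99): the 27 matrices `ω^a X^b Y^c` span the 3 × 3 matrices
over the field with four elements.

`E_{i,j} = ∑_{b<3} ω^(2 i b) • (X^b * Y^(j-i))`  (the factor 1/3 is 1 in characteristic 2).
-/

set_option autoImplicit false

namespace Cfsg.Agent.Lib.Helper25.U92

open Cfsg Cfsg.Geo Cfsg.Agent.Lib.Helper99.U92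
open scoped MatrixGroups Matrix

variable {F : Type*} [Field F]

theorem X3_pow_apply (ω : F) (b : ℕ) (u v : Fin 3) :
    (X3 ω ^ b) u v = if u = v then (ω ^ u.val) ^ b else 0 := by
  unfold X3
  rw [Matrix.diagonal_pow, Matrix.diagonal_apply]
  by_cases h : u = v
  · subst h
    rw [if_pos rfl, if_pos rfl, Pi.pow_apply]
    fin_cases u <;> simp
  · rw [if_neg h, if_neg h]

theorem Y3_apply (u v : Fin 3) :
    (Y3 : Matrix (Fin 3) (Fin 3) F) u v = if v = u + 1 then 1 else 0 := by
  fin_cases u <;> fin_cases v <;> simp [Y3]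

theorem ofNat_succ (c : ℕ) : Fin.ofNat 3 (c + 1) = Fin.ofNat 3 c + 1 := by
  apply Fin.ext
  simp [Fin.ofNat, Fin.val_add]

theorem ofNat_val (x : Fin 3) : Fin.ofNat 3 x.val = x := by
  apply Fin.ext
  simp [Fin.ofNat]

theorem Y3_pow_apply (c : ℕ) (u v : Fin 3) :
    ((Y3 : Matrix (Fin 3) (Fin 3) F) ^ c) u v = if v = u + Fin.ofNat 3 c then 1 else 0 := by
  induction c generalizing u v with
  | zero =>
    have h0 : Fin.ofNat 3 0 = 0 := rfl
    rw [pow_zero, Matrix.one_apply, h0, add_zero]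
    by_cases h : u = v
    · rw [if_pos h, if_pos h.symm]
    · rw [if_neg h, if_neg (fun h' => h h'.symm)]
  | succ c ih =>
    rw [pow_succ, Matrix.mul_apply, Finset.sum_eq_single (u + Fin.ofNat 3 c)]
    · rw [ih, if_pos rfl, one_mul, Y3_apply, ofNat_succ, add_assoc]
    · intro w _ hw
      rw [ih, if_neg hw, zero_mul]
    · intro h
      exact absurd (Finset.mem_univ _) h

theorem geom3 {ω : F} (h2 : (2 : F) = 0) (hω : ω ^ 2 + ω + 1 = 0) (k : ℕ) :
    ∑ b ∈ Finset.range 3, (ω ^ k) ^ b = if 3 ∣ k then 1 else 0 := by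
  have hω3 : ω ^ 3 = 1 := by linear_combination (ω - 1) * hω
  obtain ⟨q, r, hr, rfl⟩ : ∃ q r, r < 3 ∧ k = 3 * q + r :=
    ⟨k / 3, k % 3, Nat.mod_lt _ (by norm_num), (Nat.div_add_mod k 3).symm⟩
  rw [pow_add, pow_mul, hω3, one_pow, one_mul]
  simp only [Finset.sum_range_succ, Finset.sum_range_zero, zero_add, pow_zero, pow_one]
  interval_cases r
  · rw [if_pos (by omega)]
    simp only [pow_zero, one_pow]
    linear_combination h2
  · rw [if_neg (by omega)]
    linear_combination hω
  · rw [if_neg (by omega)]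
    linear_combination (1 + ω ^ 2 - ω) * hω
    
theorem single_eq_sum {ω : F} (h2 : (2 : F) = 0) (hω : ω ^ 2 + ω + 1 = 0) (i j : Fin 3) :
    Matrix.single i j (1 : F) =
      ∑ b ∈ Finset.range 3, ω ^ (2 * i.val * b) • (X3 ω ^ b * Y3 ^ (j - i).val) := by
  ext u v
  rw [Matrix.sum_apply]
  have hterm : ∀ b ∈ Finset.range 3,
      (ω ^ (2 * i.val * b) • (X3 ω ^ b * (Y3 : Matrix (Fin 3) (Fin 3) F) ^ (j - i).val)) u v =
        (if v = u + Fin.ofNat 3 (j - i).val then 1 else 0) * (ω ^ (2 * i.val + u.val)) ^ b := by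
    intro b _
    rw [Matrix.smul_apply, Matrix.mul_apply, Finset.sum_eq_single u, X3_pow_apply, if_pos rfl,
      Y3_pow_apply, smul_eq_mul]
    · by_cases h : v = u + Fin.ofNat 3 (j - i).val
      · rw [if_pos h, mul_one, one_mul, ← pow_mul, ← pow_mul, ← pow_add]
        congr 1
        ring
      · rw [if_neg h, mul_zero, mul_zero, zero_mul]
    · intro w _ hw
      rw [X3_pow_apply, if_neg (fun h => hw h.symm), zero_mul]
    · intro h
      exact absurd (Finset.mem_univ _) h
  rw [Finset.sum_congr rfl hterm, ← Finset.mul_sum, geom3 h2 hω, Matrix.single_apply]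
  rw [ofNat_val]
  have hdiv : 3 ∣ 2 * i.val + u.val ↔ i = u := by
    constructor
    · intro h
      apply Fin.ext
      have hi := i.isLt
      have hu := u.isLt
      omega
    · rintro rfl
      exact ⟨i.val, by ring⟩
  by_cases hiu : i = u
  · subst hiu
    rw [if_pos (hdiv.mpr rfl), mul_one]
    have : i + (j - i) = j := by abel
    rw [this]
    by_cases hjv : j = v
    · rw [if_pos ⟨rfl, hjv⟩, if_pos hjv.symm]
    · rw [if_neg (fun h => hjv h.2), if_neg (fun h => hjv h.symm)]
  · rw [if_neg (fun h => hiu h.1), if_neg (fun h => hiu (hdiv.mp h)), mul_zero]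

theorem two_eq_zero_of_card [Fintype F] (hF : Fintype.card F = 2 ^ 2) : (2 : F) = 0 := by
  have h1 : ringChar F = 2 := FiniteField.even_card_iff_char_two.mpr (by rw [hF]; norm_num)
  have : CharP F 2 := ringChar.of_eq h1
  exact CharTwo.two_eq_zero

end Cfsg.Agent.Lib.Helper25.U92

namespace Cfsg.Agent.Lib.Helper99.U92

open Cfsg Cfsg.Geo
open scoped MatrixGroups Matrix

variable {F : Type*} [Field F] [Fintype F] {ω : F}

/-- U92-[R3-SPAN] (sheet statement). -/
theorem span_R3set (hF : Fintype.card F = 2 ^ 2) (hω : ω ^ 2 + ω + 1 = 0) :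
    Submodule.span F (R3set ω) = ⊤ := by
  have h2 := Cfsg.Agent.Lib.Helper25.U92.two_eq_zero_of_card hF
  have hsingle : ∀ i j : Fin 3, Matrix.single i j (1 : F) ∈ Submodule.span F (R3set ω) := by
    intro i j
    rw [Cfsg.Agent.Lib.Helper25.U92.single_eq_sum h2 hω i j]
    refine Submodule.sum_mem _ fun b _ => ?_
    exact Submodule.subset_span ⟨_, _, _, rfl⟩
  rw [eq_top_iff]
  intro M _
  rw [Matrix.matrix_eq_sum_single M]
  refine Submodule.sum_mem _ fun i _ => Submodule.sum_mem _ fun j _ => ?_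
  have : Matrix.single i j (M i j) = M i j • Matrix.single i j (1 : F) := by
    rw [Matrix.smul_single, smul_eq_mul, mul_one]
  rw [this]
  exact Submodule.smul_mem _ _ (hsingle i j)

end Cfsg.Agent.Lib.Helper99.U92
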