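import Mathlib
import Cfsg.Prelude.Def_GeometricClasses
import Cfsg.Agent.Lib.Helper99.AschDefs
import Cfsg.Agent.Lib.Helper23.AschSpDefs

/-!
# Kit for `formOfGram id G` (project ASCHSP): bilinear / symmetric / symplectic / nondegenerate,
and `gramMatrix (formOfGram id G) = G`.  Arbitrary finite index type, any field.
-/

set_option autoImplicit false

namespace Cfsg.Agent.Lib.Helper25.AschSp

open Cfsg Cfsg.Geo Cfsg.Agent.Lib.Helper23.AschSp
open scoped Matrix

variable {F : Type*} [Field F] {κ : Type} [Fintype κ]

theorem formOfGram_id_eq (G : Matrix κ κ F) (x y : κ → F) :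
    formOfGram id G x y = x ⬝ᵥ (G *ᵥ y) := by
  unfold formOfGram
  simp only [dotProduct, Matrix.mulVec, id, Finset.mul_sum, mul_assoc]

theorem formOfGram_id_eq' (G : Matrix κ κ F) (x y : κ → F) :
    formOfGram id G x y = (x ᵥ* G) ⬝ᵥ y := by
  rw [formOfGram_id_eq, Matrix.dotProduct_mulVec]

theorem isBilinearForm_formOfGram (G : Matrix κ κ F) : IsBilinearForm (formOfGram id G) where
  add_left x y v := by simp only [formOfGram_id_eq, add_dotProduct]
  smul_left c x v := by simp only [formOfGram_id_eq, smul_dotProduct, smul_eq_mul]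
  add_right v x y := by simp only [formOfGram_id_eq, Matrix.mulVec_add, dotProduct_add]
  smul_right c v x := by
    simp only [formOfGram_id_eq, Matrix.mulVec_smul, dotProduct_smul, smul_eq_mul]

theorem gramMatrix_formOfGram [DecidableEq κ] (G : Matrix κ κ F) :
    gramMatrix (formOfGram id G) = G := by
  ext a b
  unfold gramMatrix
  rw [formOfGram_id_eq]
  simp

theorem isNondegenerateForm_formOfGram [DecidableEq κ] (G : Matrix κ κ F) (hG : G.det ≠ 0) :
    IsNondegenerateForm (formOfGram id G) := by
  intro v hv
  constructor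
  · have hw : G *ᵥ v ≠ 0 := fun h => hv (Matrix.eq_zero_of_mulVec_eq_zero hG h)
    obtain ⟨i, hi⟩ : ∃ i, (G *ᵥ v) i ≠ 0 := by
      by_contra hcon
      push Not at hcon
      exact hw (funext hcon)
    refine ⟨Pi.single i 1, ?_⟩
    rw [formOfGram_id_eq]
    simpa using hi
  · have hw : v ᵥ* G ≠ 0 := fun h => hv (Matrix.eq_zero_of_vecMul_eq_zero hG h)
    obtain ⟨i, hi⟩ : ∃ i, (v ᵥ* G) i ≠ 0 := by
      by_contra hcon
      push Not at hcon
      exact hw (funext hcon)
    refine ⟨Pi.single i 1, ?_⟩
    rw [formOfGram_id_eq']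
    simpa using hi

theorem formOfGram_swap (G : Matrix κ κ F) (x y : κ → F) :
    formOfGram id G x y = formOfGram id Gᵀ y x := by
  unfold formOfGram
  rw [Finset.sum_comm]
  refine Finset.sum_congr rfl fun b _ => Finset.sum_congr rfl fun a _ => ?_
  simp only [id, Matrix.transpose_apply]
  ring

theorem isSymmetricForm_formOfGram [DecidableEq κ] (G : Matrix κ κ F) (hs : Gᵀ = G)
    (hG : G.det ≠ 0) : IsSymmetricForm (formOfGram id G) where
  bilinear := isBilinearForm_formOfGram G
  symm u v := by
    conv_lhs => rw [formOfGram_swap, hs]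
  nondegenerate := isNondegenerateForm_formOfGram G hG

/-- An alternating matrix gives an alternating form (any characteristic). -/
theorem formOfGram_self_of_isAltMat [DecidableEq κ] (J : Matrix κ κ F) (hJ : IsAltMat J)
    (x : κ → F) : formOfGram id J x x = 0 := by
  unfold formOfGram
  rw [← Finset.sum_product']
  refine Finset.sum_involution (fun p _ => (p.2, p.1)) ?_ ?_ ?_ ?_
  · intro p _
    have h1 : J p.2 p.1 = - J p.1 p.2 := by
      have := congrFun (congrFun hJ.1 p.1) p.2
      simpa using this
    simp only [id, h1]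
    ring
  · intro p _ hne heq
    apply hne
    have h12 : p.2 = p.1 := congrArg Prod.fst heq
    rw [h12, hJ.2]
    simp
  · intro p _
    exact Finset.mem_univ _
  · intro p _
    rfl

theorem isSymplecticForm_formOfGram [DecidableEq κ] (J : Matrix κ κ F) (hJ : IsAltMat J)
    (hdet : J.det ≠ 0) : IsSymplecticForm (formOfGram id J) where
  bilinear := isBilinearForm_formOfGram J
  skew v w := by
    conv_lhs => rw [formOfGram_swap, hJ.1]
    unfold formOfGram
    simp only [Matrix.neg_apply, mul_neg, neg_mul, Finset.sum_neg_distrib]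
  alternating v := formOfGram_self_of_isAltMat J hJ v
  nondegenerate := isNondegenerateForm_formOfGram J hdet

end Cfsg.Agent.Lib.Helper25.AschSp
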