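import Mathlib
import Cfsg.Prelude.Def_GeometricClasses
import Cfsg.Agent.Lib.Helper99.AschDefs
import Cfsg.Agent.Lib.Helper23.AschSpDefs

/-!
# ASCHSP-[TSIM] (project ASCHSP, helper23): similitudes of a Kronecker product of Gram matrices.

`kronecker_similitude` is the sheet statement with the two extra hypotheses `0 < d`, `0 < e`
(for `d = 0` the hypothesis is an equation of empty matrices and the conclusion about `b` fails).
`kronecker_similitude_of_ne_zero` is the general version (`J₁ ≠ 0`, `C ≠ 0` instead of `det ≠ 0`,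
arbitrary index types, `a`, `b` any matrices with `aᵀ J₁ a ≠ 0`).
-/

set_option autoImplicit false

namespace Cfsg.Agent.Lib.Helper25.AschSp

open scoped Matrix Kronecker

variable {F : Type*} [Field F]

/-- `X ⊗ₖ Y = J ⊗ₖ C` with `J ≠ 0`, `C ≠ 0` forces `X = c • J`, `Y = c⁻¹ • C` for one `c ≠ 0`. -/
theorem kronecker_eq_kronecker {κ₁ κ₂ : Type*} (X J : Matrix κ₁ κ₁ F) (Y C : Matrix κ₂ κ₂ F)
    (hJ : J ≠ 0) (hC : C ≠ 0) (h : X ⊗ₖ Y = J ⊗ₖ C) :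
    ∃ c : F, c ≠ 0 ∧ X = c • J ∧ Y = c⁻¹ • C := by
  have hent : ∀ i j k l, X i j * Y k l = J i j * C k l := by
    intro i j k l
    have := congrFun (congrFun h (i, k)) (j, l)
    simpa [Matrix.kroneckerMap_apply] using this
  obtain ⟨i0, j0, hJ0⟩ : ∃ i j, J i j ≠ 0 := by
    by_contra hcon
    push Not at hcon
    exact hJ (by ext i j; exact hcon i j)
  obtain ⟨k0, l0, hC0⟩ : ∃ k l, C k l ≠ 0 := by
    by_contra hcon
    push Not at hcon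
    exact hC (by ext i j; exact hcon i j)
  have h00 : X i0 j0 * Y k0 l0 = J i0 j0 * C k0 l0 := hent i0 j0 k0 l0
  have hne : X i0 j0 * Y k0 l0 ≠ 0 := by rw [h00]; exact mul_ne_zero hJ0 hC0
  have hX0 : X i0 j0 ≠ 0 := left_ne_zero_of_mul hne
  have hY0 : Y k0 l0 ≠ 0 := right_ne_zero_of_mul hne
  refine ⟨C k0 l0 / Y k0 l0, div_ne_zero hC0 hY0, ?_, ?_⟩
  · ext i j
    have := hent i j k0 l0
    rw [Matrix.smul_apply, smul_eq_mul]
    field_simp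
    linear_combination this
  · ext k l
    have h1 := hent i0 j0 k l
    rw [Matrix.smul_apply, smul_eq_mul, inv_div]
    have h2 : Y k l = J i0 j0 * C k l / X i0 j0 := by
      field_simp
      linear_combination h1
    rw [h2]
    field_simp
    linear_combination (-(C k l)) * h00

theorem transpose_kronecker_mul {κ₁ κ₂ : Type*} [Fintype κ₁] [Fintype κ₂]
    (a J : Matrix κ₁ κ₁ F) (b C : Matrix κ₂ κ₂ F) :
    (a ⊗ₖ b)ᵀ * (J ⊗ₖ C) * (a ⊗ₖ b) = (aᵀ * J * a) ⊗ₖ (bᵀ * C * b) := by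
  rw [← Matrix.kroneckerMap_transpose, ← Matrix.mul_kronecker_mul, ← Matrix.mul_kronecker_mul]

/-- General version of ASCHSP-[TSIM]. -/
theorem kronecker_similitude_of_ne_zero {κ₁ κ₂ : Type*} [Fintype κ₁] [Fintype κ₂]
    (J₁ a : Matrix κ₁ κ₁ F) (C b : Matrix κ₂ κ₂ F) (hJ : J₁ ≠ 0) (hC : C ≠ 0)
    (h : (a ⊗ₖ b)ᵀ * (J₁ ⊗ₖ C) * (a ⊗ₖ b) = J₁ ⊗ₖ C) :
    ∃ c : F, c ≠ 0 ∧ aᵀ * J₁ * a = c • J₁ ∧ bᵀ * C * b = c⁻¹ • C := by
  rw [transpose_kronecker_mul] at h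
  exact kronecker_eq_kronecker _ _ _ _ hJ hC h

theorem ne_zero_of_det_ne_zero {d : ℕ} (hd : 0 < d) (J : Matrix (Fin d) (Fin d) F)
    (hJ : J.det ≠ 0) : J ≠ 0 := by
  rintro rfl
  have : Nonempty (Fin d) := ⟨⟨0, hd⟩⟩
  exact hJ Matrix.det_zero

end Cfsg.Agent.Lib.Helper25.AschSp

namespace Cfsg.Agent.Lib.Helper23.AschSp

open Cfsg Cfsg.Geo
open scoped MatrixGroups Matrix Kronecker

variable {F : Type*} [Field F]

/-- ASCHSP-[TSIM] (sheet statement + `0 < d`, `0 < e`). -/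
theorem kronecker_similitude {d e : ℕ} (hd : 0 < d) (he : 0 < e)
    (J₁ : Matrix (Fin d) (Fin d) F) (C : Matrix (Fin e) (Fin e) F)
    (hJ : J₁.det ≠ 0) (hC : C.det ≠ 0) (a : GL (Fin d) F) (b : GL (Fin e) F)
    (h : ((a : Matrix (Fin d) (Fin d) F) ⊗ₖ (b : Matrix (Fin e) (Fin e) F))ᵀ * (J₁ ⊗ₖ C) *
      ((a : Matrix (Fin d) (Fin d) F) ⊗ₖ (b : Matrix (Fin e) (Fin e) F)) = J₁ ⊗ₖ C) :
    ∃ c : F, c ≠ 0 ∧ (a : Matrix (Fin d) (Fin d) F)ᵀ * J₁ * (a : Matrix (Fin d) (Fin d) F) = c • J₁ ∧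
      (b : Matrix (Fin e) (Fin e) F)ᵀ * C * (b : Matrix (Fin e) (Fin e) F) = c⁻¹ • C :=
  Cfsg.Agent.Lib.Helper25.AschSp.kronecker_similitude_of_ne_zero J₁ _ C _
    (Cfsg.Agent.Lib.Helper25.AschSp.ne_zero_of_det_ne_zero hd J₁ hJ)
    (Cfsg.Agent.Lib.Helper25.AschSp.ne_zero_of_det_ne_zero he C hC) h

end Cfsg.Agent.Lib.Helper23.AschSp
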