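import Mathlib
import Cfsg.Prelude.Def_GeometricClasses
import Cfsg.Agent.Lib.Helper99.AschDefs
import Cfsg.Agent.Lib.Helper23.AschSpDefs
import Cfsg.Agent.Lib.Helper25.AschSpFormKit
import Cfsg.Agent.Lib.Helper25.AschSpTsim

/-!
# ASCHSP-[C4-EVEN-Q] (project ASCHSP, helper23): `TensorFormData` with `J₁` and `C` both alternating,
`|F|` even  ⇒  class 8 (an invariant quadratic form polarising to `f`).

Order-free construction: write `J₁ = T₁ - T₁ᵀ` (`T₁` = strictly upper triangular part) and put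
`q x := xᵀ (T₁ ⊗ C) x`.  Its polar form is `(T₁ ⊗ C) + (T₁ ⊗ C)ᵀ = (T₁ - T₁ᵀ) ⊗ C = J₁ ⊗ C`, and for
`g = a ⊗ b` preserving `J₁ ⊗ C` the matrix `gᵀ (T₁ ⊗ C) g - T₁ ⊗ C` is alternating, so `q (g x) = q x`.
Nothing here uses the characteristic (only the class label needs `¬ Odd |F|`).
-/

set_option autoImplicit false

namespace Cfsg.Agent.Lib.Helper25.AschSp

open Cfsg Cfsg.Geo Cfsg.Agent.Lib.Helper23.AschSp
open scoped Matrix Kronecker

variable {F : Type*} [Field F] {κ : Type} [Fintype κ]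

theorem formOfGram_mulVec (G g : Matrix κ κ F) (x y : κ → F) :
    formOfGram id G (g *ᵥ x) (g *ᵥ y) = formOfGram id (gᵀ * G * g) x y := by
  rw [formOfGram_id_eq, formOfGram_id_eq, ← Matrix.mulVec_mulVec, ← Matrix.mulVec_mulVec,
    Matrix.dotProduct_mulVec x, Matrix.vecMul_transpose]

theorem formOfGram_sub_gram (G G' : Matrix κ κ F) (x y : κ → F) :
    formOfGram id (G - G') x y = formOfGram id G x y - formOfGram id G' x y := by
  simp only [formOfGram_id_eq, Matrix.sub_mulVec, dotProduct_sub]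

theorem formOfGram_add_gram (G G' : Matrix κ κ F) (x y : κ → F) :
    formOfGram id (G + G') x y = formOfGram id G x y + formOfGram id G' x y := by
  simp only [formOfGram_id_eq, Matrix.add_mulVec, dotProduct_add]

theorem gram_eq_of_form_eq [DecidableEq κ] (G G' : Matrix κ κ F)
    (h : ∀ x y, formOfGram id G x y = formOfGram id G' x y) : G = G' := by
  rw [← gramMatrix_formOfGram G, ← gramMatrix_formOfGram G']
  ext a b
  exact h _ _

theorem isAltMat_conj [DecidableEq κ] (C b : Matrix κ κ F) (hC : IsAltMat C) :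
    IsAltMat (bᵀ * C * b) := by
  constructor
  · rw [Matrix.transpose_mul, Matrix.transpose_mul, Matrix.transpose_transpose, hC.1]
    simp [Matrix.mul_assoc]
  · intro k
    have h1 : (bᵀ * C * b) k k = gramMatrix (formOfGram id (bᵀ * C * b)) k k := by
      rw [gramMatrix_formOfGram]
    rw [h1]
    unfold gramMatrix
    rw [← formOfGram_mulVec]
    exact formOfGram_self_of_isAltMat C hC _

/-- the invariance of `x ↦ xᵀ (T₁ ⊗ C) x` under Kronecker products preserving `(T₁ - T₁ᵀ) ⊗ C`. -/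
theorem quad_kronecker_invariant {κ₁ κ₂ : Type} [Fintype κ₁] [Fintype κ₂] [DecidableEq κ₁]
    [DecidableEq κ₂] (T₁ a : Matrix κ₁ κ₁ F) (C b : Matrix κ₂ κ₂ F) (hC : IsAltMat C)
    (hpres : (a ⊗ₖ b)ᵀ * ((T₁ - T₁ᵀ) ⊗ₖ C) * (a ⊗ₖ b) = (T₁ - T₁ᵀ) ⊗ₖ C) (x : κ₁ × κ₂ → F) :
    formOfGram id (T₁ ⊗ₖ C) ((a ⊗ₖ b) *ᵥ x) ((a ⊗ₖ b) *ᵥ x) = formOfGram id (T₁ ⊗ₖ C) x x := by
  rw [formOfGram_mulVec]
  have hE : IsAltMat ((a ⊗ₖ b)ᵀ * (T₁ ⊗ₖ C) * (a ⊗ₖ b) - T₁ ⊗ₖ C) := by
    have hsplit : (T₁ - T₁ᵀ) ⊗ₖ C = T₁ ⊗ₖ C + (T₁ ⊗ₖ C)ᵀ := by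
      ext p p'
      have h1 : C p'.2 p.2 = - C p.2 p'.2 := by
        have := congrFun (congrFun hC.1 p.2) p'.2
        simpa using this
      simp only [Matrix.kroneckerMap_apply, Matrix.sub_apply, Matrix.add_apply,
        Matrix.transpose_apply, h1]
      ring
    constructor
    · rw [hsplit, Matrix.mul_add, Matrix.add_mul] at hpres
      rw [Matrix.transpose_sub, Matrix.transpose_mul, Matrix.transpose_mul,
        Matrix.transpose_transpose, ← Matrix.mul_assoc]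
      rw [neg_sub, sub_eq_sub_iff_add_eq_add, add_comm, Matrix.mul_assoc, Matrix.mul_assoc,
        ← Matrix.mul_assoc _ (T₁ ⊗ₖ C)ᵀ, ← Matrix.mul_assoc _ (T₁ ⊗ₖ C)]
      exact hpres
    · intro p
      rw [transpose_kronecker_mul]
      simp only [Matrix.sub_apply, Matrix.kroneckerMap_apply, (isAltMat_conj C b hC).2, hC.2]
      ring
  have := formOfGram_self_of_isAltMat _ hE x
  rw [formOfGram_sub_gram] at this
  exact sub_eq_zero.mp this

/-- the strictly upper triangular part of a matrix indexed by `Fin d`. -/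
def upperPart {d : ℕ} (J : Matrix (Fin d) (Fin d) F) : Matrix (Fin d) (Fin d) F :=
  Matrix.of fun i j => if i < j then J i j else 0

theorem upperPart_sub_transpose {d : ℕ} (J : Matrix (Fin d) (Fin d) F) (hJ : IsAltMat J) :
    upperPart J - (upperPart J)ᵀ = J := by
  ext i j
  have h1 : J j i = - J i j := by
    have := congrFun (congrFun hJ.1 i) j
    simpa using this
  simp only [upperPart, Matrix.sub_apply, Matrix.transpose_apply, Matrix.of_apply]
  rcases lt_trichotomy i j with h | h | h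
  · simp [h, not_lt.mpr h.le]
  · subst h
    simp [hJ.2]
  · simp [h, not_lt.mpr h.le, h1]

end Cfsg.Agent.Lib.Helper25.AschSp

namespace Cfsg.Agent.Lib.Helper23.AschSp

open Cfsg Cfsg.Geo Cfsg.Agent.Lib.Helper99.Asch Cfsg.Agent.Lib.Helper25.AschSp
open scoped MatrixGroups Matrix Kronecker

variable {n m : ℕ} {F : Type*} [Field F] [Fintype F] {f : (Fin n → F) → (Fin n → F) → F}

/-- ASCHSP-[C4-EVEN-Q] (sheet statement). -/
theorem sgeo_of_tensor_even (hf : IsSymplecticForm f) (heven : ¬ Odd (Fintype.card F)) (H : Subgroup (GL (Fin n) F))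
    (hH : H ≤ isoGL f) {d e : ℕ}
    (idx : Fin n ≃ Fin d × Fin e) (B : GL (Fin n) F) (J₁ : Matrix (Fin d) (Fin d) F) (C : Matrix (Fin e) (Fin e) F)
    (hD : TensorFormData f H d e idx B J₁ C) (hJ : IsAltMat J₁) (hC : IsAltMat C) : SGeo m f H := by
  obtain ⟨T₁, hT₁⟩ : ∃ T₁ : Matrix (Fin d) (Fin d) F, T₁ - T₁ᵀ = J₁ :=
    ⟨upperPart J₁, upperPart_sub_transpose J₁ hJ⟩
  obtain ⟨q, hq⟩ : ∃ q : (Fin d × Fin e → F) → F, q = fun x => formOfGram id (T₁ ⊗ₖ C) x x :=
    ⟨_, rfl⟩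
  obtain ⟨Q, hQ⟩ : ∃ Q : (Fin n → F) → F,
      Q = fun v => q (((B : Matrix (Fin n) (Fin n) F) *ᵥ v) ∘ idx.symm) := ⟨_, rfl⟩
  have hbil := isBilinearForm_formOfGram (T₁ ⊗ₖ C)
  -- polar of q
  have hsplit : J₁ ⊗ₖ C = T₁ ⊗ₖ C + (T₁ ⊗ₖ C)ᵀ := by
    rw [← hT₁]
    ext p p'
    have h1 : C p'.2 p.2 = - C p.2 p'.2 := by
      have := congrFun (congrFun hC.1 p.2) p'.2
      simpa using this
    simp only [Matrix.kroneckerMap_apply, Matrix.sub_apply, Matrix.add_apply,
      Matrix.transpose_apply, h1]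
    ring
  have hqpolar : ∀ x y, q (x + y) - q x - q y = formOfGram id (J₁ ⊗ₖ C) x y := by
    intro x y
    rw [hq, hsplit, formOfGram_add_gram, ← formOfGram_swap]
    simp only [hbil.add_left, hbil.add_right]
    ring
  have hcoord : ∀ v : Fin n → F,
      ((B⁻¹ : GL (Fin n) F) : Matrix (Fin n) (Fin n) F) *ᵥ
        ((((B : Matrix (Fin n) (Fin n) F) *ᵥ v) ∘ idx.symm) ∘ idx) = v := by
    intro v
    have h1 : (((B : Matrix (Fin n) (Fin n) F) *ᵥ v) ∘ idx.symm) ∘ idx =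
        (B : Matrix (Fin n) (Fin n) F) *ᵥ v := by
      funext i
      simp
    rw [h1, Matrix.mulVec_mulVec, ← Units.val_mul, inv_mul_cancel, Units.val_one, Matrix.one_mulVec]
  have hpolar : ∀ u v, QuadraticMap.polar Q u v = f u v := by
    intro u v
    unfold QuadraticMap.polar
    rw [hQ]
    simp only
    have hadd : ((B : Matrix (Fin n) (Fin n) F) *ᵥ (u + v)) ∘ idx.symm =
        ((B : Matrix (Fin n) (Fin n) F) *ᵥ u) ∘ idx.symm +
          ((B : Matrix (Fin n) (Fin n) F) *ᵥ v) ∘ idx.symm := by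
      rw [Matrix.mulVec_add]; rfl
    rw [hadd, hqpolar, ← hD.gram, hcoord, hcoord]
  -- invariance
  have hinv : ∀ h ∈ H, ∀ v, Q ((h : Matrix (Fin n) (Fin n) F) *ᵥ v) = Q v := by
    intro h hh v
    obtain ⟨a, b, hab⟩ := hD.kron h hh
    obtain ⟨g, hg⟩ : ∃ g : Matrix (Fin d × Fin e) (Fin d × Fin e) F,
        g = (a : Matrix (Fin d) (Fin d) F) ⊗ₖ (b : Matrix (Fin e) (Fin e) F) := ⟨_, rfl⟩
    rw [← hg] at hab
    have hmv : ∀ w : Fin n → F,
        (((B * h * B⁻¹ : GL (Fin n) F) : Matrix (Fin n) (Fin n) F) *ᵥ w) ∘ idx.symm =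
          g *ᵥ (w ∘ idx.symm) := by
      intro w
      rw [hab]
      show ((g.submatrix idx idx) *ᵥ w) ∘ idx.symm = _
      rw [Matrix.submatrix_mulVec_equiv]
      funext p
      simp
    have hBh : ∀ w : Fin n → F, (B : Matrix (Fin n) (Fin n) F) *ᵥ ((h : Matrix (Fin n) (Fin n) F) *ᵥ w) =
        ((B * h * B⁻¹ : GL (Fin n) F) : Matrix (Fin n) (Fin n) F) *ᵥ
          ((B : Matrix (Fin n) (Fin n) F) *ᵥ w) := by
      intro w
      rw [Matrix.mulVec_mulVec, Matrix.mulVec_mulVec, ← Units.val_mul, ← Units.val_mul]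
      congr 2
      group
    -- g preserves J₁ ⊗ C
    have hpres : ∀ x y : Fin d × Fin e → F,
        formOfGram id (J₁ ⊗ₖ C) (g *ᵥ x) (g *ᵥ y) = formOfGram id (J₁ ⊗ₖ C) x y := by
      intro x y
      rw [← hD.gram, ← hD.gram]
      have hx : ∀ z : Fin d × Fin e → F,
          ((B⁻¹ : GL (Fin n) F) : Matrix (Fin n) (Fin n) F) *ᵥ ((g *ᵥ z) ∘ idx) =
            (h : Matrix (Fin n) (Fin n) F) *ᵥ
              (((B⁻¹ : GL (Fin n) F) : Matrix (Fin n) (Fin n) F) *ᵥ (z ∘ idx)) := by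
        intro z
        have h2 : (g *ᵥ z) ∘ idx =
            ((B * h * B⁻¹ : GL (Fin n) F) : Matrix (Fin n) (Fin n) F) *ᵥ (z ∘ idx) := by
          rw [hab]
          show _ = (g.submatrix idx idx) *ᵥ (z ∘ idx)
          rw [Matrix.submatrix_mulVec_equiv]
          congr 2
          funext p
          simp
        rw [h2, Matrix.mulVec_mulVec, Matrix.mulVec_mulVec, ← Units.val_mul, ← Units.val_mul]
        congr 2
        group
      rw [hx, hx]
      exact (mem_isoGL.mp (hH hh)) _ _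
    have hpres' : gᵀ * ((T₁ - T₁ᵀ) ⊗ₖ C) * g = (T₁ - T₁ᵀ) ⊗ₖ C := by
      rw [hT₁]
      apply gram_eq_of_form_eq
      intro x y
      rw [← formOfGram_mulVec]
      exact hpres x y
    rw [hQ]
    simp only
    rw [hBh, hmv, hq]
    simp only
    rw [hg] at hpres' ⊢
    exact quad_kronecker_invariant T₁ _ C _ hC hpres' _
  refine SGeo.of_c8 (M := quadSimilarityGroup Q ⊓ isoGL f) ?_ ?_
  · refine ⟨Q, heven, ?_, hpolar, rfl⟩
    have hpf : QuadraticMap.polar Q = f := by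
      funext u v
      exact hpolar u v
    refine ⟨?_, ?_, ?_⟩
    · intro c v
      rw [hQ]
      simp only
      have h1 : ((B : Matrix (Fin n) (Fin n) F) *ᵥ (c • v)) ∘ idx.symm =
          c • (((B : Matrix (Fin n) (Fin n) F) *ᵥ v) ∘ idx.symm) := by
        rw [Matrix.mulVec_smul]; rfl
      rw [h1, hq]
      simp only [hbil.smul_left, hbil.smul_right]
      ring
    · rw [hpf]; exact hf.bilinear
    · rw [hpf]; exact hf.nondegenerate
  · intro h hh
    refine ⟨⟨1, fun v => ?_⟩, hH hh⟩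
    rw [Units.val_one, one_mul]
    exact hinv h hh v

end Cfsg.Agent.Lib.Helper23.AschSp
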