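import Mathlib
import Cfsg.Prelude.Def_GeometricClasses
import Cfsg.Agent.Lib.Helper99.AschDefs
import Cfsg.Agent.Lib.Helper23.AschSpDefs

/-!
# ASCHSP-[C4-SWAP] (project ASCHSP, helper23): swapping the two tensor factors of `TensorFormData`.
-/

set_option autoImplicit false

namespace Cfsg.Agent.Lib.Helper23.AschSp

open Cfsg Cfsg.Geo Cfsg.Agent.Lib.Helper99.Asch
open scoped MatrixGroups Matrix Kronecker

variable {n : ℕ} {F : Type*} [Field F] {f : (Fin n → F) → (Fin n → F) → F}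

/-- ASCHSP-[C4-SWAP] (sheet statement). -/
theorem tensorFormData_swap (H : Subgroup (GL (Fin n) F)) {d e : ℕ}
    (idx : Fin n ≃ Fin d × Fin e) (B : GL (Fin n) F) (J₁ : Matrix (Fin d) (Fin d) F) (C : Matrix (Fin e) (Fin e) F)
    (hD : TensorFormData f H d e idx B J₁ C) :
    TensorFormData f H e d (idx.trans (Equiv.prodComm (Fin d) (Fin e))) B C J₁ := by
  refine ⟨?_, ?_, hD.det₂, hD.det₁⟩
  · intro h hh
    obtain ⟨a, b, hab⟩ := hD.kron h hh
    refine ⟨b, a, ?_⟩
    rw [hab]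
    ext i j
    simp [Matrix.kroneckerMap_apply, mul_comm]
  · intro x y
    have h1 := hD.gram (x ∘ Equiv.prodComm (Fin d) (Fin e)) (y ∘ Equiv.prodComm (Fin d) (Fin e))
    have hx : x ∘ (idx.trans (Equiv.prodComm (Fin d) (Fin e))) =
        (x ∘ Equiv.prodComm (Fin d) (Fin e)) ∘ idx := rfl
    have hy : y ∘ (idx.trans (Equiv.prodComm (Fin d) (Fin e))) =
        (y ∘ Equiv.prodComm (Fin d) (Fin e)) ∘ idx := rfl
    rw [hx, hy, h1]
    unfold formOfGram
    rw [← Equiv.sum_comp (Equiv.prodComm (Fin d) (Fin e))]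
    refine Finset.sum_congr rfl fun p _ => ?_
    rw [← Equiv.sum_comp (Equiv.prodComm (Fin d) (Fin e))]
    refine Finset.sum_congr rfl fun p' _ => ?_
    simp [Matrix.kroneckerMap_apply, mul_comm]

end Cfsg.Agent.Lib.Helper23.AschSp
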