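import Mathlib
import Cfsg.Prelude.Def_GeometricClasses

/-!
# Quadratic field subalgebras `F·1 + F·U` with `U² = δ`, `δ` a non-square; and the 2 × 2 facts on the
skew-adjoint generator `uMat C = adj(C) ω` of a symmetric anisotropic `C` (for ASCHSP-[C4-TWO-ANISO]).
-/

set_option autoImplicit false

namespace Cfsg.Agent.Lib.Helper25.AschSp

open Cfsg Cfsg.Geo
open scoped Matrix

variable {F : Type*} [Field F]

section quad

variable {ι : Type} [Fintype ι] [DecidableEq ι]

/-- The subalgebra `F·1 + F·U` of the matrix algebra, for `U² = δ`. -/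
def quadSubalgebra (U : Matrix ι ι F) (δ : F) (hU : U * U = δ • 1) : Subalgebra F (Matrix ι ι F) where
  carrier := {M | ∃ α β : F, M = α • 1 + β • U}
  mul_mem' := by
    rintro _ _ ⟨α, β, rfl⟩ ⟨α', β', rfl⟩
    refine ⟨α * α' + β * β' * δ, α * β' + β * α', ?_⟩
    simp only [add_mul, mul_add, Matrix.smul_mul, Matrix.mul_smul, one_mul, mul_one, hU, smul_smul]
    module
  one_mem' := ⟨1, 0, by simp⟩
  add_mem' := by
    rintro _ _ ⟨α, β, rfl⟩ ⟨α', β', rfl⟩
    refine ⟨α + α', β + β', ?_⟩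
    simp only [add_smul]
    abel
  zero_mem' := ⟨0, 0, by simp⟩
  algebraMap_mem' c := ⟨c, 0, by simp [Algebra.algebraMap_eq_smul_one]⟩

theorem mem_quadSubalgebra (U : Matrix ι ι F) (δ : F) (hU : U * U = δ • 1) (M : Matrix ι ι F) :
    M ∈ quadSubalgebra U δ hU ↔ ∃ α β : F, M = α • 1 + β • U := Iff.rfl

theorem quad_eq_zero [Nonempty ι] (U : Matrix ι ι F) (δ : F) (hU : U * U = δ • 1)
    (hδ : ∀ γ : F, γ * γ ≠ δ) (α β : F) (h : α • (1 : Matrix ι ι F) + β • U = 0) :
    α = 0 ∧ β = 0 := by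
  obtain ⟨i⟩ := ‹Nonempty ι›
  have hone : ∀ c : F, c • (1 : Matrix ι ι F) = 0 → c = 0 := by
    intro c hc
    have := congrFun (congrFun hc i) i
    simpa using this
  have hβ : β = 0 := by
    by_contra hβ
    have hUeq : U = (-α / β) • (1 : Matrix ι ι F) := by
      have h1 : β • U = (-α) • (1 : Matrix ι ι F) := by
        rw [neg_smul]
        exact eq_neg_of_add_eq_zero_right h
      calc U = β⁻¹ • (β • U) := by rw [smul_smul, inv_mul_cancel₀ hβ, one_smul]
        _ = (-α / β) • (1 : Matrix ι ι F) := by rw [h1, smul_smul]; congr 1; field_simp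
    have h2 : ((-α / β) * (-α / β) - δ) • (1 : Matrix ι ι F) = 0 := by
      rw [sub_smul, ← hU]
      conv_lhs => rw [hUeq]
      simp [smul_smul]
    exact hδ _ (sub_eq_zero.mp (hone _ h2))
  refine ⟨?_, hβ⟩
  rw [hβ, zero_smul, add_zero] at h
  exact hone α h

theorem isFieldSubalgebra_quad [Nonempty ι] (U : Matrix ι ι F) (δ : F) (hU : U * U = δ • 1)
    (hδ : ∀ γ : F, γ * γ ≠ δ) : IsFieldSubalgebra 2 (quadSubalgebra U δ hU) := by
  refine ⟨?_, ?_, ?_⟩
  · rintro _ ⟨α, β, rfl⟩ _ ⟨α', β', rfl⟩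
    simp only [add_mul, mul_add, Matrix.smul_mul, Matrix.mul_smul, one_mul, mul_one, smul_smul]
    module
  · rintro _ ⟨α, β, rfl⟩ hne
    have hN : α * α - δ * (β * β) ≠ 0 := by
      intro hN
      by_cases hβ : β = 0
      · subst hβ
        have hα : α = 0 := by simpa using hN
        subst hα
        exact hne (by simp)
      · apply hδ (α / β)
        field_simp
        linear_combination hN
    obtain ⟨N, hNdef⟩ : ∃ N : F, N = α * α - δ * (β * β) := ⟨_, rfl⟩
    rw [← hNdef] at hN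
    refine ⟨_, ⟨α / N, -β / N, rfl⟩, ?_⟩
    simp only [add_mul, mul_add, Matrix.smul_mul, Matrix.mul_smul, one_mul, mul_one, hU, smul_smul]
    have h1 : α * (α / N) + β * (-β / N) * δ = 1 := by
      field_simp
      rw [hNdef]
      ring
    have h2 : α * (-β / N) + β * (α / N) = 0 := by
      field_simp
      ring
    calc _ = (α * (α / N) + β * (-β / N) * δ) • (1 : Matrix ι ι F) +
          (α * (-β / N) + β * (α / N)) • U := by
          module
      _ = 1 := by rw [h1, h2, one_smul, zero_smul, add_zero]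
  · have hli : LinearIndependent F ![(1 : Matrix ι ι F), U] := by
      rw [LinearIndependent.pair_iff]
      intro s t hst
      exact quad_eq_zero U δ hU hδ s t hst
    have hspan : Subalgebra.toSubmodule (quadSubalgebra U δ hU) =
        Submodule.span F (Set.range ![(1 : Matrix ι ι F), U]) := by
      ext M
      rw [Subalgebra.mem_toSubmodule, mem_quadSubalgebra, Submodule.mem_span_range_iff_exists_fun]
      constructor
      · rintro ⟨α, β, rfl⟩
        exact ⟨![α, β], by simp [Fin.sum_univ_two]⟩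
      · rintro ⟨c, rfl⟩
        exact ⟨c 0, c 1, by simp [Fin.sum_univ_two]⟩
    have h1 := finrank_span_eq_card hli
    rw [← hspan] at h1
    rw [← Subalgebra.finrank_toSubmodule, h1]
    simp

end quad

section twobytwo

/-- `adj(C) ω` for `ω = !![0, 1; -1, 0]`: a generator of the matrices skew-adjoint for `C`. -/
def uMat (C : Matrix (Fin 2) (Fin 2) F) : Matrix (Fin 2) (Fin 2) F :=
  !![C 0 1, C 1 1; -C 0 0, -C 0 1]

/-- minus the determinant of the symmetric `C`. -/
def discr (C : Matrix (Fin 2) (Fin 2) F) : F := C 0 1 * C 0 1 - C 0 0 * C 1 1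

theorem uMat_mul_self (C : Matrix (Fin 2) (Fin 2) F) : uMat C * uMat C = discr C • 1 := by
  ext i j
  fin_cases i <;> fin_cases j <;>
    simp [uMat, discr, Matrix.mul_apply, Fin.sum_univ_two] <;> ring

omit [Field F] in
theorem symm_entry (C : Matrix (Fin 2) (Fin 2) F) (hC : Cᵀ = C) : C 1 0 = C 0 1 := by
  have := congrFun (congrFun hC 0) 1
  simpa using this

theorem uMat_transpose_mul (C : Matrix (Fin 2) (Fin 2) F) (hC : Cᵀ = C) :
    (uMat C)ᵀ * C = -(C * uMat C) := by
  have h10 := symm_entry C hC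
  ext i j
  fin_cases i <;> fin_cases j <;>
    simp [uMat, Matrix.mul_apply, Fin.sum_univ_two, h10]

theorem exists_smul_uMat (C : Matrix (Fin 2) (Fin 2) F) (hC : Cᵀ = C) (h2 : (2 : F) ≠ 0)
    (hd : discr C ≠ 0) (y : Matrix (Fin 2) (Fin 2) F) (hy : yᵀ * C = -(C * y)) :
    ∃ β : F, y = β • uMat C := by
  have h10 := symm_entry C hC
  have e00 := congrFun (congrFun hy 0) 0
  have e01 := congrFun (congrFun hy 0) 1
  have e11 := congrFun (congrFun hy 1) 1
  simp only [Matrix.mul_apply, Fin.sum_univ_two, Matrix.transpose_apply, Matrix.neg_apply, h10]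
    at e00 e01 e11
  have E1 : C 0 0 * y 0 0 + C 0 1 * y 1 0 = 0 := by
    have : (2 : F) * (C 0 0 * y 0 0 + C 0 1 * y 1 0) = 0 := by linear_combination e00
    rcases mul_eq_zero.mp this with h | h
    · exact absurd h h2
    · exact h
  have E2 : C 0 1 * y 0 1 + C 1 1 * y 1 1 = 0 := by
    have : (2 : F) * (C 0 1 * y 0 1 + C 1 1 * y 1 1) = 0 := by linear_combination e11
    rcases mul_eq_zero.mp this with h | h
    · exact absurd h h2
    · exact h
  have E3 : C 0 1 * y 0 0 + C 1 1 * y 1 0 + C 0 0 * y 0 1 + C 0 1 * y 1 1 = 0 := by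
    linear_combination e01
  have hmain : discr C • y = (-(C 0 0 * y 0 1 + C 0 1 * y 1 1)) • uMat C := by
    ext i j
    fin_cases i <;> fin_cases j <;> simp [uMat, discr]
    · linear_combination (-(C 1 1)) * E1 + C 0 1 * E3
    · linear_combination (C 0 1) * E2
    · linear_combination (C 0 1) * E1 - C 0 0 * E3
    · linear_combination (-(C 0 0)) * E2
  refine ⟨(discr C)⁻¹ * (-(C 0 0 * y 0 1 + C 0 1 * y 1 1)), ?_⟩
  rw [← smul_smul, ← hmain, smul_smul, inv_mul_cancel₀ hd, one_smul]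

theorem discr_not_square (C : Matrix (Fin 2) (Fin 2) F) (hC : Cᵀ = C)
    (hw : ∀ w : Fin 2 → F, w ≠ 0 → w ⬝ᵥ (C *ᵥ w) ≠ 0) : ∀ γ : F, γ * γ ≠ discr C := by
  intro γ hγ
  have h10 := symm_entry C hC
  by_cases hp : C 0 0 = 0
  · apply hw ![1, 0] (by intro h; have := congrFun h 0; simp at this)
    simp [dotProduct, Matrix.mulVec, Fin.sum_univ_two, hp]
  · apply hw ![γ - C 0 1, C 0 0] (by intro h; have := congrFun h 1; simp at this; exact hp this)
    simp only [dotProduct, Matrix.mulVec, Fin.sum_univ_two, h10, Matrix.cons_val_zero,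
      Matrix.cons_val_one]
    unfold discr at hγ
    linear_combination (C 0 0) * hγ

theorem similitude_conj_uMat (C : Matrix (Fin 2) (Fin 2) F) (hC : Cᵀ = C) (h2 : (2 : F) ≠ 0)
    (hd : discr C ≠ 0) (b : GL (Fin 2) F) (c : F)
    (hb : (b : Matrix (Fin 2) (Fin 2) F)ᵀ * C * (b : Matrix (Fin 2) (Fin 2) F) = c • C) :
    ∃ ε : F, (b : Matrix (Fin 2) (Fin 2) F) * uMat C =
      ε • (uMat C * (b : Matrix (Fin 2) (Fin 2) F)) := by
  obtain ⟨bm, hbm⟩ : ∃ bm : Matrix (Fin 2) (Fin 2) F, bm = (b : Matrix (Fin 2) (Fin 2) F) :=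
    ⟨_, rfl⟩
  obtain ⟨b', hb'⟩ : ∃ b' : Matrix (Fin 2) (Fin 2) F,
      b' = ((b⁻¹ : GL (Fin 2) F) : Matrix (Fin 2) (Fin 2) F) := ⟨_, rfl⟩
  rw [← hbm] at hb ⊢
  have hbb' : bm * b' = 1 := by
    rw [hbm, hb', ← Units.val_mul, mul_inv_cancel, Units.val_one]
  have hb'b : b' * bm = 1 := by
    rw [hbm, hb', ← Units.val_mul, inv_mul_cancel, Units.val_one]
  have h1 : bmᵀ * C = c • (C * b') := by
    calc bmᵀ * C = bmᵀ * C * (bm * b') := by rw [hbb', mul_one]
      _ = (bmᵀ * C * bm) * b' := by simp only [Matrix.mul_assoc]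
      _ = c • (C * b') := by rw [hb, Matrix.smul_mul]
  have h2' : C * bm = c • (b'ᵀ * C) := by
    calc C * bm = (bm * b')ᵀ * (C * bm) := by rw [hbb', Matrix.transpose_one, one_mul]
      _ = b'ᵀ * (bmᵀ * C * bm) := by rw [Matrix.transpose_mul]; simp only [Matrix.mul_assoc]
      _ = c • (b'ᵀ * C) := by rw [hb, Matrix.mul_smul]
  obtain ⟨y, hy⟩ : ∃ y : Matrix (Fin 2) (Fin 2) F, y = bm * uMat C * b' := ⟨_, rfl⟩
  have hskew : yᵀ * C = -(C * y) := by
    calc yᵀ * C = b'ᵀ * ((uMat C)ᵀ * (bmᵀ * C)) := by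
          rw [hy]; simp only [Matrix.transpose_mul, Matrix.mul_assoc]
      _ = b'ᵀ * ((uMat C)ᵀ * (c • (C * b'))) := by rw [h1]
      _ = c • (b'ᵀ * (((uMat C)ᵀ * C) * b')) := by
          simp only [Matrix.mul_smul, Matrix.mul_assoc]
      _ = -(c • (b'ᵀ * ((C * uMat C) * b'))) := by
          rw [uMat_transpose_mul C hC]; simp only [Matrix.neg_mul, Matrix.mul_neg, smul_neg]
      _ = -((c • (b'ᵀ * C)) * (uMat C * b')) := by
          simp only [Matrix.smul_mul, Matrix.mul_assoc]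
      _ = -(C * bm * (uMat C * b')) := by rw [h2']
      _ = -(C * y) := by rw [hy]; simp only [Matrix.mul_assoc]
  obtain ⟨β, hβ⟩ := exists_smul_uMat C hC h2 hd y hskew
  refine ⟨β, ?_⟩
  calc bm * uMat C = bm * uMat C * (b' * bm) := by rw [hb'b, mul_one]
    _ = y * bm := by rw [hy]; simp only [Matrix.mul_assoc]
    _ = β • (uMat C * bm) := by rw [hβ, Matrix.smul_mul]

end twobytwo

end Cfsg.Agent.Lib.Helper25.AschSp
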