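import Mathlib
import Cfsg.Prelude.Def_GeometricClasses
import Cfsg.Agent.Lib.Helper99.AschDefs
import Cfsg.Agent.Lib.Helper23.AschSpDefs
import Cfsg.Agent.Lib.Helper25.AschSpFormKit
import Cfsg.Agent.Lib.Helper25.AschSpTsim
import Cfsg.Agent.Lib.Helper25.AschSpC4EvenQ
import Cfsg.Agent.Lib.Helper25.AschSpQuadAlg

/-!
# ASCHSP-[C4-TWO-ANISO] (project ASCHSP, helper23): `TensorFormData` with `e = 2`, `C` symmetric
anisotropic, `|F|` odd  ⇒  class 3 (adjoint-closed quadratic field, not self-adjoint).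

Self-contained: needs neither [TDSIM] nor [C3B] nor [ADJ].
-/

set_option autoImplicit false

namespace Cfsg.Agent.Lib.Helper25.AschSp

open Cfsg Cfsg.Geo Cfsg.Agent.Lib.Helper99.Asch Cfsg.Agent.Lib.Helper23.AschSp
open scoped MatrixGroups Matrix Kronecker

variable {n : ℕ} {F : Type*} [Field F]

theorem two_ne_zero_of_odd_card [Fintype F] (hodd : Odd (Fintype.card F)) : (2 : F) ≠ 0 := by
  intro h2
  have : CharP F 2 := CharTwo.of_one_ne_zero_of_two_eq_zero one_ne_zero h2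
  have h := FiniteField.even_card_of_char_two (ringChar.eq F 2)
  rcases hodd with ⟨k, hk⟩
  omega

/-- `y ↦ B⁻¹ · reindex (1 ⊗ y) · B`. -/
def thetaMat {d e : ℕ} (idx : Fin n ≃ Fin d × Fin e) (B : GL (Fin n) F)
    (y : Matrix (Fin e) (Fin e) F) : Matrix (Fin n) (Fin n) F :=
  ((B⁻¹ : GL (Fin n) F) : Matrix (Fin n) (Fin n) F) *
    ((1 : Matrix (Fin d) (Fin d) F) ⊗ₖ y).submatrix idx idx * (B : Matrix (Fin n) (Fin n) F)

section theta

variable {d e : ℕ} (idx : Fin n ≃ Fin d × Fin e) (B : GL (Fin n) F)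

theorem B_mul_Binv : (B : Matrix (Fin n) (Fin n) F) * ((B⁻¹ : GL (Fin n) F) : Matrix (Fin n) (Fin n) F) = 1 := by
  rw [← Units.val_mul, mul_inv_cancel, Units.val_one]

theorem Binv_mul_B : ((B⁻¹ : GL (Fin n) F) : Matrix (Fin n) (Fin n) F) * (B : Matrix (Fin n) (Fin n) F) = 1 := by
  rw [← Units.val_mul, inv_mul_cancel, Units.val_one]

theorem thetaMat_one : thetaMat idx B (1 : Matrix (Fin e) (Fin e) F) = 1 := by
  unfold thetaMat
  rw [Matrix.one_kronecker_one, Matrix.submatrix_one_equiv, mul_one, Binv_mul_B]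

theorem thetaMat_mul (y y' : Matrix (Fin e) (Fin e) F) :
    thetaMat idx B (y * y') = thetaMat idx B y * thetaMat idx B y' := by
  unfold thetaMat
  have h1 : ((1 : Matrix (Fin d) (Fin d) F) ⊗ₖ (y * y')).submatrix idx idx =
      ((1 : Matrix (Fin d) (Fin d) F) ⊗ₖ y).submatrix idx idx *
        ((1 : Matrix (Fin d) (Fin d) F) ⊗ₖ y').submatrix idx idx := by
    rw [Matrix.submatrix_mul_equiv, ← Matrix.mul_kronecker_mul, one_mul]
  rw [h1]
  calc _ = ((B⁻¹ : GL (Fin n) F) : Matrix (Fin n) (Fin n) F) *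
        ((1 : Matrix (Fin d) (Fin d) F) ⊗ₖ y).submatrix idx idx * 1 *
        ((1 : Matrix (Fin d) (Fin d) F) ⊗ₖ y').submatrix idx idx * (B : Matrix (Fin n) (Fin n) F) := by
        simp only [mul_one, Matrix.mul_assoc]
    _ = _ := by rw [← B_mul_Binv B]; simp only [Matrix.mul_assoc]

theorem thetaMat_smul (c : F) (y : Matrix (Fin e) (Fin e) F) :
    thetaMat idx B (c • y) = c • thetaMat idx B y := by
  unfold thetaMat
  have h1 : ((1 : Matrix (Fin d) (Fin d) F) ⊗ₖ (c • y)).submatrix idx idx =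
      c • ((1 : Matrix (Fin d) (Fin d) F) ⊗ₖ y).submatrix idx idx := by
    rw [Matrix.kronecker_smul]; rfl
  rw [h1, Matrix.mul_smul, Matrix.smul_mul]

theorem thetaMat_add (y y' : Matrix (Fin e) (Fin e) F) :
    thetaMat idx B (y + y') = thetaMat idx B y + thetaMat idx B y' := by
  unfold thetaMat
  have h1 : ((1 : Matrix (Fin d) (Fin d) F) ⊗ₖ (y + y')).submatrix idx idx =
      ((1 : Matrix (Fin d) (Fin d) F) ⊗ₖ y).submatrix idx idx +
        ((1 : Matrix (Fin d) (Fin d) F) ⊗ₖ y').submatrix idx idx := by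
    rw [Matrix.kronecker_add]; rfl
  rw [h1, Matrix.mul_add, Matrix.add_mul]

/-- coordinates of `thetaMat y *ᵥ v`. -/
theorem coord_thetaMat (y : Matrix (Fin e) (Fin e) F) (v : Fin n → F) :
    ((B : Matrix (Fin n) (Fin n) F) *ᵥ (thetaMat idx B y *ᵥ v)) ∘ idx.symm =
      ((1 : Matrix (Fin d) (Fin d) F) ⊗ₖ y) *ᵥ (((B : Matrix (Fin n) (Fin n) F) *ᵥ v) ∘ idx.symm) := by
  unfold thetaMat
  rw [Matrix.mulVec_mulVec, ← Matrix.mul_assoc, ← Matrix.mul_assoc, B_mul_Binv, one_mul,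
    ← Matrix.mulVec_mulVec, Matrix.submatrix_mulVec_equiv]
  funext p
  simp

/-- conjugating `thetaMat y` by an element `h` with `B h B⁻¹ = reindex (a ⊗ b)`. -/
theorem mul_thetaMat (h : GL (Fin n) F) (a : Matrix (Fin d) (Fin d) F)
    (b y y' : Matrix (Fin e) (Fin e) F)
    (hab : ((B * h * B⁻¹ : GL (Fin n) F) : Matrix (Fin n) (Fin n) F) = (a ⊗ₖ b).submatrix idx idx)
    (hby : b * y = y' * b) :
    (h : Matrix (Fin n) (Fin n) F) * thetaMat idx B y = thetaMat idx B y' * (h : Matrix (Fin n) (Fin n) F) := by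
  have hh : (h : Matrix (Fin n) (Fin n) F) =
      ((B⁻¹ : GL (Fin n) F) : Matrix (Fin n) (Fin n) F) * (a ⊗ₖ b).submatrix idx idx *
        (B : Matrix (Fin n) (Fin n) F) := by
    rw [← hab, ← Units.val_mul, ← Units.val_mul]
    congr 1
    group
  have hk : (a ⊗ₖ b).submatrix idx idx * ((1 : Matrix (Fin d) (Fin d) F) ⊗ₖ y).submatrix idx idx =
      ((1 : Matrix (Fin d) (Fin d) F) ⊗ₖ y').submatrix idx idx * (a ⊗ₖ b).submatrix idx idx := by
    rw [Matrix.submatrix_mul_equiv, Matrix.submatrix_mul_equiv, ← Matrix.mul_kronecker_mul,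
      ← Matrix.mul_kronecker_mul, mul_one, one_mul, hby]
  unfold thetaMat
  rw [hh]
  calc _ = ((B⁻¹ : GL (Fin n) F) : Matrix (Fin n) (Fin n) F) * ((a ⊗ₖ b).submatrix idx idx *
        ((B : Matrix (Fin n) (Fin n) F) * ((B⁻¹ : GL (Fin n) F) : Matrix (Fin n) (Fin n) F)) *
        ((1 : Matrix (Fin d) (Fin d) F) ⊗ₖ y).submatrix idx idx) * (B : Matrix (Fin n) (Fin n) F) := by
        simp only [Matrix.mul_assoc]
    _ = ((B⁻¹ : GL (Fin n) F) : Matrix (Fin n) (Fin n) F) *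
        (((1 : Matrix (Fin d) (Fin d) F) ⊗ₖ y').submatrix idx idx *
        ((B : Matrix (Fin n) (Fin n) F) * ((B⁻¹ : GL (Fin n) F) : Matrix (Fin n) (Fin n) F)) *
        (a ⊗ₖ b).submatrix idx idx) * (B : Matrix (Fin n) (Fin n) F) := by
        rw [B_mul_Binv, mul_one, mul_one, hk]
    _ = _ := by simp only [Matrix.mul_assoc]

end theta

section form

variable {f : (Fin n → F) → (Fin n → F) → F} {H : Subgroup (GL (Fin n) F)} {d e : ℕ}
  {idx : Fin n ≃ Fin d × Fin e} {B : GL (Fin n) F} {J₁ : Matrix (Fin d) (Fin d) F}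
  {C : Matrix (Fin e) (Fin e) F}

/-- `f` in the coordinates `v ↦ (B v) ∘ idx.symm`. -/
theorem form_eq_coord (hD : TensorFormData f H d e idx B J₁ C) (u v : Fin n → F) :
    f u v = formOfGram id (J₁ ⊗ₖ C) (((B : Matrix (Fin n) (Fin n) F) *ᵥ u) ∘ idx.symm)
      (((B : Matrix (Fin n) (Fin n) F) *ᵥ v) ∘ idx.symm) := by
  have hcoord : ∀ v : Fin n → F,
      ((B⁻¹ : GL (Fin n) F) : Matrix (Fin n) (Fin n) F) *ᵥ
        ((((B : Matrix (Fin n) (Fin n) F) *ᵥ v) ∘ idx.symm) ∘ idx) = v := by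
    intro v
    have h1 : (((B : Matrix (Fin n) (Fin n) F) *ᵥ v) ∘ idx.symm) ∘ idx =
        (B : Matrix (Fin n) (Fin n) F) *ᵥ v := by
      funext i
      simp
    rw [h1, Matrix.mulVec_mulVec, Binv_mul_B, Matrix.one_mulVec]
  rw [← hD.gram, hcoord, hcoord]

/-- elements of `H` preserve the Gram matrix `J₁ ⊗ C` (the matrix half of ASCHSP-[TDSIM]). -/
theorem kron_preserves_gram (hH : H ≤ isoGL f) (hD : TensorFormData f H d e idx B J₁ C)
    (h : GL (Fin n) F) (hh : h ∈ H) (g : Matrix (Fin d × Fin e) (Fin d × Fin e) F)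
    (hab : ((B * h * B⁻¹ : GL (Fin n) F) : Matrix (Fin n) (Fin n) F) = g.submatrix idx idx) :
    gᵀ * (J₁ ⊗ₖ C) * g = J₁ ⊗ₖ C := by
  apply gram_eq_of_form_eq
  intro x y
  rw [← formOfGram_mulVec, ← hD.gram, ← hD.gram]
  have hx : ∀ z : Fin d × Fin e → F,
      ((B⁻¹ : GL (Fin n) F) : Matrix (Fin n) (Fin n) F) *ᵥ ((g *ᵥ z) ∘ idx) =
        (h : Matrix (Fin n) (Fin n) F) *ᵥ
          (((B⁻¹ : GL (Fin n) F) : Matrix (Fin n) (Fin n) F) *ᵥ (z ∘ idx)) := by
    intro z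
    have h2 : (g *ᵥ z) ∘ idx =
        ((B * h * B⁻¹ : GL (Fin n) F) : Matrix (Fin n) (Fin n) F) *ᵥ (z ∘ idx) := by
      rw [hab, Matrix.submatrix_mulVec_equiv]
      congr 2
      funext p
      simp
    rw [h2, Matrix.mulVec_mulVec, Matrix.mulVec_mulVec, ← Units.val_mul, ← Units.val_mul]
    congr 2
    group
  rw [hx, hx]
  exact (mem_isoGL.mp (hH hh)) _ _

theorem formOfGram_mulVec_left {κ : Type} [Fintype κ] (G g : Matrix κ κ F) (x y : κ → F) :
    formOfGram id G (g *ᵥ x) y = formOfGram id (gᵀ * G) x y := by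
  rw [formOfGram_id_eq, formOfGram_id_eq, ← Matrix.mulVec_mulVec,
    Matrix.dotProduct_mulVec x, Matrix.vecMul_transpose]

theorem formOfGram_mulVec_right {κ : Type} [Fintype κ] (G g : Matrix κ κ F) (x y : κ → F) :
    formOfGram id G x (g *ᵥ y) = formOfGram id (G * g) x y := by
  rw [formOfGram_id_eq, formOfGram_id_eq, ← Matrix.mulVec_mulVec]

/-- the adjoint of `thetaMat y` for `f` is `thetaMat y'` when `yᵀ C = C y'`. -/
theorem thetaMat_adjoint (hD : TensorFormData f H d e idx B J₁ C) (y y' : Matrix (Fin e) (Fin e) F)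
    (hy : yᵀ * C = C * y') (u v : Fin n → F) :
    f (thetaMat idx B y *ᵥ u) v = f u (thetaMat idx B y' *ᵥ v) := by
  rw [form_eq_coord hD, form_eq_coord hD u, coord_thetaMat, coord_thetaMat,
    formOfGram_mulVec_left, formOfGram_mulVec_right]
  congr 1
  rw [← Matrix.kroneckerMap_transpose, Matrix.transpose_one, ← Matrix.mul_kronecker_mul,
    ← Matrix.mul_kronecker_mul, one_mul, mul_one, hy]

end form

end Cfsg.Agent.Lib.Helper25.AschSp

namespace Cfsg.Agent.Lib.Helper23.AschSp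

open Cfsg Cfsg.Geo Cfsg.Agent.Lib.Helper99.Asch Cfsg.Agent.Lib.Helper25.AschSp
open scoped MatrixGroups Matrix Kronecker

variable {n m : ℕ} {F : Type*} [Field F] [Fintype F] {f : (Fin n → F) → (Fin n → F) → F}

/-- ASCHSP-[C4-TWO-ANISO] (sheet statement). -/
theorem sgeo_of_tensor_two_anisotropic (hf : IsSymplecticForm f) (hodd : Odd (Fintype.card F))
    (H : Subgroup (GL (Fin n) F)) (hH : H ≤ isoGL f) {d : ℕ} (hd : 1 ≤ d)
    (idx : Fin n ≃ Fin d × Fin 2) (B : GL (Fin n) F) (J₁ : Matrix (Fin d) (Fin d) F) (C : Matrix (Fin 2) (Fin 2) F)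
    (hD : TensorFormData f H d 2 idx B J₁ C) (hC : Cᵀ = C)
    (hw : ∀ w : Fin 2 → F, w ≠ 0 → w ⬝ᵥ (C *ᵥ w) ≠ 0) : SGeo m f H := by
  have h2 : (2 : F) ≠ 0 := two_ne_zero_of_odd_card hodd
  have hδ := discr_not_square C hC hw
  have hdne : discr C ≠ 0 := fun h0 => hδ 0 (by rw [h0, mul_zero])
  have hn : Nonempty (Fin n) := ⟨idx.symm (⟨0, hd⟩, 0)⟩
  obtain ⟨U, hUdef⟩ : ∃ U : Matrix (Fin n) (Fin n) F, U = thetaMat idx B (uMat C) := ⟨_, rfl⟩
  have hU : U * U = discr C • 1 := by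
    rw [hUdef, ← thetaMat_mul, uMat_mul_self, thetaMat_smul, thetaMat_one]
  have hJne : J₁ ≠ 0 := ne_zero_of_det_ne_zero hd J₁ hD.det₁
  have hCne : C ≠ 0 := ne_zero_of_det_ne_zero (by norm_num) C hD.det₂
  -- the adjoint of U is -U
  have hadjU : ∀ u v, f (U *ᵥ u) v = - f u (U *ᵥ v) := by
    intro u v
    have h1 := thetaMat_adjoint hD (uMat C) (-(uMat C))
      (by rw [uMat_transpose_mul C hC, Matrix.mul_neg]) u v
    rw [hUdef, h1]
    have h3 : thetaMat idx B (-(uMat C)) = (-1 : F) • thetaMat idx B (uMat C) := by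
      rw [← thetaMat_smul, neg_one_smul]
    rw [h3, Matrix.smul_mulVec, hf.bilinear.smul_right]
    ring
  have hb := hf.bilinear
  refine SGeo.of_c3u (M := subalgebraNormalizer (quadSubalgebra U (discr C) hU) ⊓ isoGL f)
    ⟨quadSubalgebra U (discr C) hU, hodd, isFieldSubalgebra_quad U _ hU hδ, ?_, ?_, rfl⟩ ?_
  · -- adjoint-closed
    rintro _ ⟨α, β, rfl⟩
    refine ⟨α • 1 + (-β) • U, ⟨α, -β, rfl⟩, fun u v => ?_⟩
    simp only [Matrix.add_mulVec, Matrix.smul_mulVec, Matrix.one_mulVec, hb.add_left, hb.add_right,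
      hb.smul_left, hb.smul_right, hadjU]
    ring
  · -- not self-adjoint
    intro hs
    have hUmem : U ∈ quadSubalgebra U (discr C) hU := ⟨0, 1, by simp⟩
    have hzero : ∀ u v, f u (U *ᵥ v) = 0 := by
      intro u v
      have h1 := hs U hUmem u v
      rw [hadjU] at h1
      have h3 : (2 : F) * f u (U *ᵥ v) = 0 := by linear_combination -h1
      rcases mul_eq_zero.mp h3 with h | h
      · exact absurd h h2
      · exact h
    have hUv : ∀ v, U *ᵥ v = 0 := by
      intro v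
      by_contra hne
      obtain ⟨⟨x, hx⟩, _⟩ := hf.nondegenerate _ hne
      exact hx (hzero x v)
    obtain ⟨i⟩ := hn
    have h4 : (U * U) *ᵥ (Pi.single i 1 : Fin n → F) = 0 := by
      rw [← Matrix.mulVec_mulVec, hUv]
    rw [hU, Matrix.smul_mulVec, Matrix.one_mulVec] at h4
    have h5 := congrFun h4 i
    simp at h5
    exact hdne h5
  · -- H normalises K'
    have hfwd : ∀ h ∈ H, ∀ k ∈ quadSubalgebra U (discr C) hU,
        (h : Matrix (Fin n) (Fin n) F) * k * ((h⁻¹ : GL (Fin n) F) : Matrix (Fin n) (Fin n) F) ∈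
          quadSubalgebra U (discr C) hU := by
      intro h hh k hk
      obtain ⟨α, β, rfl⟩ := hk
      obtain ⟨a, b, hab⟩ := hD.kron h hh
      have hab' : ((B * h * B⁻¹ : GL (Fin n) F) : Matrix (Fin n) (Fin n) F) =
          ((a : Matrix (Fin d) (Fin d) F) ⊗ₖ (b : Matrix (Fin 2) (Fin 2) F)).submatrix idx idx := hab
      have hpres := kron_preserves_gram hH hD h hh _ hab'
      obtain ⟨c, _, _, hbC⟩ := kronecker_similitude_of_ne_zero J₁ _ C _ hJne hCne hpres
      obtain ⟨ε, hε⟩ := similitude_conj_uMat C hC h2 hdne b c⁻¹ hbC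
      have hcomm : (h : Matrix (Fin n) (Fin n) F) * U = (ε • U) * (h : Matrix (Fin n) (Fin n) F) := by
        rw [hUdef, ← thetaMat_smul]
        exact mul_thetaMat idx B h _ _ _ _ hab' (by rw [hε, Matrix.smul_mul])
      have hhinv : (h : Matrix (Fin n) (Fin n) F) * ((h⁻¹ : GL (Fin n) F) : Matrix (Fin n) (Fin n) F) = 1 := by
        rw [← Units.val_mul, mul_inv_cancel, Units.val_one]
      refine ⟨α, β * ε, ?_⟩
      rw [Matrix.mul_add, Matrix.add_mul, Matrix.mul_smul, Matrix.mul_smul, mul_one, Matrix.smul_mul,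
        Matrix.smul_mul, hhinv, hcomm, Matrix.mul_assoc, hhinv, mul_one, smul_smul]
    intro h hh
    refine ⟨?_, hH hh⟩
    intro k
    constructor
    · exact hfwd h hh k
    · intro hk
      have h1 := hfwd h⁻¹ (H.inv_mem hh) _ hk
      have h3 : ((h⁻¹ : GL (Fin n) F) : Matrix (Fin n) (Fin n) F) * (h : Matrix (Fin n) (Fin n) F) = 1 := by
        rw [← Units.val_mul, inv_mul_cancel, Units.val_one]
      rw [inv_inv] at h1
      have h4 : ((h⁻¹ : GL (Fin n) F) : Matrix (Fin n) (Fin n) F) *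
          ((h : Matrix (Fin n) (Fin n) F) * k * ((h⁻¹ : GL (Fin n) F) : Matrix (Fin n) (Fin n) F)) *
          (h : Matrix (Fin n) (Fin n) F) = k := by
        calc _ = (((h⁻¹ : GL (Fin n) F) : Matrix (Fin n) (Fin n) F) * (h : Matrix (Fin n) (Fin n) F)) * k *
              (((h⁻¹ : GL (Fin n) F) : Matrix (Fin n) (Fin n) F) * (h : Matrix (Fin n) (Fin n) F)) := by
              simp only [Matrix.mul_assoc]
          _ = k := by rw [h3, one_mul, mul_one]
      rw [h4] at h1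
      exact h1

end Cfsg.Agent.Lib.Helper23.AschSp
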