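import Mathlib
import Cfsg.Prelude.Def_GeometricClasses
import Cfsg.Agent.Lib.Helper99.AschDefs
import Cfsg.Agent.Lib.Helper23.AschSpDefs
import Cfsg.Agent.Lib.Helper33.AschSpTrKit

/-!
# ASCHSP-[TR-RESID] (project ASCHSP, helper23): transport of the residual classes along a reindexing
`e : ι ≃ κ`.

General pieces (usable for the linear / unitary residual classes as well): `isResidualCore_map`,
`not_fixesQuad_map`, `not_fixesUnitary_map`, `not_fixesSymplectic_map`.
-/

set_option autoImplicit false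

namespace Cfsg.Agent.Lib.Helper25.AschSp

open Cfsg Cfsg.Geo Cfsg.Agent.Lib.Helper99.Asch Cfsg.Agent.Lib.Helper23.AschSp
  Cfsg.Agent.Lib.Helper33.AschSpTrKit
open scoped MatrixGroups Matrix

variable {F : Type*} [Field F] [Fintype F]
variable {ι κ : Type} [Fintype ι] [DecidableEq ι] [Fintype κ] [DecidableEq κ] (e : ι ≃ κ)

omit [Fintype F] in
theorem glReindex_injective : Function.Injective (glReindex (F := F) e) := (glReindex e).injective

theorem mem_scalars_glReindex (g : GL ι F) : glReindex e g ∈ scalars κ F ↔ g ∈ scalars ι F := by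
  rw [← map_scalars e]
  exact Subgroup.mem_map_iff_mem (glReindex_injective e)

/-- `P ≃* P.map (glReindex e)`. -/
noncomputable def subgroupMapEquiv (P : Subgroup (GL ι F)) :
    ↥P ≃* ↥(P.map (glReindex e).toMonoidHom) := (glReindex e).subgroupMap P

omit [Fintype F] in
theorem coe_subgroupMapEquiv (P : Subgroup (GL ι F)) (x : ↥P) :
    ((subgroupMapEquiv e P x : ↥(P.map (glReindex e).toMonoidHom)) : GL κ F) =
      glReindex e (x : GL ι F) := rfl

theorem scalars_subgroupOf_map (P : Subgroup (GL ι F)) :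
    ((scalars ι F).subgroupOf P).map (MonoidHomClass.toMonoidHom (subgroupMapEquiv e P)) =
      (scalars κ F).subgroupOf (P.map (glReindex e).toMonoidHom) := by
  ext ⟨y, hy⟩
  rw [Subgroup.mem_map, Subgroup.mem_subgroupOf]
  constructor
  · rintro ⟨x, hx, hxy⟩
    rw [Subgroup.mem_subgroupOf] at hx
    have h1 : glReindex e (x : GL ι F) = y := by
      rw [← coe_subgroupMapEquiv]
      exact congrArg Subtype.val hxy
    show y ∈ scalars κ F
    rw [← h1, mem_scalars_glReindex]
    exact hx
  · intro hy'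
    obtain ⟨x, hxP, hxy⟩ := hy
    have hxy' : glReindex e x = y := hxy
    refine ⟨⟨x, hxP⟩, ?_, Subtype.ext hxy'⟩
    rw [Subgroup.mem_subgroupOf]
    show x ∈ scalars ι F
    rw [← mem_scalars_glReindex e, hxy']
    exact hy'

/-- `P / scalars ≃* P' / scalars` for `P' = P.map (glReindex e)`. -/
noncomputable def quotScalarsEquiv (P : Subgroup (GL ι F)) :
    (↥P ⧸ (scalars ι F).subgroupOf P) ≃*
      (↥(P.map (glReindex e).toMonoidHom) ⧸
        (scalars κ F).subgroupOf (P.map (glReindex e).toMonoidHom)) :=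
  QuotientGroup.congr _ _ (subgroupMapEquiv e P) (scalars_subgroupOf_map e P)

omit [Fintype F] in
theorem mem_matrixSet_map (P : Subgroup (GL ι F)) (x : GL ι F) (hx : x ∈ P) :
    ((glReindex e x : GL κ F) : Matrix κ κ F) ∈ matrixSet (P.map (glReindex e).toMonoidHom) :=
  ⟨glReindex e x, ⟨x, hx, rfl⟩, rfl⟩

/-- transport of `IsResidualCore`. -/
theorem isResidualCore_map (H P : Subgroup (GL ι F)) (h : IsResidualCore H P) :
    IsResidualCore (H.map (glReindex e).toMonoidHom) (P.map (glReindex e).toMonoidHom) where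
  le := Subgroup.map_mono h.le
  normal := by
    rintro _ ⟨g, hg, rfl⟩ _ ⟨x, hx, rfl⟩
    refine ⟨g * x * g⁻¹, h.normal g hg x hx, ?_⟩
    simp
  perfect := by
    rw [← Subgroup.map_commutator, h.perfect]
  simple := by
    have := h.simple
    exact (quotScalarsEquiv e P).symm.isSimpleGroup
  nonabelian := by
    intro hc
    apply h.nonabelian
    refine ⟨⟨fun a b => ?_⟩⟩
    apply (quotScalarsEquiv e P).injective
    rw [map_mul, map_mul]
    exact hc.is_comm.comm _ _
  centralizer_scalar := by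
    rintro _ ⟨g, hg, rfl⟩ hcent
    have h1 : (glReindex e).toMonoidHom g = glReindex e g := rfl
    rw [h1, mem_scalars_glReindex]
    apply h.centralizer_scalar g hg
    intro x hx
    have := hcent _ ⟨x, hx, rfl⟩
    rw [h1] at this
    have h2 : (glReindex e).toMonoidHom x = glReindex e x := rfl
    rw [h2, ← map_inv, ← map_inv, ← map_mul, ← map_mul, ← map_mul, mem_scalars_glReindex] at this
    exact this
  absIrred := by
    rw [matrixSet_map, actsAbsolutelyIrreducibly_reindex]
    exact h.absIrred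
  no_subfield := by
    intro F₀ hF₀ hreal
    apply h.no_subfield F₀ hF₀
    obtain ⟨B', hB'⟩ := hreal
    refine ⟨glReindex e.symm B', ?_⟩
    rintro _ ⟨x, hx, rfl⟩ i j
    have h1 := hB' _ (mem_matrixSet_map e P x hx) (e i) (e j)
    have h2 : (B' : Matrix κ κ F) * ((glReindex e x : GL κ F) : Matrix κ κ F) *
        ((B'⁻¹ : GL κ F) : Matrix κ κ F) =
        ((glReindex e (glReindex e.symm B' * x * (glReindex e.symm B')⁻¹) : GL κ F) :
          Matrix κ κ F) := by
      rw [map_mul, map_mul, map_inv, glReindex_symm_apply, Units.val_mul, Units.val_mul]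
    rw [h2, coe_glReindex'] at h1
    simpa using h1

/-- pull back a quadratic form along `v ↦ v ∘ e.symm`. -/
theorem not_fixesQuad_map (P : Subgroup (GL ι F))
    (h : ¬ ∃ Q : (ι → F) → F, IsNondegenerateQuadraticForm Q ∧ FixesQuadForm (matrixSet P) Q) :
    ¬ ∃ Q : (κ → F) → F, IsNondegenerateQuadraticForm Q ∧
      FixesQuadForm (matrixSet (P.map (glReindex e).toMonoidHom)) Q := by
  rintro ⟨Q', hQ', hfix⟩
  apply h
  have hpolar : ∀ u v : ι → F, QuadraticMap.polar (fun v : ι → F => Q' (v ∘ e.symm)) u v =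
      QuadraticMap.polar Q' (u ∘ e.symm) (v ∘ e.symm) := fun u v => rfl
  refine ⟨fun v => Q' (v ∘ e.symm), ⟨?_, ?_, ?_⟩, ?_⟩
  · intro c v
    exact hQ'.smul c (v ∘ e.symm)
  · refine ⟨?_, ?_, ?_, ?_⟩
    · intro x y v
      rw [hpolar, hpolar, hpolar]
      exact hQ'.polar_bilinear.add_left _ _ _
    · intro c x v
      rw [hpolar, hpolar]
      exact hQ'.polar_bilinear.smul_left _ _ _
    · intro v x y
      rw [hpolar, hpolar, hpolar]
      exact hQ'.polar_bilinear.add_right _ _ _
    · intro c v x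
      rw [hpolar, hpolar]
      exact hQ'.polar_bilinear.smul_right _ _ _
  · intro v hv
    have hv' : v ∘ e.symm ≠ 0 := by
      intro h0
      apply hv
      funext i
      have := congrFun h0 (e i)
      simpa using this
    obtain ⟨⟨x, hx⟩, ⟨y, hy⟩⟩ := hQ'.nondegenerate _ hv'
    refine ⟨⟨x ∘ e, ?_⟩, ⟨y ∘ e, ?_⟩⟩
    · rw [hpolar]
      have : (x ∘ e) ∘ e.symm = x := by funext k; simp
      rw [this]; exact hx
    · rw [hpolar]
      have : (y ∘ e) ∘ e.symm = y := by funext k; simp
      rw [this]; exact hy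
  · rintro _ ⟨x, hx, rfl⟩ v
    have h1 := hfix _ (mem_matrixSet_map e P x hx) (v ∘ e.symm)
    rw [mulVec_glReindex, comp_symm_comp] at h1
    exact h1

theorem fixesForm_pullback (P : Subgroup (GL ι F)) (f' : (κ → F) → (κ → F) → F)
    (hfix : FixesForm (matrixSet (P.map (glReindex e).toMonoidHom)) f') :
    FixesForm (matrixSet P) (fun u v : ι → F => f' (u ∘ e.symm) (v ∘ e.symm)) := by
  rintro _ ⟨x, hx, rfl⟩ u v
  have h1 := hfix _ (mem_matrixSet_map e P x hx) (u ∘ e.symm) (v ∘ e.symm)
  rw [mulVec_glReindex, mulVec_glReindex, comp_symm_comp, comp_symm_comp] at h1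
  exact h1

omit [Fintype F] [Fintype ι] [DecidableEq ι] [Fintype κ] [DecidableEq κ] in
theorem isNondegenerateForm_pullback (f' : (κ → F) → (κ → F) → F) (hf' : IsNondegenerateForm f') :
    IsNondegenerateForm (fun u v : ι → F => f' (u ∘ e.symm) (v ∘ e.symm)) := by
  intro v hv
  have hv' : v ∘ e.symm ≠ 0 := by
    intro h0
    apply hv
    funext i
    have := congrFun h0 (e i)
    simpa using this
  obtain ⟨⟨x, hx⟩, ⟨y, hy⟩⟩ := hf' _ hv'
  refine ⟨⟨x ∘ e, ?_⟩, ⟨y ∘ e, ?_⟩⟩
  · have : (x ∘ e) ∘ e.symm = x := by funext k; simp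
    simp only [this]; exact hx
  · have : (y ∘ e) ∘ e.symm = y := by funext k; simp
    simp only [this]; exact hy

theorem not_fixesUnitary_map (P : Subgroup (GL ι F))
    (h : ¬ ∃ (σ : F ≃+* F) (f : (ι → F) → (ι → F) → F), IsUnitaryForm σ f ∧
      FixesForm (matrixSet P) f) :
    ¬ ∃ (σ : F ≃+* F) (f : (κ → F) → (κ → F) → F), IsUnitaryForm σ f ∧
      FixesForm (matrixSet (P.map (glReindex e).toMonoidHom)) f := by
  rintro ⟨σ, f', hf', hfix⟩
  apply h
  refine ⟨σ, fun u v => f' (u ∘ e.symm) (v ∘ e.symm), ⟨hf'.ne_refl, hf'.involutive, ?_, ?_, ?_, ?_⟩,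
    fixesForm_pullback e P f' hfix⟩
  · intro x y v
    exact hf'.add_left _ _ _
  · intro c x v
    exact hf'.smul_left _ _ _
  · intro v w
    exact hf'.herm _ _
  · exact isNondegenerateForm_pullback e f' hf'.nondegenerate

theorem not_fixesSymplectic_map (P : Subgroup (GL ι F))
    (h : ¬ ∃ f : (ι → F) → (ι → F) → F, IsSymplecticForm f ∧ FixesForm (matrixSet P) f) :
    ¬ ∃ f : (κ → F) → (κ → F) → F, IsSymplecticForm f ∧
      FixesForm (matrixSet (P.map (glReindex e).toMonoidHom)) f := by
  rintro ⟨f', hf', hfix⟩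
  apply h
  refine ⟨fun u v => f' (u ∘ e.symm) (v ∘ e.symm), ⟨⟨?_, ?_, ?_, ?_⟩, ?_, ?_, ?_⟩,
    fixesForm_pullback e P f' hfix⟩
  · intro x y v
    exact hf'.bilinear.add_left _ _ _
  · intro c x v
    exact hf'.bilinear.smul_left _ _ _
  · intro v x y
    exact hf'.bilinear.add_right _ _ _
  · intro c v x
    exact hf'.bilinear.smul_right _ _ _
  · intro v w
    exact hf'.skew _ _
  · intro v
    exact hf'.alternating _
  · exact isNondegenerateForm_pullback e f' hf'.nondegenerate

/-- transport of the unitary residual class (bonus, for ASCHU-type projects). -/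
theorem unitaryResidual_reindex (H : Subgroup (GL ι F)) (h : InUnitaryResidualClass H) :
    InUnitaryResidualClass (H.map (glReindex e).toMonoidHom) := by
  obtain ⟨P, hcore, hq, hs⟩ := h
  exact ⟨P.map (glReindex e).toMonoidHom, isResidualCore_map e H P hcore,
    not_fixesQuad_map e P hq, not_fixesSymplectic_map e P hs⟩

/-- transport of the linear residual class (bonus). -/
theorem linearResidual_reindex (H : Subgroup (GL ι F)) (h : InLinearResidualClass H) :
    InLinearResidualClass (H.map (glReindex e).toMonoidHom) := by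
  obtain ⟨P, hcore, hq, hs, hu⟩ := h
  exact ⟨P.map (glReindex e).toMonoidHom, isResidualCore_map e H P hcore,
    not_fixesQuad_map e P hq, not_fixesSymplectic_map e P hs, not_fixesUnitary_map e P hu⟩

end Cfsg.Agent.Lib.Helper25.AschSp

namespace Cfsg.Agent.Lib.Helper23.AschSp

open Cfsg Cfsg.Geo Cfsg.Agent.Lib.Helper99.Asch Cfsg.Agent.Lib.Helper25.AschSp
open scoped MatrixGroups Matrix

variable {F : Type*} [Field F] [Fintype F]
variable {ι κ : Type} [Fintype ι] [DecidableEq ι] [Fintype κ] [DecidableEq κ] (e : ι ≃ κ)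

/-- ASCHSP-[TR-RESID] (sheet statement). -/
theorem residual_reindex (H : Subgroup (GL ι F)) (h : InSymplecticResidualClass H) :
    InSymplecticResidualClass (H.map (glReindex e).toMonoidHom) := by
  obtain ⟨P, hcore, hq, hu⟩ := h
  exact ⟨P.map (glReindex e).toMonoidHom, isResidualCore_map e H P hcore,
    not_fixesQuad_map e P hq, not_fixesUnitary_map e P hu⟩

end Cfsg.Agent.Lib.Helper23.AschSp
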