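import Mathlib
import Cfsg.Agent.Lib.Helper4.TripleSum

/-!
# The arithmetic contradiction in statement S4018 (helper25)

Values `y` at an involution and degrees `f` of the irreducible characters, with an exceptional
family `Λ` of `u - 1` characters of equal degree and values `κ + ε c`, `c = ±2` summing to `0`.
-/

set_option autoImplicit false
set_option linter.unusedVariables false

namespace Cfsg.Agent.Lib.Helper25.Ab3

open Cfsg.Agent.Lib.Helper4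

theorem arith_contra {ι : Type*} [Fintype ι] [DecidableEq ι] (τ₀ : ι) (y : ι → ℤ) (f : ι → ℕ)
    (u m : ℕ) (hu : 5 ≤ u) (hm : m + 2 * u = (2 * u) ^ 2 + 1)
    (hyτ : y τ₀ = 1) (hfτ : f τ₀ = 1)
    (hfpos : ∀ i, 0 < f i) (hf2 : ∀ i, i ≠ τ₀ → 2 ≤ f i)
    (hO1 : ∑ i, y i * y i = 4 * u)
    (hO2 : ∑ i, y i * (f i : ℤ) = 0)
    (hO5 : ∑ i, ((y i * y i * y i : ℤ) : ℚ) / (f i : ℚ) = 8 * (u : ℚ) ^ 2 / (m : ℚ))
    (Λ : Finset ι) (hΛcard : Λ.card = u - 1) (hτΛ : τ₀ ∉ Λ)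
    (c : ι → ℤ) (ε κ : ℤ) (ℓ : ℕ) (hε : ε = 1 ∨ ε = -1)
    (hc : ∀ i ∈ Λ, c i = 2 ∨ c i = -2) (hcsum : ∑ i ∈ Λ, c i = 0)
    (hy : ∀ i ∈ Λ, y i = κ + ε * c i) (hℓ : ∀ i ∈ Λ, f i = ℓ) : False := by
  have hε2 : ε * ε = 1 := by rcases hε with h | h <;> rw [h] <;> norm_num
  have hc2 : ∀ i ∈ Λ, c i * c i = 4 := by
    intro i hi
    rcases hc i hi with h | h <;> rw [h] <;> norm_num
  -- Step A
  have hA : ∑ i ∈ Λ, y i * y i = ((u : ℤ) - 1) * (κ * κ + 4) := by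
    have h1 : ∀ i ∈ Λ, y i * y i = κ * κ + 2 * κ * ε * c i + 4 := by
      intro i hi
      rw [hy i hi]
      have := hc2 i hi
      calc (κ + ε * c i) * (κ + ε * c i)
          = κ * κ + 2 * κ * ε * c i + (ε * ε) * (c i * c i) := by ring
        _ = κ * κ + 2 * κ * ε * c i + 4 := by rw [hε2, this]; ring
    have h2 : ∑ x ∈ Λ, 2 * κ * ε * c x = 2 * κ * ε * ∑ x ∈ Λ, c x := (Finset.mul_sum _ _ _).symm
    rw [Finset.sum_congr rfl h1, Finset.sum_add_distrib, Finset.sum_add_distrib,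
      h2, hcsum, Finset.sum_const, Finset.sum_const, hΛcard]
    have : ((u - 1 : ℕ) : ℤ) = (u : ℤ) - 1 := by
      rw [Nat.cast_sub (by omega)]; norm_num
    simp only [nsmul_eq_mul, this]
    ring
  have hsplit : ∀ F : ι → ℤ, ∑ i, F i = ∑ i ∈ Λ, F i + ∑ i ∈ Λᶜ, F i := fun F =>
    (Finset.sum_add_sum_compl Λ F).symm
  -- Step B
  have hB : ∑ i ∈ Λᶜ, y i * y i = 4 * (u : ℤ) - ((u : ℤ) - 1) * (κ * κ + 4) := by
    have := hsplit (fun i => y i * y i)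
    rw [hO1, hA] at this
    linarith
  have hB1 : 1 ≤ ∑ i ∈ Λᶜ, y i * y i := by
    have hmem : τ₀ ∈ Λᶜ := Finset.mem_compl.mpr hτΛ
    have := Finset.single_le_sum (f := fun i => y i * y i) (fun i _ => mul_self_nonneg (y i)) hmem
    simp only [hyτ] at this
    linarith
  have hκ : κ = 0 := by
    rw [hB] at hB1
    have hu' : (4 : ℤ) ≤ (u : ℤ) - 1 := by
      have : (5 : ℤ) ≤ (u : ℤ) := by exact_mod_cast hu
      linarith
    by_contra hne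
    have : 1 ≤ κ * κ := by
      have := mul_self_pos.mpr hne
      linarith
    nlinarith
  subst hκ
  -- Step C
  set y' : ι → ℤ := fun i => if i ∈ Λ then 0 else y i with hy'
  have hy'sum : ∀ F : ι → ℤ → ℤ, (∀ i, F i 0 = 0) →
      ∑ i, F i (y' i) = ∑ i ∈ Λᶜ, F i (y i) := by
    intro F hF
    rw [hsplit (fun i => F i (y' i))]
    have h1 : ∑ i ∈ Λ, F i (y' i) = 0 := by
      apply Finset.sum_eq_zero
      intro i hi
      simp only [hy', if_pos hi, hF]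
    have h2 : ∑ i ∈ Λᶜ, F i (y' i) = ∑ i ∈ Λᶜ, F i (y i) := by
      apply Finset.sum_congr rfl
      intro i hi
      simp only [hy', if_neg (Finset.mem_compl.mp hi)]
    rw [h1, h2, zero_add]
  have hN : ∑ i, y' i * y' i = 4 := by
    rw [hy'sum (fun _ z => z * z) (fun _ => by ring), hB]
    ring
  have hy'τ : y' τ₀ = 1 := by simp only [hy', if_neg hτΛ, hyτ]
  obtain ⟨α, β, γ, hατ, hβτ, hγτ, hαβ, hαγ, hβγ, hyα, hyβ, hyγ, hrest⟩ :=
    exists_triple τ₀ y' hN hy'τ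
  -- Step D
  have hD : ∑ i, y' i * (f i : ℤ) = 0 := by
    rw [hy'sum (fun i z => z * (f i : ℤ)) (fun _ => by ring)]
    have := hsplit (fun i => y i * (f i : ℤ))
    rw [hO2] at this
    have h1 : ∑ i ∈ Λ, y i * (f i : ℤ) = 0 := by
      have h2 : ∀ i ∈ Λ, y i * (f i : ℤ) = (ε * (ℓ : ℤ)) * c i := by
        intro i hi
        rw [hy i hi, hℓ i hi]; ring
      rw [Finset.sum_congr rfl h2, ← Finset.mul_sum, hcsum, mul_zero]
    rw [h1, zero_add] at this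
    exact this.symm
  have hE1 : 1 + y' α * (f α : ℤ) + y' β * (f β : ℤ) + y' γ * (f γ : ℤ) = 0 := by
    have h := sum_four hατ hβτ hγτ hαβ hαγ hβγ (fun i => y' i * (f i : ℤ))
      (fun i h1 h2 h3 h4 => by
        show y' i * (f i : ℤ) = 0
        rw [hrest i h1 h2 h3 h4, zero_mul])
    rw [hD] at h
    simp only [hy'τ, hfτ] at h
    push_cast at h
    linarith
  -- Step E
  have hsplitQ : ∀ F : ι → ℚ, ∑ i, F i = ∑ i ∈ Λ, F i + ∑ i ∈ Λᶜ, F i := fun F =>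
    (Finset.sum_add_sum_compl Λ F).symm
  have hE : ∑ i, ((y' i * y' i * y' i : ℤ) : ℚ) / (f i : ℚ) = 8 * (u : ℚ) ^ 2 / (m : ℚ) := by
    rw [← hO5, hsplitQ, hsplitQ (fun i => ((y i * y i * y i : ℤ) : ℚ) / (f i : ℚ))]
    have h1 : ∑ i ∈ Λ, ((y' i * y' i * y' i : ℤ) : ℚ) / (f i : ℚ) = 0 := by
      apply Finset.sum_eq_zero
      intro i hi
      simp only [hy', if_pos hi]
      norm_num
    have h2 : ∑ i ∈ Λ, ((y i * y i * y i : ℤ) : ℚ) / (f i : ℚ) = 0 := by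
      have h3 : ∀ i ∈ Λ, ((y i * y i * y i : ℤ) : ℚ) / (f i : ℚ) =
          (4 * (ε : ℚ) / (ℓ : ℚ)) * ((c i : ℤ) : ℚ) := by
        intro i hi
        rw [hy i hi, hℓ i hi]
        have e : (0 + ε * c i) * (0 + ε * c i) * (0 + ε * c i) = 4 * ε * c i := by
          calc (0 + ε * c i) * (0 + ε * c i) * (0 + ε * c i)
              = (ε * ε) * ε * (c i * c i) * c i := by ring
            _ = 4 * ε * c i := by rw [hε2, hc2 i hi]; ring
        rw [e]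
        push_cast
        ring
      rw [Finset.sum_congr rfl h3, ← Finset.mul_sum]
      have : ∑ i ∈ Λ, ((c i : ℤ) : ℚ) = ((∑ i ∈ Λ, c i : ℤ) : ℚ) := by push_cast; rfl
      rw [this, hcsum]
      simp
    have h4 : ∑ i ∈ Λᶜ, ((y' i * y' i * y' i : ℤ) : ℚ) / (f i : ℚ) =
        ∑ i ∈ Λᶜ, ((y i * y i * y i : ℤ) : ℚ) / (f i : ℚ) := by
      apply Finset.sum_congr rfl
      intro i hi
      simp only [hy', if_neg (Finset.mem_compl.mp hi)]
    rw [h1, h2, h4]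
  have hcube : ∀ δ : ι, (y' δ = 1 ∨ y' δ = -1) → y' δ * y' δ * y' δ = y' δ := by
    rintro δ (h | h) <;> rw [h] <;> ring
  have hE2 : (1 : ℚ) + (y' α : ℚ) / f α + (y' β : ℚ) / f β + (y' γ : ℚ) / f γ =
      8 * (u : ℚ) ^ 2 / (m : ℚ) := by
    have h := sum_four hατ hβτ hγτ hαβ hαγ hβγ
      (fun i => ((y' i * y' i * y' i : ℤ) : ℚ) / (f i : ℚ))
      (fun i h1 h2 h3 h4 => by
        show ((y' i * y' i * y' i : ℤ) : ℚ) / (f i : ℚ) = 0
        rw [hrest i h1 h2 h3 h4]; simp)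
    rw [hE] at h
    simp only [hcube α hyα, hcube β hyβ, hcube γ hyγ, hy'τ, hfτ] at h
    rw [h]; push_cast; ring
  -- Step F
  have hmpos : (0 : ℚ) < (m : ℚ) := by
    have : 0 < m := by
      have : 2 * u ≤ (2 * u) ^ 2 := Nat.le_self_pow (by norm_num) _
      omega
    exact_mod_cast this
  have hbig : (2 : ℚ) < 8 * (u : ℚ) ^ 2 / (m : ℚ) := by
    rw [lt_div_iff₀ hmpos]
    have hmQ : (m : ℚ) + 2 * (u : ℚ) = (2 * (u : ℚ)) ^ 2 + 1 := by exact_mod_cast hm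
    have hu5 : (5 : ℚ) ≤ (u : ℚ) := by exact_mod_cast hu
    nlinarith
  have hfr : ∀ δ : ι, δ ≠ τ₀ → (0 : ℚ) < 1 / (f δ : ℚ) ∧ 1 / (f δ : ℚ) ≤ 1 / 2 := by
    intro δ hδ
    have h2 : (2 : ℚ) ≤ (f δ : ℚ) := by exact_mod_cast hf2 δ hδ
    constructor
    · apply div_pos one_pos; linarith
    · apply one_div_le_one_div_of_le (by norm_num) h2
  obtain ⟨ha0, ha1⟩ := hfr α hατ
  obtain ⟨hb0, hb1⟩ := hfr β hβτ
  obtain ⟨hc0, hc1⟩ := hfr γ hγτ
  have hfα : (0 : ℤ) < (f α : ℤ) := by exact_mod_cast hfpos α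
  have hfβ : (0 : ℤ) < (f β : ℤ) := by exact_mod_cast hfpos β
  have hfγ : (0 : ℤ) < (f γ : ℤ) := by exact_mod_cast hfpos γ
  rw [← hE2] at hbig
  have e1 : ∀ δ : ι, (y' δ : ℚ) / (f δ : ℚ) = (y' δ : ℚ) * (1 / (f δ : ℚ)) := fun δ => by ring
  rw [e1 α, e1 β, e1 γ] at hbig
  rcases hyα with h1 | h1 <;> rcases hyβ with h2 | h2 <;> rcases hyγ with h3 | h3 <;>
    rw [h1, h2, h3] at hbig hE1 <;> push_cast at hbig <;> nlinarith

/-- the same with the exceptional family indexed by a finite set -/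
theorem arith_contra' {ι κ' : Type*} [Fintype ι] [DecidableEq ι] (τ₀ : ι) (y : ι → ℤ)
    (f : ι → ℕ) (u m : ℕ) (hu : 5 ≤ u) (hm : m + 2 * u = (2 * u) ^ 2 + 1)
    (hyτ : y τ₀ = 1) (hfτ : f τ₀ = 1)
    (hfpos : ∀ i, 0 < f i) (hf2 : ∀ i, i ≠ τ₀ → 2 ≤ f i)
    (hO1 : ∑ i, y i * y i = 4 * u)
    (hO2 : ∑ i, y i * (f i : ℤ) = 0)
    (hO5 : ∑ i, ((y i * y i * y i : ℤ) : ℚ) / (f i : ℚ) = 8 * (u : ℚ) ^ 2 / (m : ℚ))
    (T : Finset κ') (e : κ' → ι) (he : ∀ j ∈ T, ∀ j' ∈ T, e j = e j' → j = j')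
    (hTcard : T.card = u - 1) (hτT : ∀ j ∈ T, e j ≠ τ₀)
    (c₀ : κ' → ℤ) (ε κ : ℤ) (ℓ : ℕ) (hε : ε = 1 ∨ ε = -1)
    (hc : ∀ j ∈ T, c₀ j = 2 ∨ c₀ j = -2) (hcsum : ∑ j ∈ T, c₀ j = 0)
    (hy : ∀ j ∈ T, y (e j) = κ + ε * c₀ j) (hℓ : ∀ j ∈ T, f (e j) = ℓ) : False := by
  classical
  set c : ι → ℤ := fun i => if h : ∃ j ∈ T, e j = i then c₀ (Classical.choose h) else 0 with hcdef
  have hce : ∀ j ∈ T, c (e j) = c₀ j := by
    intro j hj
    have hex : ∃ j' ∈ T, e j' = e j := ⟨j, hj, rfl⟩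
    have hspec := Classical.choose_spec hex
    simp only [hcdef, dif_pos hex]
    rw [he _ hspec.1 j hj hspec.2]
  have hinj : Set.InjOn e (↑T : Set κ') := fun j hj j' hj' h =>
    he j (Finset.mem_coe.1 hj) j' (Finset.mem_coe.1 hj') h
  apply arith_contra τ₀ y f u m hu hm hyτ hfτ hfpos hf2 hO1 hO2 hO5 (T.image e)
    (by rw [Finset.card_image_of_injOn hinj, hTcard]) ?_ c ε κ ℓ hε ?_ ?_ ?_ ?_
  · intro h
    obtain ⟨j, hj, hje⟩ := Finset.mem_image.mp h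
    exact hτT j hj hje
  · intro i hi
    obtain ⟨j, hj, rfl⟩ := Finset.mem_image.mp hi
    rw [hce j hj]; exact hc j hj
  · rw [Finset.sum_image hinj, Finset.sum_congr rfl hce, hcsum]
  · intro i hi
    obtain ⟨j, hj, rfl⟩ := Finset.mem_image.mp hi
    rw [hce j hj]; exact hy j hj
  · intro i hi
    obtain ⟨j, hj, rfl⟩ := Finset.mem_image.mp hi
    exact hℓ j hj

end Cfsg.Agent.Lib.Helper25.Ab3
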