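import Mathlib
import Cfsg.Agent.Lib.Helper75.Ito
import Cfsg.Agent.Lib.Helper75.Clifford
import Cfsg.Agent.Lib.Helper52.BL.Gen
import Cfsg.Agent.Lib.Helper74.SubgroupAvg
import Cfsg.Agent.Lib.Helper77.Linear
import Cfsg.Agent.Lib.Helper77.CenterIrr
import Cfsg.Agent.Lib.Helper78.CharMore

/-!
# Irreducible characters of a group with an abelian normal subgroup of index two (helper25)

`L` finite, `K ⊴ L` abelian of index `2`, `z` a central involution, `r ∉ K` with `|C_L(r)| = 4`
and `r` not conjugate to `z r`.  Then the irreducible characters of degree two vanish off `K`,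
take the values `±2` at `z` with sum `0`, and there are `|L|/4 - 1` of them.
-/

set_option autoImplicit false
set_option linter.unusedSectionVars false
set_option linter.unusedVariables false

namespace Cfsg.Agent.Lib.Helper25.Ab3

open Cfsg Cfsg.Agent.Lib.Helper78
open scoped ComplexConjugate commutatorElement

universe u

/-- irreducible characters of an abelian group are linear -/
theorem charDegree_eq_one_of_comm {K : Type u} [Group K] [Fintype K]
    (hK : ∀ a b : K, a * b = b * a) {ψ : K → ℂ} (hψ : IsIrrCharacter K ψ) : charDegree ψ = 1 := by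
  have h := Cfsg.Agent.Lib.Helper75.ito (⊤ : Subgroup K) (fun a _ b _ => hK a b) ψ hψ
  rw [Subgroup.index_top] at h
  exact Nat.dvd_one.mp h

/-- a character of an abelian group has norm at least its degree -/
theorem charDegree_le_norm_of_comm {K : Type u} [Group K] [Fintype K]
    (hK : ∀ a b : K, a * b = b * a) {φ : K → ℂ} (hφ : IsCharacter K φ) :
    (charDegree φ : ℝ) ≤ (classInner φ φ).re := by
  have h1 := Cfsg.Agent.Lib.Helper52.BL.classInner_eq_sum_mult hφ hφ
  have h2 := Cfsg.Agent.Lib.Helper52.BL.charDegree_eq_sum_mult hφ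
  rw [h1, Complex.natCast_re, h2]
  have : ∑ ψ : IrrCharacter K, Cfsg.Agent.Lib.Helper52.BL.mult φ (ψ : K → ℂ) *
      charDegree (ψ : K → ℂ) ≤ ∑ ψ : IrrCharacter K,
      Cfsg.Agent.Lib.Helper52.BL.mult φ (ψ : K → ℂ) * Cfsg.Agent.Lib.Helper52.BL.mult φ (ψ : K → ℂ) := by
    apply Finset.sum_le_sum
    intro ψ _
    rw [charDegree_eq_one_of_comm hK ψ.2, mul_one]
    exact Nat.le_mul_self _
  exact_mod_cast this

variable {L : Type u} [Group L] [Fintype L]

theorem sum_normSq_irr {χ : L → ℂ} (hχ : IsIrrCharacter L χ) :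
    ∑ x : L, Complex.normSq (χ x) = (Nat.card L : ℝ) := by
  have h1 := classInner_irr_self hχ
  rw [Cfsg.Agent.Lib.Helper52.BL.classInner_self_eq_sum] at h1
  have h2 : (Nat.card L : ℝ)⁻¹ * ∑ g : L, Complex.normSq (χ g) = 1 := by exact_mod_cast h1
  have hpos : (0 : ℝ) < Nat.card L := by exact_mod_cast Nat.card_pos
  field_simp at h2
  linarith

/-- an irreducible character of degree two vanishes off an abelian normal subgroup of index
two -/
theorem vanish_off_of_degree_two (K : Subgroup L) [K.Normal] (hK2 : K.index = 2)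
    (hKab : ∀ a ∈ K, ∀ b ∈ K, a * b = b * a) {χ : L → ℂ} (hχ : IsIrrCharacter L χ)
    (h2 : χ 1 = 2) {x : L} (hx : x ∉ K) : χ x = 0 := by
  classical
  have hφ : IsCharacter K (fun k : K => χ k) :=
    Cfsg.Agent.Lib.Helper75.isCharacter_res K (IsIrrCharacter.isCharacter hχ)
  have hdeg : charDegree (fun k : K => χ k) = 2 := by
    have := IsCharacter.apply_one_eq_charDegree hφ
    simp only [Subgroup.coe_one] at this
    rw [h2] at this
    exact_mod_cast this.symm
  have hKc : ∀ a b : K, a * b = b * a := fun a b => Subtype.ext (hKab a a.2 b b.2)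
  have hnorm := charDegree_le_norm_of_comm hKc hφ
  rw [hdeg, Cfsg.Agent.Lib.Helper52.BL.classInner_self_eq_sum, Complex.ofReal_re] at hnorm
  have hKpos : (0 : ℝ) < Nat.card K := by exact_mod_cast Nat.card_pos
  have hsumK : (2 : ℝ) * Nat.card K ≤ ∑ k : K, Complex.normSq (χ k) := by
    have := mul_le_mul_of_nonneg_left hnorm hKpos.le
    rw [← mul_assoc, mul_inv_cancel₀ hKpos.ne', one_mul] at this
    push_cast at this
    linarith
  have hL := sum_normSq_irr hχ
  have hcard : (Nat.card L : ℝ) = 2 * Nat.card K := by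
    have := K.card_mul_index
    rw [hK2] at this
    rw [← this]; push_cast; ring
  have hsplit : ∑ x : L, Complex.normSq (χ x) =
      ∑ x ∈ Finset.univ.filter (fun x : L => x ∈ K), Complex.normSq (χ x) +
      ∑ x ∈ Finset.univ.filter (fun x : L => ¬ x ∈ K), Complex.normSq (χ x) :=
    (Finset.sum_filter_add_sum_filter_not _ _ _).symm
  have hsub : ∑ x ∈ Finset.univ.filter (fun x : L => x ∈ K), Complex.normSq (χ x) =
      ∑ k : K, Complex.normSq (χ k) := by
    rw [Finset.sum_subtype (Finset.univ.filter (fun x : L => x ∈ K))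
      (p := fun x => x ∈ K) (fun x => by simp) (fun x => Complex.normSq (χ x))]
  have hle : ∑ x ∈ Finset.univ.filter (fun x : L => ¬ x ∈ K), Complex.normSq (χ x) ≤ 0 := by
    rw [hsplit, hsub, hcard] at hL
    linarith
  have hzero := (Finset.sum_eq_zero_iff_of_nonneg
    (fun x _ => Complex.normSq_nonneg (χ x))).mp
    (le_antisymm hle (Finset.sum_nonneg (fun x _ => Complex.normSq_nonneg (χ x))))
  have := hzero x (by simp [hx])
  exact Complex.normSq_eq_zero.mp this

open Classical in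
/-- the irreducible characters of degree two -/
noncomputable def degTwo (L : Type u) [Group L] [Fintype L] : Finset (L → ℂ) :=
  ((Finset.univ : Finset (IrrCharacter L)).filter (fun χ : IrrCharacter L => (χ : L → ℂ) 1 = 2)).map
    ⟨Subtype.val, Subtype.val_injective⟩

theorem mem_degTwo {χ : L → ℂ} : χ ∈ degTwo L ↔ IsIrrCharacter L χ ∧ χ 1 = 2 := by
  classical
  unfold degTwo
  simp only [Finset.mem_map, Finset.mem_filter, Finset.mem_univ, true_and,
    Function.Embedding.coeFn_mk]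
  constructor
  · rintro ⟨ψ, h2, rfl⟩
    exact ⟨ψ.2, h2⟩
  · rintro ⟨h1, h2⟩
    exact ⟨⟨χ, h1⟩, h2, rfl⟩

open Classical in
theorem sum_degTwo (f : (L → ℂ) → ℂ) :
    ∑ χ ∈ degTwo L, f χ =
      ∑ χ ∈ (Finset.univ : Finset (IrrCharacter L)).filter (fun χ : IrrCharacter L => (χ : L → ℂ) 1 = 2),
        f (χ : L → ℂ) := by
  unfold degTwo
  rw [Finset.sum_map]
  rfl

open Classical in
theorem card_degTwo :
    (degTwo L).card =
      ((Finset.univ : Finset (IrrCharacter L)).filter (fun χ : IrrCharacter L => (χ : L → ℂ) 1 = 2)).card := by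
  unfold degTwo
  rw [Finset.card_map]

theorem lin_mul_conj {χ : L → ℂ} (hχ : IsCharacter L χ) (h1 : χ 1 = 1) (g : L) :
    χ g * conj (χ g) = 1 := by
  obtain ⟨ψ, hψ⟩ := Cfsg.Agent.Lib.Helper77.exists_monoidHom_of_degree_one hχ h1
  rw [hψ g, Complex.mul_conj, Complex.normSq_eq_norm_sq]
  have hpow : ((ψ g : ℂˣ) : ℂ) ^ orderOf g = 1 := by
    rw [← Units.val_pow_eq_pow_val, ← map_pow, pow_orderOf_eq_one, map_one, Units.val_one]
  have := Complex.norm_eq_one_of_pow_eq_one hpow (orderOf_pos g).ne'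
  rw [this]; norm_num

theorem lin_mul {χ : L → ℂ} (hχ : IsCharacter L χ) (h1 : χ 1 = 1) (g h : L) :
    χ (g * h) = χ g * χ h := by
  obtain ⟨ψ, hψ⟩ := Cfsg.Agent.Lib.Helper77.exists_monoidHom_of_degree_one hχ h1
  rw [hψ, hψ, hψ, map_mul, Units.val_mul]

/-- irreducible characters have degree one or two when there is an abelian normal subgroup of
index two -/
theorem degree_one_or_two (K : Subgroup L) [K.Normal] (hK2 : K.index = 2)
    (hKab : ∀ a ∈ K, ∀ b ∈ K, a * b = b * a) {χ : L → ℂ} (hχ : IsIrrCharacter L χ) :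
    χ 1 = 1 ∨ χ 1 = 2 := by
  have h := Cfsg.Agent.Lib.Helper75.ito K hKab χ hχ
  rw [hK2] at h
  rw [IsCharacter.apply_one_eq_charDegree (IsIrrCharacter.isCharacter hχ)]
  rcases (Nat.dvd_prime Nat.prime_two).mp h with h1 | h1
  · left; rw [h1]; norm_num
  · right; rw [h1]; norm_num

/-- a central involution takes the values `±χ(1)` -/
theorem central_invol_value {χ : L → ℂ} (hχ : IsIrrCharacter L χ) {z : L} (hz : orderOf z = 2)
    (hzc : ∀ x : L, x * z = z * x) (h2 : χ 1 = 2) : χ z = 2 ∨ χ z = -2 := by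
  have : Finite L := Finite.of_fintype L
  obtain ⟨n, hn⟩ := Cfsg.Agent.Lib.Helper74.exists_int_apply_of_orderOf_two
    (IsIrrCharacter.isCharacter hχ) z hz
  have hmem : z ∈ Cfsg.Agent.Lib.Helper77.irrCenter ⟨χ, hχ⟩ := by
    rw [Cfsg.Agent.Lib.Helper77.mem_irrCenter_iff_commutator]
    intro h
    have : ⁅z, h⁆ = 1 := by
      rw [commutatorElement_eq_one_iff_mul_comm]
      exact (hzc h).symm
    rw [this]; exact Subgroup.one_mem _
  have hnorm := (Cfsg.Agent.Lib.Helper77.mem_irrCenter ⟨χ, hχ⟩ z).mp hmem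
  simp only at hnorm
  rw [hn, h2] at hnorm
  have h3 : |(n : ℝ)| = 2 := by
    have e1 : ‖((n : ℤ) : ℂ)‖ = |(n : ℝ)| := by
      rw [← Complex.ofReal_intCast, Complex.norm_real, Real.norm_eq_abs]
    rw [e1] at hnorm
    rw [hnorm]; norm_num
  have h4 : |n| = 2 := by exact_mod_cast h3
  rw [hn]
  rcases abs_eq (by norm_num : (0 : ℤ) ≤ 2) |>.mp h4 with h | h
  · left; rw [h]; norm_num
  · right; rw [h]; norm_num

/-- counting the irreducible characters of degree two and summing their values at the central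
involution -/
theorem degTwo_facts (K : Subgroup L) [K.Normal] (hK2 : K.index = 2)
    (hKab : ∀ a ∈ K, ∀ b ∈ K, a * b = b * a) {z r : L} (hz : orderOf z = 2)
    (hzc : ∀ x : L, x * z = z * x) (hr : r ∉ K)
    (hcr : Nat.card (Subgroup.centralizer ({r} : Set L)) = 4) (hnc : ¬ IsConj r (z * r)) :
    4 * ((degTwo L).card + 1) = Nat.card L ∧ ∑ χ ∈ degTwo L, χ z = 0 := by
  classical
  rw [card_degTwo, sum_degTwo (fun χ => χ z)]
  set T := (Finset.univ : Finset (IrrCharacter L)).filter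
    (fun χ : IrrCharacter L => (χ : L → ℂ) 1 = 2) with hT
  set Ln := (Finset.univ : Finset (IrrCharacter L)).filter
    (fun χ : IrrCharacter L => ¬ (χ : L → ℂ) 1 = 2) with hLn
  have hsplit : ∀ f : IrrCharacter L → ℂ, ∑ χ : IrrCharacter L, f χ =
      ∑ χ ∈ T, f χ + ∑ χ ∈ Ln, f χ := fun f =>
    (Finset.sum_filter_add_sum_filter_not _ _ _).symm
  have hT2 : ∀ χ ∈ T, (χ : L → ℂ) 1 = 2 := fun χ hχ => (Finset.mem_filter.mp hχ).2
  have hlin : ∀ χ ∈ Ln, (χ : L → ℂ) 1 = 1 := by
    intro χ hχ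
    have h := (Finset.mem_filter.mp hχ).2
    rcases degree_one_or_two K hK2 hKab χ.2 with h1 | h1
    · exact h1
    · exact absurd h1 h
  have hvan : ∀ χ ∈ T, (χ : L → ℂ) r = 0 := fun χ hχ =>
    vanish_off_of_degree_two K hK2 hKab χ.2 (hT2 χ hχ) hr
  have hchar : ∀ χ : IrrCharacter L, IsCharacter L (χ : L → ℂ) :=
    fun χ => IsIrrCharacter.isCharacter χ.2
  -- the number of linear characters
  have hA := second_orthogonality_of_isConj (IsConj.refl r)
  rw [hcr, hsplit] at hA
  have hA1 : ∑ χ ∈ T, (χ : L → ℂ) r * conj ((χ : L → ℂ) r) = 0 := by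
    apply Finset.sum_eq_zero
    intro χ hχ
    rw [hvan χ hχ, zero_mul]
  have hA2 : ∑ χ ∈ Ln, (χ : L → ℂ) r * conj ((χ : L → ℂ) r) = (Ln.card : ℂ) := by
    rw [Finset.sum_congr rfl (fun χ hχ => lin_mul_conj (hchar χ) (hlin χ hχ) r)]
    simp
  rw [hA1, hA2, zero_add] at hA
  have hLn4 : Ln.card = 4 := by exact_mod_cast hA
  -- the sum of the squares of the degrees
  have hB := sum_irr_apply_one_sq (G := L)
  rw [hsplit] at hB
  have hB1 : ∑ χ ∈ T, ((χ : L → ℂ) 1) ^ 2 = (4 * T.card : ℂ) := by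
    rw [Finset.sum_congr rfl (fun χ hχ => by rw [hT2 χ hχ])]
    simp only [Finset.sum_const, nsmul_eq_mul]
    ring
  have hB2 : ∑ χ ∈ Ln, ((χ : L → ℂ) 1) ^ 2 = (Ln.card : ℂ) := by
    rw [Finset.sum_congr rfl (fun χ hχ => by rw [hlin χ hχ])]
    simp
  rw [hB1, hB2, hLn4] at hB
  have hcard : 4 * (T.card + 1) = Nat.card L := by
    have : ((4 * (T.card + 1) : ℕ) : ℂ) = (Nat.card L : ℂ) := by
      rw [← hB]; push_cast; ring
    exact_mod_cast this
  refine ⟨hcard, ?_⟩
  -- the values at `z`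
  have hC := second_orthogonality_of_not_isConj hnc
  rw [hsplit] at hC
  have hC1 : ∑ χ ∈ T, (χ : L → ℂ) r * conj ((χ : L → ℂ) (z * r)) = 0 := by
    apply Finset.sum_eq_zero
    intro χ hχ
    rw [hvan χ hχ, zero_mul]
  have hC2 : ∑ χ ∈ Ln, (χ : L → ℂ) r * conj ((χ : L → ℂ) (z * r)) =
      ∑ χ ∈ Ln, conj ((χ : L → ℂ) z) := by
    apply Finset.sum_congr rfl
    intro χ hχ
    rw [lin_mul (hchar χ) (hlin χ hχ), map_mul]
    have := lin_mul_conj (hchar χ) (hlin χ hχ) r
    calc (χ : L → ℂ) r * (conj ((χ : L → ℂ) z) * conj ((χ : L → ℂ) r))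
        = conj ((χ : L → ℂ) z) * ((χ : L → ℂ) r * conj ((χ : L → ℂ) r)) := by ring
      _ = conj ((χ : L → ℂ) z) := by rw [this, mul_one]
  rw [hC1, hC2, zero_add] at hC
  have hC3 : ∑ χ ∈ Ln, (χ : L → ℂ) z = 0 := by
    have := congrArg conj hC
    rw [map_sum, map_zero] at this
    simpa using this
  have hz1 : ¬ IsConj z 1 := by
    intro h
    have h' := isConj_one_left.mp h
    rw [h', orderOf_one] at hz
    omega
  have hD := second_orthogonality_of_not_isConj hz1
  rw [hsplit] at hD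
  have hD1 : ∑ χ ∈ T, (χ : L → ℂ) z * conj ((χ : L → ℂ) 1) = 2 * ∑ χ ∈ T, (χ : L → ℂ) z := by
    rw [Finset.mul_sum]
    apply Finset.sum_congr rfl
    intro χ hχ
    rw [hT2 χ hχ]
    simp only [map_ofNat]
    ring
  have hD2 : ∑ χ ∈ Ln, (χ : L → ℂ) z * conj ((χ : L → ℂ) 1) = ∑ χ ∈ Ln, (χ : L → ℂ) z := by
    apply Finset.sum_congr rfl
    intro χ hχ
    rw [hlin χ hχ, map_one, mul_one]
  rw [hD1, hD2, hC3, add_zero] at hD
  have : (2 : ℂ) ≠ 0 := by norm_num
  exact (mul_eq_zero.mp hD).resolve_left this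

end Cfsg.Agent.Lib.Helper25.Ab3
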