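import Mathlib
import Cfsg.Prelude.Def_OddOrderLocal
import Cfsg.Agent.Lib.Helper4.SylowTwo

/-!
# Structure of a simple group with an abelian Sylow `3`-subgroup `P`, `|N(P)| = 4|P|`,
`|C(P)| = 2|P|`, `C(P)` a TI-subgroup, proper subgroups of even order of order dividing `4|P|`
(group-theoretic part of statement S4018)
-/

set_option autoImplicit false
set_option linter.unusedSectionVars false
set_option linter.unusedVariables false

namespace Cfsg.Agent.Lib.Helper25.Ab3

open Cfsg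

variable {G : Type*} [Group G] [Finite G]

/-- if `x` commutes with `h ^ 2` and `h` has odd order then `x` commutes with `h` -/
theorem conj_eq_of_sq_conj_eq {h x : G} {r : ℕ} (hr : Odd r) (hhr : h ^ r = 1)
    (h2 : h ^ 2 * x * (h ^ 2)⁻¹ = x) : h * x * h⁻¹ = x := by
  obtain ⟨j, hj⟩ := hr
  have hh : h = (h ^ 2) ^ (j + 1) := by
    rw [← pow_mul, show 2 * (j + 1) = r + 1 by omega, pow_succ, hhr, one_mul]
  have hc : Commute (h ^ 2) x := by
    have : h ^ 2 * x = x * h ^ 2 := by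
      calc h ^ 2 * x = (h ^ 2 * x * (h ^ 2)⁻¹) * h ^ 2 := by group
        _ = x * h ^ 2 := by rw [h2]
    exact this
  have hc' : Commute h x := by
    rw [hh]; exact hc.pow_left _
  calc h * x * h⁻¹ = x * h * h⁻¹ := by rw [hc'.eq]
    _ = x := by group

/-- a four-group containing two distinct involutions consists of `1, a, b, a * b` -/
theorem mem_four {Q : Subgroup G} (hQ4 : Nat.card Q = 4) {a b : G} (ha : a ∈ Q) (hb : b ∈ Q)
    (ha2 : a * a = 1) (hb2 : b * b = 1) (ha1 : a ≠ 1) (hb1 : b ≠ 1) (hab : a ≠ b) {x : G}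
    (hx : x ∈ Q) : x = 1 ∨ x = a ∨ x = b ∨ x = a * b := by
  classical
  have : Fintype Q := Fintype.ofFinite Q
  by_contra hcon
  push Not at hcon
  obtain ⟨h1, h2, h3, h4⟩ := hcon
  have hab1 : a * b ≠ 1 := by
    intro h
    apply hab
    have : a = b⁻¹ := eq_inv_of_mul_eq_one_left h
    rw [this, inv_eq_iff_mul_eq_one]; exact hb2
  have haba : a * b ≠ a := by
    intro h; apply hb1; exact mul_eq_left.mp h
  have habb : a * b ≠ b := by
    intro h; apply ha1; exact mul_eq_right.mp h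
  let S : Finset Q := {⟨1, Q.one_mem⟩, ⟨a, ha⟩, ⟨b, hb⟩, ⟨a * b, Q.mul_mem ha hb⟩, ⟨x, hx⟩}
  have hS : S.card = 5 := by
    simp only [S]
    rw [Finset.card_insert_of_notMem, Finset.card_insert_of_notMem, Finset.card_insert_of_notMem,
      Finset.card_insert_of_notMem, Finset.card_singleton]
    · simp only [Finset.mem_singleton, Subtype.mk.injEq]; exact fun h => h4 h.symm
    · simp only [Finset.mem_insert, Finset.mem_singleton, Subtype.mk.injEq, not_or]
      exact ⟨fun h => habb h.symm, fun h => h3 h.symm⟩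
    · simp only [Finset.mem_insert, Finset.mem_singleton, Subtype.mk.injEq, not_or]
      exact ⟨hab, fun h => haba h.symm, fun h => h2 h.symm⟩
    · simp only [Finset.mem_insert, Finset.mem_singleton, Subtype.mk.injEq, not_or]
      exact ⟨fun h => ha1 h.symm, fun h => hb1 h.symm, fun h => hab1 h.symm, fun h => h1 h.symm⟩
  have := Finset.card_le_univ S
  rw [hS, ← Nat.card_eq_fintype_card, hQ4] at this
  omega


/-- an element of odd order normalizing but not centralizing a four-group fuses its involutions -/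
theorem fusion {Q : Subgroup G} (hQ4 : Nat.card Q = 4) {h : G}
    (hn : h ∈ Subgroup.normalizer (Q : Set G)) (hc : h ∉ Subgroup.centralizer (Q : Set G))
    {r : ℕ} (hr : Odd r) (hhr : h ^ r = 1) {a b : G} (ha : a ∈ Q) (hb : b ∈ Q)
    (ha2 : a * a = 1) (hb2 : b * b = 1) (ha1 : a ≠ 1) (hb1 : b ≠ 1) (hab : a ≠ b) :
    IsConj a b := by
  have hcomm : a * b = b * a := by
    have hc2 : IsMulCommutative Q :=
      IsPGroup.isMulCommutative_of_card_eq_prime_sq (p := 2) (G := Q) (by rw [hQ4]; norm_num)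
    have := hc2.is_comm.comm (⟨a, ha⟩ : Q) ⟨b, hb⟩
    exact congrArg Subtype.val this
  have hq : ∀ x ∈ Q, h * x * h⁻¹ ∈ Q := fun x hx =>
    ((Subgroup.mem_normalizer_iff.mp hn) x).mp hx
  have hinj : ∀ x y : G, h * x * h⁻¹ = h * y * h⁻¹ → x = y := by
    intro x y hxy
    have := congrArg (fun z => h⁻¹ * z * h) hxy
    simpa [mul_assoc] using this
  have hsq : ∀ x : G, h * (h * x * h⁻¹) * h⁻¹ = x → h * x * h⁻¹ = x := by
    intro x hx
    apply conj_eq_of_sq_conj_eq hr hhr
    calc h ^ 2 * x * (h ^ 2)⁻¹ = h * (h * x * h⁻¹) * h⁻¹ := by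
          rw [pow_two, mul_inv_rev]; simp only [mul_assoc]
      _ = x := hx
  have hmul : h * (a * b) * h⁻¹ = (h * a * h⁻¹) * (h * b * h⁻¹) := by group
  have ha' := mem_four hQ4 ha hb ha2 hb2 ha1 hb1 hab (hq a ha)
  have hb' := mem_four hQ4 ha hb ha2 hb2 ha1 hb1 hab (hq b hb)
  have hne1 : ∀ x : G, x ≠ 1 → h * x * h⁻¹ ≠ 1 := by
    intro x hx h1
    apply hx
    apply hinj
    rw [h1]; group
  have hcent : h * a * h⁻¹ = a → h * b * h⁻¹ = b → False := by
    intro e1 e2
    apply hc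
    rw [Subgroup.mem_centralizer_iff]
    intro x hx
    have hx' : h * x * h⁻¹ = x := by
      rcases mem_four hQ4 ha hb ha2 hb2 ha1 hb1 hab hx with rfl | rfl | rfl | rfl
      · group
      · exact e1
      · exact e2
      · rw [hmul, e1, e2]
    calc x * h = (h * x * h⁻¹) * h := by rw [hx']
      _ = h * x := by group
  rcases ha' with e | e | e | e
  · exact absurd e (hne1 a ha1)
  · -- `h` fixes `a`
    rcases hb' with f | f | f | f
    · exact absurd f (hne1 b hb1)
    · exfalso; exact hab (hinj a b (e.trans f.symm))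
    · exact (hcent e f).elim
    · exfalso
      have : h * (h * b * h⁻¹) * h⁻¹ = b := by
        rw [f, hmul, e, f, ← mul_assoc, ha2, one_mul]
      have := hsq b this
      rw [f] at this
      exact hb1 (by
        have h3 : a * b = 1 * b := by rw [one_mul]; exact this
        have := mul_right_cancel h3
        exact absurd this ha1)
  · exact isConj_iff.mpr ⟨h, e⟩
  · rcases hb' with f | f | f | f
    · exact absurd f (hne1 b hb1)
    · exact (isConj_iff.mpr ⟨h, f⟩).symm
    · exfalso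
      have : h * (h * a * h⁻¹) * h⁻¹ = a := by
        rw [e, hmul, e, f, mul_assoc, hb2, mul_one]
      have := hsq a this
      rw [e] at this
      have h3 : a * b = a * 1 := by rw [mul_one]; exact this
      exact hb1 (mul_left_cancel h3)
    · exfalso; exact hab (hinj a b (e.trans f.symm))


/-- in a simple group of order divisible by `3` no Sylow `2`-subgroup of order `4` is centralized by
its normalizer -/
theorem not_normalizer_le_centralizer (hs : IsSimpleGroup G) (h3 : 3 ∣ Nat.card G)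
    (Q : Sylow 2 G) (hQ4 : Nat.card Q = 4) :
    ¬ Subgroup.normalizer ((Q : Subgroup G) : Set G) ≤ Subgroup.centralizer (Q : Set G) := by
  intro hle
  have : Fact (Nat.Prime 2) := ⟨Nat.prime_two⟩
  have hcompl := MonoidHom.ker_transferSylow_isComplement' Q hle
  have hidx := hcompl.symm.index_eq_card
  rw [hQ4] at hidx
  have hnormal : (MonoidHom.transferSylow Q hle).ker.Normal := inferInstance
  rcases hnormal.eq_bot_or_eq_top with hb | ht
  · rw [hb, Subgroup.index_bot] at hidx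
    rw [hidx] at h3
    omega
  · rw [ht, Subgroup.index_top] at hidx
    omega

theorem isPGroup_two_zpowers_of_pow {x : G} {k : ℕ} (hx : x ^ 2 ^ k = 1) :
    IsPGroup 2 (Subgroup.zpowers x) := by
  have : Fact (Nat.Prime 2) := ⟨Nat.prime_two⟩
  have h1 : orderOf x ∣ 2 ^ k := orderOf_dvd_of_pow_eq_one hx
  obtain ⟨j, -, hj⟩ := (Nat.dvd_prime_pow Nat.prime_two).mp h1
  apply IsPGroup.of_card (n := j)
  rw [Nat.card_zpowers, hj]


theorem isPGroup_zpowers_of_pow {p : ℕ} [hp : Fact p.Prime] {x : G} {k : ℕ} (hx : x ^ p ^ k = 1) :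
    IsPGroup p (Subgroup.zpowers x) := by
  have h1 : orderOf x ∣ p ^ k := orderOf_dvd_of_pow_eq_one hx
  obtain ⟨j, -, hj⟩ := (Nat.dvd_prime_pow hp.out).mp h1
  apply IsPGroup.of_card (n := j)
  rw [Nat.card_zpowers, hj]

/-- a `p`-element normalizing a Sylow `p`-subgroup lies in it -/
theorem mem_sylow_of_mem_normalizer {p : ℕ} [hp : Fact p.Prime] (Q : Sylow p G) {x : G} {k : ℕ}
    (hx : x ^ p ^ k = 1) (hxN : x ∈ Subgroup.normalizer ((Q : Subgroup G) : Set G)) :
    x ∈ (Q : Subgroup G) := by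
  have hpg := isPGroup_zpowers_of_pow (p := p) hx
  have hle : Subgroup.zpowers x ≤ Subgroup.normalizer ((Q : Subgroup G) : Set G) := by
    rw [Subgroup.zpowers_le]
    exact hxN
  have h1 := (Subgroup.sylow_mem_fixedPoints_iff (Subgroup.zpowers x) (P := Q)).mpr hle
  have h2 := (hpg.sylow_mem_fixedPoints_iff (Q := Q)).mp h1
  exact h2 (Subgroup.mem_zpowers _)

/-- an element of odd order normalizing but not centralizing a Sylow `2`-subgroup of order `4` -/
theorem exists_odd_normalizing (hs : IsSimpleGroup G) (h3 : 3 ∣ Nat.card G)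
    (Q : Sylow 2 G) (hQ4 : Nat.card Q = 4) :
    ∃ (h : G) (r : ℕ), h ∈ Subgroup.normalizer ((Q : Subgroup G) : Set G) ∧
      h ∉ Subgroup.centralizer (Q : Set G) ∧ Odd r ∧ h ^ r = 1 := by
  have : Fact (Nat.Prime 2) := ⟨Nat.prime_two⟩
  have hnot := not_normalizer_le_centralizer hs h3 Q hQ4
  rw [SetLike.not_le_iff_exists] at hnot
  obtain ⟨g, hgN, hgC⟩ := hnot
  have hpos : orderOf g ≠ 0 := (orderOf_pos g).ne'
  obtain ⟨k, r, hr, hkr⟩ := Nat.exists_eq_two_pow_mul_odd hpos
  -- `g ^ r` is a `2`-element of the normalizer, hence in `Q`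
  have h2elt : (g ^ r) ^ 2 ^ k = 1 := by
    rw [← pow_mul, mul_comm, ← hkr, pow_orderOf_eq_one]
  have hgrQ : g ^ r ∈ (Q : Subgroup G) := by
    have hpg := isPGroup_two_zpowers_of_pow h2elt
    have hle : Subgroup.zpowers (g ^ r) ≤ Subgroup.normalizer ((Q : Subgroup G) : Set G) := by
      rw [Subgroup.zpowers_le]
      exact Subgroup.pow_mem _ hgN r
    have h1 := (Subgroup.sylow_mem_fixedPoints_iff (Subgroup.zpowers (g ^ r)) (P := Q)).mpr hle
    have h2 := (hpg.sylow_mem_fixedPoints_iff (Q := Q)).mp h1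
    exact h2 (Subgroup.mem_zpowers _)
  have hQcomm : IsMulCommutative Q :=
    IsPGroup.isMulCommutative_of_card_eq_prime_sq (p := 2) (G := Q) (by rw [hQ4]; norm_num)
  have hgrC : g ^ r ∈ Subgroup.centralizer (Q : Set G) := by
    rw [Subgroup.mem_centralizer_iff]
    intro x hx
    have := hQcomm.is_comm.comm (⟨x, hx⟩ : Q) ⟨g ^ r, hgrQ⟩
    exact congrArg Subtype.val this
  refine ⟨g ^ 2 ^ k, r, Subgroup.pow_mem _ hgN _, ?_, hr, ?_⟩
  · intro hC
    apply hgC
    have hcop : Nat.Coprime (2 ^ k) r := by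
      apply Nat.Coprime.pow_left
      exact Nat.coprime_two_left.mpr hr
    have hgcd := Nat.gcd_eq_gcd_ab (2 ^ k) r
    rw [hcop] at hgcd
    have : g = (g ^ 2 ^ k) ^ (Nat.gcdA (2 ^ k) r) * (g ^ r) ^ (Nat.gcdB (2 ^ k) r) := by
      rw [← zpow_natCast g (2 ^ k), ← zpow_natCast g r, ← zpow_mul, ← zpow_mul, ← zpow_add,
        ← hgcd]
      simp
    rw [this]
    exact Subgroup.mul_mem _ (Subgroup.zpow_mem _ hC _) (Subgroup.zpow_mem _ hgrC _)
  · rw [← pow_mul, ← hkr, pow_orderOf_eq_one]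

/-- in a simple group of order divisible by `3`, a Sylow `2`-subgroup of order `4` has exponent
`2` -/
theorem sq_eq_one_of_mem_sylow (hs : IsSimpleGroup G) (h3 : 3 ∣ Nat.card G)
    (Q : Sylow 2 G) (hQ4 : Nat.card Q = 4) {x : G} (hx : x ∈ Q) : x * x = 1 := by
  have : Fact (Nat.Prime 2) := ⟨Nat.prime_two⟩
  by_contra hne
  have hnot := not_normalizer_le_centralizer hs h3 Q hQ4
  apply hnot
  have h2 : 2 ∣ Nat.card G := by
    have := (Q : Subgroup G).card_subgroup_dvd_card
    rw [hQ4] at this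
    exact dvd_trans (by norm_num) this
  have hmin : (Nat.card G).minFac = 2 := (Nat.minFac_eq_two_iff _).mpr h2
  have hord : orderOf (⟨x, hx⟩ : Q) = 4 := by
    have hd : orderOf (⟨x, hx⟩ : Q) ∣ 4 := by
      rw [← hQ4]; exact orderOf_dvd_natCard _
    have hd' : orderOf (⟨x, hx⟩ : Q) ∣ 2 ^ 2 := by norm_num; exact hd
    obtain ⟨j, hj, hj'⟩ := (Nat.dvd_prime_pow Nat.prime_two).mp hd'
    have hne2 : ¬ orderOf (⟨x, hx⟩ : Q) ∣ 2 := by
      intro h
      apply hne
      have := orderOf_dvd_iff_pow_eq_one.mp h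
      have := congrArg Subtype.val this
      simpa [pow_two] using this
    interval_cases j
    · rw [hj'] at hne2; norm_num at hne2
    · rw [hj'] at hne2; norm_num at hne2
    · rw [hj']; norm_num
  have hcyc : IsCyclic Q := isCyclic_of_orderOf_eq_card _ (by rw [hord, hQ4])
  exact IsCyclic.normalizer_le_centralizer hmin hcyc


/-- the hypotheses of the theorem, together with simplicity -/
structure Hyp (P : Sylow 3 G) : Prop where
  hab : IsMulCommutative P
  hN : Nat.card (Subgroup.normalizer ((P : Subgroup G) : Set G)) = 4 * Nat.card P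
  hC : Nat.card (Subgroup.centralizer (P : Set G)) = 2 * Nat.card P
  hTI : Cfsg.IsTISubset (Subgroup.centralizer (P : Set G) : Set G)
  heven : ∀ H : Subgroup G, H ≠ ⊤ → 2 ∣ Nat.card H → Nat.card H ∣ 4 * Nat.card P
  hs : IsSimpleGroup G

/-- the centralizer of `P` -/
abbrev CC (P : Sylow 3 G) : Subgroup G := Subgroup.centralizer (P : Set G)

/-- the normalizer of `P` -/
abbrev NN (P : Sylow 3 G) : Subgroup G := Subgroup.normalizer ((P : Subgroup G) : Set G)

variable {P : Sylow 3 G}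

theorem P_comm (H : Hyp P) {x y : G} (hx : x ∈ P) (hy : y ∈ P) : x * y = y * x := by
  have h := H.hab.is_comm.comm (⟨x, hx⟩ : P) ⟨y, hy⟩
  exact congrArg Subtype.val h

theorem P_le_C (H : Hyp P) : (P : Subgroup G) ≤ CC P := by
  intro x hx y hy
  exact P_comm H hy hx

theorem mem_CC_iff {c : G} : c ∈ CC P ↔ ∀ y ∈ P, y * c = c * y := Iff.rfl

theorem C_le_N : CC P ≤ NN P := Subgroup.centralizer_le_normalizer _

theorem eq_one_of_sq_of_mem_P {x : G} (hx : x ∈ P) (h2 : x * x = 1) : x = 1 := by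
  obtain ⟨k, hk⟩ := P.2 ⟨x, hx⟩
  have hk' : x ^ 3 ^ k = 1 := by simpa using congrArg Subtype.val hk
  have h1 : orderOf x ∣ 3 ^ k := orderOf_dvd_of_pow_eq_one hk'
  have h2' : orderOf x ∣ 2 := orderOf_dvd_of_pow_eq_one (by rw [pow_two, h2])
  have : orderOf x ∣ Nat.gcd (3 ^ k) 2 := Nat.dvd_gcd h1 h2'
  have hg : Nat.gcd (3 ^ k) 2 = 1 := by
    apply Nat.Coprime.pow_left; norm_num
  rw [hg, Nat.dvd_one, orderOf_eq_one_iff] at this
  exact this

theorem exists_card_P (P : Sylow 3 G) : ∃ a : ℕ, Nat.card P = 3 ^ a :=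
  ⟨_, P.card_eq_multiplicity⟩

theorem card_P_ne_one (H : Hyp P) : Nat.card P ≠ 1 := by
  intro h1
  have hbot : ∀ y ∈ P, y = 1 := by
    intro y hy
    have h2 : (P : Subgroup G) = ⊥ := Subgroup.eq_bot_of_card_eq _ h1
    have h3 : y ∈ (P : Subgroup G) := hy
    rw [h2, Subgroup.mem_bot] at h3
    exact h3
  have hCtop : CC P = ⊤ := by
    rw [eq_top_iff]
    intro c _
    rw [mem_CC_iff]
    intro y hy
    rw [hbot y hy, one_mul, mul_one]
  have hNtop : NN P = ⊤ := by
    rw [eq_top_iff, ← hCtop]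
    exact C_le_N
  have e1 := H.hN
  have e2 := H.hC
  change Nat.card (NN P) = _ at e1
  change Nat.card (CC P) = _ at e2
  rw [hNtop] at e1
  rw [hCtop] at e2
  omega

theorem three_dvd_card_P (H : Hyp P) : 3 ∣ Nat.card P := by
  obtain ⟨a, ha⟩ := exists_card_P P
  rcases Nat.eq_zero_or_pos a with h0 | h0
  · exfalso
    apply card_P_ne_one H
    rw [ha, h0, pow_zero]
  · rw [ha]
    exact dvd_pow_self 3 h0.ne'

theorem odd_card_P (P : Sylow 3 G) : Odd (Nat.card P) := by
  obtain ⟨a, ha⟩ := exists_card_P P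
  rw [ha]
  exact Odd.pow (by decide)


theorem exists_invol_C (H : Hyp P) : ∃ t : G, orderOf t = 2 ∧ t ∈ CC P := by
  have : Fact (Nat.Prime 2) := ⟨Nat.prime_two⟩
  have h2 : 2 ∣ Nat.card (CC P) := by
    have := H.hC
    change Nat.card (CC P) = _ at this
    rw [this]; exact dvd_mul_right _ _
  obtain ⟨x, hx⟩ := exists_prime_orderOf_dvd_card' 2 h2
  refine ⟨(x : G), ?_, x.2⟩
  rw [Subgroup.orderOf_coe]; exact hx


theorem conj_mem_P {n x : G} (hn : n ∈ NN P) (hx : x ∈ P) : n * x * n⁻¹ ∈ P :=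
  ((Subgroup.mem_normalizer_iff.mp hn) x).mp hx

theorem conj_mem_P' {n x : G} (hn : n ∈ NN P) (hx : x ∈ P) : n⁻¹ * x * n ∈ P := by
  have := conj_mem_P ((NN P).inv_mem hn) hx
  rwa [inv_inv] at this

theorem conj_mem_C {n c : G} (hn : n ∈ NN P) (hc : c ∈ CC P) : n * c * n⁻¹ ∈ CC P := by
  intro y hy
  have h := hc _ (conj_mem_P' hn hy)
  calc y * (n * c * n⁻¹) = n * (n⁻¹ * y * n * c) * n⁻¹ := by group
    _ = n * (c * (n⁻¹ * y * n)) * n⁻¹ := by rw [h]
    _ = n * c * n⁻¹ * y := by group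

theorem conj_mem_C' {n c : G} (hn : n ∈ NN P) (hc : c ∈ CC P) : n⁻¹ * c * n ∈ CC P := by
  have := conj_mem_C ((NN P).inv_mem hn) hc
  rwa [inv_inv] at this

theorem N_le_normalizer_C : NN P ≤ Subgroup.normalizer (CC P : Set G) := by
  intro n hn
  rw [Subgroup.mem_normalizer_iff]
  intro h
  constructor
  · intro hh; exact conj_mem_C hn hh
  · intro hh
    have := conj_mem_C' hn hh
    have e : n⁻¹ * (n * h * n⁻¹) * n = h := by group
    rwa [e] at this

theorem card_G_dvd (H : Hyp P) : 4 * Nat.card P ∣ Nat.card G := by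
  have h := (NN P).card_subgroup_dvd_card
  have e := H.hN
  change Nat.card (NN P) = _ at e
  rwa [e] at h

theorem three_dvd_card_G (H : Hyp P) : 3 ∣ Nat.card G :=
  (three_dvd_card_P H).trans ((dvd_mul_left _ 4).trans (card_G_dvd H))

section withT

variable {t : G} (ht : orderOf t = 2) (htC : t ∈ CC P)
include ht htC

theorem t_mul_self : t * t = 1 := by
  rw [← pow_two, ← ht, pow_orderOf_eq_one]

theorem t_ne_one : t ≠ 1 := by
  intro h; rw [h, orderOf_one] at ht; omega

theorem t_inv : t⁻¹ = t := by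
  rw [inv_eq_iff_mul_eq_one]; exact t_mul_self ht htC

theorem t_not_mem_P : t ∉ P := by
  intro h
  exact t_ne_one ht htC (eq_one_of_sq_of_mem_P h (t_mul_self ht htC))

theorem index_P_in_C (H : Hyp P) : ((P : Subgroup G).subgroupOf (CC P)).index = 2 := by
  have h1 := ((P : Subgroup G).subgroupOf (CC P)).card_mul_index
  have h2 : Nat.card ((P : Subgroup G).subgroupOf (CC P)) = Nat.card P :=
    Nat.card_congr (Subgroup.subgroupOfEquivOfLe (P_le_C H)).toEquiv
  have h3 := H.hC
  change Nat.card (CC P) = _ at h3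
  rw [h2, h3] at h1
  have hpos : 0 < Nat.card P := Nat.card_pos
  have : Nat.card P * ((P : Subgroup G).subgroupOf (CC P)).index = Nat.card P * 2 := by
    rw [h1]; ring
  exact Nat.eq_of_mul_eq_mul_left hpos this

theorem mem_P_or_mul_t (H : Hyp P) {c : G} (hc : c ∈ CC P) : c ∈ P ∨ c * t ∈ P := by
  by_cases hcP : c ∈ P
  · left; exact hcP
  · right
    have h := Subgroup.mul_mem_iff_of_index_two (index_P_in_C ht htC H)
      (a := (⟨c, hc⟩ : CC P)) (b := ⟨t, htC⟩)
    rw [Subgroup.mem_subgroupOf, Subgroup.mem_subgroupOf, Subgroup.mem_subgroupOf] at h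
    have h' : c * t ∈ (P : Subgroup G) ↔ (c ∈ (P : Subgroup G) ↔ t ∈ (P : Subgroup G)) := h
    apply h'.mpr
    constructor
    · intro h1; exact absurd h1 hcP
    · intro h1; exact absurd h1 (t_not_mem_P ht htC)

theorem t_comm_C (H : Hyp P) {c : G} (hc : c ∈ CC P) : t * c = c * t := by
  rcases mem_P_or_mul_t ht htC H hc with h | h
  · exact (htC c h).symm
  · have h1 := htC _ h
    -- (c * t) * t = t * (c * t)
    have h2 : c * t * t = t * (c * t) := h1
    rw [mul_assoc, t_mul_self ht htC, mul_one] at h2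
    calc t * c = t * (c * t) * t := by
            rw [mul_assoc, mul_assoc, t_mul_self ht htC, mul_one]
      _ = c * t := by rw [← h2]

theorem C_comm (H : Hyp P) {c d : G} (hc : c ∈ CC P) (hd : d ∈ CC P) : c * d = d * c := by
  rcases mem_P_or_mul_t ht htC H hd with h | h
  · exact (hc d h).symm
  · obtain ⟨q, hq, rfl⟩ : ∃ q ∈ P, d = q * t :=
      ⟨d * t, h, by rw [mul_assoc, t_mul_self ht htC, mul_one]⟩
    have h1 : q * c = c * q := hc _ hq
    have h2 := t_comm_C ht htC H hc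
    calc c * (q * t) = (c * q) * t := by rw [mul_assoc]
      _ = (q * c) * t := by rw [h1]
      _ = q * (c * t) := by rw [mul_assoc]
      _ = q * (t * c) := by rw [h2]
      _ = q * t * c := by rw [mul_assoc]

/-- `t` is the only involution of `C` -/
theorem eq_t_of_sq (H : Hyp P) {c : G} (hc : c ∈ CC P) (h2 : c * c = 1) (h1 : c ≠ 1) : c = t := by
  rcases mem_P_or_mul_t ht htC H hc with h | h
  · exact absurd (eq_one_of_sq_of_mem_P h h2) h1
  · have h3 : (c * t) * (c * t) = 1 := by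
      have := t_comm_C ht htC H hc
      calc c * t * (c * t) = c * (t * c) * t := by simp only [mul_assoc]
        _ = c * (c * t) * t := by rw [this]
        _ = (c * c) * (t * t) := by simp only [mul_assoc]
        _ = 1 := by rw [h2, t_mul_self ht htC, one_mul]
    have h4 := eq_one_of_sq_of_mem_P h h3
    have : c = t⁻¹ := eq_inv_of_mul_eq_one_left h4
    rw [this, t_inv ht htC]


theorem pow_three_pow_t (k : ℕ) : t ^ 3 ^ k = t := by
  have hodd : Odd (3 ^ k) := Odd.pow (by decide)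
  obtain ⟨j, hj⟩ := hodd
  rw [hj, pow_succ, pow_mul, pow_two, t_mul_self ht htC, one_pow, one_mul]

theorem mem_P_iff_of_mem_C (H : Hyp P) {x : G} (hx : x ∈ CC P) :
    x ∈ P ↔ ∃ k : ℕ, x ^ 3 ^ k = 1 := by
  constructor
  · intro h
    obtain ⟨k, hk⟩ := P.2 ⟨x, h⟩
    exact ⟨k, by simpa using congrArg Subtype.val hk⟩
  · rintro ⟨k, hk⟩
    rcases mem_P_or_mul_t ht htC H hx with h | h
    · exact h
    · exfalso
      obtain ⟨q, hq, rfl⟩ : ∃ q ∈ P, x = q * t :=
        ⟨x * t, h, by rw [mul_assoc, t_mul_self ht htC, mul_one]⟩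
      have hcomm : Commute q t := (htC q hq)
      rw [hcomm.mul_pow, pow_three_pow_t ht htC] at hk
      have : t = (q ^ 3 ^ k)⁻¹ := eq_inv_of_mul_eq_one_right hk
      apply t_not_mem_P ht htC
      rw [this]
      exact (P : Subgroup G).inv_mem ((P : Subgroup G).pow_mem hq _)

theorem normalizer_C_le_N (H : Hyp P) : Subgroup.normalizer (CC P : Set G) ≤ NN P := by
  intro g hg
  rw [Subgroup.mem_normalizer_iff] at hg
  rw [Subgroup.mem_normalizer_iff]
  intro h
  constructor
  · intro hh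
    have h1 : g * h * g⁻¹ ∈ CC P := (hg h).mp (P_le_C H hh)
    obtain ⟨k, hk⟩ := (mem_P_iff_of_mem_C ht htC H (P_le_C H hh)).mp hh
    apply (mem_P_iff_of_mem_C ht htC H h1).mpr
    refine ⟨k, ?_⟩
    rw [conj_pow, hk, mul_one, mul_inv_cancel]
  · intro hh
    have h1 : h ∈ CC P := (hg h).mpr (P_le_C H hh)
    obtain ⟨k, hk⟩ := (mem_P_iff_of_mem_C ht htC H (P_le_C H hh)).mp hh
    apply (mem_P_iff_of_mem_C ht htC H h1).mpr
    refine ⟨k, ?_⟩
    rw [conj_pow] at hk
    have : h ^ 3 ^ k = g⁻¹ * (g * h ^ 3 ^ k * g⁻¹) * g := by group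
    rw [this, hk]; group

theorem normalizer_C_eq (H : Hyp P) : Subgroup.normalizer (CC P : Set G) = NN P :=
  le_antisymm (normalizer_C_le_N ht htC H) N_le_normalizer_C

theorem t_central_N (H : Hyp P) {n : G} (hn : n ∈ NN P) : n * t = t * n := by
  have h1 : n * t * n⁻¹ ∈ CC P := conj_mem_C hn htC
  have h2 : (n * t * n⁻¹) * (n * t * n⁻¹) = 1 := by
    calc (n * t * n⁻¹) * (n * t * n⁻¹) = n * (t * t) * n⁻¹ := by group
      _ = 1 := by rw [t_mul_self ht htC]; group
  have h3 : n * t * n⁻¹ ≠ 1 := by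
    intro h
    apply t_ne_one ht htC
    have : t = n⁻¹ * (n * t * n⁻¹) * n := by group
    rw [this, h]; group
  have h4 := eq_t_of_sq ht htC H h1 h2 h3
  calc n * t = (n * t * n⁻¹) * n := by group
    _ = t * n := by rw [h4]

/-- TI property in the convenient form -/
theorem mem_N_of_conj_mem (H : Hyp P) {g x : G} (hx : x ∈ CC P) (hx1 : x ≠ 1)
    (hgx : g * x * g⁻¹ ∈ CC P) : g ∈ NN P := by
  by_contra hg
  apply hx1
  refine H.hTI g ?_ x hx hgx
  intro hg'
  exact hg (normalizer_C_le_N ht htC H hg')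

theorem centralizer_t_eq (H : Hyp P) : Subgroup.centralizer ({t} : Set G) = NN P := by
  apply le_antisymm
  · intro g hg
    rw [Subgroup.mem_centralizer_singleton_iff] at hg
    apply mem_N_of_conj_mem ht htC H htC (t_ne_one ht htC)
    have : g * t * g⁻¹ = t := by rw [hg, mul_assoc, mul_inv_cancel, mul_one]
    rw [this]; exact htC
  · intro n hn
    rw [Subgroup.mem_centralizer_singleton_iff]
    exact t_central_N ht htC H hn


theorem exists_sylow2 (H : Hyp P) : ∃ Q : Sylow 2 G, t ∈ Q ∧ Nat.card Q = 4 := by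
  have : Fact (Nat.Prime 2) := ⟨Nat.prime_two⟩
  obtain ⟨Q, hQ⟩ := (Cfsg.Agent.Lib.Helper4.isPGroup_two_zpowers ht).exists_le_sylow
  have htQ : t ∈ (Q : Subgroup G) := hQ (Subgroup.mem_zpowers t)
  refine ⟨Q, htQ, ?_⟩
  have hcard := Q.card_eq_multiplicity
  have h3G := three_dvd_card_G H
  have hQtop : (Q : Subgroup G) ≠ ⊤ := by
    intro h
    have e : Nat.card G = 2 ^ (Nat.card G).factorization 2 := by
      rw [← hcard, h, Subgroup.card_top]
    rw [e] at h3G
    have := Nat.Prime.dvd_of_dvd_pow Nat.prime_three h3G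
    omega
  have h2Q : 2 ∣ Nat.card (Q : Subgroup G) := by
    have := orderOf_dvd_natCard (⟨t, htQ⟩ : (Q : Subgroup G))
    rw [Subgroup.orderOf_mk, ht] at this
    exact this
  have hdvd := H.heven Q hQtop h2Q
  have h4 : Nat.card (Q : Subgroup G) ∣ 4 := by
    have hcop : Nat.Coprime (Nat.card (Q : Subgroup G)) (Nat.card P) := by
      rw [hcard]
      apply Nat.Coprime.pow_left
      exact Nat.coprime_two_left.mpr (odd_card_P P)
    exact hcop.dvd_of_dvd_mul_right hdvd
  have h4' : 4 ∣ Nat.card (Q : Subgroup G) := by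
    rw [hcard]
    have h5 : 2 ^ 2 ∣ Nat.card G :=
      dvd_trans (by norm_num) (dvd_trans (dvd_mul_right 4 _) (card_G_dvd H))
    have h6 := (Nat.Prime.pow_dvd_iff_le_factorization Nat.prime_two Nat.card_pos.ne').mp h5
    exact dvd_trans (by norm_num) (pow_dvd_pow 2 h6)
  exact Nat.dvd_antisymm h4 h4'

/-- all involutions are conjugate to `t` -/
theorem isConj_t_of_invol (H : Hyp P) {z : G} (hz : orderOf z = 2) : IsConj t z := by
  have : Fact (Nat.Prime 2) := ⟨Nat.prime_two⟩
  obtain ⟨Q, htQ, hQ4⟩ := exists_sylow2 ht htC H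
  obtain ⟨g, hg⟩ := Cfsg.Agent.Lib.Helper4.exists_conj_mem_sylow Q
    (Cfsg.Agent.Lib.Helper4.isPGroup_two_zpowers hz)
  have hzQ : g * z * g⁻¹ ∈ (Q : Subgroup G) := hg z (Subgroup.mem_zpowers z)
  have hz2 : z * z = 1 := by rw [← pow_two, ← hz, pow_orderOf_eq_one]
  have hz1 : z ≠ 1 := by
    intro h; rw [h, orderOf_one] at hz; omega
  have hback : IsConj (g * z * g⁻¹) z := isConj_iff.mpr ⟨g⁻¹, by group⟩
  by_cases hzt : g * z * g⁻¹ = t
  · rw [← hzt]; exact hback
  · obtain ⟨h, r, hn, hc, hr, hhr⟩ := exists_odd_normalizing H.hs (three_dvd_card_G H) Q hQ4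
    have h2 : (g * z * g⁻¹) * (g * z * g⁻¹) = 1 := by
      calc (g * z * g⁻¹) * (g * z * g⁻¹) = g * (z * z) * g⁻¹ := by group
        _ = 1 := by rw [hz2]; group
    have h1 : g * z * g⁻¹ ≠ 1 := by
      intro h
      apply hz1
      have : z = g⁻¹ * (g * z * g⁻¹) * g := by group
      rw [this, h]; group
    have hf := fusion (Q := (Q : Subgroup G)) hQ4 hn hc hr hhr htQ hzQ (t_mul_self ht htC) h2
      (t_ne_one ht htC) h1 (Ne.symm hzt)
    exact hf.trans hback

/-- an involution of the normalizer outside the centralizer -/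
theorem exists_s (H : Hyp P) : ∃ s : G, orderOf s = 2 ∧ s ∈ NN P ∧ s ∉ CC P := by
  classical
  have : Fact (Nat.Prime 2) := ⟨Nat.prime_two⟩
  obtain ⟨Q, htQ, hQ4⟩ := exists_sylow2 ht htC H
  have : Fintype (Q : Subgroup G) := Fintype.ofFinite _
  have hex : ∃ e : (Q : Subgroup G), e ∉ ({1, ⟨t, htQ⟩} : Finset (Q : Subgroup G)) := by
    by_contra hcon
    push Not at hcon
    have h1 : (Finset.univ : Finset (Q : Subgroup G)) ⊆ {1, ⟨t, htQ⟩} := fun e _ => hcon e
    have h2 := Finset.card_le_card h1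
    rw [Finset.card_univ, ← Nat.card_eq_fintype_card, hQ4] at h2
    have h3 : ({1, ⟨t, htQ⟩} : Finset (Q : Subgroup G)).card ≤ 2 := Finset.card_le_two
    omega
  obtain ⟨e, he⟩ := hex
  simp only [Finset.mem_insert, Finset.mem_singleton, not_or] at he
  obtain ⟨he1, het⟩ := he
  have hs1 : (e : G) ≠ 1 := fun h => he1 (Subtype.ext h)
  have hst : (e : G) ≠ t := fun h => het (Subtype.ext h)
  have hs2 : (e : G) * (e : G) = 1 :=
    sq_eq_one_of_mem_sylow H.hs (three_dvd_card_G H) Q hQ4 e.2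
  have hQcomm : IsMulCommutative (Q : Subgroup G) :=
    IsPGroup.isMulCommutative_of_card_eq_prime_sq (p := 2) (by rw [hQ4]; norm_num)
  have hcomm : (e : G) * t = t * (e : G) := by
    have := hQcomm.is_comm.comm e ⟨t, htQ⟩
    exact congrArg Subtype.val this
  refine ⟨(e : G), ?_, ?_, ?_⟩
  · exact orderOf_eq_prime (by rw [pow_two]; exact hs2) hs1
  · rw [← centralizer_t_eq ht htC H, Subgroup.mem_centralizer_singleton_iff]
    exact hcomm
  · intro hC
    exact hst (eq_t_of_sq ht htC H hC hs2 hs1)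

section withS

variable {s : G} (hs : orderOf s = 2) (hsN : s ∈ NN P) (hsC : s ∉ CC P)
include hs hsN hsC

theorem s_mul_self : s * s = 1 := by
  rw [← pow_two, ← hs, pow_orderOf_eq_one]

theorem s_inv : s⁻¹ = s := by
  rw [inv_eq_iff_mul_eq_one]; exact s_mul_self ht htC hs hsN hsC

/-- `s` has no nontrivial fixed point on `P` -/
theorem eq_one_of_fixed (H : Hyp P) {y : G} (hy : y ∈ P) (hys : s * y * s⁻¹ = y) : y = 1 := by
  obtain ⟨g, hg⟩ := isConj_iff.mp (isConj_t_of_invol ht htC H hs)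
  have hgN : g ∉ NN P := by
    intro hgN
    apply hsC
    have := t_central_N ht htC H hgN
    have e : s = t := by
      rw [← hg, this, mul_assoc, mul_inv_cancel, mul_one]
    rw [e]; exact htC
  have hsy : s * y = y * s := by
    calc s * y = (s * y * s⁻¹) * s := by group
      _ = y * s := by rw [hys]
  -- `x = g⁻¹ y g` commutes with `t`
  have hxt : g⁻¹ * y * g * t = t * (g⁻¹ * y * g) := by
    have e1 : g⁻¹ * y * g * t = g⁻¹ * (y * s) * g := by rw [← hg]; group
    have e2 : t * (g⁻¹ * y * g) = g⁻¹ * (s * y) * g := by rw [← hg]; group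
    rw [e1, e2, hsy]
  have hxN : g⁻¹ * y * g ∈ NN P := by
    rw [← centralizer_t_eq ht htC H, Subgroup.mem_centralizer_singleton_iff]
    exact hxt
  obtain ⟨k, hk⟩ := P.2 ⟨y, hy⟩
  have hk' : y ^ 3 ^ k = 1 := by simpa using congrArg Subtype.val hk
  have hxk : (g⁻¹ * y * g) ^ 3 ^ k = 1 := by
    have : g⁻¹ * y * g = g⁻¹ * y * g⁻¹⁻¹ := by rw [inv_inv]
    rw [this, conj_pow, hk']; group
  have hxP : g⁻¹ * y * g ∈ (P : Subgroup G) := mem_sylow_of_mem_normalizer P hxk hxN
  have hx1 : g⁻¹ * y * g = 1 := by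
    refine H.hTI g ?_ _ (P_le_C H hxP) ?_
    · intro hg'
      exact hgN (normalizer_C_le_N ht htC H hg')
    · have : g * (g⁻¹ * y * g) * g⁻¹ = y := by group
      rw [this]; exact P_le_C H hy
  have : y = g * (g⁻¹ * y * g) * g⁻¹ := by group
  rw [this, hx1]; group

/-- `s` inverts `P` -/
theorem s_inverts_P (H : Hyp P) {p : G} (hp : p ∈ P) : s * p * s⁻¹ = p⁻¹ := by
  have hsp : s * p * s⁻¹ ∈ P := conj_mem_P hsN hp
  have hq : p * (s * p * s⁻¹) ∈ P := (P : Subgroup G).mul_mem hp hsp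
  have hfix : s * (p * (s * p * s⁻¹)) * s⁻¹ = p * (s * p * s⁻¹) := by
    have hss := s_mul_self ht htC hs hsN hsC
    have hsi := s_inv ht htC hs hsN hsC
    calc s * (p * (s * p * s⁻¹)) * s⁻¹ = (s * p * s⁻¹) * ((s * s) * p * (s⁻¹ * s⁻¹)) := by group
      _ = (s * p * s⁻¹) * p := by rw [hsi, hss, one_mul, mul_one]
      _ = p * (s * p * s⁻¹) := P_comm H hsp hp
  have h1 := eq_one_of_fixed ht htC hs hsN hsC H hq hfix
  exact (eq_inv_of_mul_eq_one_right h1)

/-- `s` inverts `C` -/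
theorem s_inverts_C (H : Hyp P) {x : G} (hx : x ∈ CC P) : s * x * s⁻¹ = x⁻¹ := by
  rcases mem_P_or_mul_t ht htC H hx with h | h
  · exact s_inverts_P ht htC hs hsN hsC H h
  · obtain ⟨q, hq, rfl⟩ : ∃ q ∈ P, x = q * t :=
      ⟨x * t, h, by rw [mul_assoc, t_mul_self ht htC, mul_one]⟩
    have h1 := s_inverts_P ht htC hs hsN hsC H hq
    have h2 : s * t * s⁻¹ = t := by
      rw [t_central_N ht htC H hsN, mul_assoc, mul_inv_cancel, mul_one]
    have h3 : t * q = q * t := (htC q hq).symm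
    calc s * (q * t) * s⁻¹ = (s * q * s⁻¹) * (s * t * s⁻¹) := by group
      _ = q⁻¹ * t := by rw [h1, h2]
      _ = (q * t)⁻¹ := by
          rw [mul_inv_rev, t_inv ht htC]
          have : q⁻¹ * t = q⁻¹ * (t * q) * q⁻¹ := by group
          rw [this, h3]; group

theorem index_C_in_N (H : Hyp P) : ((CC P).subgroupOf (NN P)).index = 2 := by
  have h1 := ((CC P).subgroupOf (NN P)).card_mul_index
  have h2 : Nat.card ((CC P).subgroupOf (NN P)) = Nat.card (CC P) :=
    Nat.card_congr (Subgroup.subgroupOfEquivOfLe C_le_N).toEquiv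
  have h3 := H.hC
  have h4 := H.hN
  change Nat.card (CC P) = _ at h3
  change Nat.card (NN P) = _ at h4
  rw [h2, h3, h4] at h1
  have hpos : 0 < Nat.card P := Nat.card_pos
  have : 2 * Nat.card P * ((CC P).subgroupOf (NN P)).index = 2 * Nat.card P * 2 := by
    rw [h1]; ring
  exact Nat.eq_of_mul_eq_mul_left (by omega) this

theorem mul_s_mem_C (H : Hyp P) {n : G} (hn : n ∈ NN P) (hnC : n ∉ CC P) : n * s ∈ CC P := by
  have h := Subgroup.mul_mem_iff_of_index_two (index_C_in_N ht htC hs hsN hsC H)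
    (a := (⟨n, hn⟩ : NN P)) (b := ⟨s, hsN⟩)
  rw [Subgroup.mem_subgroupOf, Subgroup.mem_subgroupOf, Subgroup.mem_subgroupOf] at h
  have h' : n * s ∈ CC P ↔ (n ∈ CC P ↔ s ∈ CC P) := h
  apply h'.mpr
  constructor
  · intro h1; exact absurd h1 hnC
  · intro h1; exact absurd h1 hsC

/-- every element of `N` outside `C` is an involution inverting `C` -/
theorem outer_inverts (H : Hyp P) {n : G} (hn : n ∈ NN P) (hnC : n ∉ CC P) :
    n * n = 1 ∧ ∀ x ∈ CC P, n * x * n⁻¹ = x⁻¹ := by
  have hc := mul_s_mem_C ht htC hs hsN hsC H hn hnC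
  have hss := s_mul_self ht htC hs hsN hsC
  have hsi := s_inv ht htC hs hsN hsC
  obtain ⟨c, hcC, rfl⟩ : ∃ c ∈ CC P, n = c * s :=
    ⟨n * s, hc, by rw [mul_assoc, hss, mul_one]⟩
  constructor
  · have h1 := s_inverts_C ht htC hs hsN hsC H hcC
    calc c * s * (c * s) = c * (s * c * s⁻¹) * (s * s) := by group
      _ = 1 := by rw [h1, hss, mul_inv_cancel, one_mul]
  · intro x hx
    have h1 := s_inverts_C ht htC hs hsN hsC H hx
    have hxi : x⁻¹ ∈ CC P := (CC P).inv_mem hx
    calc c * s * x * (c * s)⁻¹ = c * (s * x * s⁻¹) * c⁻¹ := by group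
      _ = c * x⁻¹ * c⁻¹ := by rw [h1]
      _ = x⁻¹ * c * c⁻¹ := by rw [C_comm ht htC H hcC hxi]
      _ = x⁻¹ := by group

end withS

end withT


/-- the hypotheses together with the chosen involutions `t ∈ C`, `s ∈ N \ C` -/
structure Data (P : Sylow 3 G) (t s : G) : Prop where
  H : Hyp P
  ht : orderOf t = 2
  htC : t ∈ CC P
  hs : orderOf s = 2
  hsN : s ∈ NN P
  hsC : s ∉ CC P

theorem exists_data (H : Hyp P) : ∃ t s : G, Data P t s := by
  obtain ⟨t, ht, htC⟩ := exists_invol_C H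
  obtain ⟨s, hs, hsN, hsC⟩ := exists_s ht htC H
  exact ⟨t, s, ⟨H, ht, htC, hs, hsN, hsC⟩⟩

namespace Data

variable {t s : G} (D : Data P t s)
include D

theorem card_N : Nat.card (NN P) = 4 * Nat.card P := D.H.hN

theorem card_C : Nat.card (CC P) = 2 * Nat.card P := D.H.hC

theorem t_sq : t * t = 1 := t_mul_self D.ht D.htC

theorem t_ne : t ≠ 1 := t_ne_one D.ht D.htC

theorem s_sq : s * s = 1 := s_mul_self D.ht D.htC D.hs D.hsN D.hsC

theorem s_ne : s ≠ 1 := by
  intro h; have := D.hs; rw [h, orderOf_one] at this; omega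

theorem comm {c d : G} (hc : c ∈ CC P) (hd : d ∈ CC P) : c * d = d * c :=
  C_comm D.ht D.htC D.H hc hd

theorem eq_t {c : G} (hc : c ∈ CC P) (h2 : c * c = 1) (h1 : c ≠ 1) : c = t :=
  eq_t_of_sq D.ht D.htC D.H hc h2 h1

theorem normalizer_C : Subgroup.normalizer (CC P : Set G) = NN P :=
  normalizer_C_eq D.ht D.htC D.H

theorem t_central {n : G} (hn : n ∈ NN P) : n * t = t * n := t_central_N D.ht D.htC D.H hn

theorem mem_N {g x : G} (hx : x ∈ CC P) (hx1 : x ≠ 1) (hgx : g * x * g⁻¹ ∈ CC P) : g ∈ NN P :=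
  mem_N_of_conj_mem D.ht D.htC D.H hx hx1 hgx

theorem centralizer_t : Subgroup.centralizer ({t} : Set G) = NN P :=
  centralizer_t_eq D.ht D.htC D.H

theorem isConj_t {z : G} (hz : orderOf z = 2) : IsConj t z := isConj_t_of_invol D.ht D.htC D.H hz

theorem outer {n : G} (hn : n ∈ NN P) (hnC : n ∉ CC P) :
    n * n = 1 ∧ ∀ x ∈ CC P, n * x * n⁻¹ = x⁻¹ :=
  outer_inverts D.ht D.htC D.hs D.hsN D.hsC D.H hn hnC

theorem three_dvd : 3 ∣ Nat.card P := three_dvd_card_P D.H

end Data

end Cfsg.Agent.Lib.Helper25.Ab3
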