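import Mathlib
import Cfsg.Agent.Lib.Helper25.Ab3Struct
import Cfsg.Agent.Lib.Helper4.Conj

/-!
# Counting pairs of involutions: the order of the group in statement S4018

`|G : N| = w² - w + 1` with `w = 2|P|`.
-/

set_option autoImplicit false
set_option linter.unusedSectionVars false
set_option linter.unusedVariables false

namespace Cfsg.Agent.Lib.Helper25.Ab3

open Cfsg Classical

variable {G : Type*} [Group G] [Fintype G] {P : Sylow 3 G} {t s : G}

/-- the involutions of `G` -/
noncomputable def Inv (G : Type*) [Group G] [Fintype G] : Finset G :=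
  Finset.univ.filter (fun x => orderOf x = 2)

/-- pairs of involutions with product `x` -/
noncomputable def pairs (x : G) : Finset (G × G) :=
  ((Inv G) ×ˢ (Inv G)).filter (fun ab => ab.1 * ab.2 = x)

theorem mem_Inv {x : G} : x ∈ Inv G ↔ orderOf x = 2 := by simp [Inv]

theorem mem_pairs {x : G} {ab : G × G} :
    ab ∈ pairs x ↔ (orderOf ab.1 = 2 ∧ orderOf ab.2 = 2) ∧ ab.1 * ab.2 = x := by
  simp [pairs, mem_Inv]

theorem sum_card_pairs : ∑ x : G, (pairs x).card = (Inv G).card ^ 2 := by
  rw [pow_two, ← Finset.card_product]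
  exact (Finset.card_eq_sum_card_fiberwise (f := fun xy : G × G => xy.1 * xy.2)
    (s := (Inv G) ×ˢ (Inv G)) (t := Finset.univ) (fun _ _ => Finset.mem_univ _)).symm

theorem invol_sq {a : G} (ha : orderOf a = 2) : a * a = 1 := by
  rw [← pow_two, ← ha, pow_orderOf_eq_one]

theorem invol_ne {a : G} (ha : orderOf a = 2) : a ≠ 1 := by
  intro h; rw [h, orderOf_one] at ha; omega

theorem invol_inv {a : G} (ha : orderOf a = 2) : a⁻¹ = a := by
  rw [inv_eq_iff_mul_eq_one]; exact invol_sq ha

theorem invol_of {a : G} (h2 : a * a = 1) (h1 : a ≠ 1) : orderOf a = 2 :=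
  orderOf_eq_prime (by rw [pow_two]; exact h2) h1

theorem card_pairs_one : (pairs (1 : G)).card = (Inv G).card := by
  symm
  apply Finset.card_bij (fun a _ => (a, a))
  · intro a ha
    rw [mem_Inv] at ha
    rw [mem_pairs]
    exact ⟨⟨ha, ha⟩, invol_sq ha⟩
  · intro a _ b _ h
    exact (Prod.ext_iff.mp h).1
  · intro ab hab
    rw [mem_pairs] at hab
    refine ⟨ab.1, mem_Inv.mpr hab.1.1, ?_⟩
    have : ab.2 = ab.1 := by
      have h2 := inv_eq_of_mul_eq_one_right hab.2
      rw [← h2, invol_inv hab.1.1]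
    exact Prod.ext rfl this.symm

/-- a non-identity product of two involutions is conjugate into `C` -/
theorem exists_conj_mem_C (D : Data P t s) {x : G} (hx : x ≠ 1) {ab : G × G}
    (hab : ab ∈ pairs x) : ∃ g : G, g⁻¹ * x * g ∈ CC P := by
  rw [mem_pairs] at hab
  obtain ⟨⟨ha, hb⟩, hprod⟩ := hab
  set a := ab.1 with hadef
  set b := ab.2 with hbdef
  have hainv : a * x * a⁻¹ = x⁻¹ := by
    rw [← hprod, mul_inv_rev, invol_inv ha, invol_inv hb]
    calc a * (a * b) * a = (a * a) * b * a := by group
      _ = b * a := by rw [invol_sq ha, one_mul]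
  by_cases hev : 2 ∣ orderOf x
  · -- the involution in `⟨x⟩` is conjugate to `t`
    have ho : orderOf x ≠ 0 := (orderOf_pos x).ne'
    have hz : orderOf (x ^ (orderOf x / 2)) = 2 := orderOf_pow_orderOf_div ho hev
    obtain ⟨g, hg⟩ := isConj_iff.mp (D.isConj_t hz)
    refine ⟨g, ?_⟩
    have hxz : x * x ^ (orderOf x / 2) = x ^ (orderOf x / 2) * x :=
      ((Commute.refl x).pow_right _).eq
    have hyt : g⁻¹ * x * g * t = t * (g⁻¹ * x * g) := by
      have e1 : g⁻¹ * x * g * t = g⁻¹ * (x * (g * t * g⁻¹)) * g := by group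
      have e2 : t * (g⁻¹ * x * g) = g⁻¹ * ((g * t * g⁻¹) * x) * g := by group
      rw [e1, e2, hg, hxz]
    have hyN : g⁻¹ * x * g ∈ NN P := by
      rw [← D.centralizer_t, Subgroup.mem_centralizer_singleton_iff]
      exact hyt
    by_contra hyC
    have hy2 := (D.outer hyN hyC).1
    have hx2 : x * x = 1 := by
      have : x * x = g * ((g⁻¹ * x * g) * (g⁻¹ * x * g)) * g⁻¹ := by group
      rw [this, hy2]; group
    have hox : orderOf x = 2 := invol_of hx2 hx
    rw [hox] at hg
    norm_num at hg
    apply hyC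
    rw [← hg]
    have : g⁻¹ * (g * t * g⁻¹) * g = t := by group
    rw [this]
    exact D.htC
  · -- odd order: `x` is a `3`-element
    have : Finite G := Finite.of_fintype G
    have hodd : Nat.Coprime (orderOf x) 4 := by
      have : Nat.Coprime (orderOf x) 2 := by
        rw [Nat.coprime_comm, Nat.Prime.coprime_iff_not_dvd Nat.prime_two]
        exact hev
      exact Nat.Coprime.pow_right 2 this
    set D' : Subgroup G := Subgroup.normalizer (Subgroup.zpowers x : Set G) with hD'
    have hxD : x ∈ D' := Subgroup.le_normalizer (Subgroup.mem_zpowers x)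
    have haD : a ∈ D' := by
      have key : ∀ h ∈ Subgroup.zpowers x, a * h * a⁻¹ ∈ Subgroup.zpowers x := by
        intro h hh
        obtain ⟨k, rfl⟩ := Subgroup.mem_zpowers_iff.mp hh
        have : a * x ^ k * a⁻¹ = (a * x * a⁻¹) ^ k := by
          rw [conj_zpow]
        rw [this, hainv]
        exact Subgroup.zpow_mem _ (Subgroup.inv_mem _ (Subgroup.mem_zpowers x)) k
      rw [hD', Subgroup.mem_normalizer_iff]
      intro h
      constructor
      · exact key h
      · intro hh
        have := key _ hh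
        have e : a * (a * h * a⁻¹) * a⁻¹ = h := by
          rw [invol_inv ha]
          calc a * (a * h * a) * a = (a * a) * h * (a * a) := by group
            _ = h := by rw [invol_sq ha, one_mul, mul_one]
        rwa [e] at this
    have hDtop : D' ≠ ⊤ := by
      intro htop
      have hnorm : (Subgroup.zpowers x).Normal := Subgroup.normalizer_eq_top_iff.mp htop
      have hs := D.H.hs
      rcases hnorm.eq_bot_or_eq_top with hb | ht'
      · apply hx
        have := Subgroup.mem_zpowers x
        rw [hb, Subgroup.mem_bot] at this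
        exact this
      · have haz : a ∈ Subgroup.zpowers x := by rw [ht']; trivial
        obtain ⟨k, hk⟩ := Subgroup.mem_zpowers_iff.mp haz
        have hcomm : a * x = x * a := by
          rw [← hk]
          exact ((Commute.refl x).zpow_left k).eq
        have hxx : x = x⁻¹ := by
          rw [← hainv, hcomm, mul_assoc, mul_inv_cancel, mul_one]
        have hx2 : x * x = 1 := by
          have := mul_inv_cancel x
          rwa [← hxx] at this
        have hox : orderOf x ∣ 2 := orderOf_dvd_of_pow_eq_one (by rw [pow_two]; exact hx2)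
        exact hev (by rw [invol_of hx2 hx])
    have h2D : 2 ∣ Nat.card D' := by
      have := orderOf_dvd_natCard (⟨a, haD⟩ : D')
      rw [Subgroup.orderOf_mk, ha] at this
      exact this
    have hdvd := D.H.heven D' hDtop h2D
    have hox : orderOf x ∣ Nat.card D' := by
      have := orderOf_dvd_natCard (⟨x, hxD⟩ : D')
      rwa [Subgroup.orderOf_mk] at this
    have hoP : orderOf x ∣ Nat.card P := hodd.dvd_of_dvd_mul_left (hox.trans hdvd)
    obtain ⟨e, he⟩ := exists_card_P P
    rw [he] at hoP
    have hxe : x ^ 3 ^ e = 1 := orderOf_dvd_iff_pow_eq_one.mp hoP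
    have hpg := isPGroup_zpowers_of_pow (p := 3) hxe
    obtain ⟨g, hg⟩ := Cfsg.Agent.Lib.Helper4.exists_conj_mem_sylow P hpg
    refine ⟨g⁻¹, ?_⟩
    rw [inv_inv]
    exact P_le_C D.H (hg x (Subgroup.mem_zpowers x))

theorem card_filter_mem (K : Subgroup G) :
    (Finset.univ.filter (fun x : G => x ∈ K)).card = Nat.card K := by
  rw [Nat.card_eq_fintype_card, Fintype.card_subtype]

/-- the elements of `N` outside `C` -/
noncomputable def NC (P : Sylow 3 G) : Finset G :=
  Finset.univ.filter (fun n : G => n ∈ NN P ∧ n ∉ CC P)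

theorem mem_NC {n : G} : n ∈ NC P ↔ n ∈ NN P ∧ n ∉ CC P := by simp [NC]

theorem card_NC (D : Data P t s) : (NC P).card = 2 * Nat.card P := by
  have : Finite G := Finite.of_fintype G
  have h1 : NC P = (Finset.univ.filter (fun x : G => x ∈ NN P)) \
      (Finset.univ.filter (fun x : G => x ∈ CC P)) := by
    ext n
    simp [NC]
  have h2 : (Finset.univ.filter (fun x : G => x ∈ CC P)) ⊆
      (Finset.univ.filter (fun x : G => x ∈ NN P)) := by
    intro x hx
    simp only [Finset.mem_filter, Finset.mem_univ, true_and] at hx ⊢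
    exact C_le_N hx
  rw [h1, Finset.card_sdiff_of_subset h2, card_filter_mem, card_filter_mem, D.card_N, D.card_C]
  omega

/-- a non-identity element conjugate into `C` is a product of two involutions in exactly
`2|P|` ways -/
theorem card_pairs_conj (D : Data P t s) (g : G) {c : G} (hc : c ∈ CC P) (hc1 : c ≠ 1) :
    (pairs (g * c * g⁻¹)).card = 2 * Nat.card P := by
  have : Finite G := Finite.of_fintype G
  rw [← card_NC D]
  apply Finset.card_nbij' (fun ab => g⁻¹ * ab.1 * g) (fun n => (g * n * g⁻¹, g * (n * c) * g⁻¹))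
  · intro ab hab
    rw [Finset.mem_coe, mem_pairs] at hab
    obtain ⟨⟨ha, hb⟩, hprod⟩ := hab
    rw [Finset.mem_coe, mem_NC]
    obtain ⟨a', ha'⟩ : ∃ a' : G, a' = g⁻¹ * ab.1 * g := ⟨_, rfl⟩
    obtain ⟨b', hb'⟩ : ∃ b' : G, b' = g⁻¹ * ab.2 * g := ⟨_, rfl⟩
    show g⁻¹ * ab.1 * g ∈ NN P ∧ g⁻¹ * ab.1 * g ∉ CC P
    rw [← ha']
    have ha'2 : a' * a' = 1 := by
      calc a' * a' = g⁻¹ * (ab.1 * ab.1) * g := by rw [ha']; group
        _ = 1 := by rw [invol_sq ha]; group
    have hb'2 : b' * b' = 1 := by
      calc b' * b' = g⁻¹ * (ab.2 * ab.2) * g := by rw [hb']; group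
        _ = 1 := by rw [invol_sq hb]; group
    have hb'1 : b' ≠ 1 := by
      intro h
      apply invol_ne hb
      have : ab.2 = g * b' * g⁻¹ := by rw [hb']; group
      rw [this, h]; group
    have ha'1 : a' ≠ 1 := by
      intro h
      apply invol_ne ha
      have : ab.1 = g * a' * g⁻¹ := by rw [ha']; group
      rw [this, h]; group
    have hprod' : a' * b' = c := by
      calc a' * b' = g⁻¹ * (ab.1 * ab.2) * g := by rw [ha', hb']; group
        _ = c := by rw [hprod]; group
    have ha'inv : a'⁻¹ = a' := by rw [inv_eq_iff_mul_eq_one]; exact ha'2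
    have hb'inv : b'⁻¹ = b' := by rw [inv_eq_iff_mul_eq_one]; exact hb'2
    have hinv : a' * c * a'⁻¹ = c⁻¹ := by
      rw [← hprod', ha'inv, mul_inv_rev, ha'inv, hb'inv]
      calc a' * (a' * b') * a' = (a' * a') * b' * a' := by group
        _ = b' * a' := by rw [ha'2, one_mul]
    have hN : a' ∈ NN P := by
      apply D.mem_N hc hc1
      rw [hinv]
      exact (CC P).inv_mem hc
    refine ⟨hN, ?_⟩
    intro hC
    have hat : a' = t := D.eq_t hC ha'2 ha'1
    have hcc : c⁻¹ = c := by
      rw [← hinv, D.comm hC hc, mul_assoc, mul_inv_cancel, mul_one]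
    have hc2 : c * c = 1 := by
      have := mul_inv_cancel c
      rwa [hcc] at this
    have hct : c = t := D.eq_t hc hc2 hc1
    apply hb'1
    have : b' = a'⁻¹ * c := by rw [← hprod']; group
    rw [this, ha'inv, hat, hct, D.t_sq]
  · intro n hn
    rw [Finset.mem_coe, mem_NC] at hn
    obtain ⟨hnN, hnC⟩ := hn
    obtain ⟨hn2, hninv⟩ := D.outer hnN hnC
    have hn1 : n ≠ 1 := by
      intro h; apply hnC; rw [h]; exact (CC P).one_mem
    have hninv' : n⁻¹ = n := by rw [inv_eq_iff_mul_eq_one]; exact hn2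
    rw [Finset.mem_coe, mem_pairs]
    refine ⟨⟨?_, ?_⟩, ?_⟩
    · apply invol_of
      · calc g * n * g⁻¹ * (g * n * g⁻¹) = g * (n * n) * g⁻¹ := by group
          _ = 1 := by rw [hn2]; group
      · intro (h : g * n * g⁻¹ = 1)
        apply hn1
        have : n = g⁻¹ * (g * n * g⁻¹) * g := by group
        rw [this, h]; group
    · apply invol_of
      · have h1 : n * c * (n * c) = 1 := by
          have := hninv c hc
          rw [hninv'] at this
          calc n * c * (n * c) = (n * c * n) * c := by group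
            _ = 1 := by rw [this, inv_mul_cancel]
        calc g * (n * c) * g⁻¹ * (g * (n * c) * g⁻¹) = g * (n * c * (n * c)) * g⁻¹ := by group
          _ = 1 := by rw [h1]; group
      · intro (h : g * (n * c) * g⁻¹ = 1)
        have h2 : n * c = 1 := by
          have : n * c = g⁻¹ * (g * (n * c) * g⁻¹) * g := by group
          rw [this, h]; group
        apply hnC
        have : n = c⁻¹ := eq_inv_of_mul_eq_one_left h2
        rw [this]
        exact (CC P).inv_mem hc
    · calc g * n * g⁻¹ * (g * (n * c) * g⁻¹) = g * ((n * n) * c) * g⁻¹ := by group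
        _ = g * c * g⁻¹ := by rw [hn2, one_mul]
  · intro ab hab
    rw [Finset.mem_coe, mem_pairs] at hab
    obtain ⟨⟨ha, hb⟩, hprod⟩ := hab
    apply Prod.ext
    · show g * (g⁻¹ * ab.1 * g) * g⁻¹ = ab.1
      group
    · show g * (g⁻¹ * ab.1 * g * c) * g⁻¹ = ab.2
      calc g * (g⁻¹ * ab.1 * g * c) * g⁻¹ = ab.1 * (g * c * g⁻¹) := by group
        _ = ab.1 * (ab.1 * ab.2) := by rw [hprod]
        _ = (ab.1 * ab.1) * ab.2 := by group
        _ = ab.2 := by rw [invol_sq ha, one_mul]
  · intro n hn
    show g⁻¹ * (g * n * g⁻¹) * g = n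
    group

/-- the non-identity elements of `C` -/
noncomputable def Cs (P : Sylow 3 G) : Finset G :=
  Finset.univ.filter (fun c : G => c ∈ CC P ∧ c ≠ 1)

theorem mem_Cs {c : G} : c ∈ Cs P ↔ c ∈ CC P ∧ c ≠ 1 := by simp [Cs]

theorem card_Cs (D : Data P t s) : (Cs P).card = 2 * Nat.card P - 1 := by
  have : Finite G := Finite.of_fintype G
  have h1 : Cs P = (Finset.univ.filter (fun x : G => x ∈ CC P)).erase 1 := by
    ext c
    simp [Cs, and_comm]
  rw [h1, Finset.card_erase_of_mem, card_filter_mem, D.card_C]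
  simp only [Finset.mem_filter, Finset.mem_univ, true_and]
  exact (CC P).one_mem

/-- the non-identity elements conjugate into `C` -/
noncomputable def UU (P : Sylow 3 G) : Finset G :=
  Finset.univ.filter (fun x : G => x ≠ 1 ∧ ∃ g : G, g⁻¹ * x * g ∈ CC P)

theorem mem_UU {x : G} : x ∈ UU P ↔ x ≠ 1 ∧ ∃ g : G, g⁻¹ * x * g ∈ CC P := by simp [UU]

theorem card_UU (D : Data P t s) : (UU P).card = (NN P).index * (2 * Nat.card P - 1) := by
  have : Finite G := Finite.of_fintype G
  have : Fintype (G ⧸ NN P) := Fintype.ofFinite _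
  have hidx : (NN P).index = (Finset.univ : Finset (G ⧸ NN P)).card := by
    rw [Subgroup.index_eq_card, Nat.card_eq_fintype_card, Finset.card_univ]
  rw [hidx, ← card_Cs D, ← Finset.card_product]
  symm
  apply Finset.card_bij (fun qc _ => qc.1.out * qc.2 * qc.1.out⁻¹)
  · intro qc hqc
    rw [Finset.mem_product, mem_Cs] at hqc
    obtain ⟨-, hc, hc1⟩ := hqc
    rw [mem_UU]
    refine ⟨?_, qc.1.out, ?_⟩
    · intro h
      apply hc1
      have : qc.2 = qc.1.out⁻¹ * (qc.1.out * qc.2 * qc.1.out⁻¹) * qc.1.out := by group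
      rw [this, h]; group
    · have : qc.1.out⁻¹ * (qc.1.out * qc.2 * qc.1.out⁻¹) * qc.1.out = qc.2 := by group
      rw [this]; exact hc
  · intro qc hqc qc' hqc' heq
    rw [Finset.mem_product, mem_Cs] at hqc hqc'
    obtain ⟨-, hc, hc1⟩ := hqc
    obtain ⟨-, hc', hc1'⟩ := hqc'
    have hconj : (qc'.1.out⁻¹ * qc.1.out) * qc.2 * (qc'.1.out⁻¹ * qc.1.out)⁻¹ = qc'.2 := by
      calc (qc'.1.out⁻¹ * qc.1.out) * qc.2 * (qc'.1.out⁻¹ * qc.1.out)⁻¹
          = qc'.1.out⁻¹ * (qc.1.out * qc.2 * qc.1.out⁻¹) * qc'.1.out := by group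
        _ = qc'.1.out⁻¹ * (qc'.1.out * qc'.2 * qc'.1.out⁻¹) * qc'.1.out := by rw [heq]
        _ = qc'.2 := by group
    have hN : qc'.1.out⁻¹ * qc.1.out ∈ NN P := by
      apply D.mem_N hc hc1
      rw [hconj]; exact hc'
    have hq : qc.1 = qc'.1 := by
      have h1 : (QuotientGroup.mk qc'.1.out : G ⧸ NN P) = QuotientGroup.mk qc.1.out :=
        QuotientGroup.eq.mpr hN
      rw [QuotientGroup.out_eq', QuotientGroup.out_eq'] at h1
      exact h1.symm
    have hcc : qc.2 = qc'.2 := by
      rw [hq] at heq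
      have := mul_right_cancel heq
      exact mul_left_cancel this
    exact Prod.ext hq hcc
  · intro x hx
    rw [mem_UU] at hx
    obtain ⟨hx1, g, hg⟩ := hx
    obtain ⟨n, hn⟩ := QuotientGroup.mk_out_eq_mul (NN P) g
    refine ⟨((QuotientGroup.mk g : G ⧸ NN P), (n : G)⁻¹ * (g⁻¹ * x * g) * (n : G)), ?_, ?_⟩
    · rw [Finset.mem_product, mem_Cs]
      refine ⟨Finset.mem_univ _, ?_, ?_⟩
      · exact conj_mem_C' n.2 hg
      · intro (h : (n : G)⁻¹ * (g⁻¹ * x * g) * (n : G) = 1)
        apply hx1
        have : x = g * (n : G) * ((n : G)⁻¹ * (g⁻¹ * x * g) * (n : G)) * (n : G)⁻¹ * g⁻¹ := by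
          group
        rw [this, h]; group
    · show (QuotientGroup.mk g : G ⧸ NN P).out * ((n : G)⁻¹ * (g⁻¹ * x * g) * (n : G)) *
        (QuotientGroup.mk g : G ⧸ NN P).out⁻¹ = x
      rw [hn]
      group

theorem card_Inv (D : Data P t s) : (Inv G).card = (NN P).index := by
  have : Finite G := Finite.of_fintype G
  have h1 := Cfsg.Agent.Lib.Helper4.card_isConj_mul_card_centralizer t
  rw [D.centralizer_t] at h1
  have h2 := (NN P).index_mul_card
  have h3 : (Inv G).card = Nat.card {v : G // IsConj t v} := by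
    rw [Nat.card_eq_fintype_card, Fintype.card_subtype]
    congr 1
    ext v
    simp only [Inv, Finset.mem_filter, Finset.mem_univ, true_and]
    constructor
    · intro h; exact D.isConj_t h
    · intro h
      obtain ⟨c, hc⟩ := isConj_iff.mp h
      rw [← hc]
      have := MulEquiv.orderOf_eq (MulAut.conj c) t
      rw [MulAut.conj_apply] at this
      rw [this, D.ht]
  rw [h3]
  have hpos : 0 < Nat.card (NN P) := Nat.card_pos
  apply Nat.eq_of_mul_eq_mul_right hpos
  rw [h1, h2]

/-- the index of `N` is `w² - w + 1` with `w = 2|P|` -/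
theorem index_N (D : Data P t s) :
    (NN P).index = (2 * Nat.card P) ^ 2 - 2 * Nat.card P + 1 := by
  have : Finite G := Finite.of_fintype G
  have hsum := sum_card_pairs (G := G)
  have hterm : ∀ x : G, (pairs x).card =
      (if x = 1 then (Inv G).card else 0) + (if x ∈ UU P then 2 * Nat.card P else 0) := by
    intro x
    by_cases hx1 : x = 1
    · subst hx1
      rw [if_pos rfl, card_pairs_one, if_neg, add_zero]
      intro h
      exact (mem_UU.mp h).1 rfl
    · rw [if_neg hx1, zero_add]
      by_cases hxU : x ∈ UU P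
      · rw [if_pos hxU]
        obtain ⟨-, g, hg⟩ := mem_UU.mp hxU
        have hc1 : g⁻¹ * x * g ≠ 1 := by
          intro h
          apply hx1
          have : x = g * (g⁻¹ * x * g) * g⁻¹ := by group
          rw [this, h]; group
        have := card_pairs_conj D g hg hc1
        have e : g * (g⁻¹ * x * g) * g⁻¹ = x := by group
        rwa [e] at this
      · rw [if_neg hxU, Finset.card_eq_zero]
        by_contra hne
        obtain ⟨ab, hab⟩ := Finset.nonempty_iff_ne_empty.mpr hne
        apply hxU
        rw [mem_UU]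
        exact ⟨hx1, exists_conj_mem_C D hx1 hab⟩
  simp only [hterm] at hsum
  rw [Finset.sum_add_distrib, Finset.sum_ite_eq' Finset.univ (1 : G), if_pos (Finset.mem_univ _),
    ← Finset.sum_filter, Finset.sum_const, smul_eq_mul, Finset.filter_mem_eq_inter,
    Finset.univ_inter, card_UU D, card_Inv D] at hsum
  have hpos : 0 < (NN P).index := Nat.pos_of_ne_zero Subgroup.index_ne_zero_of_finite
  have hu : 0 < Nat.card P := Nat.card_pos
  set m := (NN P).index with hm
  set u := Nat.card P with hu'
  have h1 : m * (1 + (2 * u - 1) * (2 * u)) = m * m := by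
    rw [← hsum.trans (pow_two m)]; ring
  have h2 := Nat.eq_of_mul_eq_mul_left hpos h1
  rw [← h2]
  have h3 : (2 * u) ^ 2 = (2 * u - 1) * (2 * u) + 2 * u := by
    have : 2 * u = (2 * u - 1) + 1 := by omega
    nlinarith [this]
  omega

theorem card_G (D : Data P t s) :
    Nat.card G = ((2 * Nat.card P) ^ 2 - 2 * Nat.card P + 1) * (4 * Nat.card P) := by
  have : Finite G := Finite.of_fintype G
  rw [← index_N D, ← D.card_N, Subgroup.index_mul_card]

/-- the case `|P| = 3` does not occur: the group would have order `372` -/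
theorem card_P_ne_three (D : Data P t s) : Nat.card P ≠ 3 := by
  have : Finite G := Finite.of_fintype G
  intro h3
  have hG : Nat.card G = 372 := by
    rw [card_G D, h3]
    norm_num
  have : Fact (Nat.Prime 31) := ⟨by norm_num⟩
  have h1 := card_sylow_modEq_one 31 G
  obtain ⟨Q⟩ : Nonempty (Sylow 31 G) := inferInstance
  have h2 := Q.card_dvd_index
  have hQcard : Nat.card Q = 31 := by
    rw [Q.card_eq_multiplicity, hG]
    have : (372 : ℕ).factorization 31 = 1 := by
      have e : (372 : ℕ) = 31 ^ 1 * 12 := by norm_num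
      rw [e, Nat.factorization_mul (by norm_num) (by norm_num), Nat.Prime.factorization_pow
        (by norm_num)]
      simp only [Finsupp.coe_add, Pi.add_apply, Finsupp.single_eq_same]
      rw [Nat.factorization_eq_zero_of_not_dvd (by norm_num)]
    rw [this, pow_one]
  have hidx : (Q : Subgroup G).index = 12 := by
    have := (Q : Subgroup G).index_mul_card
    rw [hQcard, hG] at this
    omega
  rw [hidx] at h2
  have hle : Nat.card (Sylow 31 G) ≤ 12 := Nat.le_of_dvd (by norm_num) h2
  have hone : Nat.card (Sylow 31 G) = 1 := by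
    have h3 : Nat.card (Sylow 31 G) % 31 = 1 % 31 := h1
    have hpos : 0 < Nat.card (Sylow 31 G) := Nat.card_pos
    omega
  have hsub : Subsingleton (Sylow 31 G) := (Nat.card_eq_one_iff_unique.mp hone).1
  have hnorm : (Q : Subgroup G).Normal := Q.normal_of_subsingleton
  have hs := D.H.hs
  rcases hnorm.eq_bot_or_eq_top with hb | ht'
  · rw [hb, Subgroup.card_bot] at hQcard
    omega
  · rw [ht', Subgroup.card_top, hG] at hQcard
    omega

end Cfsg.Agent.Lib.Helper25.Ab3
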