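import Mathlib
import Cfsg.Agent.Lib.Helper25.Ab3Struct
import Cfsg.Agent.Lib.Helper25.Ab3CharN

/-!
# The characters of degree two of the normalizer `N` in statement S4018 (helper25)
-/

set_option autoImplicit false
set_option linter.unusedSectionVars false
set_option linter.unusedVariables false

namespace Cfsg.Agent.Lib.Helper25.Ab3

open Cfsg

universe u

variable {G : Type u} [Group G] [Finite G] {P : Sylow 3 G} {t s : G}

namespace Data

variable (D : Data P t s)
include D

theorem htN : t ∈ NN P := C_le_N D.htC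

/-- `s` inverts `C` -/
theorem s_inv_C {x : G} (hx : x ∈ CC P) : s * x * s⁻¹ = x⁻¹ := (D.outer D.hsN D.hsC).2 x hx

theorem s_inv' : s⁻¹ = s := by
  rw [inv_eq_iff_mul_eq_one]; exact D.s_sq

theorem t_inv' : t⁻¹ = t := by
  rw [inv_eq_iff_mul_eq_one]; exact D.t_sq

/-- elements of `C` commuting with `s` -/
theorem eq_of_comm_s_of_mem_C {c : G} (hc : c ∈ CC P) (hcs : c * s = s * c) : c = 1 ∨ c = t := by
  have h1 := D.s_inv_C hc
  have h2 : s * c * s⁻¹ = c := by rw [← hcs, mul_assoc, mul_inv_cancel, mul_one]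
  have h3 : c⁻¹ = c := by rw [← h1, h2]
  have h4 : c * c = 1 := by
    have := mul_inv_cancel c
    rwa [h3] at this
  by_cases h : c = 1
  · left; exact h
  · right; exact D.eq_t hc h4 h

theorem mul_s_mem {n : G} (hn : n ∈ NN P) (hnC : n ∉ CC P) : n * s ∈ CC P :=
  mul_s_mem_C D.ht D.htC D.hs D.hsN D.hsC D.H hn hnC

/-- the centralizer of `s` in `N` -/
theorem comm_s_iff {n : G} (hn : n ∈ NN P) :
    n * s = s * n ↔ n = 1 ∨ n = t ∨ n = s ∨ n = t * s := by
  constructor
  · intro h
    by_cases hnC : n ∈ CC P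
    · rcases D.eq_of_comm_s_of_mem_C hnC h with h1 | h1
      · left; exact h1
      · right; left; exact h1
    · have hc := D.mul_s_mem hn hnC
      have hcs : (n * s) * s = s * (n * s) := by rw [h, mul_assoc, ← h]
      have hn' : n = (n * s) * s := by rw [mul_assoc, D.s_sq, mul_one]
      rcases D.eq_of_comm_s_of_mem_C hc hcs with h1 | h1
      · right; right; left
        rw [hn', h1, one_mul]
      · right; right; right
        rw [hn', h1]
  · rintro (h | h | h | h)
    · rw [h, one_mul, mul_one]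
    · rw [h]; exact (D.t_central D.hsN).symm
    · rw [h]
    · rw [h, mul_assoc, ← mul_assoc s t s, D.t_central D.hsN, mul_assoc]

/-- conjugates of `s` under `N` have the form `d² s` with `d ∈ C` -/
theorem exists_conj_s {n : G} (hn : n ∈ NN P) : ∃ d ∈ CC P, n * s * n⁻¹ = d * d * s := by
  have key : ∀ c ∈ CC P, c * s * c⁻¹ = c * c * s := by
    intro c hc
    have h1 := D.s_inv_C ((CC P).inv_mem hc)
    rw [inv_inv] at h1
    calc c * s * c⁻¹ = c * (s * c⁻¹ * s⁻¹) * s := by group
      _ = c * c * s := by rw [h1]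
  by_cases hnC : n ∈ CC P
  · exact ⟨n, hnC, key n hnC⟩
  · have hc := D.mul_s_mem hn hnC
    refine ⟨n * s, hc, ?_⟩
    rw [← key (n * s) hc]
    have : (n * s)⁻¹ = s * n⁻¹ := by rw [mul_inv_rev, D.s_inv']
    rw [this]
    calc n * s * n⁻¹ = n * (s * s) * s * n⁻¹ := by rw [D.s_sq, mul_one]
      _ = n * s * s * (s * n⁻¹) := by group

/-- no element of `C` squares to `t` -/
theorem sq_ne_t {d : G} (hd : d ∈ CC P) : d * d ≠ t := by
  intro h
  have h1 : (⟨d, hd⟩ : CC P) ^ Nat.card (CC P) = 1 := pow_card_eq_one'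
  have h2 : d ^ (2 * Nat.card P) = 1 := by
    have := congrArg Subtype.val h1
    rw [D.card_C] at this
    simpa using this
  rw [pow_mul, pow_two, h] at h2
  obtain ⟨j, hj⟩ := odd_card_P P
  rw [hj, pow_succ, pow_mul, pow_two, D.t_sq, one_pow, one_mul] at h2
  exact D.t_ne h2

theorem conj_s_ne {n : G} (hn : n ∈ NN P) : n * s * n⁻¹ ≠ t * s := by
  intro h
  obtain ⟨d, hd, hds⟩ := D.exists_conj_s hn
  rw [hds] at h
  exact D.sq_ne_t hd (mul_right_cancel h)

end Data

section Local

variable (D : Data P t s)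
include D

theorem t_ne_s : t ≠ s := by
  intro h
  apply D.hsC
  rw [← h]; exact D.htC

theorem card_centralizer_rL :
    Nat.card (Subgroup.centralizer ({(⟨s, D.hsN⟩ : NN P)} : Set (NN P))) = 4 := by
  classical
  have : Fintype (NN P) := Fintype.ofFinite _
  obtain ⟨z, hz⟩ : ∃ z : NN P, z = ⟨t, D.htN⟩ := ⟨_, rfl⟩
  obtain ⟨r, hr⟩ : ∃ r : NN P, r = ⟨s, D.hsN⟩ := ⟨_, rfl⟩
  rw [← hr]
  have hzv : (z : G) = t := by rw [hz]
  have hrv : (r : G) = s := by rw [hr]
  have hmem : ∀ n : NN P, n ∈ Subgroup.centralizer ({r} : Set (NN P)) ↔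
      n = 1 ∨ n = z ∨ n = r ∨ n = z * r := by
    intro n
    rw [Subgroup.mem_centralizer_singleton_iff]
    have key := D.comm_s_iff n.2
    constructor
    · intro h
      have h' : (n : G) * s = s * n := by
        have := congrArg Subtype.val h
        simp only [Subgroup.coe_mul, hrv] at this
        exact this
      rcases key.mp h' with h1 | h1 | h1 | h1
      · left; exact Subtype.ext h1
      · right; left; exact Subtype.ext (by rw [h1, hzv])
      · right; right; left; exact Subtype.ext (by rw [h1, hrv])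
      · right; right; right; exact Subtype.ext (by rw [h1, Subgroup.coe_mul, hzv, hrv])
    · intro h
      apply Subtype.ext
      simp only [Subgroup.coe_mul, hrv]
      apply key.mpr
      rcases h with h1 | h1 | h1 | h1
      · left; rw [h1]; rfl
      · right; left; rw [h1, hzv]
      · right; right; left; rw [h1, hrv]
      · right; right; right; rw [h1, Subgroup.coe_mul, hzv, hrv]
  rw [Nat.card_eq_fintype_card, Fintype.card_subtype]
  have hfilter : Finset.univ.filter (fun n : NN P => n ∈ Subgroup.centralizer ({r} : Set (NN P))) =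
      {1, z, r, z * r} := by
    ext n
    simp only [Finset.mem_filter, Finset.mem_univ, true_and, Finset.mem_insert,
      Finset.mem_singleton]
    exact hmem n
  rw [hfilter]
  have hz1 : z ≠ 1 := by
    intro h
    apply D.t_ne
    rw [← hzv, h]; rfl
  have hr1 : r ≠ 1 := by
    intro h
    apply D.s_ne
    rw [← hrv, h]; rfl
  have hzr : z ≠ r := by
    intro h
    apply t_ne_s D
    rw [← hzv, ← hrv, h]
  have hzr1 : z * r ≠ 1 := by
    intro h
    apply t_ne_s D
    have h1 : t * s = 1 := by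
      have := congrArg Subtype.val h
      simpa [hzv, hrv] using this
    have := eq_inv_of_mul_eq_one_left h1
    rw [this, D.s_inv']
  rw [Finset.card_insert_of_notMem, Finset.card_insert_of_notMem, Finset.card_insert_of_notMem,
    Finset.card_singleton]
  · simp only [Finset.mem_singleton]
    intro h
    exact hz1 (mul_eq_right.mp h.symm)
  · simp only [Finset.mem_insert, Finset.mem_singleton, not_or]
    refine ⟨hzr, ?_⟩
    intro h
    exact hr1 (mul_eq_left.mp h.symm)
  · simp only [Finset.mem_insert, Finset.mem_singleton, not_or]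
    exact ⟨fun h => hz1 h.symm, fun h => hr1 h.symm, fun h => hzr1 h.symm⟩

theorem not_isConj_rL :
    ¬ IsConj (⟨s, D.hsN⟩ : NN P) ((⟨t, D.htN⟩ : NN P) * ⟨s, D.hsN⟩) := by
  intro h
  obtain ⟨n, hn⟩ := isConj_iff.mp h
  have := congrArg Subtype.val hn
  simp only [Subgroup.coe_mul, Subgroup.coe_inv] at this
  exact D.conj_s_ne n.2 this

theorem KK_normal : ((CC P).subgroupOf (NN P)).Normal := by
  constructor
  intro c hc n
  rw [Subgroup.mem_subgroupOf] at hc ⊢
  simp only [Subgroup.coe_mul, Subgroup.coe_inv]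
  exact conj_mem_C n.2 hc

theorem KK_index : ((CC P).subgroupOf (NN P)).index = 2 :=
  index_C_in_N D.ht D.htC D.hs D.hsN D.hsC D.H

/-- the facts on the irreducible characters of degree two of `N` -/
theorem local_facts [Fintype (NN P)] :
    (degTwo (NN P)).card + 1 = Nat.card P ∧
    ∑ χ ∈ degTwo (NN P), χ ⟨t, D.htN⟩ = 0 ∧
    (∀ χ ∈ degTwo (NN P), χ ⟨t, D.htN⟩ = 2 ∨ χ ⟨t, D.htN⟩ = -2) ∧
    (∀ χ ∈ degTwo (NN P), ∀ x : NN P, (x : G) ∉ CC P → χ x = 0) := by
  have hnorm : ((CC P).subgroupOf (NN P)).Normal := KK_normal D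
  have hKab : ∀ a ∈ (CC P).subgroupOf (NN P), ∀ b ∈ (CC P).subgroupOf (NN P), a * b = b * a := by
    intro a ha b hb
    rw [Subgroup.mem_subgroupOf] at ha hb
    exact Subtype.ext (D.comm ha hb)
  have hz : orderOf (⟨t, D.htN⟩ : NN P) = 2 := by rw [Subgroup.orderOf_mk]; exact D.ht
  have hzc : ∀ x : NN P, x * ⟨t, D.htN⟩ = ⟨t, D.htN⟩ * x :=
    fun x => Subtype.ext (D.t_central x.2)
  have hr : (⟨s, D.hsN⟩ : NN P) ∉ (CC P).subgroupOf (NN P) := by
    rw [Subgroup.mem_subgroupOf]; exact D.hsC
  obtain ⟨h1, h2⟩ := degTwo_facts ((CC P).subgroupOf (NN P)) (KK_index D) hKab hz hzc hr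
    (card_centralizer_rL D) (not_isConj_rL D)
  refine ⟨?_, h2, ?_, ?_⟩
  · rw [D.card_N] at h1
    omega
  · intro χ hχ
    obtain ⟨hirr, hdeg⟩ := mem_degTwo.mp hχ
    exact central_invol_value hirr hz hzc hdeg
  · intro χ hχ x hx
    obtain ⟨hirr, hdeg⟩ := mem_degTwo.mp hχ
    apply vanish_off_of_degree_two ((CC P).subgroupOf (NN P)) (KK_index D) hKab hirr hdeg
    rw [Subgroup.mem_subgroupOf]; exact hx

end Local

end Cfsg.Agent.Lib.Helper25.Ab3
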