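import Mathlib
import Cfsg.Agent.Lib.Helper25.Ab3Local
import Cfsg.Agent.Lib.Helper25.FeitBase
import Cfsg.Agent.Lib.Helper74.SibleySetup

/-!
# The exceptional characters in statement S4018 (helper25)
-/

set_option autoImplicit false
set_option linter.unusedSectionVars false
set_option linter.unusedVariables false

namespace Cfsg.Agent.Lib.Helper25.Ab3

open Cfsg Cfsg.Agent.Lib.Helper26 Cfsg.Agent.Lib.Helper78
open scoped ComplexConjugate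

universe u

variable {G : Type u} [Group G] [Fintype G] {P : Sylow 3 G} {t s : G}

/-- the exceptional characters attached to the irreducible characters of degree two of `N` -/
theorem exists_exc_family (D : Data P t s) [Fintype (NN P)] (h2 : 1 < (degTwo (NN P)).card) :
    ∃ (irr : ((NN P) → ℂ) → (G → ℂ)) (ε : ℤ), (ε = 1 ∨ ε = -1) ∧
      (∀ χ ∈ degTwo (NN P), IsIrrCharacter G (irr χ)) ∧
      (∀ χ ∈ degTwo (NN P), ∀ χ' ∈ degTwo (NN P), irr χ = irr χ' → χ = χ') ∧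
      (∀ χ ∈ degTwo (NN P), ∀ χ' ∈ degTwo (NN P), irr χ 1 = irr χ' 1) ∧
      (∀ χ ∈ degTwo (NN P), ∀ χ' ∈ degTwo (NN P),
        (ε : ℂ) * (irr χ t - irr χ' t) = χ ⟨t, D.htN⟩ - χ' ⟨t, D.htN⟩) := by
  classical
  obtain ⟨hcard, hsum, hval, hvan⟩ := local_facts D
  have hirr : ∀ χ ∈ degTwo (NN P), IsIrrCharacter (NN P) χ := fun χ h => (mem_degTwo.mp h).1
  have hdeg : ∀ χ ∈ degTwo (NN P), χ 1 = 2 := fun χ h => (mem_degTwo.mp h).2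
  have F := irrFacts (NN P)
  have F' := irrFacts G
  obtain ⟨hτ, hτ1⟩ := Cfsg.Agent.Lib.Helper74.indFun_isometry_of_TI (CC P) (NN P) C_le_N D.H.hTI
    D.normalizer_C (↑(degTwo (NN P)) : Set ((NN P) → ℂ))
    (fun χ h => IsIrrCharacter.isCharacter (hirr χ (Finset.mem_coe.1 h)))
    (fun χ h x hx => hvan χ (Finset.mem_coe.1 h) x hx)
  obtain ⟨χ₁, h1, χ₂, h2', h12⟩ := Finset.one_lt_card.mp h2
  have hcoh := Cfsg.Agent.Lib.Helper25.FeitBase.coherent_of_equal_degree (degTwo (NN P)) hirr 2 hdeg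
    χ₁ χ₂ h1 h2' h12.symm _ hτ hτ1
  obtain ⟨-, τ₁, hτ₁, hag⟩ := hcoh
  have hSirr : ∀ χ ∈ (↑(degTwo (NN P)) : Set ((NN P) → ℂ)), IsIrrCharacter (NN P) χ :=
    fun χ h => hirr χ (Finset.mem_coe.1 h)
  have hex : ∀ χ ∈ degTwo (NN P), ∃ μ : G → ℂ, IsIrrCharacter G μ ∧ (τ₁ χ = μ ∨ τ₁ χ = -μ) :=
    fun χ hχ => isom_irr_or_neg F F' hSirr hτ₁ (Finset.mem_coe.2 hχ)
  choose! irr hirrμ hsign using hex
  have hmemz : ∀ χ ∈ degTwo (NN P), χ ∈ zspan (↑(degTwo (NN P)) : Set ((NN P) → ℂ)) :=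
    fun χ hχ => subset_zspan _ (Finset.mem_coe.2 hχ)
  -- differences
  have hdiffmem : ∀ χ ∈ degTwo (NN P), ∀ χ' ∈ degTwo (NN P),
      χ - χ' ∈ zspanOn (↑(degTwo (NN P)) : Set ((NN P) → ℂ)) {1}ᶜ := by
    intro χ hχ χ' hχ'
    rw [mem_zspanOn_compl_one]
    refine ⟨zspan_sub (hmemz χ hχ) (hmemz χ' hχ'), ?_⟩
    rw [Pi.sub_apply, hdeg χ hχ, hdeg χ' hχ', sub_self]
  have hdiff : ∀ χ ∈ degTwo (NN P), ∀ χ' ∈ degTwo (NN P),
      τ₁ χ - τ₁ χ' = indFun (NN P) (χ - χ') := by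
    intro χ hχ χ' hχ'
    rw [← isom_sub (isZClosed_zspan _) hτ₁ (hmemz χ hχ) (hmemz χ' hχ')]
    exact hag _ (hdiffmem χ hχ χ' hχ')
  have hone : ∀ χ ∈ degTwo (NN P), ∀ χ' ∈ degTwo (NN P), τ₁ χ 1 = τ₁ χ' 1 := by
    intro χ hχ χ' hχ'
    have h3 := congrFun (hdiff χ hχ χ' hχ') 1
    rw [hτ1 _ (hdiffmem χ hχ χ' hχ'), Pi.sub_apply] at h3
    exact sub_eq_zero.mp h3
  have htval : ∀ χ ∈ degTwo (NN P), ∀ χ' ∈ degTwo (NN P),
      τ₁ χ t - τ₁ χ' t = χ ⟨t, D.htN⟩ - χ' ⟨t, D.htN⟩ := by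
    intro χ hχ χ' hχ'
    have h3 := congrFun (hdiff χ hχ χ' hχ') t
    have hcf : IsClassFunction (NN P) (χ - χ') :=
      isClassFunction_sub (IsCharacter.isClassFunction (IsIrrCharacter.isCharacter (hirr χ hχ)))
        (IsCharacter.isClassFunction (IsIrrCharacter.isCharacter (hirr χ' hχ')))
    have hsupp : ∀ x : NN P, (x : G) ∉ CC P → (χ - χ') x = 0 := by
      intro x hx
      rw [Pi.sub_apply, hvan χ hχ x hx, hvan χ' hχ' x hx, sub_self]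
    have h10 : (χ - χ') 1 = 0 := by
      rw [Pi.sub_apply, hdeg χ hχ, hdeg χ' hχ', sub_self]
    have h4 := Cfsg.Agent.Lib.Helper74.indFun_apply_of_TI (CC P) (NN P) D.H.hTI D.normalizer_C
      hcf hsupp h10 ⟨t, D.htN⟩ D.htC
    rw [Pi.sub_apply] at h3
    rw [h3]
    exact h4
  have hdegpos : ∀ χ ∈ degTwo (NN P), ∃ n : ℕ, 0 < n ∧ irr χ 1 = n :=
    fun χ hχ => F'.deg_pos (irr χ) (hirrμ χ hχ)
  have hnotmix : ∀ χ ∈ degTwo (NN P), ∀ χ' ∈ degTwo (NN P),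
      τ₁ χ = irr χ → τ₁ χ' = -irr χ' → False := by
    intro χ hχ χ' hχ' e1 e2
    obtain ⟨n, hn, hn1⟩ := hdegpos χ hχ
    obtain ⟨m, hm, hm1⟩ := hdegpos χ' hχ'
    have h3 := hone χ hχ χ' hχ'
    rw [e1, e2, Pi.neg_apply, hn1, hm1] at h3
    have h4 : ((n : ℤ) : ℂ) = ((-(m : ℤ) : ℤ) : ℂ) := by push_cast; exact h3
    have h5 : (n : ℤ) = -(m : ℤ) := by exact_mod_cast h4
    omega
  have hglobal : ∃ ε : ℤ, (ε = 1 ∨ ε = -1) ∧ ∀ χ ∈ degTwo (NN P), ∀ g : G,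
      τ₁ χ g = (ε : ℂ) * irr χ g := by
    rcases hsign χ₁ h1 with e1 | e1
    · refine ⟨1, Or.inl rfl, ?_⟩
      intro χ hχ g
      rcases hsign χ hχ with e2 | e2
      · rw [e2]; push_cast; ring
      · exact (hnotmix χ₁ h1 χ hχ e1 e2).elim
    · refine ⟨-1, Or.inr rfl, ?_⟩
      intro χ hχ g
      rcases hsign χ hχ with e2 | e2
      · exact (hnotmix χ hχ χ₁ h1 e2 e1).elim
      · rw [e2, Pi.neg_apply]; push_cast; ring
  obtain ⟨ε, hε, hτε⟩ := hglobal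
  have hε0 : (ε : ℂ) ≠ 0 := by
    rcases hε with h | h <;> rw [h] <;> norm_num
  refine ⟨irr, ε, hε, hirrμ, ?_, ?_, ?_⟩
  · intro χ hχ χ' hχ' heq
    apply isom_injOn F hSirr hτ₁ χ (Finset.mem_coe.2 hχ) χ' (Finset.mem_coe.2 hχ')
    funext g
    rw [hτε χ hχ g, hτε χ' hχ' g, heq]
  · intro χ hχ χ' hχ'
    have h3 := hone χ hχ χ' hχ'
    rw [hτε χ hχ 1, hτε χ' hχ' 1] at h3
    exact mul_left_cancel₀ hε0 h3
  · intro χ hχ χ' hχ'
    rw [← htval χ hχ χ' hχ', hτε χ hχ t, hτε χ' hχ' t]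
    ring

end Cfsg.Agent.Lib.Helper25.Ab3
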