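import Mathlib
import Cfsg.Agent.Lib.Helper25.Ab3Count
import Cfsg.Agent.Lib.Helper25.Ab3Exc
import Cfsg.Agent.Lib.Helper25.Ab3Arith
import Cfsg.Agent.S0840

/-!
# Statement S4018: the final contradiction (helper25)
-/

set_option autoImplicit false
set_option linter.unusedSectionVars false
set_option linter.unusedVariables false

namespace Cfsg.Agent.Lib.Helper25.Ab3

open Cfsg Cfsg.Agent.Lib.Helper26 Cfsg.Agent.Lib.Helper78
open scoped ComplexConjugate

universe u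

variable {G : Type u} [Group G] [Fintype G] {P : Sylow 3 G} {t s : G}

theorem isConj_t_iff (D : Data P t s) (x : G) : IsConj t x ↔ orderOf x = 2 := by
  constructor
  · intro h
    obtain ⟨c, hc⟩ := isConj_iff.mp h
    rw [← hc]
    have := MulEquiv.orderOf_eq (MulAut.conj c) t
    rw [MulAut.conj_apply] at this
    rw [this, D.ht]
  · intro h; exact D.isConj_t h

theorem card_isConj_t (D : Data P t s) : Nat.card {v : G // IsConj t v} = (NN P).index := by
  have h1 := Cfsg.Agent.Lib.Helper4.card_isConj_mul_card_centralizer t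
  rw [D.centralizer_t] at h1
  have h2 := (NN P).index_mul_card
  have hpos : 0 < Nat.card (NN P) := Nat.card_pos
  apply Nat.eq_of_mul_eq_mul_right hpos
  rw [h1, h2]

theorem card_pairs_subtype (D : Data P t s) :
    Nat.card {p : G × G // IsConj t p.1 ∧ IsConj t p.2 ∧ p.1 * p.2 = t} = 2 * Nat.card P := by
  classical
  have h1 := card_pairs_conj D 1 D.htC D.t_ne
  rw [one_mul, inv_one, mul_one] at h1
  rw [← h1, Nat.card_eq_fintype_card, Fintype.card_subtype]
  congr 1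
  ext p
  simp only [Finset.mem_filter, Finset.mem_univ, true_and, mem_pairs, isConj_t_iff D]
  tauto

/-- the group has no non-principal linear character -/
theorem linear_trivial (D : Data P t s) {ψ : G → ℂ} (hψ : IsCharacter G ψ) (h1 : ψ 1 = 1) :
    ψ = fun _ => 1 := by
  obtain ⟨φ, hφ⟩ := Cfsg.Agent.Lib.Helper77.exists_monoidHom_of_degree_one hψ h1
  have hs := D.H.hs
  rcases (inferInstance : φ.ker.Normal).eq_bot_or_eq_top with hb | ht'
  · exfalso
    apply D.hsC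
    have hinj : Function.Injective φ := (MonoidHom.ker_eq_bot_iff φ).mp hb
    intro y _
    apply hinj
    rw [map_mul, map_mul, mul_comm]
  · funext g
    have : g ∈ φ.ker := by rw [ht']; trivial
    rw [hφ g, MonoidHom.mem_ker.mp this, Units.val_one]

/-- the hypotheses of statement S4018 are contradictory for a simple group -/
theorem main_false (D : Data P t s) : False := by
  classical
  have : Fintype (NN P) := Fintype.ofFinite _
  have hu3 := D.three_dvd
  have hune3 := card_P_ne_three D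
  have hu : 5 ≤ Nat.card P := by
    obtain ⟨k, hk⟩ := hu3
    have : 0 < Nat.card P := Nat.card_pos
    omega
  obtain ⟨u, hudef⟩ : ∃ u : ℕ, u = Nat.card P := ⟨_, rfl⟩
  rw [← hudef] at hu hune3
  obtain ⟨hcard, hsum, hval, hvan⟩ := local_facts D
  rw [← hudef] at hcard
  have h2 : 1 < (degTwo (NN P)).card := by omega
  obtain ⟨irr, ε, hε, hirr, hinj, hdeg, htv⟩ := exists_exc_family D h2
  -- values of the irreducible characters of `G` at `t` and `1`
  choose y hy using fun χ : IrrCharacter G =>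
    Cfsg.Agent.Lib.Helper74.exists_int_apply_of_orderOf_two (IsIrrCharacter.isCharacter χ.2) t D.ht
  obtain ⟨f, hfdef⟩ : ∃ f : IrrCharacter G → ℕ, f = fun χ : IrrCharacter G => charDegree (χ : G → ℂ) :=
    ⟨_, rfl⟩
  have hf : ∀ χ : IrrCharacter G, (χ : G → ℂ) 1 = (f χ : ℂ) := fun χ => by
    rw [hfdef]; exact IsCharacter.apply_one_eq_charDegree (IsIrrCharacter.isCharacter χ.2)
  have hfpos : ∀ χ : IrrCharacter G, 0 < f χ := fun χ => by
    rw [hfdef]; exact IsIrrCharacter.charDegree_pos χ.2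
  obtain ⟨τ₀, hτ₀⟩ : ∃ τ₀ : IrrCharacter G, (τ₀ : G → ℂ) = fun _ => 1 :=
    ⟨⟨fun _ => 1, isIrrCharacter_one⟩, rfl⟩
  have hyτ : y τ₀ = 1 := by
    have h1 : (τ₀ : G → ℂ) t = 1 := by rw [hτ₀]
    rw [hy] at h1
    exact_mod_cast h1
  have hfτ : f τ₀ = 1 := by
    have h1 : (τ₀ : G → ℂ) 1 = 1 := by rw [hτ₀]
    rw [hf] at h1
    exact_mod_cast h1
  have hf2 : ∀ χ : IrrCharacter G, χ ≠ τ₀ → 2 ≤ f χ := by
    intro χ hne
    by_contra hlt
    have h1 : f χ = 1 := by have := hfpos χ; omega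
    apply hne
    apply Subtype.ext
    rw [hτ₀]
    exact linear_trivial D (IsIrrCharacter.isCharacter χ.2) (by rw [hf χ, h1]; simp)
  -- orthogonality relations
  have hO1 : ∑ χ : IrrCharacter G, y χ * y χ = 4 * (u : ℤ) := by
    have h := second_orthogonality_of_isConj (IsConj.refl t)
    rw [D.centralizer_t, D.card_N, ← hudef] at h
    simp only [hy, map_intCast] at h
    have : ((∑ χ : IrrCharacter G, y χ * y χ : ℤ) : ℂ) = ((4 * (u : ℤ) : ℤ) : ℂ) := by
      push_cast; push_cast at h; exact h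
    exact_mod_cast this
  have hO2 : ∑ χ : IrrCharacter G, y χ * (f χ : ℤ) = 0 := by
    have hnc : ¬ IsConj t 1 := by
      intro h
      exact D.t_ne (isConj_one_left.mp h)
    have h := second_orthogonality_of_not_isConj hnc
    simp only [hy, hf, map_natCast] at h
    have : ((∑ χ : IrrCharacter G, y χ * (f χ : ℤ) : ℤ) : ℂ) = ((0 : ℤ) : ℂ) := by
      push_cast; exact h
    exact_mod_cast this
  -- the order of the group
  obtain ⟨m, hmdef⟩ : ∃ m : ℕ, m = (NN P).index := ⟨_, rfl⟩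
  have hm : m + 2 * u = (2 * u) ^ 2 + 1 := by
    have h1 := index_N D
    rw [← hmdef, ← hudef] at h1
    have h3 : 2 * u ≤ (2 * u) ^ 2 := Nat.le_self_pow (by norm_num) _
    omega
  have hGcard : Nat.card G = m * (4 * u) := by
    rw [hmdef, hudef, ← D.card_N, Subgroup.index_mul_card]
  have hmpos : 0 < m := by
    rw [hmdef]; exact Nat.pos_of_ne_zero Subgroup.index_ne_zero_of_finite
  have hO5 : ∑ χ : IrrCharacter G, ((y χ * y χ * y χ : ℤ) : ℚ) / (f χ : ℚ) =
      8 * (u : ℚ) ^ 2 / (m : ℚ) := by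
    have h := Cfsg.Agent.S0840.result t t t
    rw [finsum_eq_sum_of_fintype, card_pairs_subtype D, card_isConj_t D, ← hmdef, ← hudef,
      hGcard] at h
    have hsum' : ∑ χ : IrrCharacter G, (χ : G → ℂ) t * (χ : G → ℂ) t * conj ((χ : G → ℂ) t) /
        (χ : G → ℂ) 1 =
        ((∑ χ : IrrCharacter G, ((y χ * y χ * y χ : ℤ) : ℚ) / (f χ : ℚ) : ℚ) : ℂ) := by
      rw [Rat.cast_sum]
      apply Finset.sum_congr rfl
      intro χ _
      rw [hy, hf, map_intCast]
      push_cast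
      ring
    rw [hsum'] at h
    obtain ⟨S, hS⟩ : ∃ S : ℚ, S = ∑ χ : IrrCharacter G, ((y χ * y χ * y χ : ℤ) : ℚ) / (f χ : ℚ) :=
      ⟨_, rfl⟩
    rw [← hS] at h ⊢
    have hmC : (m : ℂ) ≠ 0 := by exact_mod_cast hmpos.ne'
    have huC : (u : ℂ) ≠ 0 := by
      have : u ≠ 0 := by omega
      exact_mod_cast this
    have h3 : ((S : ℚ) : ℂ) = ((8 * (u : ℚ) ^ 2 / (m : ℚ) : ℚ) : ℂ) := by
      push_cast
      push_cast at h
      field_simp at h ⊢
      linear_combination (-1 : ℂ) * h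
    exact_mod_cast h3
  -- the exceptional family
  obtain ⟨z, hz⟩ : ∃ z : NN P, z = ⟨t, D.htN⟩ := ⟨_, rfl⟩
  rw [← hz] at hsum hval htv
  obtain ⟨e, he⟩ : ∃ e : ((NN P) → ℂ) → IrrCharacter G,
      ∀ χ ∈ degTwo (NN P), (e χ : G → ℂ) = irr χ := by
    refine ⟨fun χ => if h : χ ∈ degTwo (NN P) then ⟨irr χ, hirr χ h⟩ else τ₀, ?_⟩
    intro χ hχ
    simp only [dif_pos hχ]
  obtain ⟨c₀, hc₀⟩ : ∃ c₀ : ((NN P) → ℂ) → ℤ, c₀ = fun χ => if χ z = 2 then 2 else -2 := ⟨_, rfl⟩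
  have hc₀val : ∀ χ ∈ degTwo (NN P), ((c₀ χ : ℤ) : ℂ) = χ z := by
    intro χ hχ
    rw [hc₀]
    rcases hval χ hχ with h | h
    · simp only [h, if_true]; norm_num
    · have : ¬ ((-2 : ℂ) = 2) := by norm_num
      simp only [h, if_neg this]; norm_num
  have hc₀pm : ∀ χ ∈ degTwo (NN P), c₀ χ = 2 ∨ c₀ χ = -2 := by
    intro χ _
    rw [hc₀]
    by_cases h : χ z = 2
    · left; simp only [if_pos h]
    · right; simp only [if_neg h]
  have hcsum : ∑ χ ∈ degTwo (NN P), c₀ χ = 0 := by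
    have : ((∑ χ ∈ degTwo (NN P), c₀ χ : ℤ) : ℂ) = ((0 : ℤ) : ℂ) := by
      push_cast
      rw [Finset.sum_congr rfl hc₀val]
      exact hsum
    exact_mod_cast this
  have hyirr : ∀ χ ∈ degTwo (NN P), irr χ t = ((y (e χ) : ℤ) : ℂ) := by
    intro χ hχ
    rw [← he χ hχ]; exact hy (e χ)
  have hε2 : ε * ε = 1 := by rcases hε with h | h <;> rw [h] <;> norm_num
  obtain ⟨χ₁, hχ₁⟩ : ∃ χ₁, χ₁ ∈ degTwo (NN P) := Finset.card_pos.mp (by omega)
  have hrel : ∀ χ ∈ degTwo (NN P), y (e χ) = (y (e χ₁) - ε * c₀ χ₁) + ε * c₀ χ := by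
    intro χ hχ
    have h3 := htv χ hχ χ₁ hχ₁
    rw [hyirr χ hχ, hyirr χ₁ hχ₁, ← hc₀val χ hχ, ← hc₀val χ₁ hχ₁] at h3
    have h4 : ε * (y (e χ) - y (e χ₁)) = c₀ χ - c₀ χ₁ := by exact_mod_cast h3
    have h5 : y (e χ) - y (e χ₁) = ε * (c₀ χ - c₀ χ₁) := by
      calc y (e χ) - y (e χ₁) = (ε * ε) * (y (e χ) - y (e χ₁)) := by rw [hε2, one_mul]
        _ = ε * (ε * (y (e χ) - y (e χ₁))) := by ring
        _ = ε * (c₀ χ - c₀ χ₁) := by rw [h4]
    linarith
  have hℓ : ∀ χ ∈ degTwo (NN P), f (e χ) = f (e χ₁) := by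
    intro χ hχ
    have h3 := hdeg χ hχ χ₁ hχ₁
    rw [← he χ hχ, ← he χ₁ hχ₁, hf, hf] at h3
    exact_mod_cast h3
  have heinj : ∀ χ ∈ degTwo (NN P), ∀ χ' ∈ degTwo (NN P), e χ = e χ' → χ = χ' := by
    intro χ hχ χ' hχ' heq
    apply hinj χ hχ χ' hχ'
    rw [← he χ hχ, ← he χ' hχ', heq]
  have hτT : ∀ χ ∈ degTwo (NN P), e χ ≠ τ₀ := by
    intro χ hχ heq
    obtain ⟨χ', hχ', hne⟩ := Finset.exists_mem_ne h2 χ
    apply hne
    apply heinj χ' hχ' χ hχ
    rw [heq]
    apply Subtype.ext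
    rw [hτ₀]
    apply linear_trivial D (IsIrrCharacter.isCharacter (e χ').2)
    rw [he χ' hχ', hdeg χ' hχ' χ hχ, ← he χ hχ, heq, hτ₀]
  exact arith_contra' τ₀ y f u m hu hm hyτ hfτ hfpos hf2 hO1 hO2 hO5 (degTwo (NN P)) e heinj
    (by omega) hτT c₀ ε (y (e χ₁) - ε * c₀ χ₁) (f (e χ₁)) hε hc₀pm hcsum hrel hℓ

end Cfsg.Agent.Lib.Helper25.Ab3
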