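import Mathlib
import Cfsg.Prelude.Def_Amalgam
import Cfsg.Agent.Lib.Helper68.AmalBDefs
import Cfsg.Agent.Lib.Helper68.AmalBTools

/-!
# S2751 (Goldschmidt), case (B), `b = 2`: hedge of module GSB-[B2-I] (helper25)

`F_{y₁} ∩ F_{y₂} ∩ F_{y₃} = 1` for the three neighbours of an α-type vertex `x`.
The modules used ([B2-FQ] `Fb_le_Qa`, [P3] `Za_le_Qb`, [FIX] `eq_bot_of_centralized`) and the
definition `AllCrit2` enter as hypotheses (`_of` form); the exact statement of the sheet is a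
one-line instance once they have landed.
-/

set_option autoImplicit false

namespace Cfsg.Agent.Lib.Helper68.AmalB.H25

open Cfsg Cfsg.Agent.Lib.Helper12.Amal Cfsg.Agent.Lib.Helper68.AmalD Cfsg.Agent.Lib.Helper68.AmalW
  Cfsg.Agent.Lib.Helper68.AmalB

variable {G : Type*} [Group G] {P₁ P₂ : Subgroup G}

/-- every neighbour of `x` is one of three given distinct neighbours -/
theorem nbr_cases (hW : BaseW P₁ P₂) {x y₁ y₂ y₃ : CosetVertex P₁ P₂}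
    (h₁ : (cosetGraph P₁ P₂).Adj x y₁) (h₂ : (cosetGraph P₁ P₂).Adj x y₂)
    (h₃ : (cosetGraph P₁ P₂).Adj x y₃) (h₁₂ : y₁ ≠ y₂) (h₁₃ : y₁ ≠ y₃) (h₂₃ : y₂ ≠ y₃)
    {y : CosetVertex P₁ P₂} (hy : (cosetGraph P₁ P₂).Adj x y) : y = y₁ ∨ y = y₂ ∨ y = y₃ := by
  by_cases e1 : y = y₁
  · exact Or.inl e1
  by_cases e2 : y = y₂
  · exact Or.inr (Or.inl e2)
  refine Or.inr (Or.inr ?_)
  exact Cfsg.Agent.Lib.Helper7.AmalC.nbr_eq_of_card (hW.card_nbr x) y₁ y₂ y y₃ h₁ h₂ h₁₂ hy e1 e2 h₃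
    (Ne.symm h₁₃) (Ne.symm h₂₃)

/-- a vertex has a neighbour different from a given vertex -/
theorem exists_nbr_ne (hW : BaseW P₁ P₂) (y x : CosetVertex P₁ P₂) :
    ∃ x', (cosetGraph P₁ P₂).Adj y x' ∧ x' ≠ x := by
  have h3 := hW.card_nbr y
  have h1 : 1 < ((cosetGraph P₁ P₂).neighborSet y).ncard := by omega
  obtain ⟨b, hb, hbx⟩ := Set.exists_ne_of_one_lt_ncard h1 x
  exact ⟨b, hb, hbx⟩

/-- **GSB-[B2-I]** (`_of` form): `F_{y₁} ∩ F_{y₂} ∩ F_{y₃} = 1` -/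
theorem b2_F_inf_eq_bot_of (hB : BaseB P₁ P₂)
    (hFQ : ∀ {x y : CosetVertex P₁ P₂}, ¬ IsB x → (cosetGraph P₁ P₂).Adj x y → Fb y ≤ Qv x)
    (hZQ : ∀ {x y : CosetVertex P₁ P₂}, (cosetGraph P₁ P₂).Adj x y → IsB y → Zv x ≤ Qv y)
    (hfix : ∀ {x y₁ y₂ : CosetVertex P₁ P₂}, ¬ IsB x → (cosetGraph P₁ P₂).Adj x y₁ →
      (cosetGraph P₁ P₂).Adj x y₂ → y₁ ≠ y₂ → ∀ {N : Subgroup G}, N ≤ Qv x →
      Gv x ⊓ Gv y₁ ≤ Subgroup.normalizer (N : Set G) → ∀ {t : G}, t ∈ Gv x ⊓ Gv y₂ →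
      t ∉ Qv x → (∀ n ∈ N, t * n = n * t) → N = ⊥)
    (hall : ∀ x y x' : CosetVertex P₁ P₂, ¬ IsB x → (cosetGraph P₁ P₂).Adj x y →
      (cosetGraph P₁ P₂).Adj y x' → x' ≠ x → ¬ Zv x' ≤ Qv x)
    {x y₁ y₂ y₃ : CosetVertex P₁ P₂} (hx : ¬ IsB x)
    (h₁ : (cosetGraph P₁ P₂).Adj x y₁) (h₂ : (cosetGraph P₁ P₂).Adj x y₂)
    (h₃ : (cosetGraph P₁ P₂).Adj x y₃) (h₁₂ : y₁ ≠ y₂) (h₁₃ : y₁ ≠ y₃) (h₂₃ : y₂ ≠ y₃) :
    Fb y₁ ⊓ Fb y₂ ⊓ Fb y₃ = ⊥ := by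
  have hW := hB.W
  -- membership in `N`
  have hmem : ∀ n : G, n ∈ Fb y₁ ⊓ Fb y₂ ⊓ Fb y₃ ↔
      ∀ y, (cosetGraph P₁ P₂).Adj x y → n ∈ Fb y := by
    intro n
    constructor
    · intro hn y hy
      rcases nbr_cases hW h₁ h₂ h₃ h₁₂ h₁₃ h₂₃ hy with rfl | rfl | rfl
      · exact hn.1.1
      · exact hn.1.2
      · exact hn.2
    · intro hn
      exact ⟨⟨hn _ h₁, hn _ h₂⟩, hn _ h₃⟩
  have hN : Fb y₁ ⊓ Fb y₂ ⊓ Fb y₃ ≤ Qv x := (inf_le_left.trans inf_le_left).trans (hFQ hx h₁)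
  -- `G_x` normalizes `N`
  have hnorm : Gv x ≤ Subgroup.normalizer ((Fb y₁ ⊓ Fb y₂ ⊓ Fb y₃ : Subgroup G) : Set G) := by
    apply le_normalizer_of_forall
    intro g hg n hn
    rw [hmem] at hn ⊢
    intro y hy
    have hgx : g • x = x := MulAction.mem_stabilizer_iff.1 hg
    have hy' : (cosetGraph P₁ P₂).Adj x (g⁻¹ • y) := by
      apply adj_inv_smul hW g
      rwa [hgx]
    have e : y = g • (g⁻¹ • y) := by rw [smul_inv_smul]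
    rw [e, Fb_smul hW]
    exact conj_mem_map g (hn _ hy')
  -- the element `t`
  obtain ⟨x', hx'adj, hx'ne⟩ := exists_nbr_ne hW y₂ x
  have hy₂ : IsB y₂ := by
    by_contra hcon
    exact hx ((hB.adj_type x y₂ h₂).2 hcon)
  obtain ⟨t, htZ, htQ⟩ := SetLike.not_le_iff_exists.1 (hall x y₂ x' hx h₂ hx'adj hx'ne)
  have htQ₂ : t ∈ Qv y₂ := hZQ hx'adj.symm hy₂ htZ
  have htT : t ∈ Gv x ⊓ Gv y₂ := Q_le_T' hW h₂ htQ₂
  have htV : t ∈ Vv y₂ := Z_le_Vv hx'adj htZ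
  have hc : ∀ n ∈ Fb y₁ ⊓ Fb y₂ ⊓ Fb y₃, t * n = n * t := by
    intro n hn
    have h2 : n ∈ Fb y₂ := hn.1.2
    have h3 : n ∈ Subgroup.centralizer ((Vv y₂ : Subgroup G) : Set G) := h2.2
    exact (Subgroup.mem_centralizer_iff.1 h3 t htV)
  exact hfix hx h₁ h₂ h₁₂ hN (inf_le_left.trans hnorm) htT htQ hc

end Cfsg.Agent.Lib.Helper68.AmalB.H25
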