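import Mathlib

/-!
# BG Appendix C (S1472): the last step of the endgame (no-digon)

From the output `t ^ k1 * s ^ (1 - k1) * t ^ k2 = s ^ (k2 + 1)` of the K-lemma, TI for all powers
of `t`, and `N_P(U) = 1`, conclude `s ^ k1 = s`.
-/

namespace Cfsg.Agent.Lib.Helper25.AppCDigon

variable {G : Type*} [Group G]

/-- no-digon: `h ∈ H`, `t^x h t^y ∈ H`, TI at `-y`, `t` normalizing `U` imply `h⁻¹ U h ≤ U`. -/
theorem conj_mem_of_digon (H U : Subgroup G) (hUH : U ≤ H) (t : G)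
    (ht : t ∈ Subgroup.normalizer (U : Set G)) (x y : ℤ)
    (hTI : ∀ g ∈ H, t ^ (-y) * g * t ^ (-(-y)) ∈ H → g ∈ U)
    (h : G) (hh : h ∈ H) (hg : t ^ x * h * t ^ y ∈ H) :
    ∀ u ∈ U, h⁻¹ * u * h ∈ U := by
  intro u hu
  have htx : t ^ x ∈ Subgroup.normalizer (U : Set G) := Subgroup.zpow_mem _ ht x
  have hu' : t ^ x * u * (t ^ x)⁻¹ ∈ U := (Subgroup.mem_normalizer_iff.mp htx u).mp hu
  apply hTI _ (H.mul_mem (H.mul_mem (H.inv_mem hh) (hUH hu)) hh)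
  have e : t ^ (-y) * (h⁻¹ * u * h) * t ^ (-(-y))
      = (t ^ x * h * t ^ y)⁻¹ * (t ^ x * u * (t ^ x)⁻¹) * (t ^ x * h * t ^ y) := by
    rw [neg_neg, zpow_neg]; simp [mul_assoc]
  rw [e]
  exact H.mul_mem (H.mul_mem (H.inv_mem hg) (hUH hu')) hg

/-- The last step: `s ^ k1 = s`. -/
theorem digon (H U P : Subgroup G) (hUH : U ≤ H) (hPH : P ≤ H) (s t : G) (hs : s ∈ P)
    (ht : t ∈ Subgroup.normalizer (U : Set G))
    (hTI : ∀ j : ℤ, s ^ j ≠ 1 → ∀ g ∈ H, t ^ j * g * t ^ (-j) ∈ H → g ∈ U)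
    (hNP : ∀ x ∈ P, (∀ u ∈ U, x⁻¹ * u * x ∈ U) → x = 1)
    (hst : ∀ j : ℤ, s ^ j = 1 → t ^ j = 1)
    (k1 k2 : ℤ) (hk1 : s ^ k1 ≠ 1)
    (h : t ^ k1 * s ^ (1 - k1) * t ^ k2 = s ^ (k2 + 1)) : s ^ k1 = s := by
  by_cases hk2 : s ^ k2 = 1
  · exfalso
    have h1 : t ^ k2 = 1 := hst k2 hk2
    rw [h1, mul_one, zpow_add, hk2, one_mul, zpow_one] at h
    have h2 : t ^ k1 = s ^ k1 := by
      have : t ^ k1 = s * (s ^ (1 - k1))⁻¹ := eq_mul_inv_of_mul_eq h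
      rw [this, ← zpow_neg, neg_sub, ← zpow_one_add]
      congr 1; ring
    have h3 : t ^ k1 ∈ Subgroup.normalizer (U : Set G) := Subgroup.zpow_mem _ ht k1
    rw [h2] at h3
    apply hk1
    apply hNP _ (P.zpow_mem hs k1)
    intro u hu
    exact (Subgroup.mem_normalizer_iff''.mp h3 u).mp hu
  · have hk2' : s ^ (-k2) ≠ 1 := by
      rw [zpow_neg]; exact fun h => hk2 (inv_eq_one.mp h)
    have hh : s ^ (1 - k1) ∈ H := hPH (P.zpow_mem hs _)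
    have hg : t ^ k1 * s ^ (1 - k1) * t ^ k2 ∈ H := by
      rw [h]; exact hPH (P.zpow_mem hs _)
    have hconj := conj_mem_of_digon H U hUH t ht k1 k2 (hTI (-k2) hk2') _ hh hg
    have h1 : s ^ (1 - k1) = 1 := hNP _ (P.zpow_mem hs _) hconj
    rw [zpow_sub, zpow_one] at h1
    have : s = s ^ k1 := by
      have := mul_inv_eq_one.mp h1
      exact this
    exact this.symm

end Cfsg.Agent.Lib.Helper25.AppCDigon
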