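import Mathlib

/-!
# BG Appendix C (S1472): the elimination step

From the triangle identity for `a` and for `a ^ p` (same `P0`-parts `k, l, m`, all `U`-parts raised
to the `p`-th power), the TI property of `t`, Step 2 and `gcd (p - 1, |U|) = 1`, all `U`-parts
cancel and a relation in `⟨s, t⟩` remains.
-/

namespace Cfsg.Agent.Lib.Helper25.AppCElim

variable {G : Type*} [Group G]

/-- conjugation by `t⁻¹` commutes with powers -/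
theorem conj_pow' (t a : G) (n : ℕ) : t⁻¹ * a ^ n * t = (t⁻¹ * a * t) ^ n := by
  have := conj_pow (a := t⁻¹) (b := a) (i := n)
  simpa using this.symm

/-- The elimination step.  `U` abelian, `U ≤ H`, `s ∈ H`, `t⁻¹ U t ≤ U`,
`hTI : g ∈ H → t⁻¹ g t ∈ H → g ∈ U`, `hS2 : s^m ≠ 1 → c ∈ U → s^m c s^-m ∈ U → c = 1`,
`hcop : c ∈ U → c^(p-1) = 1 → c = 1`. -/
theorem elim (H U : Subgroup G) (hUH : U ≤ H)
    (hUcomm : ∀ a ∈ U, ∀ b ∈ U, a * b = b * a)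
    (s t : G) (hs : s ∈ H) (p : ℕ) (hp : 1 ≤ p)
    (htU' : ∀ a ∈ U, t⁻¹ * a * t ∈ U)
    (hTI : ∀ g ∈ H, t⁻¹ * g * t ∈ H → g ∈ U)
    (hS2 : ∀ m : ℤ, s ^ m ≠ 1 → ∀ c ∈ U, s ^ m * c * s ^ (-m) ∈ U → c = 1)
    (hcop : ∀ c ∈ U, c ^ (p - 1) = 1 → c = 1)
    (k l m : ℤ) (hl : s ^ l ≠ 1) (hm : s ^ m ≠ 1)
    (x1 x2 y1 y2 z1 z2 : G) (hx1 : x1 ∈ U) (hx2 : x2 ∈ U) (hy1 : y1 ∈ U) (hy2 : y2 ∈ U)
    (hz1 : z1 ∈ U) (hz2 : z2 ∈ U)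
    (hT : t ^ (-2 : ℤ) * (x1 * s ^ k * x2) * t = (y1 * s ^ l * y2) * t⁻¹ * (z1 * s ^ m * z2))
    (hT' : t ^ (-2 : ℤ) * (x1 ^ p * s ^ k * x2 ^ p) * t
      = (y1 ^ p * s ^ l * y2 ^ p) * t⁻¹ * (z1 ^ p * s ^ m * z2 ^ p)) :
    t ^ (-2 : ℤ) * s ^ k * t = s ^ l * t⁻¹ * s ^ m := by
  -- the three junction elements
  obtain ⟨A, hA⟩ : ∃ A, A = (t⁻¹ * (t⁻¹ * x1 * t) * t)⁻¹ * y1 := ⟨_, rfl⟩
  obtain ⟨B, hB⟩ : ∃ B, B = y2 * (t⁻¹ * z1 * t) := ⟨_, rfl⟩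
  obtain ⟨C, hC⟩ : ∃ C, C = z2 * (t⁻¹ * x2 * t)⁻¹ := ⟨_, rfl⟩
  have hAU : A ∈ U := by
    rw [hA]; exact U.mul_mem (U.inv_mem (htU' _ (htU' _ hx1))) hy1
  have hBU : B ∈ U := by
    rw [hB]; exact U.mul_mem hy2 (htU' _ hz1)
  have hCU : C ∈ U := by
    rw [hC]; exact U.mul_mem hz2 (U.inv_mem (htU' _ hx2))
  -- p-th powers
  have hmulpow : ∀ a ∈ U, ∀ b ∈ U, (a * b) ^ p = a ^ p * b ^ p := by
    intro a ha b hb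
    exact (Commute.mul_pow (hUcomm a ha b hb) p)
  have hA' : A ^ p = (t⁻¹ * (t⁻¹ * x1 ^ p * t) * t)⁻¹ * y1 ^ p := by
    rw [hA, hmulpow _ (U.inv_mem (htU' _ (htU' _ hx1))) _ hy1, inv_pow, conj_pow', conj_pow']
  have hB' : B ^ p = y2 ^ p * (t⁻¹ * z1 ^ p * t) := by
    rw [hB, hmulpow _ hy2 _ (htU' _ hz1), conj_pow']
  have hC' : C ^ p = z2 ^ p * (t⁻¹ * x2 ^ p * t)⁻¹ := by
    rw [hC, hmulpow _ hz2 _ (U.inv_mem (htU' _ hx2)), inv_pow, conj_pow']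
  -- rewrite the two triangle identities
  have key : ∀ a1 a2 b1 b2 c1 c2 : G,
      t ^ (-2 : ℤ) * (a1 * s ^ k * a2) * t = (b1 * s ^ l * b2) * t⁻¹ * (c1 * s ^ m * c2) →
      t ^ (-2 : ℤ) * s ^ k * t = ((t⁻¹ * (t⁻¹ * a1 * t) * t)⁻¹ * b1) * s ^ l *
        (b2 * (t⁻¹ * c1 * t)) * t⁻¹ * s ^ m * (c2 * (t⁻¹ * a2 * t)⁻¹) := by
    intro a1 a2 b1 b2 c1 c2 h
    have ht2 : t ^ (-2 : ℤ) = t⁻¹ * t⁻¹ := by
      rw [zpow_neg, zpow_ofNat, pow_two, mul_inv_rev]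
    rw [ht2] at h ⊢
    have h2 : t⁻¹ * t⁻¹ * s ^ k * t
        = (t⁻¹ * t⁻¹ * a1⁻¹ * t * t) * (t⁻¹ * t⁻¹ * (a1 * s ^ k * a2) * t) * (t⁻¹ * a2⁻¹ * t) := by
      simp [mul_assoc]
    rw [h2, h]
    simp [mul_assoc]
  have e1 := key x1 x2 y1 y2 z1 z2 hT
  have e2 := key (x1 ^ p) (x2 ^ p) (y1 ^ p) (y2 ^ p) (z1 ^ p) (z2 ^ p) hT'
  rw [← hA, ← hB, ← hC] at e1
  rw [← hA', ← hB', ← hC'] at e2
  -- compare
  have hcmp : A * s ^ l * B * t⁻¹ * s ^ m * C = A ^ p * s ^ l * B ^ p * t⁻¹ * s ^ m * C ^ p := by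
    rw [← e1, ← e2]
  have hpow : ∀ c : G, c ^ p * c⁻¹ = c ^ (p - 1) := by
    intro c
    obtain ⟨r, rfl⟩ : ∃ r, p = r + 1 := ⟨p - 1, by omega⟩
    rw [pow_succ, mul_assoc, mul_inv_cancel, mul_one, Nat.add_sub_cancel]
  have hsH : ∀ j : ℤ, s ^ j ∈ H := fun j => H.zpow_mem hs j
  -- step 1: C = 1
  have h1 : t⁻¹ * (s ^ m * C ^ (p - 1) * s ^ (-m)) * t
      = (A ^ p * s ^ l * B ^ p)⁻¹ * (A * s ^ l * B) := by
    rw [← hpow C]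
    have : A * s ^ l * B = A ^ p * s ^ l * B ^ p * t⁻¹ * s ^ m * C ^ p * C⁻¹ * (s ^ m)⁻¹ * t := by
      rw [← hcmp]; simp [mul_assoc]
    rw [this, zpow_neg]; simp [mul_assoc]
  have hg1 : s ^ m * C ^ (p - 1) * s ^ (-m) ∈ H :=
    H.mul_mem (H.mul_mem (hsH m) (hUH (U.pow_mem hCU _))) (hsH (-m))
  have hg2 : t⁻¹ * (s ^ m * C ^ (p - 1) * s ^ (-m)) * t ∈ H := by
    rw [h1]
    refine H.mul_mem (H.inv_mem ?_) ?_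
    · exact H.mul_mem (H.mul_mem (hUH (U.pow_mem hAU _)) (hsH l)) (hUH (U.pow_mem hBU _))
    · exact H.mul_mem (H.mul_mem (hUH hAU) (hsH l)) (hUH hBU)
  have hC1 : C = 1 := hcop C hCU (hS2 m hm _ (U.pow_mem hCU _) (hTI _ hg1 hg2))
  -- step 2: B = 1
  have h2 : (A ^ p * s ^ l * B ^ p)⁻¹ * (A * s ^ l * B) = 1 := by
    rw [← h1, hC1, one_pow, mul_one, zpow_neg, mul_inv_cancel, mul_one, inv_mul_cancel]
  have h3 : A * s ^ l * B = A ^ p * s ^ l * B ^ p := by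
    have := inv_mul_eq_one.mp h2
    exact this.symm
  have hpow' : ∀ c : G, c⁻¹ * c ^ p = c ^ (p - 1) := by
    intro c
    obtain ⟨r, rfl⟩ : ∃ r, p = r + 1 := ⟨p - 1, by omega⟩
    rw [pow_succ', ← mul_assoc, inv_mul_cancel, one_mul, Nat.add_sub_cancel]
  have hBB : B * (B ^ p)⁻¹ = (B⁻¹) ^ (p - 1) := by
    rw [← hpow B⁻¹, inv_inv, inv_pow]
    exact ((Commute.refl B).pow_right p).inv_right.eq
  have h4 : s ^ l * (B⁻¹) ^ (p - 1) * s ^ (-l) = A ^ (p - 1) := by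
    rw [← hpow' A, ← hBB, zpow_neg]
    have : A ^ p = A * (s ^ l * (B * (B ^ p)⁻¹) * (s ^ l)⁻¹) := by
      calc A ^ p = (A ^ p * s ^ l * B ^ p) * (B ^ p)⁻¹ * (s ^ l)⁻¹ := by simp [mul_assoc]
        _ = (A * s ^ l * B) * (B ^ p)⁻¹ * (s ^ l)⁻¹ := by rw [h3]
        _ = _ := by simp [mul_assoc]
    rw [this, inv_mul_cancel_left]
  have hB1' : (B⁻¹) ^ (p - 1) = 1 :=
    hS2 l hl _ (U.pow_mem (U.inv_mem hBU) _) (by rw [h4]; exact U.pow_mem hAU _)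
  have hB1 : B = 1 := by
    have := hcop B⁻¹ (U.inv_mem hBU) hB1'
    exact inv_eq_one.mp this
  have hA1 : A = 1 := by
    apply hcop A hAU
    rw [← h4, hB1']
    simp
  rw [e1, hA1, hB1, hC1]
  simp [mul_assoc]

end Cfsg.Agent.Lib.Helper25.AppCElim
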