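import Mathlib

/-!
# Field facts for BG Appendix C (S1472)

`F` a finite field with `p ^ q` elements, `n := (p ^ q - 1) / (p - 1)` coprime to `p - 1`.
-/

set_option linter.unusedSectionVars false

namespace Cfsg.Agent.Lib.Helper25.AppCField

variable {F : Type*} [Field F] [Fintype F] {p q : ℕ} [hp : Fact p.Prime] [hq : Fact q.Prime]

/-- `n * (p - 1) = p ^ q - 1`. -/
theorem n_mul (p q : ℕ) : (p ^ q - 1) / (p - 1) * (p - 1) = p ^ q - 1 :=
  Nat.div_mul_cancel (by simpa using Nat.sub_dvd_pow_sub_pow p 1 q)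

theorem n_eq_geomSum (p q : ℕ) (h2 : 2 ≤ p) :
    (p ^ q - 1) / (p - 1) = ∑ i ∈ Finset.range q, p ^ i :=
  (Nat.geomSum_eq h2 q).symm

include hp hq in
theorem p_lt_n : p < (p ^ q - 1) / (p - 1) := by
  have h2 : 2 ≤ p := hp.out.two_le
  have hq2 : 2 ≤ q := hq.out.two_le
  rw [n_eq_geomSum p q h2]
  obtain ⟨r, rfl⟩ : ∃ r, q = r + 2 := ⟨q - 2, by omega⟩
  rw [Finset.sum_range_succ']
  have : p ^ 1 ≤ ∑ i ∈ Finset.range (r + 1), p ^ (i + 1) := by
    have := Finset.single_le_sum (f := fun i => p ^ (i + 1)) (s := Finset.range (r + 1))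
      (fun i _ => Nat.zero_le _) (Finset.mem_range.mpr (Nat.succ_pos r))
    simpa using this
  simp at this ⊢
  omega

include hp hq in
theorem one_lt_n : 1 < (p ^ q - 1) / (p - 1) :=
  lt_trans hp.out.one_lt (p_lt_n (p := p) (q := q))

include hp hq in
theorem n_pos : 0 < (p ^ q - 1) / (p - 1) :=
  lt_trans Nat.zero_lt_one (one_lt_n (p := p) (q := q))

include hp hq in
theorem n_coprime_p : Nat.Coprime ((p ^ q - 1) / (p - 1)) p := by
  rw [Nat.coprime_comm, Nat.Prime.coprime_iff_not_dvd hp.out]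
  intro hdvd
  have h1 : p ∣ p ^ q - 1 := by
    rw [← n_mul p q]; exact Dvd.dvd.mul_right hdvd _
  have h2 : p ∣ p ^ q := dvd_pow_self p hq.out.ne_zero
  have h3 : 1 ≤ p ^ q := Nat.one_le_pow _ _ hp.out.pos
  have h4 : p ∣ p ^ q - (p ^ q - 1) := Nat.dvd_sub h2 h1
  have h5 : p ^ q - (p ^ q - 1) = 1 := by omega
  rw [h5] at h4
  exact hp.out.one_lt.ne' (Nat.dvd_one.mp h4)

omit hq in
theorem charP (hF : Fintype.card F = p ^ q) : CharP F p :=
  charP_of_card_eq_prime_pow hF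

/-- (F1) The prime field: `c ^ p = c` iff `c` is a cast of some `k < p`. -/
theorem pow_p_eq_self_iff (hF : Fintype.card F = p ^ q) (c : F) :
    c ^ p = c ↔ ∃ k : ℕ, k < p ∧ c = (k : F) := by
  have : CharP F p := charP (q := q) hF
  rw [← Subfield.mem_bot_iff_pow_eq_self F p, ← ZMod.fieldRange_castHom_eq_bot p]
  simp only [RingHom.mem_fieldRange]
  constructor
  · rintro ⟨z, rfl⟩
    refine ⟨z.val, ZMod.val_lt z, ?_⟩
    conv_lhs => rw [← ZMod.natCast_zmod_val z]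
    simp
  · rintro ⟨k, -, rfl⟩
    exact ⟨(k : ZMod p), map_natCast _ k⟩

theorem natCast_pow_p (hF : Fintype.card F = p ^ q) (k : ℕ) : ((k : F)) ^ p = (k : F) :=
  (pow_p_eq_self_iff (q := q) hF _).mpr ⟨k % p, Nat.mod_lt _ hp.out.pos, by
    have : CharP F p := charP (q := q) hF
    rw [← sub_eq_zero, ← Nat.cast_sub (Nat.mod_le _ _), CharP.cast_eq_zero_iff F p]
    exact Nat.dvd_sub_mod k⟩

theorem intCast_pow_p (hF : Fintype.card F = p ^ q) (k : ℤ) : ((k : F)) ^ p = (k : F) := by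
  have : CharP F p := charP (q := q) hF
  rw [← Subfield.mem_bot_iff_pow_eq_self F p, mem_bot_iff_intCast p F]
  exact ⟨k, rfl⟩

/-- `c ^ p = c`, `c ≠ 0` gives `c ^ (p - 1) = 1`. -/
theorem pow_pred_eq_one {c : F} (hc : c ^ p = c) (hc0 : c ≠ 0) : c ^ (p - 1) = 1 := by
  have h1 : c ^ (p - 1) * c = 1 * c := by
    rw [← pow_succ, Nat.sub_add_cancel hp.out.one_le, hc, one_mul]
  exact mul_right_cancel₀ hc0 h1

theorem pow_p_eq_self_of_pow_pred {c : F} (hc : c ^ (p - 1) = 1) : c ^ p = c := by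
  have : p = (p - 1) + 1 := (Nat.sub_add_cancel hp.out.one_le).symm
  rw [this, pow_succ, hc, one_mul]

/-- (F2) decomposition `F^× = F_p^× × V`. -/
theorem exists_decomp (hF : Fintype.card F = p ^ q)
    (hA : Nat.Coprime ((p ^ q - 1) / (p - 1)) (p - 1)) (b : F) (hb : b ≠ 0) :
    ∃ c g : F, c ^ p = c ∧ c ≠ 0 ∧ g ^ ((p ^ q - 1) / (p - 1)) = 1 ∧ b = c * g := by
  obtain ⟨n, hn⟩ : ∃ n, n = (p ^ q - 1) / (p - 1) := ⟨_, rfl⟩
  rw [← hn] at hA ⊢
  have hnm : n * (p - 1) = p ^ q - 1 := by rw [hn]; exact n_mul p q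
  have hb1 : b ^ (n * (p - 1)) = 1 := by
    rw [hnm, ← hF]; exact FiniteField.pow_card_sub_one_eq_one b hb
  -- Bezout
  have hbez : (n : ℤ) * Nat.gcdA n (p - 1) + ((p - 1 : ℕ) : ℤ) * Nat.gcdB n (p - 1) = 1 := by
    have := Nat.gcd_eq_gcd_ab n (p - 1)
    rw [hA] at this
    simpa using this.symm
  refine ⟨b ^ ((n : ℤ) * Nat.gcdA n (p - 1)), b ^ (((p - 1 : ℕ) : ℤ) * Nat.gcdB n (p - 1)),
    ?_, zpow_ne_zero _ hb, ?_, ?_⟩
  · apply pow_p_eq_self_of_pow_pred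
    rw [← zpow_natCast, ← zpow_mul, mul_comm, ← mul_assoc, mul_comm ((p - 1 : ℕ) : ℤ), zpow_mul]
    have : b ^ ((n : ℤ) * ((p - 1 : ℕ) : ℤ)) = 1 := by
      rw [← Nat.cast_mul, zpow_natCast, hb1]
    rw [this, one_zpow]
  · rw [← zpow_natCast, ← zpow_mul, mul_comm, ← mul_assoc, zpow_mul]
    have : b ^ ((n : ℤ) * ((p - 1 : ℕ) : ℤ)) = 1 := by
      rw [← Nat.cast_mul, zpow_natCast, hb1]
    rw [this, one_zpow]
  · rw [← zpow_add₀ hb, hbez, zpow_one]

/-- (F2) uniqueness: `F_p^× ∩ V = 1`. -/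
theorem eq_one_of_prime_of_root (hA : Nat.Coprime ((p ^ q - 1) / (p - 1)) (p - 1)) {c : F}
    (hc : c ^ p = c) (hc0 : c ≠ 0) (hcn : c ^ ((p ^ q - 1) / (p - 1)) = 1) : c = 1 := by
  have h1 := pow_pred_eq_one hc hc0
  have h2 : orderOf c ∣ Nat.gcd ((p ^ q - 1) / (p - 1)) (p - 1) :=
    Nat.dvd_gcd (orderOf_dvd_of_pow_eq_one hcn) (orderOf_dvd_of_pow_eq_one h1)
  rw [hA, Nat.dvd_one, orderOf_eq_one_iff] at h2
  exact h2

/-- Uniqueness of the decomposition. -/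
theorem decomp_unique (hA : Nat.Coprime ((p ^ q - 1) / (p - 1)) (p - 1)) {c c' g g' : F}
    (hc : c ^ p = c) (hc0 : c ≠ 0) (hc' : c' ^ p = c') (hc0' : c' ≠ 0)
    (hg : g ^ ((p ^ q - 1) / (p - 1)) = 1) (hg' : g' ^ ((p ^ q - 1) / (p - 1)) = 1)
    (h : c * g = c' * g') : c = c' ∧ g = g' := by
  have hg0 : g ≠ 0 := by
    rintro rfl
    rw [zero_pow (n_pos (p := p) (q := q)).ne'] at hg
    exact zero_ne_one hg
  have hg0' : g' ≠ 0 := by
    rintro rfl
    rw [zero_pow (n_pos (p := p) (q := q)).ne'] at hg'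
    exact zero_ne_one hg'
  have key : c * c'⁻¹ = 1 := by
    apply eq_one_of_prime_of_root (p := p) (q := q) hA
    · rw [mul_pow, inv_pow, hc, hc']
    · exact mul_ne_zero hc0 (inv_ne_zero hc0')
    · have : c * c'⁻¹ = g' * g⁻¹ := by
        field_simp
        rw [h, mul_comm]
      rw [this, mul_pow, inv_pow, hg, hg', inv_one, mul_one]
  have hcc : c = c' := by
    have := congrArg (· * c') key
    simpa [mul_assoc, inv_mul_cancel₀ hc0'] using this
  refine ⟨hcc, ?_⟩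
  subst hcc
  exact mul_left_cancel₀ hc0 h

/-- a root of unity of order `n` is nonzero -/
theorem ne_zero_of_root {g : F} (hg : g ^ ((p ^ q - 1) / (p - 1)) = 1) : g ≠ 0 := by
  rintro rfl
  rw [zero_pow (n_pos (p := p) (q := q)).ne'] at hg
  exact zero_ne_one hg

/-- (F5) Frobenius preserves `V`. -/
theorem root_pow {g : F} (hg : g ^ ((p ^ q - 1) / (p - 1)) = 1) (k : ℕ) :
    (g ^ k) ^ ((p ^ q - 1) / (p - 1)) = 1 := by
  rw [← pow_mul, mul_comm, pow_mul, hg, one_pow]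

theorem root_mul {g h : F} (hg : g ^ ((p ^ q - 1) / (p - 1)) = 1)
    (hh : h ^ ((p ^ q - 1) / (p - 1)) = 1) : (g * h) ^ ((p ^ q - 1) / (p - 1)) = 1 := by
  rw [mul_pow, hg, hh, one_mul]

theorem root_inv {g : F} (hg : g ^ ((p ^ q - 1) / (p - 1)) = 1) :
    (g⁻¹) ^ ((p ^ q - 1) / (p - 1)) = 1 := by
  rw [inv_pow, hg, inv_one]

/-- (F3) A set of `n` elements all of which are `n`-th roots of unity is the set of all
`n`-th roots of unity. -/
theorem mem_of_card_eq {n : ℕ} (hn : 0 < n) (S : Finset F) (hS : ∀ x ∈ S, x ^ n = 1)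
    (hcard : S.card = n) {g : F} (hg : g ^ n = 1) : g ∈ S := by
  classical
  have hsub : S ⊆ Polynomial.nthRootsFinset n (1 : F) := by
    intro x hx
    rw [Polynomial.mem_nthRootsFinset hn]
    exact hS x hx
  have hle : (Polynomial.nthRootsFinset n (1 : F)).card ≤ n := by
    unfold Polynomial.nthRootsFinset
    exact le_trans (Multiset.toFinset_card_le _) (Polynomial.card_nthRoots n 1)
  have heq : S = Polynomial.nthRootsFinset n (1 : F) :=
    Finset.eq_of_subset_of_card_le hsub (by rw [hcard]; exact hle)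
  rw [heq, Polynomial.mem_nthRootsFinset hn]
  exact hg

section psi

variable {G : Type*} [Group G] (U : Subgroup G) (ψ : G → F)

omit [Fintype F] hp hq in
theorem psi_one (hψ0 : ∀ u ∈ U, ψ u ≠ 0) (hψmul : ∀ u ∈ U, ∀ v ∈ U, ψ (u * v) = ψ u * ψ v) :
    ψ 1 = 1 := by
  have h := hψmul 1 U.one_mem 1 U.one_mem
  rw [mul_one] at h
  have h0 := hψ0 1 U.one_mem
  have : ψ 1 * 1 = ψ 1 * ψ 1 := by rw [mul_one]; exact h
  exact (mul_left_cancel₀ h0 this).symm

omit [Fintype F] hp hq in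
theorem psi_pow (hψ0 : ∀ u ∈ U, ψ u ≠ 0) (hψmul : ∀ u ∈ U, ∀ v ∈ U, ψ (u * v) = ψ u * ψ v)
    {u : G} (hu : u ∈ U) (k : ℕ) : ψ (u ^ k) = ψ u ^ k := by
  induction k with
  | zero => simp [psi_one U ψ hψ0 hψmul]
  | succ k ih => rw [pow_succ, hψmul _ (U.pow_mem hu k) _ hu, ih, pow_succ]

omit [Fintype F] hp hq in
theorem psi_inv (hψ0 : ∀ u ∈ U, ψ u ≠ 0) (hψmul : ∀ u ∈ U, ∀ v ∈ U, ψ (u * v) = ψ u * ψ v)
    {u : G} (hu : u ∈ U) : ψ u⁻¹ = (ψ u)⁻¹ := by
  have h := hψmul u hu u⁻¹ (U.inv_mem hu)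
  rw [mul_inv_cancel, psi_one U ψ hψ0 hψmul] at h
  exact eq_inv_of_mul_eq_one_right h.symm

theorem card_U (hUcard : Nat.card U * (p - 1) = p ^ q - 1) :
    Nat.card U = (p ^ q - 1) / (p - 1) := by
  have hp1 : 0 < p - 1 := Nat.sub_pos_of_lt hp.out.one_lt
  rw [← n_mul p q] at hUcard
  exact Nat.eq_of_mul_eq_mul_right hp1 hUcard

theorem psi_pow_n (hψ0 : ∀ u ∈ U, ψ u ≠ 0) (hψmul : ∀ u ∈ U, ∀ v ∈ U, ψ (u * v) = ψ u * ψ v)
    (hUcard : Nat.card U * (p - 1) = p ^ q - 1) {u : G} (hu : u ∈ U) :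
    ψ u ^ ((p ^ q - 1) / (p - 1)) = 1 := by
  rw [← psi_pow U ψ hψ0 hψmul hu, ← card_U U hUcard]
  have : u ^ Nat.card U = 1 := by
    have h : (⟨u, hu⟩ : U) ^ Nat.card U = 1 := pow_card_eq_one'
    have h2 := congrArg (Subtype.val) h
    rw [Subgroup.coe_pow, Subgroup.coe_one] at h2
    exact h2
  rw [this, psi_one U ψ hψ0 hψmul]

/-- (F3) `ψ` maps `U` onto the `n`-th roots of unity. -/
theorem exists_psi_eq (hψ0 : ∀ u ∈ U, ψ u ≠ 0)
    (hψmul : ∀ u ∈ U, ∀ v ∈ U, ψ (u * v) = ψ u * ψ v) (hψinj : Set.InjOn ψ (U : Set G))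
    (hUcard : Nat.card U * (p - 1) = p ^ q - 1) {g : F}
    (hg : g ^ ((p ^ q - 1) / (p - 1)) = 1) : ∃ u ∈ U, ψ u = g := by
  classical
  have hcU := card_U U hUcard
  have hfin : Finite U := Nat.finite_of_card_ne_zero (by rw [hcU]; exact (n_pos (p := p) (q := q)).ne')
  have : Fintype U := Fintype.ofFinite U
  let S : Finset F := Finset.univ.image (fun u : U => ψ u.1)
  have hScard : S.card = (p ^ q - 1) / (p - 1) := by
    rw [Finset.card_image_of_injective, Finset.card_univ, ← Nat.card_eq_fintype_card, hcU]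
    intro a b hab
    exact Subtype.ext (hψinj a.2 b.2 hab)
  have hS : ∀ x ∈ S, x ^ ((p ^ q - 1) / (p - 1)) = 1 := by
    intro x hx
    obtain ⟨u, -, rfl⟩ := Finset.mem_image.mp hx
    exact psi_pow_n U ψ hψ0 hψmul hUcard u.2
  have := mem_of_card_eq (n_pos (p := p) (q := q)) S hS hScard hg
  obtain ⟨u, -, hu⟩ := Finset.mem_image.mp this
  exact ⟨u.1, u.2, hu⟩

end psi

/-- (F4) irreducibility: a nonzero additive subgroup stable under multiplication by all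
`n`-th roots of unity is everything. -/
theorem addSubgroup_eq_top (hF : Fintype.card F = p ^ q)
    (hA : Nat.Coprime ((p ^ q - 1) / (p - 1)) (p - 1)) (A : AddSubgroup F)
    (hstab : ∀ g : F, g ^ ((p ^ q - 1) / (p - 1)) = 1 → ∀ a ∈ A, g * a ∈ A)
    {a : F} (ha : a ∈ A) (ha0 : a ≠ 0) (x : F) : x ∈ A := by
  by_cases hx : x = 0
  · rw [hx]; exact A.zero_mem
  have hb : x * a⁻¹ ≠ 0 := mul_ne_zero hx (inv_ne_zero ha0)
  obtain ⟨c, g, hc, -, hg, hcg⟩ := exists_decomp hF hA (x * a⁻¹) hb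
  obtain ⟨k, -, rfl⟩ := (pow_p_eq_self_iff (q := q) hF c).mp hc
  have hx' : x = (k : F) * (g * a) := by
    rw [← mul_assoc, ← hcg, mul_assoc, inv_mul_cancel₀ ha0, mul_one]
  rw [hx', ← nsmul_eq_mul]
  exact A.nsmul_mem (hstab g hg a ha) k

theorem natCast_eq_zero_iff (hF : Fintype.card F = p ^ q) (k : ℕ) : (k : F) = 0 ↔ p ∣ k := by
  have : CharP F p := charP (q := q) hF
  exact CharP.cast_eq_zero_iff F p k

theorem intCast_eq_zero_iff (hF : Fintype.card F = p ^ q) (k : ℤ) :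
    (k : F) = 0 ↔ (p : ℤ) ∣ k := by
  have : CharP F p := charP (q := q) hF
  exact CharP.intCast_eq_zero_iff F p k

/-- decomposition with an explicit natural number `0 < k < p`. -/
theorem exists_decomp_nat (hF : Fintype.card F = p ^ q)
    (hA : Nat.Coprime ((p ^ q - 1) / (p - 1)) (p - 1)) (b : F) (hb : b ≠ 0) :
    ∃ k : ℕ, 0 < k ∧ k < p ∧ ∃ g : F, g ^ ((p ^ q - 1) / (p - 1)) = 1 ∧ b = (k : F) * g := by
  obtain ⟨c, g, hc, hc0, hg, hcg⟩ := exists_decomp hF hA b hb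
  obtain ⟨k, hk, rfl⟩ := (pow_p_eq_self_iff (q := q) hF c).mp hc
  refine ⟨k, ?_, hk, g, hg, hcg⟩
  rcases Nat.eq_zero_or_pos k with h | h
  · subst h; simp at hc0
  · exact h

/-- an integer cast that is an `n`-th root of unity is `1`. -/
theorem intCast_root_eq_one (hF : Fintype.card F = p ^ q)
    (hA : Nat.Coprime ((p ^ q - 1) / (p - 1)) (p - 1)) {k : ℤ}
    (hk : ((k : F)) ^ ((p ^ q - 1) / (p - 1)) = 1) : (k : F) = 1 :=
  eq_one_of_prime_of_root (p := p) (q := q) hA (intCast_pow_p (q := q) hF k)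
    (ne_zero_of_root (p := p) (q := q) hk) hk

/-- uniqueness for integer casts: `k * g = k' * g'` with `g, g'` roots of unity and
`k` nonzero in `F` forces `(k : F) = k'` and `g = g'`. -/
theorem intCast_decomp_unique (hF : Fintype.card F = p ^ q)
    (hA : Nat.Coprime ((p ^ q - 1) / (p - 1)) (p - 1)) {k k' : ℤ} {g g' : F}
    (hk : (k : F) ≠ 0) (hk' : (k' : F) ≠ 0)
    (hg : g ^ ((p ^ q - 1) / (p - 1)) = 1) (hg' : g' ^ ((p ^ q - 1) / (p - 1)) = 1)
    (h : (k : F) * g = (k' : F) * g') : (k : F) = (k' : F) ∧ g = g' :=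
  decomp_unique (p := p) (q := q) hA (intCast_pow_p (q := q) hF k) hk
    (intCast_pow_p (q := q) hF k') hk' hg hg' h

end Cfsg.Agent.Lib.Helper25.AppCField
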