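import Mathlib

/-!
# BG Appendix C (S1472): Step 3, the TI property

`H = P U` (`U` normalizing the elementary abelian `p`-group `P`, `U` irreducible on `P`,
`P ∩ U = 1`, `N_P(U) = 1`), `Q` a group without `p`-torsion normalized by `s ∈ P`, `y ∈ Q`,
`t = y s y⁻¹` normalizing `U`.  Then for `s ^ j ≠ 1`:  `g ∈ H`, `t ^ j g t ^ (-j) ∈ H` imply `g ∈ U`.
-/

namespace Cfsg.Agent.Lib.Helper25.AppCTI

variable {G : Type*} [Group G]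

/-- `(x u)^k = x'' u^k` with `x'' ∈ P`. -/
theorem pow_split (P U : Subgroup G) (hUP : ∀ u ∈ U, ∀ x ∈ P, u * x * u⁻¹ ∈ P) {x u : G}
    (hx : x ∈ P) (hu : u ∈ U) (k : ℕ) : ∃ x'' ∈ P, (x * u) ^ k = x'' * u ^ k := by
  induction k with
  | zero => exact ⟨1, P.one_mem, by simp⟩
  | succ k ih =>
    obtain ⟨x'', hx'', h⟩ := ih
    refine ⟨x'' * (u ^ k * x * (u ^ k)⁻¹), P.mul_mem hx'' (hUP _ (U.pow_mem hu k) _ hx), ?_⟩
    rw [pow_succ, h, pow_succ]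
    simp [mul_assoc]

/-- an element `x u` of `H` of order dividing `p` lies in `P`. -/
theorem mem_P_of_pow_eq_one (P U : Subgroup G) (p n : ℕ)
    (hUP : ∀ u ∈ U, ∀ x ∈ P, u * x * u⁻¹ ∈ P) (hPU : ∀ x ∈ P, x ∈ U → x = 1)
    (hUn : ∀ u ∈ U, u ^ n = 1) (hnp : Nat.Coprime n p) {x u : G} (hx : x ∈ P) (hu : u ∈ U)
    (h : (x * u) ^ p = 1) : u = 1 := by
  obtain ⟨x'', hx'', h2⟩ := pow_split P U hUP hx hu p
  rw [h] at h2
  have h3 : u ^ p = x''⁻¹ := by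
    have := eq_inv_of_mul_eq_one_right h2.symm
    exact this
  have h4 : u ^ p = 1 := by
    have h5 : x''⁻¹ ∈ U := by rw [← h3]; exact U.pow_mem hu p
    have := hPU _ (P.inv_mem hx'') h5
    rw [h3, this]
  have h6 : orderOf u ∣ Nat.gcd n p :=
    Nat.dvd_gcd (orderOf_dvd_of_pow_eq_one (hUn u hu)) (orderOf_dvd_of_pow_eq_one h4)
  rw [hnp, Nat.dvd_one, orderOf_eq_one_iff] at h6
  exact h6

/-- Step 3 (TI). -/
theorem ti (P U Q H : Subgroup G) (p n : ℕ)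
    (hH : ∀ g, g ∈ H ↔ ∃ x ∈ P, ∃ u ∈ U, g = x * u)
    (hUP : ∀ u ∈ U, ∀ x ∈ P, u * x * u⁻¹ ∈ P)
    (hPU : ∀ x ∈ P, x ∈ U → x = 1)
    (hPp : ∀ x ∈ P, x ^ p = 1)
    (hUn : ∀ u ∈ U, u ^ n = 1) (hnp : Nat.Coprime n p)
    (hirr : ∀ D : Subgroup G, D ≤ P → (∀ u ∈ U, ∀ x ∈ D, u * x * u⁻¹ ∈ D) → D ≠ ⊥ → P ≤ D)
    (hQp : ∀ c ∈ Q, c ^ p = 1 → c = 1)
    (s y : G) (hs : s ∈ P) (hsQ : s ∈ Subgroup.normalizer (Q : Set G)) (hy : y ∈ Q)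
    (ht : y * s * y⁻¹ ∈ Subgroup.normalizer (U : Set G))
    (hNP : ∀ x ∈ P, x ∈ Subgroup.normalizer (U : Set G) → x = 1)
    (j : ℤ) (hj : s ^ j ≠ 1) :
    ∀ g ∈ H, (y * s * y⁻¹) ^ j * g * (y * s * y⁻¹) ^ (-j) ∈ H → g ∈ U := by
  obtain ⟨t, htdef⟩ : ∃ t, t = y * s * y⁻¹ := ⟨_, rfl⟩
  rw [← htdef] at ht ⊢
  have hUH : U ≤ H := fun u hu => (hH u).mpr ⟨1, P.one_mem, u, hu, (one_mul u).symm⟩
  have hPH : P ≤ H := fun x hx => (hH x).mpr ⟨x, hx, 1, U.one_mem, (mul_one x).symm⟩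
  have htj : t ^ j ∈ Subgroup.normalizer (U : Set G) := Subgroup.zpow_mem _ ht j
  have htjU : ∀ u ∈ U, t ^ j * u * t ^ (-j) ∈ U := by
    intro u hu
    have := (Subgroup.mem_normalizer_iff.mp htj u).mp hu
    rwa [zpow_neg]
  have hconj_mul : ∀ a b : G, t ^ j * (a * b) * t ^ (-j) = (t ^ j * a * t ^ (-j)) * (t ^ j * b * t ^ (-j)) := by
    intro a b; rw [zpow_neg]; simp [mul_assoc]
  have hconj_inv : ∀ a : G, t ^ j * a⁻¹ * t ^ (-j) = (t ^ j * a * t ^ (-j))⁻¹ := by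
    intro a; rw [zpow_neg]; simp [mul_assoc]
  -- the subgroup D
  let D : Subgroup G :=
    { carrier := {x | x ∈ P ∧ t ^ j * x * t ^ (-j) ∈ H}
      mul_mem' := by
        rintro a b ⟨ha, ha'⟩ ⟨hb, hb'⟩
        exact ⟨P.mul_mem ha hb, by rw [hconj_mul]; exact H.mul_mem ha' hb'⟩
      one_mem' := ⟨P.one_mem, by rw [zpow_neg]; simp⟩
      inv_mem' := by
        rintro a ⟨ha, ha'⟩
        exact ⟨P.inv_mem ha, by rw [hconj_inv]; exact H.inv_mem ha'⟩ }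
  have hD_mem : ∀ x, x ∈ D ↔ x ∈ P ∧ t ^ j * x * t ^ (-j) ∈ H := fun x => Iff.rfl
  have hDP : D ≤ P := fun x hx => ((hD_mem x).mp hx).1
  have hDU : ∀ u ∈ U, ∀ x ∈ D, u * x * u⁻¹ ∈ D := by
    intro u hu x hx
    obtain ⟨hxP, hxH⟩ := (hD_mem x).mp hx
    refine (hD_mem _).mpr ⟨hUP u hu x hxP, ?_⟩
    rw [hconj_mul, hconj_mul, hconj_inv]
    exact H.mul_mem (H.mul_mem (hUH (htjU u hu)) hxH) (H.inv_mem (hUH (htjU u hu)))
  intro g hg hg'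
  obtain ⟨x, hx, u, hu, rfl⟩ := (hH g).mp hg
  by_cases hx1 : x = 1
  · rw [hx1, one_mul]; exact hu
  exfalso
  -- x ∈ D
  have hxD : x ∈ D := by
    refine (hD_mem x).mpr ⟨hx, ?_⟩
    have : t ^ j * x * t ^ (-j) = (t ^ j * (x * u) * t ^ (-j)) * (t ^ j * u * t ^ (-j))⁻¹ := by
      rw [zpow_neg]; simp [mul_assoc]
    rw [this]
    exact H.mul_mem hg' (H.inv_mem (hUH (htjU u hu)))
  have hDbot : D ≠ ⊥ := by
    intro h
    rw [h, Subgroup.mem_bot] at hxD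
    exact hx1 hxD
  have hPD : P ≤ D := hirr D hDP hDU hDbot
  -- t^j normalizes P
  have htjP : ∀ z ∈ P, t ^ j * z * t ^ (-j) ∈ P := by
    intro z hz
    obtain ⟨-, hzH⟩ := (hD_mem z).mp (hPD hz)
    obtain ⟨x', hx', u', hu', he⟩ := (hH _).mp hzH
    have hpow : (x' * u') ^ p = 1 := by
      rw [← he, zpow_neg, conj_pow, hPp z hz]; simp
    have := mem_P_of_pow_eq_one P U p n hUP hPU hUn hnp hx' hu' hpow
    rw [he, this, mul_one]; exact hx'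
  -- t^j = y s^j y⁻¹
  have htj_eq : t ^ j = y * s ^ j * y⁻¹ := by
    rw [htdef, conj_zpow]
  -- q_j
  obtain ⟨c, hc⟩ : ∃ c, c = t ^ j * s ^ (-j) := ⟨_, rfl⟩
  have hsjQ : s ^ j ∈ Subgroup.normalizer (Q : Set G) := Subgroup.zpow_mem _ hsQ j
  have hcQ : c ∈ Q := by
    rw [hc, htj_eq]
    have h1 : s ^ j * y⁻¹ * (s ^ j)⁻¹ ∈ Q :=
      (Subgroup.mem_normalizer_iff.mp hsjQ _).mp (Q.inv_mem hy)
    have : y * s ^ j * y⁻¹ * s ^ (-j) = y * (s ^ j * y⁻¹ * (s ^ j)⁻¹) := by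
      rw [zpow_neg]; simp [mul_assoc]
    rw [this]
    exact Q.mul_mem hy h1
  have hcP : ∀ z ∈ P, c * z * c⁻¹ ∈ P := by
    intro z hz
    have h1 : s ^ (-j) * z * (s ^ (-j))⁻¹ ∈ P :=
      P.mul_mem (P.mul_mem (P.zpow_mem hs _) hz) (P.inv_mem (P.zpow_mem hs _))
    have := htjP _ h1
    have e : c * z * c⁻¹ = t ^ j * (s ^ (-j) * z * (s ^ (-j))⁻¹) * t ^ (-j) := by
      rw [hc, zpow_neg, zpow_neg]; simp [mul_assoc]
    rw [e]; exact this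
  -- c commutes with s
  have hcs : c * s * c⁻¹ * s⁻¹ = 1 := by
    have h1 : c * s * c⁻¹ * s⁻¹ ∈ P := P.mul_mem (hcP s hs) (P.inv_mem hs)
    have h2 : c * s * c⁻¹ * s⁻¹ ∈ Q := by
      have h3 : s * c⁻¹ * s⁻¹ ∈ Q := (Subgroup.mem_normalizer_iff.mp hsQ _).mp (Q.inv_mem hcQ)
      have : c * s * c⁻¹ * s⁻¹ = c * (s * c⁻¹ * s⁻¹) := by simp [mul_assoc]
      rw [this]; exact Q.mul_mem hcQ h3
    exact hQp _ h2 (hPp _ h1)
  have hcomm : Commute c s := by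
    have : c * s = s * c := by
      have h := congrArg (· * s * c) hcs
      simpa [mul_assoc] using h
    exact this
  -- c^p = 1
  have htp : (t ^ j) ^ p = 1 := by
    rw [htj_eq, conj_pow, ← zpow_natCast, ← zpow_mul, mul_comm, zpow_mul, zpow_natCast, hPp s hs]
    simp
  have hcp : c ^ p = 1 := by
    have h1 : t ^ j = c * s ^ j := by rw [hc, zpow_neg]; simp [mul_assoc]
    have h2 : (c * s ^ j) ^ p = c ^ p * (s ^ j) ^ p := (hcomm.zpow_right j).mul_pow p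
    rw [h1, h2] at htp
    have h3 : (s ^ j) ^ p = 1 := by
      rw [← zpow_natCast, ← zpow_mul, mul_comm, zpow_mul, zpow_natCast, hPp s hs, one_zpow]
    rw [h3, mul_one] at htp
    exact htp
  have hc1 : c = 1 := hQp c hcQ hcp
  have hts : t ^ j = s ^ j := by
    have h1 : t ^ j = c * s ^ j := by rw [hc, zpow_neg]; simp [mul_assoc]
    rw [h1, hc1, one_mul]
  rw [hts] at htj
  exact hj (hNP _ (P.zpow_mem hs j) htj)

/-- Step 3 for `t⁻¹`. -/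
theorem ti_inv (P U Q H : Subgroup G) (p n : ℕ)
    (hH : ∀ g, g ∈ H ↔ ∃ x ∈ P, ∃ u ∈ U, g = x * u)
    (hUP : ∀ u ∈ U, ∀ x ∈ P, u * x * u⁻¹ ∈ P)
    (hPU : ∀ x ∈ P, x ∈ U → x = 1)
    (hPp : ∀ x ∈ P, x ^ p = 1)
    (hUn : ∀ u ∈ U, u ^ n = 1) (hnp : Nat.Coprime n p)
    (hirr : ∀ D : Subgroup G, D ≤ P → (∀ u ∈ U, ∀ x ∈ D, u * x * u⁻¹ ∈ D) → D ≠ ⊥ → P ≤ D)
    (hQp : ∀ c ∈ Q, c ^ p = 1 → c = 1)
    (s y : G) (hs : s ∈ P) (hsQ : s ∈ Subgroup.normalizer (Q : Set G)) (hy : y ∈ Q)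
    (ht : y * s * y⁻¹ ∈ Subgroup.normalizer (U : Set G))
    (hNP : ∀ x ∈ P, x ∈ Subgroup.normalizer (U : Set G) → x = 1)
    (hs1 : s ≠ 1) :
    ∀ g ∈ H, (y * s * y⁻¹)⁻¹ * g * (y * s * y⁻¹) ∈ H → g ∈ U := by
  intro g hg hg'
  have hj : s ^ (-1 : ℤ) ≠ 1 := by
    rw [zpow_neg, zpow_one]
    exact fun h => hs1 (inv_eq_one.mp h)
  have := ti P U Q H p n hH hUP hPU hPp hUn hnp hirr hQp s y hs hsQ hy ht hNP (-1) hj g hg
  apply this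
  rw [zpow_neg, zpow_one, neg_neg, zpow_one]
  exact hg'

end Cfsg.Agent.Lib.Helper25.AppCTI
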