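import Cfsg.Agent.Lib.Helper25.AschC4Aux
import Cfsg.Agent.Lib.Helper99.AschDefsR
import Cfsg.Agent.Lib.Helper47.AschDet4

/-!
# ASCH-[C4] (project ASCH, helper99): exact sheet statement `geo_of_kronecker`, and the `GeoR` variant.

* `Cfsg.Agent.Lib.Helper99.Asch.geo_of_kronecker` : exact sheet statement (uses helper47's [DET4]).
* `Cfsg.Agent.Lib.Helper25.AschC4.geo_of_kronecker_aux_R` : the `GeoR` version with the `GeoR` form of [DET4]
  (`geo_of_kronecker_two_two_R`) as hypothesis `hdet4`.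
-/

set_option autoImplicit false

namespace Cfsg.Agent.Lib.Helper25.AschC4

open Cfsg Cfsg.Geo Cfsg.Agent.Lib.Helper99.Asch
open scoped MatrixGroups Matrix Kronecker

variable {n : ℕ} {F : Type*} [Field F]

theorem geo_of_kronecker_aux_R [Fintype F]
    (hdet4 : ∀ (H : Subgroup (GL (Fin n) F)) (idx : Fin n ≃ Fin 2 × Fin 2) (B : GL (Fin n) F),
      (∀ h ∈ H, ∃ (a b : GL (Fin 2) F),
        ((B * h * B⁻¹ : GL (Fin n) F) : Matrix (Fin n) (Fin n) F) =
        Matrix.reindex idx.symm idx.symm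
          ((a : Matrix (Fin 2) (Fin 2) F) ⊗ₖ (b : Matrix (Fin 2) (Fin 2) F))) → GeoR H)
    (H : Subgroup (GL (Fin n) F)) (d e : ℕ) (hd : 2 ≤ d) (he : 2 ≤ e)
    (idx : Fin n ≃ Fin d × Fin e) (B : GL (Fin n) F)
    (hH : ∀ h ∈ H, ∃ (a : GL (Fin d) F) (b : GL (Fin e) F),
      ((B * h * B⁻¹ : GL (Fin n) F) : Matrix (Fin n) (Fin n) F) =
      Matrix.reindex idx.symm idx.symm
        ((a : Matrix (Fin d) (Fin d) F) ⊗ₖ (b : Matrix (Fin e) (Fin e) F))) :
    GeoR H := by
  rcases lt_trichotomy d e with hlt | heq | hgt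
  · -- class 4 with (d, e)
    refine ⟨tensorProductSubgroup d e idx B⁻¹, ?_, ?_⟩
    · right; right; right; right; right; left
      exact ⟨d, e, idx, B⁻¹, hd, hlt, rfl⟩
    · intro h hh
      obtain ⟨a, b, hab⟩ := hH h hh
      apply mem_conj_reindex idx B h
      refine ⟨a, b, ?_⟩
      rw [glReindex_val, hab]
      ext i j
      simp
  · subst heq
    rcases Nat.lt_or_ge 2 d with h3 | h2
    · -- class 7 with t = 2
      refine ⟨tensorWreathSubgroup d 2
        (idx.trans (piFinTwoEquiv (fun _ => Fin d)).symm) B⁻¹, ?_, ?_⟩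
      · right; right; right; right; right; right; right; right; left
        exact ⟨d, 2, _, B⁻¹, h3, le_refl 2, rfl⟩
      · intro h hh
        obtain ⟨a, b, hab⟩ := hH h hh
        apply mem_conj_reindex (idx.trans (piFinTwoEquiv (fun _ => Fin d)).symm) B h
        apply Subgroup.subset_closure
        left
        refine ⟨![a, b], ?_⟩
        intro x y
        rw [glReindex_val, hab, Fin.prod_univ_two]
        simp [Matrix.kroneckerMap_apply]
    · have hd2 : d = 2 := le_antisymm h2 hd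
      subst hd2
      exact hdet4 H idx B hH
  · -- class 4 with (e, d)
    refine ⟨tensorProductSubgroup e d (idx.trans (Equiv.prodComm _ _)) B⁻¹, ?_, ?_⟩
    · right; right; right; right; right; left
      exact ⟨e, d, _, B⁻¹, he, hgt, rfl⟩
    · intro h hh
      obtain ⟨a, b, hab⟩ := hH h hh
      apply mem_conj_reindex (idx.trans (Equiv.prodComm _ _)) B h
      refine ⟨b, a, ?_⟩
      rw [glReindex_val, hab]
      ext i j
      simp [Matrix.kroneckerMap_apply, mul_comm]

end Cfsg.Agent.Lib.Helper25.AschC4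

namespace Cfsg.Agent.Lib.Helper99.Asch

open Cfsg Cfsg.Geo
open scoped MatrixGroups Matrix Kronecker

variable {n : ℕ} {F : Type*} [Field F] [Fintype F]

/-- ASCH-[C4] (exact sheet statement). -/
theorem geo_of_kronecker (H : Subgroup (GL (Fin n) F)) (d e : ℕ) (hd : 2 ≤ d) (he : 2 ≤ e)
    (idx : Fin n ≃ Fin d × Fin e) (B : GL (Fin n) F)
    (hH : ∀ h ∈ H, ∃ (a : GL (Fin d) F) (b : GL (Fin e) F),
      ((B * h * B⁻¹ : GL (Fin n) F) : Matrix (Fin n) (Fin n) F) =
      Matrix.reindex idx.symm idx.symm ((a : Matrix (Fin d) (Fin d) F) ⊗ₖ (b : Matrix (Fin e) (Fin e) F))) :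
    Geo H :=
  Cfsg.Agent.Lib.Helper25.AschC4.geo_of_kronecker_aux
    (fun H idx B hH => geo_of_kronecker_two_two H idx B hH) H d e hd he idx B hH

end Cfsg.Agent.Lib.Helper99.Asch
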