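import Mathlib
import Cfsg.Prelude.Def_GeometricClasses
import Cfsg.Agent.Lib.Helper99.AschDefs

/-!
# ASCH-[NF] (project ASCH, helper99): tensor normal form of an isotypic normalised subgroup (helper25)

HEDGE of helper51's `Lib/Helper51/AschNF.lean` (which landed first and carries the sheet name); this file keeps
its statement as `tensorNF_of_isotypic_aux` and exports the reusable pieces:
`commute_of_commutant` (Schur + Wedderburn: commutant of an irreducible set over a finite field is commutative),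
`isUnit_of_commute_of_irr`, `kron_one_mul_comm_iff` (blockwise commutation with `m ⊗ₖ 1`), `tensorNF_core`
(matrix core), `tensorNF_abstract` (any ring `A` acting on `F^n` semisimply and isotypically),
`aMat`, `aMat_irr`, `coordB`, `coordB_conj`.
-/

set_option autoImplicit false
set_option linter.style.haveILetI false
set_option linter.unusedSectionVars false

namespace Cfsg.Agent.Lib.Helper25.AschNF

open Cfsg Cfsg.Geo Cfsg.Agent.Lib.Helper99.Asch
open scoped MatrixGroups Matrix Kronecker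

variable {F : Type*} [Field F]

/-- `a ↦ a ⊗ₖ 1` is injective when the second factor is nonempty. -/
theorem kron_one_injective {d e : ℕ} (he : 0 < e) {a a' : Matrix (Fin d) (Fin d) F}
    (h : a ⊗ₖ (1 : Matrix (Fin e) (Fin e) F) = a' ⊗ₖ (1 : Matrix (Fin e) (Fin e) F)) : a = a' := by
  ext i k
  have := congrFun (congrFun h (i, ⟨0, he⟩)) (k, ⟨0, he⟩)
  simpa [Matrix.kroneckerMap_apply] using this

/-- Schur: in an irreducible set of matrices, a nonzero matrix commuting with the set is invertible. -/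
theorem isUnit_of_commute_of_irr {d : ℕ} {S : Set (Matrix (Fin d) (Fin d) F)}
    (hS : ActsIrreducibly S) {M : Matrix (Fin d) (Fin d) F} (hM : ∀ s ∈ S, M * s = s * M)
    (h0 : M ≠ 0) : IsUnit M := by
  have hker : LinearMap.ker (Matrix.toLin' M) = ⊥ ∨ LinearMap.ker (Matrix.toLin' M) = ⊤ := by
    apply hS
    intro s hs v hv
    obtain ⟨w, hw, rfl⟩ := hv
    rw [SetLike.mem_coe, LinearMap.mem_ker] at hw
    rw [LinearMap.mem_ker]
    rw [Matrix.toLin'_apply] at hw ⊢
    rw [Matrix.toLin'_apply, Matrix.mulVec_mulVec, hM s hs, ← Matrix.mulVec_mulVec, hw,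
      Matrix.mulVec_zero]
  rcases hker with h | h
  · rw [← Matrix.mulVec_injective_iff_isUnit]
    have : Function.Injective (Matrix.toLin' M) := LinearMap.ker_eq_bot.mp h
    intro v w hvw
    apply this
    rw [Matrix.toLin'_apply, Matrix.toLin'_apply, hvw]
  · exfalso
    apply h0
    have h1 : Matrix.toLin' M = 0 := LinearMap.ker_eq_top.mp h
    have h2 : Matrix.toLin' M = Matrix.toLin' (0 : Matrix (Fin d) (Fin d) F) := by
      rw [h1, map_zero]
    exact Matrix.toLin'.injective h2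

/-- Over a finite field the commutant of an irreducible set of matrices is commutative
(Schur + Wedderburn). -/
theorem commute_of_commutant {d : ℕ} [Finite F] {S : Set (Matrix (Fin d) (Fin d) F)}
    (hS : ActsIrreducibly S) {M M' : Matrix (Fin d) (Fin d) F}
    (hM : ∀ s ∈ S, M * s = s * M) (hM' : ∀ s ∈ S, M' * s = s * M') : M * M' = M' * M := by
  classical
  rcases Nat.eq_zero_or_pos d with hd | hd
  · subst hd
    exact Subsingleton.elim _ _
  haveI : Nonempty (Fin d) := ⟨⟨0, hd⟩⟩
  let D : Subalgebra F (Matrix (Fin d) (Fin d) F) := Subalgebra.centralizer F S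
  have hmem : ∀ z : Matrix (Fin d) (Fin d) F, z ∈ D ↔ ∀ s ∈ S, z * s = s * z := by
    intro z
    rw [Subalgebra.mem_centralizer_iff]
    constructor
    · intro h s hs; exact (h s hs).symm
    · intro h s hs; exact (h s hs).symm
  haveI : Nontrivial D := ⟨⟨0, 1, fun h => by
    have := congrArg Subtype.val h
    exact zero_ne_one this⟩⟩
  haveI : NoZeroDivisors D := ⟨by
    intro x y hxy
    by_cases hx : x = 0
    · exact Or.inl hx
    · right
      have hx' : (x : Matrix (Fin d) (Fin d) F) ≠ 0 := fun h => hx (Subtype.ext h)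
      have hu := isUnit_of_commute_of_irr hS ((hmem _).mp x.2) hx'
      have h1 : (x : Matrix (Fin d) (Fin d) F) * (y : Matrix (Fin d) (Fin d) F) = 0 := by
        have := congrArg Subtype.val hxy
        simpa using this
      apply Subtype.ext
      exact (hu.mul_right_eq_zero).mp h1⟩
  haveI : IsDomain D := NoZeroDivisors.to_isDomain D
  have hfield := Finite.isDomain_to_isField D
  have h := hfield.mul_comm ⟨M, (hmem M).mpr hM⟩ ⟨M', (hmem M').mpr hM'⟩
  exact congrArg Subtype.val h

/-- Commuting with `m ⊗ₖ 1` is checked blockwise. -/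
theorem kron_one_mul_comm_iff {d e : ℕ} (m : Matrix (Fin d) (Fin d) F)
    (Z : Matrix (Fin d × Fin e) (Fin d × Fin e) F) :
    (m ⊗ₖ (1 : Matrix (Fin e) (Fin e) F)) * Z = Z * (m ⊗ₖ (1 : Matrix (Fin e) (Fin e) F)) ↔
      ∀ j l : Fin e, m * (Matrix.of fun i k => Z (i, j) (k, l)) =
        (Matrix.of fun i k => Z (i, j) (k, l)) * m := by
  have hL : ∀ i j k l, ((m ⊗ₖ (1 : Matrix (Fin e) (Fin e) F)) * Z) (i, j) (k, l) =
      (m * (Matrix.of fun i k => Z (i, j) (k, l))) i k := by
    intro i j k l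
    rw [Matrix.mul_apply, Matrix.mul_apply, Fintype.sum_prod_type]
    apply Finset.sum_congr rfl
    intro i' _
    rw [Finset.sum_eq_single j]
    · simp [Matrix.kroneckerMap_apply]
    · intro j' _ hj'
      simp [Matrix.kroneckerMap_apply, hj'.symm]
    · intro h; exact absurd (Finset.mem_univ j) h
  have hR : ∀ i j k l, (Z * (m ⊗ₖ (1 : Matrix (Fin e) (Fin e) F))) (i, j) (k, l) =
      ((Matrix.of fun i k => Z (i, j) (k, l)) * m) i k := by
    intro i j k l
    rw [Matrix.mul_apply, Matrix.mul_apply, Fintype.sum_prod_type]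
    apply Finset.sum_congr rfl
    intro k' _
    rw [Finset.sum_eq_single l]
    · simp [Matrix.kroneckerMap_apply]
    · intro l' _ hl'
      simp [Matrix.kroneckerMap_apply, hl']
    · intro h; exact absurd (Finset.mem_univ l) h
  constructor
  · intro h j l
    ext i k
    rw [← hL, ← hR, h]
  · intro h
    ext ⟨i, j⟩ ⟨k, l⟩
    rw [hL, hR, h j l]

/-- Matrix core of ASCH-[NF]. -/
theorem tensorNF_core {n d e : ℕ} [Finite F] (he : 0 < e) (N : Subgroup (GL (Fin n) F))
    (idx : Fin n ≃ Fin d × Fin e) (B : GL (Fin n) F) (a : GL (Fin n) F → GL (Fin d) F)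
    (h1 : ∀ x ∈ N, ((B * x * B⁻¹ : GL (Fin n) F) : Matrix (Fin n) (Fin n) F) =
        Matrix.reindex idx.symm idx.symm
          ((a x : Matrix (Fin d) (Fin d) F) ⊗ₖ (1 : Matrix (Fin e) (Fin e) F)))
    (hirr : ActsIrreducibly {m : Matrix (Fin d) (Fin d) F | ∃ x ∈ N, m = (a x : Matrix _ _ F)})
    (hsc : ∀ x ∈ commutantCenter N, ∃ c : F, x = c • (1 : Matrix (Fin n) (Fin n) F)) :
    TensorNF N d e idx B := by
  classical
  refine ⟨fun x hx => ⟨a x, h1 x hx⟩, ?_⟩
  have hset : {a' : Matrix (Fin d) (Fin d) F | ∃ x ∈ N,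
      ((B * x * B⁻¹ : GL (Fin n) F) : Matrix (Fin n) (Fin n) F) =
        Matrix.reindex idx.symm idx.symm (a' ⊗ₖ (1 : Matrix (Fin e) (Fin e) F))} =
      {m : Matrix (Fin d) (Fin d) F | ∃ x ∈ N, m = (a x : Matrix _ _ F)} := by
    ext a'
    constructor
    · rintro ⟨x, hx, hxa⟩
      refine ⟨x, hx, ?_⟩
      rw [h1 x hx] at hxa
      exact (kron_one_injective he ((Matrix.reindex idx.symm idx.symm).injective hxa)).symm
    · rintro ⟨x, hx, rfl⟩
      exact ⟨x, hx, h1 x hx⟩
  rw [hset]
  refine ⟨hirr, ?_⟩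
  intro M hM
  -- the transport map
  let Ψ : Matrix (Fin n) (Fin n) F → Matrix (Fin d × Fin e) (Fin d × Fin e) F := fun Y =>
    Matrix.reindex idx idx ((B : Matrix (Fin n) (Fin n) F) * Y *
      ((B⁻¹ : GL (Fin n) F) : Matrix (Fin n) (Fin n) F))
  have hBB : ((B⁻¹ : GL (Fin n) F) : Matrix (Fin n) (Fin n) F) * (B : Matrix (Fin n) (Fin n) F) = 1 := by
    rw [← Units.val_mul, inv_mul_cancel, Units.val_one]
  have hBB' : (B : Matrix (Fin n) (Fin n) F) * ((B⁻¹ : GL (Fin n) F) : Matrix (Fin n) (Fin n) F) = 1 := by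
    rw [← Units.val_mul, mul_inv_cancel, Units.val_one]
  have hΨmul : ∀ Y Z, Ψ (Y * Z) = Ψ Y * Ψ Z := by
    intro Y Z
    show Matrix.reindex idx idx _ = Matrix.reindex idx idx _ * Matrix.reindex idx idx _
    rw [Matrix.reindex_apply, Matrix.reindex_apply, Matrix.reindex_apply,
      Matrix.submatrix_mul_equiv]
    congr 1
    symm
    calc (B : Matrix (Fin n) (Fin n) F) * Y * ((B⁻¹ : GL (Fin n) F) : Matrix (Fin n) (Fin n) F) *
          ((B : Matrix (Fin n) (Fin n) F) * Z * ((B⁻¹ : GL (Fin n) F) : Matrix (Fin n) (Fin n) F))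
        = (B : Matrix (Fin n) (Fin n) F) * Y * (((B⁻¹ : GL (Fin n) F) : Matrix (Fin n) (Fin n) F) *
            (B : Matrix (Fin n) (Fin n) F)) * Z * ((B⁻¹ : GL (Fin n) F) : Matrix (Fin n) (Fin n) F) := by
          simp only [mul_assoc]
      _ = (B : Matrix (Fin n) (Fin n) F) * (Y * Z) *
            ((B⁻¹ : GL (Fin n) F) : Matrix (Fin n) (Fin n) F) := by
          rw [hBB, mul_one]
          simp only [mul_assoc]
  have hΨinj : Function.Injective Ψ := by
    intro Y Z hYZ
    have h2 := (Matrix.reindex idx idx).injective hYZ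
    calc Y = ((B⁻¹ : GL (Fin n) F) : Matrix (Fin n) (Fin n) F) * ((B : Matrix (Fin n) (Fin n) F) * Y *
            ((B⁻¹ : GL (Fin n) F) : Matrix (Fin n) (Fin n) F)) * (B : Matrix (Fin n) (Fin n) F) := by
          simp only [mul_assoc, hBB, mul_one]
          rw [← mul_assoc, hBB, one_mul]
      _ = ((B⁻¹ : GL (Fin n) F) : Matrix (Fin n) (Fin n) F) * ((B : Matrix (Fin n) (Fin n) F) * Z *
            ((B⁻¹ : GL (Fin n) F) : Matrix (Fin n) (Fin n) F)) * (B : Matrix (Fin n) (Fin n) F) := by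
          rw [h2]
      _ = Z := by
          simp only [mul_assoc, hBB, mul_one]
          rw [← mul_assoc, hBB, one_mul]
  have hΨN : ∀ x ∈ N, Ψ (x : Matrix (Fin n) (Fin n) F) =
      (a x : Matrix (Fin d) (Fin d) F) ⊗ₖ (1 : Matrix (Fin e) (Fin e) F) := by
    intro x hx
    have h2 := h1 x hx
    rw [Units.val_mul, Units.val_mul] at h2
    show Matrix.reindex idx idx _ = _
    rw [h2]
    ext p q
    simp
  obtain ⟨C, hCdef⟩ : ∃ C : Matrix (Fin n) (Fin n) F,
      C = ((B⁻¹ : GL (Fin n) F) : Matrix (Fin n) (Fin n) F) *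
        Matrix.reindex idx.symm idx.symm (M ⊗ₖ (1 : Matrix (Fin e) (Fin e) F)) *
        (B : Matrix (Fin n) (Fin n) F) := ⟨_, rfl⟩
  have hΨC : Ψ C = M ⊗ₖ (1 : Matrix (Fin e) (Fin e) F) := by
    show Matrix.reindex idx idx _ = _
    have : (B : Matrix (Fin n) (Fin n) F) * C * ((B⁻¹ : GL (Fin n) F) : Matrix (Fin n) (Fin n) F) =
        Matrix.reindex idx.symm idx.symm (M ⊗ₖ (1 : Matrix (Fin e) (Fin e) F)) := by
      rw [hCdef]
      simp only [mul_assoc, hBB', mul_one]
      rw [← mul_assoc, hBB', one_mul]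
    rw [this]
    ext p q
    simp
  have hcommM : ∀ m : Matrix (Fin d) (Fin d) F, M * m = m * M →
      (M ⊗ₖ (1 : Matrix (Fin e) (Fin e) F)) * (m ⊗ₖ (1 : Matrix (Fin e) (Fin e) F)) =
      (m ⊗ₖ (1 : Matrix (Fin e) (Fin e) F)) * (M ⊗ₖ (1 : Matrix (Fin e) (Fin e) F)) := by
    intro m hm
    rw [← Matrix.mul_kronecker_mul, ← Matrix.mul_kronecker_mul, hm]
  have hC1 : C ∈ commutant N := by
    unfold commutant
    rw [Subalgebra.mem_centralizer_iff]
    rintro _ ⟨x, hx, rfl⟩
    apply hΨinj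
    rw [hΨmul, hΨmul, hΨN x hx, hΨC]
    exact (hcommM _ (hM _ ⟨x, hx, rfl⟩)).symm
  have hC2 : C ∈ Subalgebra.centralizer F (commutant N : Set (Matrix (Fin n) (Fin n) F)) := by
    rw [Subalgebra.mem_centralizer_iff]
    intro Y hY
    apply hΨinj
    rw [hΨmul, hΨmul, hΨC]
    have hY' : ∀ x ∈ N, ((a x : Matrix (Fin d) (Fin d) F) ⊗ₖ (1 : Matrix (Fin e) (Fin e) F)) * Ψ Y =
        Ψ Y * ((a x : Matrix (Fin d) (Fin d) F) ⊗ₖ (1 : Matrix (Fin e) (Fin e) F)) := by
      intro x hx
      rw [← hΨN x hx, ← hΨmul, ← hΨmul]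
      congr 1
      have := (Subalgebra.mem_centralizer_iff F).mp hY (x : Matrix (Fin n) (Fin n) F) ⟨x, hx, rfl⟩
      exact this
    have hblk : ∀ j l : Fin e, M * (Matrix.of fun i k => Ψ Y (i, j) (k, l)) =
        (Matrix.of fun i k => Ψ Y (i, j) (k, l)) * M := by
      intro j l
      apply commute_of_commutant hirr hM
      rintro _ ⟨x, hx, rfl⟩
      exact (((kron_one_mul_comm_iff _ _).mp (hY' x hx)) j l).symm
    exact ((kron_one_mul_comm_iff M (Ψ Y)).mpr hblk).symm
  obtain ⟨c, hc⟩ := hsc C ⟨hC1, hC2⟩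
  refine ⟨c, ?_⟩
  have hΨc : Ψ C = c • (1 : Matrix (Fin d × Fin e) (Fin d × Fin e) F) := by
    rw [hc]
    show Matrix.reindex idx idx _ = _
    rw [Matrix.mul_smul, mul_one, Matrix.smul_mul, hBB']
    ext p q
    simp [Matrix.one_apply]
  rw [hΨC] at hΨc
  ext i k
  have := congrFun (congrFun hΨc (i, ⟨0, he⟩)) (k, ⟨0, he⟩)
  simpa [Matrix.kroneckerMap_apply, Matrix.one_apply] using this

variable {n : ℕ}

section Act

variable {A : Type*} [Ring A] [Algebra F A] [Module A (Fin n → F)] [IsScalarTower F A (Fin n → F)]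

/-- the action of `a : A` on `F^n` as an `F`-linear map -/
noncomputable def lsm (a : A) : (Fin n → F) →ₗ[F] (Fin n → F) where
  toFun v := a • v
  map_add' := smul_add a
  map_smul' c v := smul_comm a c v

variable (W : Submodule A (Fin n → F))

/-- the action of `A` on a submodule, as `F`-linear maps -/
noncomputable def actW (a : A) : W →ₗ[F] W where
  toFun w := a • w
  map_add' := smul_add a
  map_smul' c w := smul_comm a c w

theorem actW_mul (a a' : A) : actW W (a * a') = actW W a ∘ₗ actW W a' := by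
  apply LinearMap.ext
  intro w
  show (a * a') • w = a • (a' • w)
  rw [mul_smul]

theorem actW_one : actW W (1 : A) = LinearMap.id := by
  apply LinearMap.ext
  intro w
  show (1 : A) • w = w
  rw [one_smul]

theorem actW_add (a a' : A) : actW W (a + a') = actW W a + actW W a' := by
  apply LinearMap.ext
  intro w
  show (a + a') • w = a • w + a' • w
  rw [add_smul]

theorem actW_algebraMap (r : F) : actW W (algebraMap F A r) = r • LinearMap.id := by
  apply LinearMap.ext
  intro w
  show (algebraMap F A r) • w = r • w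
  rw [algebraMap_smul]

variable {d : ℕ} (b : Module.Basis (Fin d) F W)

/-- matrix of `a : A` acting on `W` in the basis `b` -/
noncomputable def aMat (a : A) : Matrix (Fin d) (Fin d) F :=
  LinearMap.toMatrix b b (actW W a)

theorem aMat_mul (a a' : A) : aMat W b (a * a') = aMat W b a * aMat W b a' := by
  unfold aMat
  rw [actW_mul, LinearMap.toMatrix_comp b b b]

theorem aMat_one : aMat W b (1 : A) = 1 := by
  unfold aMat
  rw [actW_one, LinearMap.toMatrix_id]

theorem aMat_add (a a' : A) : aMat W b (a + a') = aMat W b a + aMat W b a' := by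
  unfold aMat
  rw [actW_add, map_add]

theorem aMat_algebraMap (r : F) : aMat W b (algebraMap F A r) = r • 1 := by
  unfold aMat
  rw [actW_algebraMap, map_smul, LinearMap.toMatrix_id]

theorem aMat_mulVec_repr (a : A) (w : W) :
    aMat W b a *ᵥ (b.repr w) = b.repr (a • w) := by
  unfold aMat
  rw [LinearMap.toMatrix_mulVec_repr]
  rfl

/-- If `G` generates `A` as an algebra and `W` is simple, then the matrices `aMat g`, `g ∈ G`, act
irreducibly. -/
theorem aMat_irr (G : Set A) (hG : Algebra.adjoin F G = ⊤) [IsSimpleModule A W] :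
    ActsIrreducibly {m : Matrix (Fin d) (Fin d) F | ∃ g ∈ G, m = aMat W b g} := by
  intro U hU
  -- the subalgebra of elements preserving U
  let 𝒮 : Subalgebra F A :=
    { carrier := {a | ∀ u ∈ U, aMat W b a *ᵥ u ∈ U}
      mul_mem' := by
        intro a a' ha ha' u hu
        rw [aMat_mul, ← Matrix.mulVec_mulVec]
        exact ha _ (ha' u hu)
      add_mem' := by
        intro a a' ha ha' u hu
        rw [aMat_add, Matrix.add_mulVec]
        exact U.add_mem (ha u hu) (ha' u hu)
      algebraMap_mem' := by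
        intro r u hu
        rw [aMat_algebraMap, Matrix.smul_mulVec, Matrix.one_mulVec]
        exact U.smul_mem r hu }
  have hGS : G ⊆ 𝒮 := by
    intro g hg u hu
    apply hU _ ⟨g, hg, rfl⟩
    exact ⟨u, hu, by rw [Matrix.toLin'_apply]⟩
  have hS : 𝒮 = ⊤ := by
    rw [eq_top_iff, ← hG]
    exact Algebra.adjoin_le hGS
  have hall : ∀ a : A, ∀ u ∈ U, aMat W b a *ᵥ u ∈ U := by
    intro a
    have : a ∈ 𝒮 := by rw [hS]; exact Algebra.mem_top
    exact this
  let U' : Submodule A W :=
    { carrier := {w | ⇑(b.repr w) ∈ U}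
      add_mem' := by
        intro w w' hw hw'
        show ⇑(b.repr (w + w')) ∈ U
        rw [map_add]
        exact U.add_mem hw hw'
      zero_mem' := by
        show ⇑(b.repr (0 : W)) ∈ U
        rw [map_zero]
        exact U.zero_mem
      smul_mem' := by
        intro a w hw
        show ⇑(b.repr (a • w)) ∈ U
        rw [← aMat_mulVec_repr]
        exact hall a _ hw }
  rcases eq_bot_or_eq_top U' with h | h
  · left
    rw [eq_bot_iff]
    intro u hu
    have hmem : b.equivFun.symm u ∈ U' := by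
      show ⇑(b.repr (b.equivFun.symm u)) ∈ U
      have : ⇑(b.repr (b.equivFun.symm u)) = u := b.equivFun.apply_symm_apply u
      rw [this]; exact hu
    rw [h, Submodule.mem_bot] at hmem
    have h3 := congrArg b.equivFun hmem
    rw [LinearEquiv.apply_symm_apply, map_zero] at h3
    rw [h3]; exact Submodule.zero_mem _
  · right
    rw [eq_top_iff]
    intro u _
    have hmem : b.equivFun.symm u ∈ U' := by rw [h]; exact Submodule.mem_top
    have h2 : ⇑(b.repr (b.equivFun.symm u)) = u := b.equivFun.apply_symm_apply u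
    rw [← h2]
    exact hmem

end Act

section Coord

variable {d e : ℕ} (idx : Fin n ≃ Fin d × Fin e)

/-- rearranging coordinates `(Fin e → Fin d → F) ≃ (Fin n → F)` along `idx` -/
noncomputable def coordE : (Fin e → Fin d → F) ≃ₗ[F] (Fin n → F) where
  toFun g := fun k => g (idx k).2 (idx k).1
  map_add' g g' := by funext k; rfl
  map_smul' c g := by funext k; rfl
  invFun h := fun j i => h (idx.symm (i, j))
  left_inv g := by funext j i; simp
  right_inv h := by funext k; simp

variable {A : Type*} [Ring A] [Algebra F A] [Module A (Fin n → F)] [IsScalarTower F A (Fin n → F)]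
  (W : Submodule A (Fin n → F)) (b : Module.Basis (Fin d) F W)
  (Φ : (Fin n → F) ≃ₗ[A] (Fin e → W))

/-- the coordinate isomorphism `F^n ≃ F^n` adapted to `Φ`, `b`, `idx` -/
noncomputable def coordT : (Fin n → F) ≃ₗ[F] (Fin n → F) :=
  ((Φ.restrictScalars F).trans (LinearEquiv.piCongrRight fun _ : Fin e => b.equivFun)).trans
    (coordE idx)

theorem coordT_apply (v : Fin n → F) (k : Fin n) :
    coordT idx W b Φ v k = b.repr (Φ v (idx k).2) (idx k).1 := rfl

/-- the change of basis matrix -/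
noncomputable def coordB : GL (Fin n) F :=
  ⟨LinearMap.toMatrix' (coordT idx W b Φ : (Fin n → F) →ₗ[F] (Fin n → F)),
   LinearMap.toMatrix' ((coordT idx W b Φ).symm : (Fin n → F) →ₗ[F] (Fin n → F)),
   by rw [← LinearMap.toMatrix'_comp]; simp,
   by rw [← LinearMap.toMatrix'_comp]; simp⟩

theorem coordB_mulVec (v : Fin n → F) :
    ((coordB idx W b Φ : GL (Fin n) F) : Matrix (Fin n) (Fin n) F) *ᵥ v = coordT idx W b Φ v := by
  show LinearMap.toMatrix' _ *ᵥ v = _
  rw [← Matrix.toLin'_apply, Matrix.toLin'_toMatrix']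
  rfl

theorem coordT_smul (a : A) (v : Fin n → F) (k : Fin n) :
    coordT idx W b Φ (a • v) k = (aMat W b a *ᵥ b.repr (Φ v (idx k).2)) (idx k).1 := by
  rw [coordT_apply, map_smul, aMat_mulVec_repr]
  rfl

/-- the key identity: in the new coordinates `a : A` acts as `aMat a ⊗ 1`. -/
theorem coordB_mul (a : A) (X : Matrix (Fin n) (Fin n) F) (hX : ∀ v, X *ᵥ v = a • v) :
    ((coordB idx W b Φ : GL (Fin n) F) : Matrix (Fin n) (Fin n) F) * X =
      Matrix.reindex idx.symm idx.symm (aMat W b a ⊗ₖ (1 : Matrix (Fin e) (Fin e) F)) *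
        ((coordB idx W b Φ : GL (Fin n) F) : Matrix (Fin n) (Fin n) F) := by
  apply Matrix.toLin'.injective
  apply LinearMap.ext
  intro v
  rw [Matrix.toLin'_apply, Matrix.toLin'_apply, ← Matrix.mulVec_mulVec, ← Matrix.mulVec_mulVec,
    coordB_mulVec, coordB_mulVec, hX]
  funext k
  rw [coordT_smul]
  rw [Matrix.mulVec, dotProduct, Matrix.mulVec, dotProduct]
  rw [← Equiv.sum_comp idx.symm, Fintype.sum_prod_type]
  apply Finset.sum_congr rfl
  intro i' _
  rw [Finset.sum_eq_single (idx k).2]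
  · simp [Matrix.kroneckerMap_apply, coordT_apply]
  · intro j' _ hj'
    simp [Matrix.kroneckerMap_apply, hj'.symm]
  · intro h; exact absurd (Finset.mem_univ _) h

theorem coordB_conj (a : A) (X : GL (Fin n) F)
    (hX : ∀ v, (X : Matrix (Fin n) (Fin n) F) *ᵥ v = a • v) :
    ((coordB idx W b Φ * X * (coordB idx W b Φ)⁻¹ : GL (Fin n) F) : Matrix (Fin n) (Fin n) F) =
      Matrix.reindex idx.symm idx.symm (aMat W b a ⊗ₖ (1 : Matrix (Fin e) (Fin e) F)) := by
  rw [Units.val_mul, Units.val_mul, coordB_mul idx W b Φ a _ hX, mul_assoc, ← Units.val_mul,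
    mul_inv_cancel, Units.val_one, mul_one]

end Coord


section Final

variable [Fintype F]

/-- abstract form of ASCH-[NF] -/
theorem tensorNF_abstract (hn : 0 < n) {A : Type*} [Ring A] [Algebra F A] [Module A (Fin n → F)]
    [IsScalarTower F A (Fin n → F)] [IsSemisimpleModule A (Fin n → F)]
    (hiso : IsIsotypic A (Fin n → F)) (N : Subgroup (GL (Fin n) F))
    (γ : ∀ g : GL (Fin n) F, g ∈ N → A)
    (hγ : ∀ (g : GL (Fin n) F) (hg : g ∈ N) (v : Fin n → F),
      (g : Matrix (Fin n) (Fin n) F) *ᵥ v = γ g hg • v)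
    (hγmul : ∀ (g h : GL (Fin n) F) (hg : g ∈ N) (hh : h ∈ N),
      γ g hg * γ h hh = γ (g * h) (N.mul_mem hg hh))
    (hγone : γ 1 N.one_mem = 1)
    (hG : Algebra.adjoin F {a : A | ∃ g hg, a = γ g hg} = ⊤)
    (hsc : ∀ x ∈ commutantCenter N, ∃ c : F, x = c • (1 : Matrix (Fin n) (Fin n) F)) :
    ∃ (d e : ℕ) (idx : Fin n ≃ Fin d × Fin e) (B : GL (Fin n) F), TensorNF N d e idx B := by
  classical
  haveI : Nonempty (Fin n) := ⟨⟨0, hn⟩⟩
  haveI : Module.Finite A (Fin n → F) :=
    Module.Finite.of_restrictScalars_finite F A (Fin n → F)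
  obtain ⟨e, he, W, hW, ⟨Φ⟩⟩ := hiso.linearEquiv_fun
  have he0 : 0 < e := Nat.pos_of_ne_zero (NeZero.ne e)
  haveI : Module.Finite F W :=
    Module.Finite.of_injective (W.subtype.restrictScalars F) Subtype.val_injective
  obtain ⟨d, hd⟩ : ∃ d, d = Module.finrank F W := ⟨_, rfl⟩
  let b : Module.Basis (Fin d) F W := (Module.finBasis F W).reindex (finCongr hd.symm)
  -- cardinality
  have hcard : Fintype.card (Fin n) = Fintype.card (Fin e × Fin d) := by
    have E1 : (Fin n → F) ≃ₗ[F] (Fin e × Fin d → F) :=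
      ((Φ.restrictScalars F).trans (LinearEquiv.piCongrRight fun _ : Fin e => b.equivFun)).trans
        (LinearEquiv.curry F F (Fin e) (Fin d)).symm
    have h := E1.finrank_eq
    rw [Module.finrank_fintype_fun_eq_card, Module.finrank_fintype_fun_eq_card] at h
    exact h
  let idx : Fin n ≃ Fin d × Fin e := (Fintype.equivOfCardEq hcard).trans (Equiv.prodComm _ _)
  let B : GL (Fin n) F := coordB idx W b Φ
  let a : GL (Fin n) F → GL (Fin d) F := fun g =>
    if hg : g ∈ N then
      ⟨aMat W b (γ g hg), aMat W b (γ g⁻¹ (N.inv_mem hg)),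
        by rw [← aMat_mul, hγmul]; simp only [mul_inv_cancel]; rw [hγone, aMat_one],
        by rw [← aMat_mul, hγmul]; simp only [inv_mul_cancel]; rw [hγone, aMat_one]⟩
    else 1
  have ha : ∀ g (hg : g ∈ N), ((a g : GL (Fin d) F) : Matrix (Fin d) (Fin d) F) =
      aMat W b (γ g hg) := by
    intro g hg
    simp only [a, dif_pos hg]
  refine ⟨d, e, idx, B, tensorNF_core he0 N idx B a ?_ ?_ hsc⟩
  · intro x hx
    rw [ha x hx]
    exact coordB_conj idx W b Φ (γ x hx) x (fun v => hγ x hx v)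
  · have hirr := aMat_irr W b _ hG
    have hset2 : {m : Matrix (Fin d) (Fin d) F | ∃ x ∈ N, m = ((a x : GL (Fin d) F) : Matrix _ _ F)} =
        {m : Matrix (Fin d) (Fin d) F | ∃ g ∈ {a : A | ∃ g hg, a = γ g hg},
          m = aMat W b g} := by
      ext m
      constructor
      · rintro ⟨x, hx, rfl⟩
        exact ⟨γ x hx, ⟨x, hx, rfl⟩, ha x hx⟩
      · rintro ⟨g, ⟨x, hx, rfl⟩, rfl⟩
        exact ⟨x, hx, (ha x hx).symm⟩
    rw [hset2]
    exact hirr

omit [Fintype F] in
/-- the element of `endAlg N` given by `g ∈ N` -/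
noncomputable def gA (N : Subgroup (GL (Fin n) F)) (g : GL (Fin n) F) (hg : g ∈ N) : endAlg N :=
  ⟨Matrix.toLin' (g : Matrix (Fin n) (Fin n) F), Algebra.subset_adjoin ⟨g, hg, rfl⟩⟩

omit [Fintype F] in
theorem gA_mul (N : Subgroup (GL (Fin n) F)) (g h : GL (Fin n) F) (hg : g ∈ N) (hh : h ∈ N) :
    gA N g hg * gA N h hh = gA N (g * h) (N.mul_mem hg hh) := by
  apply Subtype.ext
  show Matrix.toLin' _ * Matrix.toLin' _ = Matrix.toLin' _
  rw [Units.val_mul, Matrix.toLin'_mul]
  rfl

omit [Fintype F] in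
theorem gA_one (N : Subgroup (GL (Fin n) F)) : gA N 1 N.one_mem = 1 := by
  apply Subtype.ext
  show Matrix.toLin' _ = _
  rw [Units.val_one, Matrix.toLin'_one]
  rfl

omit [Fintype F] in
theorem gA_smul (N : Subgroup (GL (Fin n) F)) (g : GL (Fin n) F) (hg : g ∈ N) (v : Fin n → F) :
    (g : Matrix (Fin n) (Fin n) F) *ᵥ v = gA N g hg • v := by
  show _ = Matrix.toLin' _ v
  rw [Matrix.toLin'_apply]

omit [Fintype F] in
theorem adjoin_gA (N : Subgroup (GL (Fin n) F)) :
    Algebra.adjoin F {a : endAlg N | ∃ g hg, a = gA N g hg} = ⊤ := by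
  have h0 := Algebra.adjoin_adjoin_coe_preimage (R := F)
    (s := (fun g : GL (Fin n) F => Matrix.toLin' (g : Matrix (Fin n) (Fin n) F)) ''
      (N : Set (GL (Fin n) F)))
  have hset : {a : endAlg N | ∃ g hg, a = gA N g hg} =
      ((↑) : endAlg N → Module.End F (Fin n → F)) ⁻¹'
        ((fun g : GL (Fin n) F => Matrix.toLin' (g : Matrix (Fin n) (Fin n) F)) ''
          (N : Set (GL (Fin n) F))) := by
    ext g
    constructor
    · rintro ⟨x, hx, rfl⟩
      exact ⟨x, hx, rfl⟩
    · rintro ⟨x, hx, hxg⟩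
      exact ⟨x, hx, Subtype.ext hxg.symm⟩
  rw [hset]
  exact h0

theorem tensorNF_of_isotypic_aux (hn : 0 < n) (N : Subgroup (GL (Fin n) F))
    (hss : IsSemisimpleModule (endAlg N) (Fin n → F)) (hiso : IsIsotypic (endAlg N) (Fin n → F))
    (hsc : ∀ x ∈ commutantCenter N, ∃ c : F, x = c • (1 : Matrix (Fin n) (Fin n) F)) :
    ∃ (d e : ℕ) (idx : Fin n ≃ Fin d × Fin e) (B : GL (Fin n) F), TensorNF N d e idx B :=
  tensorNF_abstract hn hiso N (gA N) (gA_smul N) (gA_mul N) (gA_one N) (adjoin_gA N) hsc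

end Final

end Cfsg.Agent.Lib.Helper25.AschNF
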