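import Mathlib
import Cfsg.Prelude.Def_GeometricClasses
import Cfsg.Agent.Lib.Helper99.AschDefs
import Cfsg.Agent.Lib.Helper23.AschSpDefs
import Cfsg.Agent.Lib.Helper25.AschC4Aux
import Cfsg.Agent.Lib.Helper25.AschSpFormKit

/-!
# ASCHSP-[C4-ODD] (project ASCHSP, helper23): `TensorFormData` with `J₁` alternating, `C` symmetric,
`3 ≤ e`, `|F|` odd  ⇒  class 4.
-/

set_option autoImplicit false

namespace Cfsg.Agent.Lib.Helper23.AschSp

open Cfsg Cfsg.Geo Cfsg.Agent.Lib.Helper99.Asch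
open scoped MatrixGroups Matrix Kronecker

variable {n m : ℕ} {F : Type*} [Field F] [Fintype F] {f : (Fin n → F) → (Fin n → F) → F}

/-- ASCHSP-[C4-ODD] (sheet statement). -/
theorem sgeo_of_tensor_odd (hodd : Odd (Fintype.card F)) (H : Subgroup (GL (Fin n) F)) (hH : H ≤ isoGL f) {d e : ℕ}
    (idx : Fin n ≃ Fin d × Fin e) (B : GL (Fin n) F) (J₁ : Matrix (Fin d) (Fin d) F) (C : Matrix (Fin e) (Fin e) F)
    (hD : TensorFormData f H d e idx B J₁ C) (hJ : IsAltMat J₁) (hC : Cᵀ = C) (he : 3 ≤ e) : SGeo m f H := by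
  refine SGeo.of_c4 (M := tensorProductSubgroup d e idx B⁻¹ ⊓ isoGL f) ?_ ?_
  · refine ⟨d, e, idx, B⁻¹, formOfGram id J₁, formOfGram id C, hodd, he,
      Cfsg.Agent.Lib.Helper25.AschSp.isSymplecticForm_formOfGram J₁ hJ hD.det₁,
      Cfsg.Agent.Lib.Helper25.AschSp.isSymmetricForm_formOfGram C hC hD.det₂, ?_, rfl⟩
    refine ⟨1, one_ne_zero, fun x y => ?_⟩
    rw [Cfsg.Agent.Lib.Helper25.AschSp.gramMatrix_formOfGram,
      Cfsg.Agent.Lib.Helper25.AschSp.gramMatrix_formOfGram, one_mul]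
    exact hD.gram x y
  · intro h hh
    refine ⟨?_, hH hh⟩
    obtain ⟨a, b, hab⟩ := hD.kron h hh
    apply Cfsg.Agent.Lib.Helper25.AschC4.mem_conj_reindex idx B h
    refine ⟨a, b, ?_⟩
    rw [Cfsg.Agent.Lib.Helper25.AschC4.glReindex_val, hab]
    ext i j
    simp

end Cfsg.Agent.Lib.Helper23.AschSp
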