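import Cfsg.Agent.Lib.Helper92.BPTheta
import Cfsg.Agent.Lib.Helper78.CentralTwist
import Cfsg.Agent.Lib.Helper51.BPEv
import Cfsg.Agent.Lib.Helper77.BPBlockD1

/-!
# PROJECT BP (coordinator helper92), module BP-[L4-E-INT] (helper25)

`isIntegral_classInner_star_of`: the skeleton statement `isIntegral_classInner_star` (BP_SKEL4) with the
[L4-BRIDGE] statement `blockPart_eq_ev` (for the group `C_G(<u>)`) as the extra hypothesis `hbridge`.
The coefficient functions of `θ = μ * χ` on `u · L` (`L` a `p'`-subgroup of `C_G(u)`) are algebraic integers.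

Reusable: `ev_incl`, `evAt_of_mul_incl` (evaluate inside a subgroup), `twist_props` (`x ↦ χ (u x)` on a
subgroup `K ∋ u` centralised by `u` is a class function with algebraic-integer multiplicities),
`isIntegral_classInner_blockPart`, `isIntegral_of_isGeneralizedCharacter`.
-/

set_option autoImplicit false
set_option linter.unusedVariables false
set_option linter.unusedSectionVars false

namespace Cfsg.Agent.Lib.Helper25.BP

open Cfsg Cfsg.Agent.Lib.Helper16 Cfsg.Agent.Lib.Helper92.BP Cfsg.Agent.Lib.Helper51.BP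
  Cfsg.Agent.Lib.Helper78

section

variable {R : Type*} [CommRing R] [Algebra R ℂ] {G : Type*} [Group G]

theorem ev_incl (K : Subgroup G) (φ : G → ℂ) (b : MonoidAlgebra R K) :
    ev φ (incl R K b) = ev (fun k : K => φ (k : G)) b := by
  induction b using MonoidAlgebra.induction_linear with
  | zero => rw [map_zero, ev_zero, ev_zero]
  | add x y hx hy => rw [map_add, ev_add, ev_add, hx, hy]
  | single m s =>
    unfold incl
    rw [MonoidAlgebra.mapDomainRingHom_apply, MonoidAlgebra.mapDomain_single, ev_single, ev_single]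
    rfl

end

section Main

variable {G : Type*} [Group G] [Finite G] {p : ℕ} [Fact p.Prime] {M : Ideal AlgInt}
  [hMp : M.IsPrime]

theorem isIntegral_of_isGeneralizedCharacter {K : Type*} [Group K] [Finite K] {φ : K → ℂ}
    (hφ : IsGeneralizedCharacter K φ) (x : K) : IsIntegral ℤ (φ x) := by
  obtain ⟨α, β, hα, hβ, rfl⟩ := hφ
  rw [Pi.sub_apply]
  exact IsIntegral.sub (IsCharacter.isIntegral hα x) (IsCharacter.isIntegral hβ x)

omit [Finite G] in
/-- `evAt χ u` on `s · incl b` computed inside the subgroup. -/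
theorem evAt_of_mul_incl {R : Type*} [CommRing R] [Algebra R ℂ] (K : Subgroup G) (χ : G → ℂ)
    (u : G) (s : K) (b : MonoidAlgebra R K) :
    evAt χ u (MonoidAlgebra.of R G (s : G) * incl R K b) =
      ev (fun x : K => χ (u * (x : G))) (MonoidAlgebra.of R K s * b) := by
  have h1 : MonoidAlgebra.of R G (s : G) = incl R K (MonoidAlgebra.of R K s) := by
    unfold incl
    rw [MonoidAlgebra.mapDomainRingHom_apply, MonoidAlgebra.of_apply, MonoidAlgebra.of_apply,
      MonoidAlgebra.mapDomain_single]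
    rfl
  rw [h1, ← map_mul]
  unfold evAt
  rw [ev_incl]

/-- the twisted restriction `x ↦ χ (u x)` to a subgroup centralised by `u ∈ K`. -/
theorem twist_props (K : Subgroup G) {χ : G → ℂ} (hχ : IsCharacter G χ) {u : G} (huK : u ∈ K)
    (hc : ∀ x ∈ K, u * x = x * u) :
    IsClassFunction K (fun x : K => χ (u * (x : G))) ∧
    ∀ ξ : IrrCharacter K, @IsIntegral ℤ ℂ _ _ _
      (@classInner K _ (Fintype.ofFinite K) (fun x : K => χ (u * (x : G))) (ξ : K → ℂ)) := by
  classical
  let _ : Fintype K := Fintype.ofFinite K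
  have hcf : IsClassFunction G χ := by
    obtain ⟨n, ρ, rfl⟩ := hχ
    intro g h
    rw [Representation.char_conj]
  refine ⟨?_, ?_⟩
  · intro g h
    show χ (u * ((h * g * h⁻¹ : K) : G)) = χ (u * (g : G))
    have : u * ((h * g * h⁻¹ : K) : G) = (h : G) * (u * (g : G)) * (h : G)⁻¹ := by
      push_cast
      rw [← mul_assoc, ← mul_assoc, hc h h.2, mul_assoc (h : G) u]
    rw [this, hcf]
  · intro ξ
    have hη : IsCharacter K (fun x : K => χ (x : G)) := isCharacter_subgroup_res K hχ
    have hy : (⟨u, huK⟩ : K) ∈ Subgroup.center K := by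
      rw [Subgroup.mem_center_iff]
      intro g
      apply Subtype.ext
      push_cast
      exact (hc g g.2).symm
    obtain ⟨a, haint, ha⟩ := exists_twist_central_eq_sum hη hy
    have h1 : (fun x : K => χ (u * (x : G))) = ∑ ψ : IrrCharacter K, a ψ • (ψ : K → ℂ) := by
      funext x
      have h2 := ha x
      simp only [Subgroup.coe_mul] at h2
      rw [hc x x.2, h2]
      simp only [Finset.sum_apply, Pi.smul_apply, smul_eq_mul]
    rw [h1, classInner_sum_left]
    apply IsIntegral.sum
    intro ψ _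
    rw [classInner_smul_left]
    apply IsIntegral.mul (haint ψ)
    rw [classInner_irr ψ.2 ξ.2]
    split_ifs
    · exact isIntegral_one
    · exact isIntegral_zero

omit [Finite G] in
theorem isCharacter_res_le {K L : Subgroup G} (hLK : L ≤ K) {ξ : K → ℂ} (hξ : IsCharacter K ξ) :
    IsCharacter L (fun s : L => ξ ⟨(s : G), hLK s.2⟩) := by
  obtain ⟨n, ρ, rfl⟩ := hξ
  exact ⟨n, MonoidHom.comp ρ (Subgroup.inclusion hLK), rfl⟩

theorem isIntegral_classInner_blockPart (K L : Subgroup G) [Fintype L] (hLK : L ≤ K)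
    (f : Set (IrrCharacter K)) {ϑ : K → ℂ}
    (hint : ∀ ξ : IrrCharacter K, @IsIntegral ℤ ℂ _ _ _
      (@classInner K _ (Fintype.ofFinite K) ϑ (ξ : K → ℂ)))
    (ζ : IrrCharacter L) :
    IsIntegral ℤ (classInner (fun s : L => blockPart f ϑ ⟨(s : G), hLK s.2⟩) (ζ : L → ℂ)) := by
  classical
  have h1 : (fun s : L => blockPart f ϑ ⟨(s : G), hLK s.2⟩) =
      ∑ ξ ∈ (Set.toFinite f).toFinset,
        (@classInner K _ (Fintype.ofFinite K) ϑ (ξ : K → ℂ)) •
          (fun s : L => (ξ : K → ℂ) ⟨(s : G), hLK s.2⟩) := by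
    funext s
    unfold blockPart
    rw [finsum_mem_eq_finite_toFinset_sum _ (Set.toFinite f)]
    simp only [Finset.sum_apply, Pi.smul_apply, smul_eq_mul]
  rw [h1, classInner_sum_left]
  apply IsIntegral.sum
  intro ξ _
  rw [classInner_smul_left]
  apply IsIntegral.mul (hint ξ)
  obtain ⟨n, hn⟩ := IsCharacter.exists_nat_classInner
    (isCharacter_res_le hLK (IsIrrCharacter.isCharacter ξ.2)) ζ
  rw [hn]
  have := isIntegral_algebraMap (R := ℤ) (A := ℂ) (x := (n : ℤ))
  simpa using this

theorem isIntegral_classInner_star_of (hM : IsPModular p M) {μ : LocSys G}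
    (hμ : IsLocalSystem p M μ) {χ : G → ℂ} (hχ : IsCharacter G χ) {θ : G → ℂ}
    (hθ : IsStar M p μ χ θ) {u : G} (hu : ∃ k : ℕ, orderOf u = p ^ k)
    (hbridge : ∀ (f : Set (IrrCharacter
        ↥(Subgroup.centralizer ((Subgroup.zpowers u : Subgroup G) : Set G)))),
      IsPBlock M f → ∀ (ϑ : ↥(Subgroup.centralizer ((Subgroup.zpowers u : Subgroup G) : Set G)) → ℂ),
      IsClassFunction _ ϑ → ∀ s,
        blockPart f ϑ s = ev ϑ (blockIdemR M f * MonoidAlgebra.of (localSubring M) _ s))
    (L : Subgroup G) [Fintype L] (hL : ∀ s ∈ L, ¬ p ∣ orderOf s)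
    (hcomm : ∀ s ∈ L, u * s = s * u) (ζ : IrrCharacter L) :
    IsIntegral ℤ (classInner (fun s : L => θ (u * (s : G))) (ζ : L → ℂ)) := by
  classical
  have huH : u ∈ Subgroup.centralizer ((Subgroup.zpowers u : Subgroup G) : Set G) := by
    rw [Subgroup.mem_centralizer_iff]
    intro g hg
    obtain ⟨k, rfl⟩ := Subgroup.mem_zpowers_iff.mp hg
    exact (Commute.zpow_left (Commute.refl u) k).eq
  have hcH : ∀ x ∈ Subgroup.centralizer ((Subgroup.zpowers u : Subgroup G) : Set G),
      u * x = x * u := by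
    intro x hx
    exact (Subgroup.mem_centralizer_iff.mp hx) u (Subgroup.mem_zpowers u)
  have hLH : L ≤ Subgroup.centralizer ((Subgroup.zpowers u : Subgroup G) : Set G) := by
    intro s hs
    rw [Subgroup.mem_centralizer_iff]
    intro g hg
    obtain ⟨k, rfl⟩ := Subgroup.mem_zpowers_iff.mp hg
    exact (Commute.zpow_left (show Commute u s from hcomm s hs) k).eq
  obtain ⟨hψcf, hψint⟩ := twist_props _ hχ huH hcH
  have hpg : IsPGroup p (Subgroup.zpowers u) := by
    obtain ⟨k, hk⟩ := hu
    exact IsPGroup.of_card (n := k) (by rw [Nat.card_zpowers, hk])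
  have hfin : ({f : Set (IrrCharacter
      ↥(Subgroup.centralizer ((Subgroup.zpowers u : Subgroup G) : Set G))) | IsPBlock M f}).Finite :=
    Set.toFinite _
  have h1 : (fun s : L => θ (u * (s : G))) =
      ∑ f ∈ hfin.toFinset, (μ (Subgroup.zpowers u) f u) •
        (fun s : L => blockPart f
          (fun x : ↥(Subgroup.centralizer ((Subgroup.zpowers u : Subgroup G) : Set G)) =>
            χ (u * (x : G))) ⟨(s : G), hLH s.2⟩) := by
    funext s
    rw [hθ u (s : G) hu (hL s s.2) (hcomm s s.2)]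
    unfold ThetaQ
    rw [finsum_mem_eq_finite_toFinset_sum _ hfin]
    simp only [Finset.sum_apply, Pi.smul_apply, smul_eq_mul]
    apply Finset.sum_congr rfl
    intro f hf
    have hf' : IsPBlock M f := by simpa using hf
    congr 1
    rw [evAt_of_mul_incl _ χ u ⟨(s : G), hLH s.2⟩, ev_mul_comm _ hψcf, ← hbridge f hf' _ hψcf]
  rw [h1, classInner_sum_left]
  apply IsIntegral.sum
  intro f hf
  have hf' : IsPBlock M f := by simpa using hf
  rw [classInner_smul_left]
  apply IsIntegral.mul
  · have h2 := hμ.2.2 (Subgroup.zpowers u) f ⟨hpg, hf'⟩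
    exact isIntegral_of_isGeneralizedCharacter h2 ⟨u, Subgroup.mem_zpowers u⟩
  · exact isIntegral_classInner_blockPart _ L hLH f hψint ζ

end Main

end Cfsg.Agent.Lib.Helper25.BP
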