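/-
helper25: module S0889-[BLOCK-IRR] of helper80's Berger project: the stabilizer of a block of a
system of imprimitivity of an irreducible module acts irreducibly on the block.
-/
import Mathlib
import Cfsg.Agent.Lib.Helper80.Berger.WolfDefs

set_option autoImplicit false

namespace Cfsg.Agent.Lib.Helper25.Berger

open Cfsg.Agent.Lib.Helper80.Wolf

universe u v

variable {K : Type v} [Field K] {V : Type v} [AddCommGroup V] [Module K V] {X : Type u} [Group X]

theorem blk_map_map (ρ : X →* (V ≃ₗ[K] V)) (U : Submodule K V) (x y : X) :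
    (U.map (ρ x).toLinearMap).map (ρ y).toLinearMap = U.map (ρ (y * x)).toLinearMap := by
  rw [← Submodule.map_comp, map_mul]
  rfl

theorem blk_map_one (ρ : X →* (V ≃ₗ[K] V)) (U : Submodule K V) :
    U.map (ρ 1).toLinearMap = U := by
  rw [map_one]
  exact Submodule.map_id U

/-- [BLOCK-IRR] -/
theorem irrSub_stab (ρ : X →* (V ≃ₗ[K] V)) (hirr : Irr ρ) (𝒲 : Set (Submodule K V))
    (h𝒲 : IsImprimSys ρ 𝒲) (W : Submodule K V) (hW : W ∈ 𝒲) : IrrSub ρ (stab ρ W) W := by
  refine ⟨h𝒲.ne_bot W hW, ?_, ?_⟩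
  · intro x hx w hw
    have hx' : W.map (ρ x).toLinearMap = W := hx
    rw [← hx']
    exact Submodule.mem_map_of_mem hw
  · intro U hUW hUinv
    by_cases hU : U = ⊥
    · exact Or.inl hU
    right
    -- the `X`-span of `U`
    have hU'inv : Inv ρ ⊤ (⨆ x : X, U.map (ρ x).toLinearMap) := by
      intro y _ w hw
      have h1 : ρ y w ∈ (⨆ x : X, U.map (ρ x).toLinearMap).map (ρ y).toLinearMap :=
        Submodule.mem_map_of_mem hw
      rw [Submodule.map_iSup] at h1
      have h2 : (⨆ x : X, (U.map (ρ x).toLinearMap).map (ρ y).toLinearMap) ≤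
          ⨆ x : X, U.map (ρ x).toLinearMap := by
        apply iSup_le
        intro x
        rw [blk_map_map]
        exact le_iSup (fun x : X => U.map (ρ x).toLinearMap) (y * x)
      exact h2 h1
    have hUle : U ≤ ⨆ x : X, U.map (ρ x).toLinearMap := by
      have := le_iSup (fun x : X => U.map (ρ x).toLinearMap) 1
      rwa [blk_map_one] at this
    have hU'top : (⨆ x : X, U.map (ρ x).toLinearMap) = ⊤ := by
      rcases hirr.2.2 _ le_top hU'inv with h | h
      · exfalso
        apply hU
        rw [eq_bot_iff, ← h]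
        exact hUle
      · exact h
    -- every `ρ x U` lies in `U` or in the span of the other blocks
    have hle : (⨆ x : X, U.map (ρ x).toLinearMap) ≤ U ⊔ sSup (𝒲 \ {W}) := by
      apply iSup_le
      intro x
      by_cases hx : W.map (ρ x).toLinearMap = W
      · refine le_trans ?_ le_sup_left
        rintro _ ⟨u, hu, rfl⟩
        exact hUinv x hx u hu
      · refine le_trans ?_ le_sup_right
        refine le_trans (Submodule.map_mono hUW) ?_
        exact le_sSup ⟨h𝒲.map_mem x W hW, hx⟩
    have htop : U ⊔ sSup (𝒲 \ {W}) = ⊤ := by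
      rw [eq_top_iff, ← hU'top]; exact hle
    have hdisj : Disjoint W (sSup (𝒲 \ {W})) := h𝒲.indep hW
    have h1 : (U ⊔ sSup (𝒲 \ {W})) ⊓ W = U ⊔ sSup (𝒲 \ {W}) ⊓ W :=
      sup_inf_assoc_of_le _ hUW
    rw [htop, top_inf_eq, inf_comm, hdisj.eq_bot, sup_bot_eq] at h1
    exact h1.symm

end Cfsg.Agent.Lib.Helper25.Berger
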