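/-
helper25: module S0889-[CLIFF] of helper80's Berger project: Clifford's theorem in the form
"a non-homogeneous normal subgroup yields a system of imprimitivity with at least two blocks".
The blocks are the isotypic components of `V` as a module over the operator algebra `opAlg ρ N`.
-/
import Mathlib
import Cfsg.Agent.Lib.Helper80.Berger.WolfDefs
import Cfsg.Agent.Lib.Helper80.Berger.CliffSum

set_option autoImplicit false
set_option linter.style.haveILetI false

namespace Cfsg.Agent.Lib.Helper25.Berger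

open Cfsg.Agent.Lib.Helper80.Wolf

universe u v

variable {K : Type v} [Field K] {V : Type v} [AddCommGroup V] [Module K V] {X : Type u} [Group X]

/-! ### the operator algebra and invariant subspaces -/

theorem clf_rho_mem (ρ : X →* (V ≃ₗ[K] V)) (N : Subgroup X) {x : X} (hx : x ∈ N) :
    ((ρ x).toLinearMap : Module.End K V) ∈ opAlg ρ N :=
  Algebra.subset_adjoin ⟨x, hx, rfl⟩

/-- an `N`-invariant subspace is invariant under the operator algebra -/
theorem clf_inv_opAlg (ρ : X →* (V ≃ₗ[K] V)) (N : Subgroup X) {W : Submodule K V}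
    (hW : Inv ρ N W) (r : Module.End K V) (hr : r ∈ opAlg ρ N) : ∀ w ∈ W, r w ∈ W := by
  unfold opAlg at hr
  induction hr using Algebra.adjoin_induction with
  | mem r hr =>
    obtain ⟨x, hx, rfl⟩ := hr
    intro w hw
    exact hW x hx w hw
  | algebraMap c =>
    intro w hw
    rw [Module.algebraMap_end_apply]
    exact W.smul_mem c hw
  | add r s _ _ ihr ihs =>
    intro w hw
    rw [LinearMap.add_apply]
    exact W.add_mem (ihr w hw) (ihs w hw)
  | mul r s _ _ ihr ihs =>
    intro w hw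
    rw [Module.End.mul_apply]
    exact ihr _ (ihs w hw)

/-- an `N`-invariant subspace as a submodule over the operator algebra -/
def clfLift (ρ : X →* (V ≃ₗ[K] V)) (N : Subgroup X) (W : Submodule K V) (hW : Inv ρ N W) :
    Submodule (opAlg ρ N) V where
  carrier := W
  add_mem' := W.add_mem
  zero_mem' := W.zero_mem
  smul_mem' := fun r w hw => clf_inv_opAlg ρ N hW r.1 r.2 w hw

theorem clf_mem_lift (ρ : X →* (V ≃ₗ[K] V)) (N : Subgroup X) (W : Submodule K V) (hW : Inv ρ N W)
    (v : V) : v ∈ clfLift ρ N W hW ↔ v ∈ W := Iff.rfl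

theorem clf_lift_restrict (ρ : X →* (V ≃ₗ[K] V)) (N : Subgroup X) (W : Submodule K V)
    (hW : Inv ρ N W) : (clfLift ρ N W hW).restrictScalars K = W := by
  ext v; rfl

theorem clf_inv_restrict (ρ : X →* (V ≃ₗ[K] V)) (N : Subgroup X) (m : Submodule (opAlg ρ N) V) :
    Inv ρ N (m.restrictScalars K) := by
  intro x hx w hw
  have : ρ x w = (⟨(ρ x).toLinearMap, clf_rho_mem ρ N hx⟩ : opAlg ρ N) • w := rfl
  rw [this]
  exact m.smul_mem _ hw

theorem clf_restrict_lift (ρ : X →* (V ≃ₗ[K] V)) (N : Subgroup X) (m : Submodule (opAlg ρ N) V) :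
    clfLift ρ N (m.restrictScalars K) (clf_inv_restrict ρ N m) = m := by
  ext v; rfl

theorem clf_lift_mono (ρ : X →* (V ≃ₗ[K] V)) (N : Subgroup X) {W W' : Submodule K V}
    (hW : Inv ρ N W) (hW' : Inv ρ N W') (h : W ≤ W') : clfLift ρ N W hW ≤ clfLift ρ N W' hW' :=
  fun _ hv => h hv

theorem clf_lift_eq_bot (ρ : X →* (V ≃ₗ[K] V)) (N : Subgroup X) {W : Submodule K V}
    (hW : Inv ρ N W) : clfLift ρ N W hW = ⊥ ↔ W = ⊥ := by
  constructor
  · intro h
    rw [← clf_lift_restrict ρ N W hW, h]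
    exact Submodule.restrictScalars_bot _ _ _
  · intro h
    rw [eq_bot_iff]
    intro v hv
    have : v ∈ W := hv
    rw [h] at this
    exact this

/-- irreducible `N`-submodules are simple modules over the operator algebra -/
theorem clf_isSimple_of_irrSub (ρ : X →* (V ≃ₗ[K] V)) (N : Subgroup X) {W : Submodule K V}
    (hW : IrrSub ρ N W) : IsSimpleModule (opAlg ρ N) (clfLift ρ N W hW.2.1) := by
  rw [isSimpleModule_iff_isAtom]
  refine ⟨fun h => hW.1 ((clf_lift_eq_bot ρ N hW.2.1).1 h), ?_⟩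
  intro b hb
  have hle : b.restrictScalars K ≤ W := fun v hv => hb.le hv
  rcases hW.2.2 _ hle (clf_inv_restrict ρ N b) with h | h
  · rw [← clf_restrict_lift ρ N b]
    exact (clf_lift_eq_bot ρ N _).2 h
  · exfalso
    apply hb.ne
    rw [← clf_restrict_lift ρ N b]
    ext v
    rw [clf_mem_lift, clf_mem_lift, h]

/-- simple submodules over the operator algebra are irreducible `N`-submodules -/
theorem clf_irrSub_of_isSimple (ρ : X →* (V ≃ₗ[K] V)) (N : Subgroup X)
    (m : Submodule (opAlg ρ N) V) (hm : IsSimpleModule (opAlg ρ N) m) :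
    IrrSub ρ N (m.restrictScalars K) := by
  rw [isSimpleModule_iff_isAtom] at hm
  refine ⟨?_, clf_inv_restrict ρ N m, ?_⟩
  · intro h
    apply hm.1
    rw [← clf_restrict_lift ρ N m]
    exact (clf_lift_eq_bot ρ N _).2 h
  · intro U hU hUi
    have hle : clfLift ρ N U hUi ≤ m := fun v hv => hU hv
    rcases hm.le_iff.1 hle with h | h
    · exact Or.inl ((clf_lift_eq_bot ρ N hUi).1 h)
    · right
      rw [← clf_lift_restrict ρ N U hUi, h]

/-- an isomorphism over the operator algebra is an `N`-isomorphism -/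
theorem clf_nIso_of_equiv (ρ : X →* (V ≃ₗ[K] V)) (N : Subgroup X) {W W' : Submodule K V}
    (hW : Inv ρ N W) (hW' : Inv ρ N W')
    (e : clfLift ρ N W hW ≃ₗ[opAlg ρ N] clfLift ρ N W' hW') : NIso ρ N W W' := by
  have hsmul : ∀ (c : K) (w : clfLift ρ N W hW), e (c • w) = c • e w := by
    intro c w
    have h1 : c • w = (algebraMap K (opAlg ρ N) c) • w := (algebraMap_smul _ c w).symm
    have h2 : c • e w = (algebraMap K (opAlg ρ N) c) • e w := (algebraMap_smul _ c (e w)).symm
    rw [h1, h2, map_smul]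
  refine ⟨{ toFun := fun w => ⟨(e ⟨w.1, w.2⟩ : V), (e ⟨w.1, w.2⟩).2⟩
            map_add' := ?_
            map_smul' := ?_
            invFun := fun w => ⟨(e.symm ⟨w.1, w.2⟩ : V), (e.symm ⟨w.1, w.2⟩).2⟩
            left_inv := ?_
            right_inv := ?_ }, ?_⟩
  · intro a b
    apply Subtype.ext
    have : (⟨(a + b : W).1, (a + b : W).2⟩ : clfLift ρ N W hW) =
        (⟨a.1, a.2⟩ : clfLift ρ N W hW) + ⟨b.1, b.2⟩ := rfl
    show (e ⟨(a + b : W).1, (a + b : W).2⟩ : V) = (e ⟨a.1, a.2⟩ : V) + (e ⟨b.1, b.2⟩ : V)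
    rw [this, map_add]
    rfl
  · intro c a
    apply Subtype.ext
    have : (⟨(c • a : W).1, (c • a : W).2⟩ : clfLift ρ N W hW) =
        c • (⟨a.1, a.2⟩ : clfLift ρ N W hW) := rfl
    show (e ⟨(c • a : W).1, (c • a : W).2⟩ : V) = c • (e ⟨a.1, a.2⟩ : V)
    rw [this, hsmul]
    rfl
  · intro a
    apply Subtype.ext
    show (e.symm ⟨(e ⟨a.1, a.2⟩ : V), _⟩ : V) = a.1
    have : (⟨(e ⟨a.1, a.2⟩ : V), (e ⟨a.1, a.2⟩).2⟩ : clfLift ρ N W' hW') = e ⟨a.1, a.2⟩ := rfl
    rw [this, LinearEquiv.symm_apply_apply]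
  · intro a
    apply Subtype.ext
    show (e ⟨(e.symm ⟨a.1, a.2⟩ : V), _⟩ : V) = a.1
    have : (⟨(e.symm ⟨a.1, a.2⟩ : V), (e.symm ⟨a.1, a.2⟩).2⟩ : clfLift ρ N W hW) =
        e.symm ⟨a.1, a.2⟩ := rfl
    rw [this, LinearEquiv.apply_symm_apply]
  · intro x hx w hw
    show (e ⟨ρ x (w : V), hw⟩ : V) = ρ x (e ⟨w.1, w.2⟩ : V)
    have h1 : (⟨ρ x (w : V), hw⟩ : clfLift ρ N W hW) =
        (⟨(ρ x).toLinearMap, clf_rho_mem ρ N hx⟩ : opAlg ρ N) • (⟨w.1, w.2⟩ : clfLift ρ N W hW) := rfl
    rw [h1, map_smul]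
    rfl


/-! ### translation by `ρ x` -/

theorem clf_inv_apply (ρ : X →* (V ≃ₗ[K] V)) (x : X) (v : V) : ρ x⁻¹ (ρ x v) = v := by
  rw [← LinearEquiv.mul_apply, ← map_mul, inv_mul_cancel, map_one]
  rfl

theorem clf_apply_inv (ρ : X →* (V ≃ₗ[K] V)) (x : X) (v : V) : ρ x (ρ x⁻¹ v) = v := by
  rw [← LinearEquiv.mul_apply, ← map_mul, mul_inv_cancel, map_one]
  rfl

/-- the operator algebra is stable under conjugation by `ρ x` -/
theorem clf_conj_mem (ρ : X →* (V ≃ₗ[K] V)) (N : Subgroup X) [hN : N.Normal] (x : X)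
    (r : Module.End K V) (hr : r ∈ opAlg ρ N) :
    ((ρ x).toLinearMap : Module.End K V) * r * ((ρ x⁻¹).toLinearMap : Module.End K V) ∈
      opAlg ρ N := by
  unfold opAlg at hr ⊢
  induction hr using Algebra.adjoin_induction with
  | mem r hr =>
    obtain ⟨n, hn, rfl⟩ := hr
    have h1 : ((ρ x).toLinearMap : Module.End K V) * (ρ n).toLinearMap * (ρ x⁻¹).toLinearMap =
        (ρ (x * n * x⁻¹)).toLinearMap := by
      rw [map_mul, map_mul]; rfl
    rw [h1]
    exact Algebra.subset_adjoin ⟨x * n * x⁻¹, hN.conj_mem n hn x, rfl⟩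
  | algebraMap c =>
    have h1 : ((ρ x).toLinearMap : Module.End K V) * algebraMap K (Module.End K V) c *
        (ρ x⁻¹).toLinearMap = algebraMap K (Module.End K V) c := by
      ext v
      show ρ x (c • ρ x⁻¹ v) = c • v
      rw [map_smul, clf_apply_inv]
    rw [h1]
    exact Subalgebra.algebraMap_mem _ c
  | add r s _ _ ihr ihs =>
    rw [mul_add, add_mul]
    exact Subalgebra.add_mem _ ihr ihs
  | mul r s _ _ ihr ihs =>
    have h1 : ((ρ x).toLinearMap : Module.End K V) * (r * s) * (ρ x⁻¹).toLinearMap =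
        ((ρ x).toLinearMap * r * (ρ x⁻¹).toLinearMap) *
          ((ρ x).toLinearMap * s * (ρ x⁻¹).toLinearMap) := by
      ext v
      show ρ x (r (s (ρ x⁻¹ v))) = ρ x (r (ρ x⁻¹ (ρ x (s (ρ x⁻¹ v)))))
      rw [clf_inv_apply]
    rw [h1]
    exact Subalgebra.mul_mem _ ihr ihs

/-- the translate of a submodule over the operator algebra -/
def clfTr (ρ : X →* (V ≃ₗ[K] V)) (N : Subgroup X) [N.Normal] (x : X)
    (m : Submodule (opAlg ρ N) V) : Submodule (opAlg ρ N) V :=
  clfLift ρ N ((m.restrictScalars K).map (ρ x).toLinearMap)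
    (inv_map ρ N _ (clf_inv_restrict ρ N m) x)

theorem clf_mem_tr (ρ : X →* (V ≃ₗ[K] V)) (N : Subgroup X) [N.Normal] (x : X)
    (m : Submodule (opAlg ρ N) V) (v : V) : v ∈ clfTr ρ N x m ↔ ρ x⁻¹ v ∈ m :=
  mem_map_rho ρ (m.restrictScalars K) x v

theorem clf_tr_restrict (ρ : X →* (V ≃ₗ[K] V)) (N : Subgroup X) [N.Normal] (x : X)
    (m : Submodule (opAlg ρ N) V) :
    (clfTr ρ N x m).restrictScalars K = (m.restrictScalars K).map (ρ x).toLinearMap :=
  clf_lift_restrict ρ N _ _

theorem clf_tr_mono (ρ : X →* (V ≃ₗ[K] V)) (N : Subgroup X) [N.Normal] (x : X)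
    {m m' : Submodule (opAlg ρ N) V} (h : m ≤ m') : clfTr ρ N x m ≤ clfTr ρ N x m' := by
  intro v hv
  rw [clf_mem_tr] at hv ⊢
  exact h hv

theorem clf_tr_tr_inv (ρ : X →* (V ≃ₗ[K] V)) (N : Subgroup X) [N.Normal] (x : X)
    (m : Submodule (opAlg ρ N) V) : clfTr ρ N x (clfTr ρ N x⁻¹ m) = m := by
  ext v
  rw [clf_mem_tr, clf_mem_tr, inv_inv, clf_apply_inv]

theorem clf_tr_inv_tr (ρ : X →* (V ≃ₗ[K] V)) (N : Subgroup X) [N.Normal] (x : X)
    (m : Submodule (opAlg ρ N) V) : clfTr ρ N x⁻¹ (clfTr ρ N x m) = m := by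
  ext v
  rw [clf_mem_tr, clf_mem_tr, inv_inv, clf_inv_apply]

theorem clf_tr_bot (ρ : X →* (V ≃ₗ[K] V)) (N : Subgroup X) [N.Normal] (x : X) :
    clfTr ρ N x (⊥ : Submodule (opAlg ρ N) V) = ⊥ := by
  ext v
  rw [clf_mem_tr, Submodule.mem_bot, Submodule.mem_bot]
  constructor
  · intro h
    have := congrArg (ρ x) h
    rwa [clf_apply_inv, map_zero] at this
  · intro h
    rw [h, map_zero]

/-- translation preserves full invariance -/
theorem clf_tr_fullyInvariant (ρ : X →* (V ≃ₗ[K] V)) (N : Subgroup X) [N.Normal] (x : X)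
    (m : Submodule (opAlg ρ N) V) (hm : m.IsFullyInvariant) :
    (clfTr ρ N x m).IsFullyInvariant := by
  intro f v hv
  rw [Submodule.mem_comap, clf_mem_tr]
  rw [clf_mem_tr] at hv
  let g : Module.End (opAlg ρ N) V :=
    { toFun := fun w => ρ x⁻¹ (f (ρ x w))
      map_add' := by
        intro a b
        rw [map_add, map_add, map_add]
      map_smul' := by
        intro r w
        have h1 : ρ x (r • w) =
            (⟨((ρ x).toLinearMap : Module.End K V) * r.1 * (ρ x⁻¹).toLinearMap,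
              clf_conj_mem ρ N x r.1 r.2⟩ : opAlg ρ N) • ρ x w := by
          show ρ x (r.1 w) = ρ x (r.1 (ρ x⁻¹ (ρ x w)))
          rw [clf_inv_apply]
        simp only [RingHom.id_apply]
        rw [h1, map_smul]
        show ρ x⁻¹ (ρ x (r.1 (ρ x⁻¹ (f (ρ x w))))) = r.1 (ρ x⁻¹ (f (ρ x w)))
        rw [clf_inv_apply] }
  have h2 := hm g hv
  rw [Submodule.mem_comap] at h2
  have h3 : g (ρ x⁻¹ v) = ρ x⁻¹ (f v) := by
    show ρ x⁻¹ (f (ρ x (ρ x⁻¹ v))) = ρ x⁻¹ (f v)
    rw [clf_apply_inv]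
  rwa [h3] at h2

/-! ### semisimplicity and the isotypic components -/

/-- the translates of a nonzero subspace span an irreducible module -/
theorem clf_iSup_map_eq_top (ρ : X →* (V ≃ₗ[K] V)) (hirr : Irr ρ) (U : Submodule K V)
    (hU : U ≠ ⊥) : ⨆ x : X, U.map (ρ x).toLinearMap = ⊤ := by
  have hinv : Inv ρ ⊤ (⨆ x : X, U.map (ρ x).toLinearMap) := by
    intro y _ w hw
    have h1 : ρ y w ∈ (⨆ x : X, U.map (ρ x).toLinearMap).map (ρ y).toLinearMap :=
      Submodule.mem_map_of_mem hw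
    rw [Submodule.map_iSup] at h1
    have h2 : (⨆ x : X, (U.map (ρ x).toLinearMap).map (ρ y).toLinearMap) ≤
        ⨆ x : X, U.map (ρ x).toLinearMap := by
      apply iSup_le
      intro x
      rw [map_rho_mul]
      exact le_iSup (fun x : X => U.map (ρ x).toLinearMap) (y * x)
    exact h2 h1
  rcases hirr.2.2 _ le_top hinv with h | h
  · exfalso
    apply hU
    have h1 : U.map (ρ 1).toLinearMap ≤ ⨆ x : X, U.map (ρ x).toLinearMap :=
      le_iSup (fun x : X => U.map (ρ x).toLinearMap) 1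
    rw [map_rho_one, h] at h1
    exact le_bot_iff.mp h1
  · exact h

theorem clf_semisimple (ρ : X →* (V ≃ₗ[K] V)) (hirr : Irr ρ) (N : Subgroup X) [N.Normal]
    {W : Submodule K V} (hW : IrrSub ρ N W) : IsSemisimpleModule (opAlg ρ N) V := by
  apply IsSemisimpleModule.of_sSup_simples_eq_top
  rw [eq_top_iff]
  intro v _
  have hv : v ∈ (⨆ x : X, W.map (ρ x).toLinearMap) := by
    rw [iSup_map_eq_top ρ hirr N W hW]; trivial
  have hle : (⨆ x : X, W.map (ρ x).toLinearMap) ≤
      (sSup {m : Submodule (opAlg ρ N) V | IsSimpleModule (opAlg ρ N) m}).restrictScalars K := by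
    apply iSup_le
    intro x
    have hs := clf_isSimple_of_irrSub ρ N (irrSub_map ρ N W hW x)
    have h1 : clfLift ρ N _ (irrSub_map ρ N W hW x).2.1 ≤
        sSup {m : Submodule (opAlg ρ N) V | IsSimpleModule (opAlg ρ N) m} := le_sSup hs
    intro w hw
    exact h1 hw
  exact hle hv

/-- the isotypic components of a semisimple module are the minimal nonzero fully invariant
submodules -/
theorem clf_mem_components_iff {R M : Type*} [Ring R] [AddCommGroup M] [Module R M]
    [IsSemisimpleModule R M] {c : Submodule R M} :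
    c ∈ isotypicComponents R M ↔ c.IsFullyInvariant ∧ c ≠ ⊥ ∧
      ∀ b : Submodule R M, b.IsFullyInvariant → b ≤ c → b = ⊥ ∨ b = c := by
  constructor
  · intro hc
    obtain ⟨S, hS, rfl⟩ := hc
    haveI := hS
    refine ⟨Submodule.IsFullyInvariant.isotypicComponent R M S, (bot_lt_isotypicComponent S).ne', ?_⟩
    intro b hb hbc
    by_cases hb0 : b = ⊥
    · exact Or.inl hb0
    right
    obtain ⟨S', le, simple⟩ := (IsSemisimpleModule.eq_bot_or_exists_simple_le b).resolve_left hb0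
    haveI := simple
    have h1 : isotypicComponent R M S' ≤ b :=
      isFullyInvariant_iff_le_imp_isotypicComponent_le.mp hb S' le
    have h2 : isotypicComponent R M S = isotypicComponent R M S' :=
      eq_isotypicComponent_of_le ⟨S, hS, rfl⟩ (le.trans hbc)
    exact le_antisymm hbc (h2 ▸ h1)
  · rintro ⟨hinv, hne, hmin⟩
    obtain ⟨S, le, simple⟩ := (IsSemisimpleModule.eq_bot_or_exists_simple_le c).resolve_left hne
    haveI := simple
    have h1 : isotypicComponent R M S ≤ c :=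
      isFullyInvariant_iff_le_imp_isotypicComponent_le.mp hinv S le
    rcases hmin _ (Submodule.IsFullyInvariant.isotypicComponent R M S) h1 with h | h
    · exact absurd h (bot_lt_isotypicComponent S).ne'
    · exact ⟨S, simple, h.symm⟩

/-- translation permutes the isotypic components -/
theorem clf_tr_mem_components (ρ : X →* (V ≃ₗ[K] V)) (N : Subgroup X) [N.Normal]
    [IsSemisimpleModule (opAlg ρ N) V] (x : X) {c : Submodule (opAlg ρ N) V}
    (hc : c ∈ isotypicComponents (opAlg ρ N) V) :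
    clfTr ρ N x c ∈ isotypicComponents (opAlg ρ N) V := by
  rw [clf_mem_components_iff] at hc ⊢
  obtain ⟨hinv, hne, hmin⟩ := hc
  refine ⟨clf_tr_fullyInvariant ρ N x c hinv, ?_, ?_⟩
  · intro h
    apply hne
    rw [← clf_tr_inv_tr ρ N x c, h, clf_tr_bot]
  · intro b hb hbc
    have h1 : clfTr ρ N x⁻¹ b ≤ c := by
      have := clf_tr_mono ρ N x⁻¹ hbc
      rwa [clf_tr_inv_tr] at this
    rcases hmin _ (clf_tr_fullyInvariant ρ N x⁻¹ b hb) h1 with h | h
    · left
      rw [← clf_tr_tr_inv ρ N x b, h, clf_tr_bot]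
    · right
      rw [← clf_tr_tr_inv ρ N x b, h]

/-! ### the theorem -/

/-- [CLIFF] -/
theorem exists_imprim_of_not_homog [Finite V] (ρ : X →* (V ≃ₗ[K] V)) (hirr : Irr ρ)
    (N : Subgroup X) [N.Normal] (hN : ¬ Homog ρ N) :
    ∃ 𝒲 : Set (Submodule K V), IsImprimSys ρ 𝒲 ∧ ∃ W ∈ 𝒲, ∃ W' ∈ 𝒲, W ≠ W' := by
  unfold Homog at hN
  push Not at hN
  obtain ⟨W, W', hW, hW', hniso⟩ := hN
  haveI hss : IsSemisimpleModule (opAlg ρ N) V := clf_semisimple ρ hirr N hW
  -- independence
  have hindep : sSupIndep ((Submodule.restrictScalars K) ''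
      (isotypicComponents (opAlg ρ N) V)) := by
    rintro _ ⟨c, hc, rfl⟩
    have hd := sSupIndep_isotypicComponents (opAlg ρ N) V hc
    have hle : sSup ((Submodule.restrictScalars K) '' (isotypicComponents (opAlg ρ N) V) \
        {c.restrictScalars K}) ≤
        (sSup (isotypicComponents (opAlg ρ N) V \ {c})).restrictScalars K := by
      apply sSup_le
      rintro _ ⟨⟨c', hc', rfl⟩, hne⟩
      have hne' : c' ≠ c := by
        rintro rfl
        exact hne rfl
      have h1 : c' ≤ sSup (isotypicComponents (opAlg ρ N) V \ {c}) := le_sSup ⟨hc', hne'⟩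
      intro v hv
      exact h1 hv
    refine Disjoint.mono_right hle ?_
    rw [disjoint_iff, ← Submodule.restrictScalars_inf, hd.eq_bot]
    exact Submodule.restrictScalars_bot _ _ _
  have htop : sSup ((Submodule.restrictScalars K) '' (isotypicComponents (opAlg ρ N) V)) = ⊤ := by
    rw [← Submodule.restrictScalars_sSup, sSup_isotypicComponents]
    exact Submodule.restrictScalars_top _ _ _
  have hne_bot : ∀ W₀ ∈ (Submodule.restrictScalars K) '' (isotypicComponents (opAlg ρ N) V),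
      W₀ ≠ ⊥ := by
    rintro _ ⟨c, hc, rfl⟩ h
    apply (bot_lt_isotypicComponents hc).ne'
    exact (Submodule.restrictScalars_eq_bot_iff K _ _).1 h
  have hmap : ∀ x : X, ∀ W₀ ∈ (Submodule.restrictScalars K) ''
      (isotypicComponents (opAlg ρ N) V), W₀.map (ρ x).toLinearMap ∈
        (Submodule.restrictScalars K) '' (isotypicComponents (opAlg ρ N) V) := by
    rintro x _ ⟨c, hc, rfl⟩
    exact ⟨clfTr ρ N x c, clf_tr_mem_components ρ N x hc, clf_tr_restrict ρ N x c⟩
  refine ⟨(Submodule.restrictScalars K) '' (isotypicComponents (opAlg ρ N) V),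
    ⟨hindep, htop, hne_bot, hmap, ?_⟩, ?_⟩
  · -- transitivity
    intro W₁ hW₁ W₂ hW₂
    by_contra hcon
    push Not at hcon
    have h1 : (⨆ x : X, W₁.map (ρ x).toLinearMap) ≤
        sSup ((Submodule.restrictScalars K) '' (isotypicComponents (opAlg ρ N) V) \ {W₂}) := by
      apply iSup_le
      intro x
      exact le_sSup ⟨hmap x W₁ hW₁, hcon x⟩
    rw [clf_iSup_map_eq_top ρ hirr W₁ (hne_bot W₁ hW₁)] at h1
    have h2 : Disjoint W₂ (sSup ((Submodule.restrictScalars K) ''
        (isotypicComponents (opAlg ρ N) V) \ {W₂})) := hindep hW₂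
    exact hne_bot W₂ hW₂ (h2.eq_bot_of_le (le_trans le_top h1))
  · -- two distinct blocks
    haveI hs : IsSimpleModule (opAlg ρ N) (clfLift ρ N W hW.2.1) := clf_isSimple_of_irrSub ρ N hW
    haveI hs' : IsSimpleModule (opAlg ρ N) (clfLift ρ N W' hW'.2.1) :=
      clf_isSimple_of_irrSub ρ N hW'
    refine ⟨(isotypicComponent (opAlg ρ N) V (clfLift ρ N W hW.2.1)).restrictScalars K,
      ⟨_, ⟨_, hs, rfl⟩, rfl⟩,
      (isotypicComponent (opAlg ρ N) V (clfLift ρ N W' hW'.2.1)).restrictScalars K,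
      ⟨_, ⟨_, hs', rfl⟩, rfl⟩, ?_⟩
    intro heq
    have heq' : isotypicComponent (opAlg ρ N) V (clfLift ρ N W hW.2.1) =
        isotypicComponent (opAlg ρ N) V (clfLift ρ N W' hW'.2.1) :=
      Submodule.restrictScalars_injective K _ _ heq
    have hle : clfLift ρ N W' hW'.2.1 ≤
        isotypicComponent (opAlg ρ N) V (clfLift ρ N W hW.2.1) := by
      rw [heq']
      exact Submodule.le_isotypicComponent _
    have hiso := IsIsotypicOfType.isotypicComponent (opAlg ρ N) V (clfLift ρ N W hW.2.1)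
    obtain ⟨e⟩ := isIsotypicOfType_submodule_iff.mp hiso _ hle
    exact hniso (clf_nIso_of_equiv ρ N hW.2.1 hW'.2.1 e.symm)

end Cfsg.Agent.Lib.Helper25.Berger
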