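import Mathlib
import Cfsg.Prelude.Def_GeometricClasses
import Cfsg.Agent.Lib.Helper37.BHRSU.Defs
import Cfsg.Agent.Lib.Helper37.BHRSU.Kit
import Cfsg.Agent.Lib.Helper37.BHRSU.Normal
import Cfsg.Agent.Lib.Helper25.BhrsuP6

/-!
# BHRSU-[P6] (project BHRSU, helper37), final signature (board #8055): `SU_n(q)`, `n ≥ 4`, normalises no
absolutely irreducible `r`-group of similitudes of the hermitian form.
-/

set_option autoImplicit false

namespace Cfsg.Agent.Lib.Helper37.BHRSU

open Cfsg Cfsg.Geo Cfsg.Agent.Lib.Helper70.AschU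
open scoped MatrixGroups Matrix

variable {F : Type*} [Field F] [Fintype F] {n q : ℕ}

/-- BHRSU-[P6] -/
theorem not_SUg_le_subgroupNormalizer (hF : Fintype.card F = q ^ 2) (hn : 4 ≤ n) (r : ℕ) (hr : r.Prime)
    (R : Subgroup (GL (Fin n) F)) (hR : IsPGroup r R) (hsim : R ≤ similarityGroup (hermForm n F q))
    (habs : ActsAbsolutelyIrreducibly (matrixSet R)) : ¬ SUg n F q ≤ subgroupNormalizer R :=
  Cfsg.Agent.Lib.Helper25.BhrsuP6.not_SUg_le_subgroupNormalizer_of (by omega)
    (fun N hN hnorm => normal_le_scalars_or_eq hF hn N hN hnorm)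
    (commutator_SUg hF hn) (SUg_absIrred hF (by omega)) r hr R hR hsim habs

end Cfsg.Agent.Lib.Helper37.BHRSU
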