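import Mathlib
import Cfsg.Prelude.Def_Blocks
import Cfsg.Prelude.Def_Solvable
import Cfsg.Agent.Lib.Helper78.CharOrtho
import Cfsg.Agent.Lib.Helper74.OrderFormulaB
import Cfsg.Agent.Lib.Helper76.PCore

/-!
# PROJECT DIH (S4481), module [COL] (helper25)

The column of a `p`-element `z` with `p`-nilpotent centralizer in the principal block:
`∑_{χ ∈ B₀} χ(z) conj χ(z) = p^k` (`p^k` the index of `O_{p'}(C(z))` in `C(z)`), and
`∑_{χ ∈ B₀} χ(z) conj χ(g) = 0` when no `p`-part of `g` is conjugate to `z`.
-/

set_option autoImplicit false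
set_option linter.style.haveILetI false

open Cfsg Cfsg.Agent.Lib.Helper78
open scoped ComplexConjugate Classical

namespace Cfsg.Agent.Lib.Helper25.DihCol

/-- the basic identity: the principal block column of `z` against `g` as an average of the
class indicator of `g` over `z · O_{p'}(C(z))`. -/
theorem col_key {G : Type*} [Group G] [Fintype G] (p : ℕ) [Fact p.Prime]
    (M : Ideal AlgInt) (hM : IsPModular p M)
    (z : G) (hz : ∃ k : ℕ, orderOf z = p ^ k)
    (hk : ∃ k : ℕ, (Cfsg.pPrimeCore p ↥(Subgroup.centralizer ({z} : Set G))).index = p ^ k)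
    [Fintype (Subgroup.centralizer ({z} : Set G))]
    [Fintype (Cfsg.pPrimeCore p ↥(Subgroup.centralizer ({z} : Set G)))]
    (g : G) :
    ((Subgroup.centralizer ({g} : Set G)).index : ℂ) *
      ∑ χ ∈ Finset.univ.filter (fun χ : IrrCharacter G => χ ∈ principalBlock M G),
        (χ : G → ℂ) z * conj ((χ : G → ℂ) g) =
    (Nat.card G : ℂ) * ((Nat.card (Cfsg.pPrimeCore p ↥(Subgroup.centralizer ({z} : Set G))) : ℂ)⁻¹ *
      ∑ c : Cfsg.pPrimeCore p ↥(Subgroup.centralizer ({z} : Set G)),
        classIndicator g (z * (((c : ↥(Subgroup.centralizer ({z} : Set G))) : G)))) := by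
  have hy : ¬ p ∣ orderOf (1 : Subgroup.centralizer ({z} : Set G)) := by
    rw [orderOf_one]
    exact (Fact.out : p.Prime).not_dvd_one
  have hA := Cfsg.Agent.Lib.Helper74.principal_blockPart_twist_classFunction (p := p) (M := M) hM z hz
    (isClassFunction_classIndicator g) (1 : Subgroup.centralizer ({z} : Set G)) hy
  have hB := Cfsg.Agent.Lib.Helper74.principal_blockPart_one_of_index (p := p) (M := M)
    (H := ↥(Subgroup.centralizer ({z} : Set G))) hM hk
    (fun c : Subgroup.centralizer ({z} : Set G) => classIndicator g (z * (c : G)))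
  rw [hA] at hB
  have hGne : (Nat.card G : ℂ) ≠ 0 := by exact_mod_cast (Nat.card_pos (α := G)).ne'
  have hterm : ∀ χ : IrrCharacter G,
      classInner (classIndicator g) (χ : G → ℂ) *
        (χ : G → ℂ) (z * ((1 : Subgroup.centralizer ({z} : Set G)) : G)) =
      (Nat.card G : ℂ)⁻¹ * (((Subgroup.centralizer ({g} : Set G)).index : ℂ) *
        ((χ : G → ℂ) z * conj ((χ : G → ℂ) g))) := by
    intro χ
    rw [classInner_classIndicator g (isClassFunction_irr χ)]
    simp only [OneMemClass.coe_one, mul_one]
    ring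
  rw [Finset.sum_congr rfl (fun χ _ => hterm χ), ← Finset.mul_sum, ← Finset.mul_sum] at hB
  rw [← hB]
  field_simp


theorem orderOf_conj' {G : Type*} [Group G] (t x : G) : orderOf (t * x * t⁻¹) = orderOf x := by
  have := orderOf_injective (MulAut.conj t).toMonoidHom (MulAut.conj t).injective x
  simpa using this

/-- a `p'`-element `c` commuting with the `p`-element `z` such that `z c ~ z` is trivial. -/
theorem eq_one_of_isConj_mul {G : Type*} [Group G] [Finite G] (p : ℕ) [Fact p.Prime]
    (z c : G) (hz : ∃ k : ℕ, orderOf z = p ^ k) (hc : (orderOf c).Coprime p)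
    (hcomm : Commute z c) (hconj : IsConj z (z * c)) : c = 1 := by
  obtain ⟨t, ht⟩ := isConj_iff.mp hconj
  obtain ⟨k, hk⟩ := hz
  have hcop : (orderOf z).Coprime (orderOf c) := by
    rw [hk]
    exact (Nat.Coprime.pow_right k hc).symm
  have h1 := hcomm.orderOf_mul_eq_mul_orderOf_of_coprime hcop
  rw [← ht, orderOf_conj'] at h1
  have hzpos : 0 < orderOf z := orderOf_pos z
  have h2 : orderOf c = 1 := by
    have : orderOf z * 1 = orderOf z * orderOf c := by rw [mul_one]; exact h1
    exact (Nat.eq_of_mul_eq_mul_left hzpos this).symm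
  exact orderOf_eq_one_iff.mp h2

/-- [COL] the column of a `p`-element with `p`-nilpotent centralizer in the principal block. -/
theorem column_formula {G : Type*} [Group G] [Finite G] (p : ℕ) [Fact p.Prime]
    (M : Ideal AlgInt) (hM : IsPModular p M)
    (z : G) (hz : ∃ k : ℕ, orderOf z = p ^ k) (k : ℕ)
    (hk : (Cfsg.pPrimeCore p ↥(Subgroup.centralizer ({z} : Set G))).index = p ^ k) :
    (∑ χ ∈ Finset.univ.filter (fun χ : IrrCharacter G => χ ∈ principalBlock M G),
        (χ : G → ℂ) z * conj ((χ : G → ℂ) z) = (p : ℂ) ^ k) ∧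
    ∀ g : G, (∀ x : G, IsPPart p g x → ¬ IsConj x z) →
      ∑ χ ∈ Finset.univ.filter (fun χ : IrrCharacter G => χ ∈ principalBlock M G),
        (χ : G → ℂ) z * conj ((χ : G → ℂ) g) = 0 := by
  haveI : Fintype G := Fintype.ofFinite G
  haveI : Fintype (Subgroup.centralizer ({z} : Set G)) := Fintype.ofFinite _
  haveI : Fintype (Cfsg.pPrimeCore p ↥(Subgroup.centralizer ({z} : Set G))) := Fintype.ofFinite _
  have hkey := col_key p M hM z hz ⟨k, hk⟩
  have hKcop : (Nat.card (Cfsg.pPrimeCore p ↥(Subgroup.centralizer ({z} : Set G)))).Coprime p :=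
    Cfsg.Agent.Lib.Helper76.pPrimeCore_coprime p
  -- elements of `K` are `p'`-elements commuting with `z`
  have hcop : ∀ c : Cfsg.pPrimeCore p ↥(Subgroup.centralizer ({z} : Set G)),
      (orderOf (((c : ↥(Subgroup.centralizer ({z} : Set G))) : G))).Coprime p := by
    intro c
    rw [Subgroup.orderOf_coe, Subgroup.orderOf_coe]
    exact Nat.Coprime.coprime_dvd_left (orderOf_dvd_natCard c) hKcop
  have hcomm : ∀ c : Cfsg.pPrimeCore p ↥(Subgroup.centralizer ({z} : Set G)),
      Commute z (((c : ↥(Subgroup.centralizer ({z} : Set G))) : G)) := by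
    intro c
    have := (c : ↥(Subgroup.centralizer ({z} : Set G))).2
    rw [Subgroup.mem_centralizer_iff] at this
    exact (this z (Set.mem_singleton z))
  have hidx_ne : ∀ g : G, ((Subgroup.centralizer ({g} : Set G)).index : ℂ) ≠ 0 := by
    intro g
    have := (Subgroup.centralizer ({g} : Set G)).index_ne_zero_of_finite
    exact_mod_cast this
  refine ⟨?_, ?_⟩
  · have h1 := hkey z
    have hsum : ∑ c : Cfsg.pPrimeCore p ↥(Subgroup.centralizer ({z} : Set G)),
        classIndicator z (z * (((c : ↥(Subgroup.centralizer ({z} : Set G))) : G))) = 1 := by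
      rw [Finset.sum_eq_single (1 : Cfsg.pPrimeCore p ↥(Subgroup.centralizer ({z} : Set G)))]
      · unfold classIndicator
        rw [if_pos]
        simp only [OneMemClass.coe_one, mul_one]
        exact IsConj.refl z
      · intro c _ hc1
        unfold classIndicator
        rw [if_neg]
        intro hconj
        apply hc1
        have := eq_one_of_isConj_mul p z _ hz (hcop c) (hcomm c) hconj
        ext
        simpa using this
      · intro h; exact absurd (Finset.mem_univ _) h
    rw [hsum, mul_one] at h1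
    have hKne : (Nat.card (Cfsg.pPrimeCore p ↥(Subgroup.centralizer ({z} : Set G))) : ℂ) ≠ 0 := by
      exact_mod_cast (Nat.card_pos
        (α := Cfsg.pPrimeCore p ↥(Subgroup.centralizer ({z} : Set G)))).ne'
    have hci : (Nat.card (Subgroup.centralizer ({z} : Set G)) : ℂ) *
        ((Subgroup.centralizer ({z} : Set G)).index : ℂ) = (Nat.card G : ℂ) := by
      exact_mod_cast (Subgroup.centralizer ({z} : Set G)).card_mul_index
    have hKi : (Nat.card (Cfsg.pPrimeCore p ↥(Subgroup.centralizer ({z} : Set G))) : ℂ) *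
        ((p : ℂ) ^ k) = (Nat.card (Subgroup.centralizer ({z} : Set G)) : ℂ) := by
      have := (Cfsg.pPrimeCore p ↥(Subgroup.centralizer ({z} : Set G))).card_mul_index
      rw [hk] at this
      exact_mod_cast this
    have hi := hidx_ne z
    rw [← hci, ← hKi] at h1
    have h2 : ((Subgroup.centralizer ({z} : Set G)).index : ℂ) *
        (∑ χ ∈ Finset.univ.filter (fun χ : IrrCharacter G => χ ∈ principalBlock M G),
          (χ : G → ℂ) z * conj ((χ : G → ℂ) z)) =
        ((Subgroup.centralizer ({z} : Set G)).index : ℂ) * (p : ℂ) ^ k := by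
      rw [h1]
      field_simp
    exact mul_left_cancel₀ hi h2
  · intro g hg
    have h1 := hkey g
    have hsum : ∑ c : Cfsg.pPrimeCore p ↥(Subgroup.centralizer ({z} : Set G)),
        classIndicator g (z * (((c : ↥(Subgroup.centralizer ({z} : Set G))) : G))) = 0 := by
      apply Finset.sum_eq_zero
      intro c _
      unfold classIndicator
      rw [if_neg]
      intro hconj
      obtain ⟨t, ht⟩ := isConj_iff.mp hconj
      -- `g = (t⁻¹ z t)(t⁻¹ c t)`
      obtain ⟨c', hc'⟩ : ∃ c' : G, c' = (((c : ↥(Subgroup.centralizer ({z} : Set G))) : G)) :=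
        ⟨_, rfl⟩
      rw [← hc'] at ht
      have hcc := hcomm c
      have hco := hcop c
      rw [← hc'] at hcc hco
      apply hg (t⁻¹ * z * t)
      · refine ⟨t⁻¹ * c' * t, ?_, ?_, ?_, ?_⟩
        · have : g = t⁻¹ * (z * c') * t := by rw [← ht]; group
          rw [this]; group
        · have hzc : z * c' = c' * z := hcc
          show (t⁻¹ * z * t) * (t⁻¹ * c' * t) = (t⁻¹ * c' * t) * (t⁻¹ * z * t)
          have e1 : (t⁻¹ * z * t) * (t⁻¹ * c' * t) = t⁻¹ * (z * c') * t := by group
          have e2 : (t⁻¹ * c' * t) * (t⁻¹ * z * t) = t⁻¹ * (c' * z) * t := by group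
          rw [e1, e2, hzc]
        · obtain ⟨j, hj⟩ := hz
          refine ⟨j, ?_⟩
          have := orderOf_conj' t⁻¹ z
          rw [inv_inv] at this
          rw [this, hj]
        · have := orderOf_conj' t⁻¹ c'
          rw [inv_inv] at this
          rw [this]
          intro hdvd
          have h1' : p ∣ Nat.gcd (orderOf c') p := Nat.dvd_gcd hdvd dvd_rfl
          rw [Nat.Coprime.gcd_eq_one hco] at h1'
          exact (Fact.out : p.Prime).not_dvd_one h1'
      · exact isConj_iff.mpr ⟨t, by group⟩
    rw [hsum, mul_zero, mul_zero] at h1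
    rcases mul_eq_zero.mp h1 with h | h
    · exact absurd h (hidx_ne g)
    · exact h

end Cfsg.Agent.Lib.Helper25.DihCol
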