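import Mathlib
import Cfsg.Prelude.Def_Blocks
import Cfsg.Prelude.Def_Solvable
import Cfsg.Agent.Lib.Helper78.CharOrtho

/-!
# PROJECT DIH (S4481), module [LAT] (helper25): the lattice combinatorics

Integer vectors `y_i` (`i ∈ ZMod 2^(n-1)`, `i ≠ 0`) with Gram matrix `[i=k]+[i=-k]+2`,
entry `-1` at `x₀` and a positive linear relation, have the "dihedral" shape: one common
coordinate `x₁`, petals `x'(j)`, and two extra coordinates `x₂, x₃` for `i = 2^(n-2)`.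
-/

set_option autoImplicit false
set_option linter.unusedSectionVars false

namespace Cfsg.Agent.Lib.Helper25.DihLat

section NormLemmas

variable {X : Type*} [DecidableEq X]

theorem exists_pm_one_of_sum (s : Finset X) (f : X → ℤ) (k : ℕ) (hk : k ≤ 2)
    (h : ∑ x ∈ s, f x * f x = (k : ℤ) + 1) :
    ∃ a ∈ s, (f a = 1 ∨ f a = -1) ∧ ∑ x ∈ s.erase a, f x * f x = (k : ℤ) := by
  have hex : ∃ a ∈ s, f a ≠ 0 := by
    by_contra hcon
    push Not at hcon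
    have h0 : ∑ x ∈ s, f x * f x = 0 :=
      Finset.sum_eq_zero (fun x hx => by rw [hcon x hx]; ring)
    rw [h0] at h
    omega
  obtain ⟨a, ha, hfa⟩ := hex
  have hle : f a * f a ≤ ∑ x ∈ s, f x * f x :=
    Finset.single_le_sum (f := fun x => f x * f x) (fun x _ => mul_self_nonneg (f x)) ha
  have hk' : (k : ℤ) ≤ 2 := by exact_mod_cast hk
  have h1 : f a = 1 ∨ f a = -1 := by
    have hb1 : f a ≤ 1 := by nlinarith
    have hb2 : -1 ≤ f a := by nlinarith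
    have h3 : f a = -1 ∨ f a = 0 ∨ f a = 1 := by omega
    rcases h3 with h | h | h
    · right; exact h
    · exact absurd h hfa
    · left; exact h
  refine ⟨a, ha, h1, ?_⟩
  have hadd := Finset.add_sum_erase s (fun x => f x * f x) ha
  have hsq : f a * f a = 1 := by rcases h1 with h | h <;> rw [h] <;> norm_num
  linarith

theorem zero_of_sum_zero (s : Finset X) (f : X → ℤ) (h : ∑ x ∈ s, f x * f x = 0) :
    ∀ x ∈ s, f x = 0 := by
  intro x hx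
  have hz := (Finset.sum_eq_zero_iff_of_nonneg
    (fun x _ => mul_self_nonneg (f x))).mp h x hx
  exact mul_self_eq_zero.mp hz

theorem struct2 (s : Finset X) (f : X → ℤ) (h : ∑ x ∈ s, f x * f x = 2) :
    ∃ a b, a ∈ s ∧ b ∈ s ∧ a ≠ b ∧ (f a = 1 ∨ f a = -1) ∧ (f b = 1 ∨ f b = -1) ∧
      ∀ x ∈ s, x ≠ a → x ≠ b → f x = 0 := by
  obtain ⟨a, ha, hfa, h1⟩ := exists_pm_one_of_sum s f 1 (by norm_num) (by rw [h]; norm_num)
  obtain ⟨b, hb, hfb, h0⟩ := exists_pm_one_of_sum (s.erase a) f 0 (by norm_num)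
    (by rw [h1]; norm_num)
  refine ⟨a, b, ha, Finset.mem_of_mem_erase hb, (Finset.ne_of_mem_erase hb).symm, hfa, hfb, ?_⟩
  intro x hx hxa hxb
  exact zero_of_sum_zero _ f (by simpa using h0) x
    (Finset.mem_erase.mpr ⟨hxb, Finset.mem_erase.mpr ⟨hxa, hx⟩⟩)

theorem struct3 (s : Finset X) (f : X → ℤ) (h : ∑ x ∈ s, f x * f x = 3) :
    ∃ a b c, a ∈ s ∧ b ∈ s ∧ c ∈ s ∧ a ≠ b ∧ a ≠ c ∧ b ≠ c ∧
      (f a = 1 ∨ f a = -1) ∧ (f b = 1 ∨ f b = -1) ∧ (f c = 1 ∨ f c = -1) ∧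
      ∀ x ∈ s, x ≠ a → x ≠ b → x ≠ c → f x = 0 := by
  obtain ⟨a, ha, hfa, h1⟩ := exists_pm_one_of_sum s f 2 (by norm_num) (by rw [h]; norm_num)
  obtain ⟨b, c, hb, hc, hbc, hfb, hfc, hz⟩ := struct2 (s.erase a) f (by rw [h1]; norm_num)
  refine ⟨a, b, c, ha, Finset.mem_of_mem_erase hb, Finset.mem_of_mem_erase hc,
    (Finset.ne_of_mem_erase hb).symm, (Finset.ne_of_mem_erase hc).symm, hbc, hfa, hfb, hfc, ?_⟩
  intro x hx hxa hxb hxc
  exact hz x (Finset.mem_erase.mpr ⟨hxa, hx⟩) hxb hxc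

variable [Fintype X]

theorem expand3 (f g : X → ℤ) (x₀ a b : X) (h1 : a ≠ x₀) (h2 : b ≠ x₀) (h3 : a ≠ b)
    (hz : ∀ x, x ≠ x₀ → x ≠ a → x ≠ b → f x = 0) :
    ∑ x, f x * g x = f x₀ * g x₀ + f a * g a + f b * g b := by
  rw [← Finset.sum_subset (Finset.subset_univ ({x₀, a, b} : Finset X))]
  · rw [Finset.sum_insert, Finset.sum_pair h3]
    · ring
    · simp only [Finset.mem_insert, Finset.mem_singleton, not_or]
      exact ⟨h1.symm, h2.symm⟩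
  · intro x _ hx
    simp only [Finset.mem_insert, Finset.mem_singleton, not_or] at hx
    rw [hz x hx.1 hx.2.1 hx.2.2, zero_mul]

theorem expand4 (f g : X → ℤ) (x₀ a b c : X) (h1 : a ≠ x₀) (h2 : b ≠ x₀) (h3 : c ≠ x₀)
    (hab : a ≠ b) (hac : a ≠ c) (hbc : b ≠ c)
    (hz : ∀ x, x ≠ x₀ → x ≠ a → x ≠ b → x ≠ c → f x = 0) :
    ∑ x, f x * g x = f x₀ * g x₀ + f a * g a + f b * g b + f c * g c := by
  rw [← Finset.sum_subset (Finset.subset_univ ({x₀, a, b, c} : Finset X))]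
  · rw [Finset.sum_insert, Finset.sum_insert, Finset.sum_pair hbc]
    · ring
    · simp only [Finset.mem_insert, Finset.mem_singleton, not_or]
      exact ⟨hab, hac⟩
    · simp only [Finset.mem_insert, Finset.mem_singleton, not_or]
      exact ⟨h1.symm, h2.symm, h3.symm⟩
  · intro x _ hx
    simp only [Finset.mem_insert, Finset.mem_singleton, not_or] at hx
    rw [hz x hx.1 hx.2.1 hx.2.2.1 hx.2.2.2, zero_mul]

end NormLemmas


section NumberTheory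

/-- the element `2^(n-2)` of `ZMod 2^(n-1)`. -/
def hh (n : ℕ) : ZMod (2 ^ (n - 1)) := ((2 ^ (n - 2) : ℕ) : ZMod (2 ^ (n - 1)))

/-- the class representative `j+1`. -/
def rep (n : ℕ) (j : ℕ) : ZMod (2 ^ (n - 1)) := ((j + 1 : ℕ) : ZMod (2 ^ (n - 1)))

/-- `i` is neither `0` nor `2^(n-2)`. -/
def IsCls (n : ℕ) (i : ZMod (2 ^ (n - 1))) : Prop := i ≠ 0 ∧ i ≠ hh n

theorem pow_split (n : ℕ) (hn : 3 ≤ n) : 2 ^ (n - 1) = 2 ^ (n - 2) + 2 ^ (n - 2) := by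
  have : n - 1 = (n - 2) + 1 := by omega
  rw [this, pow_succ]; ring

theorem two_le_half (n : ℕ) (hn : 3 ≤ n) : 2 ≤ 2 ^ (n - 2) := by
  calc 2 = 2 ^ 1 := by norm_num
    _ ≤ 2 ^ (n - 2) := Nat.pow_le_pow_right (by norm_num) (by omega)

theorem four_le_half (n : ℕ) (hn : 4 ≤ n) : 4 ≤ 2 ^ (n - 2) := by
  calc 4 = 2 ^ 2 := by norm_num
    _ ≤ 2 ^ (n - 2) := Nat.pow_le_pow_right (by norm_num) (by omega)

theorem cast_eq_neg_iff (m a b : ℕ) :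
    ((a : ℕ) : ZMod m) = -((b : ℕ) : ZMod m) ↔ m ∣ a + b := by
  rw [eq_neg_iff_add_eq_zero, ← Nat.cast_add, ZMod.natCast_eq_zero_iff]

theorem cast_eq_iff_of_lt (m a b : ℕ) (ha : a < m) (hb : b < m) :
    ((a : ℕ) : ZMod m) = ((b : ℕ) : ZMod m) ↔ a = b := by
  rw [ZMod.natCast_eq_natCast_iff', Nat.mod_eq_of_lt ha, Nat.mod_eq_of_lt hb]

theorem hh_ne_zero (n : ℕ) (hn : 3 ≤ n) : hh n ≠ 0 := by
  unfold hh
  rw [Ne, ZMod.natCast_eq_zero_iff]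
  have h1 := pow_split n hn
  have h2 := two_le_half n hn
  exact Nat.not_dvd_of_pos_of_lt (by omega) (by omega)

theorem neg_hh (n : ℕ) (hn : 3 ≤ n) : -hh n = hh n := by
  unfold hh
  symm
  rw [cast_eq_neg_iff, ← pow_split n hn]

theorem ne_neg_self (n : ℕ) (hn : 3 ≤ n) (i : ZMod (2 ^ (n - 1))) (hi : IsCls n i) : i ≠ -i := by
  intro heq
  have hv := ZMod.natCast_zmod_val i
  have hlt := ZMod.val_lt i
  rw [← hv, cast_eq_neg_iff] at heq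
  obtain ⟨c, hc⟩ := heq
  have h1 := pow_split n hn
  have h2 := two_le_half n hn
  rcases c with _ | _ | c
  · apply hi.1
    rw [← hv]
    have : i.val = 0 := by omega
    rw [this]; simp
  · apply hi.2
    rw [← hv]
    unfold hh
    have : i.val = 2 ^ (n - 2) := by omega
    rw [this]
  · have : 2 ^ (n - 1) * 2 ≤ 2 ^ (n - 1) * (c + 1 + 1) := Nat.mul_le_mul_left _ (by omega)
    omega

theorem isCls_neg (n : ℕ) (hn : 3 ≤ n) (i : ZMod (2 ^ (n - 1))) (hi : IsCls n i) :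
    IsCls n (-i) := by
  refine ⟨neg_ne_zero.mpr hi.1, ?_⟩
  intro h
  apply hi.2
  rw [← neg_neg i, h, neg_hh n hn]

theorem isCls_rep (n : ℕ) (hn : 3 ≤ n) (j : ℕ) (hj : j < 2 ^ (n - 2) - 1) : IsCls n (rep n j) := by
  have h1 := pow_split n hn
  have h2 := two_le_half n hn
  constructor
  · unfold rep
    rw [Ne, ZMod.natCast_eq_zero_iff]
    exact Nat.not_dvd_of_pos_of_lt (by omega) (by omega)
  · unfold rep hh
    rw [Ne, cast_eq_iff_of_lt _ _ _ (by omega) (by omega)]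
    omega

theorem rep_ne (n : ℕ) (hn : 3 ≤ n) (j j' : ℕ) (hj : j < 2 ^ (n - 2) - 1)
    (hj' : j' < 2 ^ (n - 2) - 1) (hne : j ≠ j') :
    rep n j ≠ rep n j' ∧ rep n j ≠ -rep n j' := by
  have h1 := pow_split n hn
  have h2 := two_le_half n hn
  constructor
  · unfold rep
    rw [Ne, cast_eq_iff_of_lt _ _ _ (by omega) (by omega)]
    omega
  · unfold rep
    rw [Ne, cast_eq_neg_iff]
    exact Nat.not_dvd_of_pos_of_lt (by omega) (by omega)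

theorem exists_rep (n : ℕ) (hn : 3 ≤ n) (i : ZMod (2 ^ (n - 1))) (hi : IsCls n i) :
    ∃ j, j < 2 ^ (n - 2) - 1 ∧ (i = rep n j ∨ i = -rep n j) := by
  have hv := ZMod.natCast_zmod_val i
  have hlt := ZMod.val_lt i
  have h1 := pow_split n hn
  have h2 := two_le_half n hn
  have hv0 : i.val ≠ 0 := by
    intro h
    apply hi.1
    rw [← hv, h]; simp
  have hvh : i.val ≠ 2 ^ (n - 2) := by
    intro h
    apply hi.2
    rw [← hv, h]; rfl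
  rcases Nat.lt_or_ge i.val (2 ^ (n - 2)) with hlt' | hge
  · refine ⟨i.val - 1, by omega, Or.inl ?_⟩
    unfold rep
    rw [← hv]
    congr 1
    rw [ZMod.val_natCast, Nat.mod_eq_of_lt hlt]
    omega
  · refine ⟨2 ^ (n - 1) - i.val - 1, by omega, Or.inr ?_⟩
    unfold rep
    rw [← hv, cast_eq_neg_iff, ZMod.val_natCast, Nat.mod_eq_of_lt hlt]
    have : i.val + (2 ^ (n - 1) - i.val - 1 + 1) = 2 ^ (n - 1) := by omega
    rw [this]

end NumberTheory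


section Main

variable {n : ℕ} {X : Type*} [Fintype X] [DecidableEq X]
  {y : X → ZMod (2 ^ (n - 1)) → ℤ} {d : X → ℤ} {x₀ : X}

/-- the hypotheses of `lattice_main`. -/
structure Hyp (n : ℕ) {X : Type*} [Fintype X] (y : X → ZMod (2 ^ (n - 1)) → ℤ) (d : X → ℤ)
    (x₀ : X) : Prop where
  hn : 3 ≤ n
  hd : ∀ x, 0 < d x
  hd0 : d x₀ = 1
  h0 : ∀ i, i ≠ 0 → y x₀ i = -1
  hR : ∀ i k : ZMod (2 ^ (n - 1)), i ≠ 0 → k ≠ 0 →
      ∑ x, y x i * y x k = (if i = k then 1 else 0) + (if i = -k then 1 else 0) + 2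
  hD : ∀ i, i ≠ 0 → ∑ x, y x i * d x = 0

theorem Hyp.sym (H : Hyp n y d x₀) (x : X) (i : ZMod (2 ^ (n - 1))) : y x (-i) = y x i := by
  by_cases hi0 : i = 0
  · rw [hi0, neg_zero]
  by_cases he : i = -i
  · rw [← he]
  have hni0 : -i ≠ 0 := neg_ne_zero.mpr hi0
  have hne' : ¬ (-i = i) := fun h => he h.symm
  have h1 := H.hR i i hi0 hi0
  have h2 := H.hR i (-i) hi0 hni0
  have h3 := H.hR (-i) (-i) hni0 hni0
  rw [if_pos rfl, if_neg he] at h1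
  rw [if_neg he, neg_neg, if_pos rfl] at h2
  rw [if_pos rfl, neg_neg, if_neg hne'] at h3
  have hsum : ∑ x, (y x (-i) - y x i) * (y x (-i) - y x i) = 0 := by
    have : ∀ x, (y x (-i) - y x i) * (y x (-i) - y x i) =
        y x (-i) * y x (-i) - 2 * (y x i * y x (-i)) + y x i * y x i := by
      intro x; ring
    rw [Finset.sum_congr rfl (fun x _ => this x), Finset.sum_add_distrib,
      Finset.sum_sub_distrib, ← Finset.mul_sum, h1, h2, h3]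
    norm_num
  have := zero_of_sum_zero Finset.univ (fun x => y x (-i) - y x i) hsum x (Finset.mem_univ x)
  linarith

theorem Hyp.norm_cls (H : Hyp n y d x₀) (i : ZMod (2 ^ (n - 1))) (hi : IsCls n i) :
    ∑ x, y x i * y x i = 3 := by
  have h1 := H.hR i i hi.1 hi.1
  rw [if_pos rfl, if_neg (ne_neg_self n H.hn i hi)] at h1
  rw [h1]; norm_num

theorem Hyp.norm_h (H : Hyp n y d x₀) : ∑ x, y x (hh n) * y x (hh n) = 4 := by
  have h1 := H.hR (hh n) (hh n) (hh_ne_zero n H.hn) (hh_ne_zero n H.hn)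
  rw [if_pos rfl, neg_hh n H.hn, if_pos rfl] at h1
  rw [h1]; norm_num

theorem Hyp.inner (H : Hyp n y d x₀) (i k : ZMod (2 ^ (n - 1))) (hi : i ≠ 0) (hk : k ≠ 0)
    (h1 : i ≠ k) (h2 : i ≠ -k) : ∑ x, y x i * y x k = 2 := by
  have h := H.hR i k hi hk
  rw [if_neg h1, if_neg h2] at h
  rw [h]; norm_num

/-- the shape of `y_i` for a class `i`: `-1` at `x₀`, `+1` at `a`, `-1` at `b`. -/
def Str (y : X → ZMod (2 ^ (n - 1)) → ℤ) (x₀ : X) (i : ZMod (2 ^ (n - 1))) (a b : X) : Prop :=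
  a ≠ x₀ ∧ b ≠ x₀ ∧ a ≠ b ∧ y a i = 1 ∧ y b i = -1 ∧
    ∀ x, x ≠ x₀ → x ≠ a → x ≠ b → y x i = 0

theorem Hyp.exists_str (H : Hyp n y d x₀) (i : ZMod (2 ^ (n - 1))) (hi : IsCls n i) :
    ∃ a b, Str y x₀ i a b := by
  have hnorm := H.norm_cls i hi
  have h0i := H.h0 i hi.1
  have hadd := Finset.add_sum_erase Finset.univ (fun x => y x i * y x i) (Finset.mem_univ x₀)
  rw [hnorm, h0i] at hadd
  have h2 : ∑ x ∈ Finset.univ.erase x₀, y x i * y x i = 2 := by linarith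
  obtain ⟨a, b, ha, hb, hab, hfa, hfb, hz⟩ := struct2 (Finset.univ.erase x₀) (fun x => y x i) h2
  have ha0 : a ≠ x₀ := Finset.ne_of_mem_erase ha
  have hb0 : b ≠ x₀ := Finset.ne_of_mem_erase hb
  have hz' : ∀ x, x ≠ x₀ → x ≠ a → x ≠ b → y x i = 0 := fun x hx0 hxa hxb =>
    hz x (Finset.mem_erase.mpr ⟨hx0, Finset.mem_univ x⟩) hxa hxb
  have hz'' : ∀ x, x ≠ x₀ → x ≠ b → x ≠ a → y x i = 0 := fun x hx0 hxb hxa => hz' x hx0 hxa hxb
  have hexp := expand3 (fun x => y x i) d x₀ a b ha0 hb0 hab hz'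
  rw [H.hD i hi.1, h0i, H.hd0] at hexp
  have hda := H.hd a
  have hdb := H.hd b
  rcases hfa with hfa | hfa <;> rcases hfb with hfb | hfb
  · exfalso; rw [hfa, hfb] at hexp; linarith
  · exact ⟨a, b, ha0, hb0, hab, hfa, hfb, hz'⟩
  · exact ⟨b, a, hb0, ha0, hab.symm, hfb, hfa, hz''⟩
  · exfalso; rw [hfa, hfb] at hexp; linarith

theorem Str.expand {i : ZMod (2 ^ (n - 1))} {a b : X} (hS : Str y x₀ i a b)
    (h0i : y x₀ i = -1) (g : X → ℤ) : ∑ x, y x i * g x = -g x₀ + g a - g b := by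
  obtain ⟨ha0, hb0, hab, hfa, hfb, hz⟩ := hS
  have hexp := expand3 (fun x => y x i) g x₀ a b ha0 hb0 hab hz
  rw [hexp, h0i, hfa, hfb]; ring

theorem Str.eq_pos {i : ZMod (2 ^ (n - 1))} {a b : X} (hS : Str y x₀ i a b)
    (h0i : y x₀ i = -1) {x : X} (hx : y x i = 1) : x = a := by
  obtain ⟨ha0, hb0, hab, hfa, hfb, hz⟩ := hS
  by_contra hne
  by_cases hx0 : x = x₀
  · rw [hx0, h0i] at hx; norm_num at hx
  by_cases hxb : x = b
  · rw [hxb, hfb] at hx; norm_num at hx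
  rw [hz x hx0 hne hxb] at hx; norm_num at hx

theorem Str.eq_neg {i : ZMod (2 ^ (n - 1))} {a b : X} (hS : Str y x₀ i a b)
    {x : X} (hx0 : x ≠ x₀) (hx : y x i = -1) : x = b := by
  obtain ⟨ha0, hb0, hab, hfa, hfb, hz⟩ := hS
  by_contra hne
  by_cases hxa : x = a
  · rw [hxa, hfa] at hx; norm_num at hx
  rw [hz x hx0 hxa hne] at hx; norm_num at hx

theorem Str.bound {i : ZMod (2 ^ (n - 1))} {a b : X} (hS : Str y x₀ i a b)
    (h0i : y x₀ i = -1) (x : X) : y x i = 1 ∨ y x i = 0 ∨ y x i = -1 := by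
  obtain ⟨ha0, hb0, hab, hfa, hfb, hz⟩ := hS
  by_cases hx0 : x = x₀
  · right; right; rw [hx0, h0i]
  by_cases hxa : x = a
  · left; rw [hxa, hfa]
  by_cases hxb : x = b
  · right; right; rw [hxb, hfb]
  right; left; exact hz x hx0 hxa hxb


theorem Hyp.exists_common (H : Hyp n y d x₀) :
    ∃ (x₁ : X) (δ₁ : ℤ), x₁ ≠ x₀ ∧ (δ₁ = 1 ∨ δ₁ = -1) ∧ ∀ i, IsCls n i → y x₁ i = -δ₁ := by
  have h2 := two_le_half n H.hn
  have hc1 : IsCls n (rep n 0) := isCls_rep n H.hn 0 (by omega)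
  obtain ⟨a, b, hS⟩ := H.exists_str (rep n 0) hc1
  have h01 := H.h0 _ hc1.1
  -- key relation for the other classes
  have hkey : ∀ k, IsCls n k → k ≠ rep n 0 → k ≠ -rep n 0 →
      (y a k = 1 ∧ y b k = 0) ∨ (y a k = 0 ∧ y b k = -1) := by
    intro k hk hk1 hk2
    have hin := H.inner (rep n 0) k hc1.1 hk.1 (Ne.symm hk1)
      (fun h => hk2 (by rw [h, neg_neg]))
    rw [hS.expand h01 (fun x => y x k), H.h0 k hk.1] at hin
    obtain ⟨a', b', hS'⟩ := H.exists_str k hk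
    have hba := hS'.bound (H.h0 k hk.1) a
    have hbb := hS'.bound (H.h0 k hk.1) b
    rcases hba with h | h | h <;> rcases hbb with h' | h' | h' <;> rw [h, h'] at hin <;>
      first
        | (exfalso; omega)
        | (left; exact ⟨h, h'⟩)
        | (right; exact ⟨h, h'⟩)
  by_cases hA : ∀ k, IsCls n k → k ≠ rep n 0 → k ≠ -rep n 0 → y a k = 1
  · refine ⟨a, -1, hS.1, Or.inr rfl, ?_⟩
    intro i hi
    rw [neg_neg]
    by_cases h1 : i = rep n 0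
    · rw [h1]; exact hS.2.2.2.1
    by_cases h2 : i = -rep n 0
    · rw [h2, H.sym]; exact hS.2.2.2.1
    exact hA i hi h1 h2
  · push Not at hA
    obtain ⟨k₀, hk₀, hk1, hk2, hk3⟩ := hA
    have hB0 : y a k₀ = 0 ∧ y b k₀ = -1 := by
      rcases hkey k₀ hk₀ hk1 hk2 with h | h
      · exact absurd h.1 hk3
      · exact h
    refine ⟨b, 1, hS.2.1, Or.inl rfl, ?_⟩
    intro i hi
    by_cases h1 : i = rep n 0
    · rw [h1]; exact hS.2.2.2.2.1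
    by_cases h2 : i = -rep n 0
    · rw [h2, H.sym]; exact hS.2.2.2.2.1
    rcases hkey i hi h1 h2 with h | h
    · exfalso
      have hne1 : i ≠ k₀ := by
        intro he
        rw [he, hB0.1] at h
        exact absurd h.1 (by norm_num)
      have hne2 : i ≠ -k₀ := by
        intro he
        rw [he, H.sym, hB0.1] at h
        exact absurd h.1 (by norm_num)
      obtain ⟨a', b', hS'⟩ := H.exists_str i hi
      have h0i := H.h0 i hi.1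
      have haa' : a = a' := hS'.eq_pos h0i h.1
      have hin := H.inner i k₀ hi.1 hk₀.1 hne1 hne2
      rw [hS'.expand h0i (fun x => y x k₀), H.h0 k₀ hk₀.1, ← haa', hB0.1] at hin
      have hb' : y b' k₀ = -1 := by linarith
      obtain ⟨a₀, b₀, hS₀⟩ := H.exists_str k₀ hk₀
      have e1 : b = b₀ := hS₀.eq_neg hS.2.1 hB0.2
      have e2 : b' = b₀ := hS₀.eq_neg hS'.2.1 hb'
      have hcon : y b' i = -1 := hS'.2.2.2.2.1
      rw [e2, ← e1, h.2] at hcon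
      norm_num at hcon
    · exact h.2


/-- a configuration: common coordinate `x₁` with sign `-δ₁`, petals `p i` with sign `δ₁`. -/
def Conf (y : X → ZMod (2 ^ (n - 1)) → ℤ) (x₀ x₁ : X) (δ₁ : ℤ)
    (p : ZMod (2 ^ (n - 1)) → X) : Prop :=
  x₁ ≠ x₀ ∧ (δ₁ = 1 ∨ δ₁ = -1) ∧ ∀ i, IsCls n i →
    (y x₁ i = -δ₁ ∧ p i ≠ x₀ ∧ p i ≠ x₁ ∧ y (p i) i = δ₁ ∧
      ∀ x, x ≠ x₀ → x ≠ x₁ → x ≠ p i → y x i = 0)

theorem Hyp.exists_conf (H : Hyp n y d x₀) : ∃ x₁ δ₁ p, Conf y x₀ x₁ δ₁ p := by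
  obtain ⟨x₁, δ₁, h10, hδ, hcom⟩ := H.exists_common
  have hpet : ∀ i, IsCls n i → ∃ q, q ≠ x₀ ∧ q ≠ x₁ ∧ y q i = δ₁ ∧
      ∀ x, x ≠ x₀ → x ≠ x₁ → x ≠ q → y x i = 0 := by
    intro i hi
    obtain ⟨a, b, hS⟩ := H.exists_str i hi
    have h0i := H.h0 i hi.1
    have hx1 := hcom i hi
    rcases hδ with hδ | hδ
    · rw [hδ] at hx1 ⊢
      have e : x₁ = b := hS.eq_neg h10 hx1
      refine ⟨a, hS.1, ?_, hS.2.2.2.1, ?_⟩
      · rw [e]; exact hS.2.2.1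
      · intro x hx0 hx1' hxa
        rw [e] at hx1'
        exact hS.2.2.2.2.2 x hx0 hxa hx1'
    · rw [hδ] at hx1 ⊢
      rw [neg_neg] at hx1
      have e : x₁ = a := hS.eq_pos h0i hx1
      refine ⟨b, hS.2.1, ?_, hS.2.2.2.2.1, ?_⟩
      · rw [e]; exact hS.2.2.1.symm
      · intro x hx0 hx1' hxb
        rw [e] at hx1'
        exact hS.2.2.2.2.2 x hx0 hx1' hxb
  have : Nonempty X := ⟨x₀⟩
  choose! p hp using hpet
  exact ⟨x₁, δ₁, p, h10, hδ, fun i hi =>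
    ⟨hcom i hi, (hp i hi).1, (hp i hi).2.1, (hp i hi).2.2.1, (hp i hi).2.2.2⟩⟩

theorem Conf.expand {x₁ : X} {δ₁ : ℤ} {p : ZMod (2 ^ (n - 1)) → X} (hC : Conf y x₀ x₁ δ₁ p)
    (i : ZMod (2 ^ (n - 1))) (hi : IsCls n i) (h0i : y x₀ i = -1) (g : X → ℤ) :
    ∑ x, y x i * g x = -g x₀ - δ₁ * g x₁ + δ₁ * g (p i) := by
  obtain ⟨h10, hδ, hall⟩ := hC
  obtain ⟨hx1, hp0, hp1, hpv, hz⟩ := hall i hi
  have hexp := expand3 (fun x => y x i) g x₀ x₁ (p i) h10 hp0 hp1.symm hz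
  rw [hexp, h0i, hx1, hpv]; ring

theorem Hyp.petal_zero (H : Hyp n y d x₀) {x₁ : X} {δ₁ : ℤ} {p : ZMod (2 ^ (n - 1)) → X}
    (hC : Conf y x₀ x₁ δ₁ p) (i k : ZMod (2 ^ (n - 1))) (hi : IsCls n i) (hk : IsCls n k)
    (h1 : i ≠ k) (h2 : i ≠ -k) : y (p i) k = 0 := by
  have hin := H.inner i k hi.1 hk.1 h1 h2
  rw [hC.expand i hi (H.h0 i hi.1) (fun x => y x k), H.h0 k hk.1, (hC.2.2 k hk).1] at hin
  rcases hC.2.1 with hδ | hδ <;> rw [hδ] at hin <;> linarith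

theorem Hyp.petal_ne (H : Hyp n y d x₀) {x₁ : X} {δ₁ : ℤ} {p : ZMod (2 ^ (n - 1)) → X}
    (hC : Conf y x₀ x₁ δ₁ p) (i k : ZMod (2 ^ (n - 1))) (hi : IsCls n i) (hk : IsCls n k)
    (h1 : i ≠ k) (h2 : i ≠ -k) : p i ≠ p k := by
  intro he
  have hz := H.petal_zero hC i k hi hk h1 h2
  rw [he, (hC.2.2 k hk).2.2.2.1] at hz
  rcases hC.2.1 with hδ | hδ <;> rw [hδ] at hz <;> norm_num at hz

theorem Hyp.h_rel (H : Hyp n y d x₀) {x₁ : X} {δ₁ : ℤ} {p : ZMod (2 ^ (n - 1)) → X}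
    (hC : Conf y x₀ x₁ δ₁ p) (i : ZMod (2 ^ (n - 1))) (hi : IsCls n i) :
    δ₁ * (y (p i) (hh n) - y x₁ (hh n)) = 1 := by
  have hin := H.inner i (hh n) hi.1 (hh_ne_zero n H.hn) hi.2 (by rw [neg_hh n H.hn]; exact hi.2)
  rw [hC.expand i hi (H.h0 i hi.1) (fun x => y x (hh n)), H.h0 (hh n) (hh_ne_zero n H.hn)] at hin
  linarith

/-- the shape of `y_h`, `h = 2^(n-2)`. -/
def StrH (y : X → ZMod (2 ^ (n - 1)) → ℤ) (x₀ c₁ c₂ c₃ : X) : Prop :=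
  c₁ ≠ x₀ ∧ c₂ ≠ x₀ ∧ c₃ ≠ x₀ ∧ c₁ ≠ c₂ ∧ c₁ ≠ c₃ ∧ c₂ ≠ c₃ ∧
    (y c₁ (hh n) = 1 ∨ y c₁ (hh n) = -1) ∧ (y c₂ (hh n) = 1 ∨ y c₂ (hh n) = -1) ∧
    (y c₃ (hh n) = 1 ∨ y c₃ (hh n) = -1) ∧
    ∀ x, x ≠ x₀ → x ≠ c₁ → x ≠ c₂ → x ≠ c₃ → y x (hh n) = 0

theorem Hyp.exists_strH (H : Hyp n y d x₀) : ∃ c₁ c₂ c₃, StrH y x₀ c₁ c₂ c₃ := by
  have hnorm := H.norm_h
  have h0h := H.h0 (hh n) (hh_ne_zero n H.hn)
  have hadd := Finset.add_sum_erase Finset.univ (fun x => y x (hh n) * y x (hh n))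
    (Finset.mem_univ x₀)
  rw [hnorm, h0h] at hadd
  have h3 : ∑ x ∈ Finset.univ.erase x₀, y x (hh n) * y x (hh n) = 3 := by linarith
  obtain ⟨a, b, c, ha, hb, hc, hab, hac, hbc, hfa, hfb, hfc, hz⟩ :=
    struct3 (Finset.univ.erase x₀) (fun x => y x (hh n)) h3
  exact ⟨a, b, c, Finset.ne_of_mem_erase ha, Finset.ne_of_mem_erase hb,
    Finset.ne_of_mem_erase hc, hab, hac, hbc, hfa, hfb, hfc,
    fun x hx0 hxa hxb hxc => hz x (Finset.mem_erase.mpr ⟨hx0, Finset.mem_univ x⟩) hxa hxb hxc⟩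

theorem Hyp.bound_h (H : Hyp n y d x₀) (x : X) :
    y x (hh n) = 1 ∨ y x (hh n) = 0 ∨ y x (hh n) = -1 := by
  obtain ⟨c₁, c₂, c₃, h1, h2, h3, h12, h13, h23, hf1, hf2, hf3, hz⟩ := H.exists_strH
  by_cases hx0 : x = x₀
  · right; right; rw [hx0]; exact H.h0 (hh n) (hh_ne_zero n H.hn)
  by_cases hx1 : x = c₁
  · rw [hx1]; rcases hf1 with h | h
    · left; exact h
    · right; right; exact h
  by_cases hx2 : x = c₂
  · rw [hx2]; rcases hf2 with h | h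
    · left; exact h
    · right; right; exact h
  by_cases hx3 : x = c₃
  · rw [hx3]; rcases hf3 with h | h
    · left; exact h
    · right; right; exact h
  right; left; exact hz x hx0 hx1 hx2 hx3


theorem vanish4 (f : X → ℤ) (x₀ a b c : X) (h1 : a ≠ x₀) (h2 : b ≠ x₀) (h3 : c ≠ x₀)
    (hab : a ≠ b) (hac : a ≠ c) (hbc : b ≠ c)
    (f0 : f x₀ * f x₀ = 1) (fa : f a * f a = 1) (fb : f b * f b = 1) (fc : f c * f c = 1)
    (hs : ∑ x, f x * f x = 4) :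
    ∀ x, x ≠ x₀ → x ≠ a → x ≠ b → x ≠ c → f x = 0 := by
  have e0 := Finset.add_sum_erase Finset.univ (fun x => f x * f x) (Finset.mem_univ x₀)
  have ma : a ∈ Finset.univ.erase x₀ := Finset.mem_erase.mpr ⟨h1, Finset.mem_univ a⟩
  have ea := Finset.add_sum_erase (Finset.univ.erase x₀) (fun x => f x * f x) ma
  have mb : b ∈ (Finset.univ.erase x₀).erase a :=
    Finset.mem_erase.mpr ⟨hab.symm, Finset.mem_erase.mpr ⟨h2, Finset.mem_univ b⟩⟩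
  have eb := Finset.add_sum_erase ((Finset.univ.erase x₀).erase a) (fun x => f x * f x) mb
  have mc : c ∈ ((Finset.univ.erase x₀).erase a).erase b :=
    Finset.mem_erase.mpr ⟨hbc.symm, Finset.mem_erase.mpr ⟨hac.symm,
      Finset.mem_erase.mpr ⟨h3, Finset.mem_univ c⟩⟩⟩
  have ec := Finset.add_sum_erase (((Finset.univ.erase x₀).erase a).erase b)
    (fun x => f x * f x) mc
  have hz : ∑ x ∈ (((Finset.univ.erase x₀).erase a).erase b).erase c, f x * f x = 0 := by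
    linarith
  intro x hx0 hxa hxb hxc
  exact zero_of_sum_zero _ f hz x (Finset.mem_erase.mpr ⟨hxc, Finset.mem_erase.mpr ⟨hxb,
    Finset.mem_erase.mpr ⟨hxa, Finset.mem_erase.mpr ⟨hx0, Finset.mem_univ x⟩⟩⟩⟩)

theorem Hyp.exists_conf_good (H : Hyp n y d x₀) :
    ∃ x₁ δ₁ p, Conf y x₀ x₁ δ₁ p ∧ y x₁ (hh n) = -δ₁ := by
  obtain ⟨x₁, δ₁, p, hC⟩ := H.exists_conf
  by_cases hgood : y x₁ (hh n) = -δ₁
  · exact ⟨x₁, δ₁, p, hC, hgood⟩
  have hB : ∀ i, IsCls n i → y x₁ (hh n) = 0 ∧ y (p i) (hh n) = δ₁ := by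
    intro i hi
    have hrel := H.h_rel hC i hi
    have b1 := H.bound_h x₁
    have b2 := H.bound_h (p i)
    obtain ⟨P, hP⟩ : ∃ P, P = y (p i) (hh n) := ⟨_, rfl⟩
    obtain ⟨Q, hQ⟩ : ∃ Q, Q = y x₁ (hh n) := ⟨_, rfl⟩
    rw [← hP, ← hQ] at hrel
    rw [← hQ] at hgood b1 ⊢
    rw [← hP] at b2 ⊢
    rcases hC.2.1 with hδ | hδ
    · rw [hδ] at hrel hgood ⊢
      constructor <;> omega
    · rw [hδ] at hrel hgood ⊢
      constructor <;> omega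
  have h2 := two_le_half n H.hn
  have hc0 : IsCls n (rep n 0) := isCls_rep n H.hn 0 (by omega)
  rcases Nat.lt_or_ge n 4 with h3 | h4
  · -- `n = 3`: swap the roles of `x₁` and the unique petal
    have hn3 : n = 3 := by have := H.hn; omega
    have hone : 2 ^ (n - 2) - 1 = 1 := by rw [hn3]; norm_num
    have hcls : ∀ i, IsCls n i → i = rep n 0 ∨ i = -rep n 0 := by
      intro i hi
      obtain ⟨j, hj, h⟩ := exists_rep n H.hn i hi
      have : j = 0 := by omega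
      rw [this] at h
      exact h
    obtain ⟨hx1, hp0, hp1, hpv, hz⟩ := hC.2.2 _ hc0
    refine ⟨p (rep n 0), -δ₁, fun _ => x₁, ⟨hp0, ?_, ?_⟩, ?_⟩
    · rcases hC.2.1 with h | h
      · right; rw [h]
      · left; rw [h]; norm_num
    · intro i hi
      have hyi : ∀ x, y x i = y x (rep n 0) := by
        intro x
        rcases hcls i hi with h | h
        · rw [h]
        · rw [h, H.sym]
      refine ⟨?_, hC.1, hp1.symm, ?_, ?_⟩
      · rw [hyi, hpv, neg_neg]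
      · rw [hyi, hx1]
      · intro x hx0 hxp hx1'
        rw [hyi]
        exact hz x hx0 hx1' hxp
    · rw [neg_neg]; exact (hB _ hc0).2
  · -- `n ≥ 4`: three petals contradict the degree relation
    exfalso
    have h4' := four_le_half n h4
    have hc1 : IsCls n (rep n 1) := isCls_rep n H.hn 1 (by omega)
    have hc2 : IsCls n (rep n 2) := isCls_rep n H.hn 2 (by omega)
    have ne01 := rep_ne n H.hn 0 1 (by omega) (by omega) (by omega)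
    have ne02 := rep_ne n H.hn 0 2 (by omega) (by omega) (by omega)
    have ne12 := rep_ne n H.hn 1 2 (by omega) (by omega) (by omega)
    have q01 := H.petal_ne hC _ _ hc0 hc1 ne01.1 ne01.2
    have q02 := H.petal_ne hC _ _ hc0 hc2 ne02.1 ne02.2
    have q12 := H.petal_ne hC _ _ hc1 hc2 ne12.1 ne12.2
    have v0 := (hB _ hc0).2
    have v1 := (hB _ hc1).2
    have v2 := (hB _ hc2).2
    have p0 := (hC.2.2 _ hc0).2.1
    have p1 := (hC.2.2 _ hc1).2.1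
    have p2 := (hC.2.2 _ hc2).2.1
    have h0h := H.h0 (hh n) (hh_ne_zero n H.hn)
    have hsq : δ₁ * δ₁ = 1 := by rcases hC.2.1 with h | h <;> rw [h] <;> norm_num
    have hvan := vanish4 (fun x => y x (hh n)) x₀ (p (rep n 0)) (p (rep n 1)) (p (rep n 2))
      p0 p1 p2 q01 q02 q12 (by rw [h0h]; norm_num) (by rw [v0]; exact hsq)
      (by rw [v1]; exact hsq) (by rw [v2]; exact hsq) H.norm_h
    have hexp := expand4 (fun x => y x (hh n)) d x₀ (p (rep n 0)) (p (rep n 1)) (p (rep n 2))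
      p0 p1 p2 q01 q02 q12 hvan
    rw [H.hD (hh n) (hh_ne_zero n H.hn), h0h, v0, v1, v2, H.hd0] at hexp
    have d0 := H.hd (p (rep n 0))
    have d1 := H.hd (p (rep n 1))
    have d2 := H.hd (p (rep n 2))
    rcases hC.2.1 with h | h <;> rw [h] at hexp <;> linarith


theorem Hyp.main (H : Hyp n y d x₀) :
    ∃ (x₁ x₂ x₃ : X) (x' : Fin (2 ^ (n - 2) - 1) → X) (δ₁ δ₂ δ₃ : ℤ),
      (δ₁ = 1 ∨ δ₁ = -1) ∧ (δ₂ = 1 ∨ δ₂ = -1) ∧ (δ₃ = 1 ∨ δ₃ = -1) ∧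
      Function.Injective x' ∧ x₁ ≠ x₀ ∧ x₂ ≠ x₀ ∧ x₃ ≠ x₀ ∧ x₁ ≠ x₂ ∧ x₁ ≠ x₃ ∧ x₂ ≠ x₃ ∧
      (∀ j, x' j ≠ x₁ ∧ x' j ≠ x₂ ∧ x' j ≠ x₃ ∧ x' j ≠ x₀) ∧
      (∀ i, i ≠ 0 → y x₁ i = -δ₁) ∧
      (∀ i, i ≠ 0 → y x₂ i = if i = hh n then -δ₂ else 0) ∧
      (∀ i, i ≠ 0 → y x₃ i = if i = hh n then -δ₃ else 0) ∧
      (∀ j i, i ≠ 0 → y (x' j) i =
        if i = rep n (j : ℕ) ∨ i = -rep n (j : ℕ) then δ₁ else 0) ∧
      (∀ x, x ≠ x₀ → x ≠ x₁ → x ≠ x₂ → x ≠ x₃ → (∀ j, x ≠ x' j) → ∀ i, i ≠ 0 → y x i = 0) := by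
  have hn := H.hn
  obtain ⟨x₁, δ₁, p, hC, hgood⟩ := H.exists_conf_good
  have hpz : ∀ i, IsCls n i → y (p i) (hh n) = 0 := by
    intro i hi
    have hrel := H.h_rel hC i hi
    rw [hgood] at hrel
    rcases hC.2.1 with h | h <;> rw [h] at hrel <;> linarith
  obtain ⟨c₁, c₂, c₃, h1, h2, h3, h12, h13, h23, hf1, hf2, hf3, hz⟩ := H.exists_strH
  have hx1ne : y x₁ (hh n) ≠ 0 := by
    rw [hgood]
    rcases hC.2.1 with h | h <;> rw [h] <;> norm_num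
  have hpick : ∃ x₂ x₃, x₂ ≠ x₀ ∧ x₃ ≠ x₀ ∧ x₁ ≠ x₂ ∧ x₁ ≠ x₃ ∧ x₂ ≠ x₃ ∧
      (y x₂ (hh n) = 1 ∨ y x₂ (hh n) = -1) ∧ (y x₃ (hh n) = 1 ∨ y x₃ (hh n) = -1) ∧
      ∀ x, x ≠ x₀ → x ≠ x₁ → x ≠ x₂ → x ≠ x₃ → y x (hh n) = 0 := by
    by_cases e1 : x₁ = c₁
    · subst e1
      exact ⟨c₂, c₃, h2, h3, h12, h13, h23, hf2, hf3, hz⟩
    by_cases e2 : x₁ = c₂
    · subst e2
      exact ⟨c₁, c₃, h1, h3, h12.symm, h23, h13, hf1, hf3,
        fun x hx0 hx1 hx2 hx3 => hz x hx0 hx2 hx1 hx3⟩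
    by_cases e3 : x₁ = c₃
    · subst e3
      exact ⟨c₁, c₂, h1, h2, h13.symm, h23.symm, h12, hf1, hf2,
        fun x hx0 hx1 hx2 hx3 => hz x hx0 hx2 hx3 hx1⟩
    exact absurd (hz x₁ hC.1 e1 e2 e3) hx1ne
  obtain ⟨x₂, x₃, h20, h30, h12', h13', h23', hf2', hf3', hz'⟩ := hpick
  have hp2 : ∀ i, IsCls n i → p i ≠ x₂ := by
    intro i hi he
    have := hpz i hi
    rw [he] at this
    rcases hf2' with h | h <;> rw [h] at this <;> norm_num at this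
  have hp3 : ∀ i, IsCls n i → p i ≠ x₃ := by
    intro i hi he
    have := hpz i hi
    rw [he] at this
    rcases hf3' with h | h <;> rw [h] at this <;> norm_num at this
  have hrep : ∀ j : Fin (2 ^ (n - 2) - 1), IsCls n (rep n (j : ℕ)) :=
    fun j => isCls_rep n hn j j.2
  refine ⟨x₁, x₂, x₃, fun j => p (rep n (j : ℕ)), δ₁, -y x₂ (hh n), -y x₃ (hh n), hC.2.1,
    ?_, ?_, ?_, hC.1, h20, h30, h12', h13', h23', ?_, ?_, ?_, ?_, ?_, ?_⟩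
  · rcases hf2' with h | h <;> rw [h]
    · right; rfl
    · left; norm_num
  · rcases hf3' with h | h <;> rw [h]
    · right; rfl
    · left; norm_num
  · intro j j' he
    by_contra hne
    have hne' : (j : ℕ) ≠ (j' : ℕ) := fun h => hne (Fin.ext h)
    have hr := rep_ne n hn j j' j.2 j'.2 hne'
    exact H.petal_ne hC _ _ (hrep j) (hrep j') hr.1 hr.2 he
  · intro j
    obtain ⟨_, hp0, hp1, _, _⟩ := hC.2.2 _ (hrep j)
    exact ⟨hp1, hp2 _ (hrep j), hp3 _ (hrep j), hp0⟩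
  · intro i hi0
    by_cases hih : i = hh n
    · rw [hih]; exact hgood
    · exact (hC.2.2 i ⟨hi0, hih⟩).1
  · intro i hi0
    by_cases hih : i = hh n
    · rw [if_pos hih, hih, neg_neg]
    · rw [if_neg hih]
      exact (hC.2.2 i ⟨hi0, hih⟩).2.2.2.2 x₂ h20 h12'.symm (hp2 i ⟨hi0, hih⟩).symm
  · intro i hi0
    by_cases hih : i = hh n
    · rw [if_pos hih, hih, neg_neg]
    · rw [if_neg hih]
      exact (hC.2.2 i ⟨hi0, hih⟩).2.2.2.2 x₃ h30 h13'.symm (hp3 i ⟨hi0, hih⟩).symm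
  · intro j i hi0
    have hr := hrep j
    by_cases e1 : i = rep n (j : ℕ)
    · rw [if_pos (Or.inl e1), e1]
      exact (hC.2.2 _ hr).2.2.2.1
    by_cases e2 : i = -rep n (j : ℕ)
    · rw [if_pos (Or.inr e2), e2, H.sym]
      exact (hC.2.2 _ hr).2.2.2.1
    rw [if_neg (not_or.mpr ⟨e1, e2⟩)]
    by_cases hih : i = hh n
    · rw [hih]; exact hpz _ hr
    · exact H.petal_zero hC _ i hr ⟨hi0, hih⟩ (Ne.symm e1) (fun h => e2 (by rw [h, neg_neg]))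
  · intro x hx0 hx1 hx2 hx3 hxj i hi0
    by_cases hih : i = hh n
    · rw [hih]; exact hz' x hx0 hx1 hx2 hx3
    obtain ⟨j, hj, hor⟩ := exists_rep n hn i ⟨hi0, hih⟩
    have hr := isCls_rep n hn j hj
    have hxp : x ≠ p (rep n j) := hxj ⟨j, hj⟩
    have hzero := (hC.2.2 _ hr).2.2.2.2 x hx0 hx1 hxp
    rcases hor with h | h
    · rw [h]; exact hzero
    · rw [h, H.sym]; exact hzero

end Main

section Final

open Cfsg Cfsg.Agent.Lib.Helper78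
open scoped ComplexConjugate Classical

/-- [LAT] the lattice combinatorics (statement verbatim from helper81's post #3947). -/
theorem lattice_main (n : ℕ) (hn : 3 ≤ n) {X : Type*} [Fintype X] [DecidableEq X]
    (y : X → ZMod (2 ^ (n - 1)) → ℤ) (d : X → ℤ) (x₀ : X)
    (hd : ∀ x, 0 < d x) (hd0 : d x₀ = 1)
    (h0 : ∀ i, i ≠ 0 → y x₀ i = -1)
    (hR : ∀ i k : ZMod (2 ^ (n - 1)), i ≠ 0 → k ≠ 0 →
      ∑ x, y x i * y x k = (if i = k then 1 else 0) + (if i = -k then 1 else 0) + 2)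
    (hD : ∀ i, i ≠ 0 → ∑ x, y x i * d x = 0) :
    ∃ (x₁ x₂ x₃ : X) (x' : Fin (2 ^ (n - 2) - 1) → X) (δ₁ δ₂ δ₃ : ℤ),
      (δ₁ = 1 ∨ δ₁ = -1) ∧ (δ₂ = 1 ∨ δ₂ = -1) ∧ (δ₃ = 1 ∨ δ₃ = -1) ∧
      Function.Injective x' ∧ x₁ ≠ x₀ ∧ x₂ ≠ x₀ ∧ x₃ ≠ x₀ ∧ x₁ ≠ x₂ ∧ x₁ ≠ x₃ ∧ x₂ ≠ x₃ ∧
      (∀ j, x' j ≠ x₁ ∧ x' j ≠ x₂ ∧ x' j ≠ x₃ ∧ x' j ≠ x₀) ∧
      (∀ i, i ≠ 0 → y x₁ i = -δ₁) ∧
      (∀ i, i ≠ 0 → y x₂ i = if i = ((2 ^ (n - 2) : ℕ) : ZMod (2 ^ (n - 1))) then -δ₂ else 0) ∧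
      (∀ i, i ≠ 0 → y x₃ i = if i = ((2 ^ (n - 2) : ℕ) : ZMod (2 ^ (n - 1))) then -δ₃ else 0) ∧
      (∀ j i, i ≠ 0 → y (x' j) i =
        if i = (((j : ℕ) + 1 : ℕ) : ZMod (2 ^ (n - 1))) ∨
          i = -(((j : ℕ) + 1 : ℕ) : ZMod (2 ^ (n - 1))) then δ₁ else 0) ∧
      (∀ x, x ≠ x₀ → x ≠ x₁ → x ≠ x₂ → x ≠ x₃ → (∀ j, x ≠ x' j) → ∀ i, i ≠ 0 → y x i = 0) :=
  Hyp.main ⟨hn, hd, hd0, h0, hR, hD⟩

end Final

end Cfsg.Agent.Lib.Helper25.DihLat
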