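/-
helper25, for helper91's project F4OUT (S2128): module F4OUT-[S-HNORM].
`H = B ⊓ N` normalises `V`, `X i`, `Y i`; `U ⊓ H = ⊥`.  Exact statements of the sheet
notes/helper91_F4OUT_abstract.lean.txt.
-/
import Cfsg.Agent.Lib.Helper91.TwOut.Defs
import Cfsg.Agent.Lib.Helper44.TwOutVPar
import Cfsg.Agent.Lib.Helper49.TwOutInn

set_option autoImplicit false

namespace Cfsg.Agent.Lib.Helper25.F4Out

open Cfsg Cfsg.Agent.Lib.Helper91.TwOut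

variable {Γ : Type*} [Group Γ] {ι : Type*} {p : ℕ}

/-- conjugation by `n₀⁻¹` keeps `H = B ⊓ N` inside `H` -/
theorem n0_conj_H (S : SplitBN Γ ι p) (h : Γ) (hh : h ∈ S.P.B ⊓ S.P.N) :
    S.n₀⁻¹ * h * S.n₀ ∈ S.P.B ⊓ S.P.N := by
  have hn0' : S.n₀⁻¹ ∈ S.P.N := Subgroup.inv_mem _ S.n₀_mem
  refine Subgroup.mem_inf.mpr ⟨?_, ?_⟩
  · have := S.P.conj_mem _ hn0' h hh
    rwa [inv_inv] at this
  · exact mul_mem (mul_mem hn0' (Subgroup.mem_inf.mp hh).2) S.n₀_mem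

/-- [S-HNORM] -/
theorem U_inf_H (S : SplitBN Γ ι p) : S.U ⊓ (S.P.B ⊓ S.P.N) = ⊥ := by
  rw [eq_bot_iff]
  intro x hx
  obtain ⟨hxU, hxH⟩ := Subgroup.mem_inf.mp hx
  have h1 : S.n₀⁻¹ * x * S.n₀ ∈ S.V := (S.U_eq x).mp hxU
  have h2 : S.n₀⁻¹ * x * S.n₀ ∈ S.P.B := (Subgroup.mem_inf.mp (n0_conj_H S x hxH)).1
  have h3 : S.n₀⁻¹ * x * S.n₀ ∈ S.V ⊓ S.P.B := Subgroup.mem_inf.mpr ⟨h1, h2⟩
  rw [S.V_inf_B, Subgroup.mem_bot] at h3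
  rw [Subgroup.mem_bot]
  calc x = S.n₀ * (S.n₀⁻¹ * x * S.n₀) * S.n₀⁻¹ := by group
    _ = 1 := by rw [h3]; group

theorem H_conj_V (S : SplitBN Γ ι p) (h : Γ) (hh : h ∈ S.P.B ⊓ S.P.N) (v : Γ) (hv : v ∈ S.V) :
    h * v * h⁻¹ ∈ S.V :=
  Cfsg.Agent.Lib.Helper49.TwOut.conj_mem_of_map_conj_eq S.V h
    ((mem_Nrm S.U S.V _).mp (Cfsg.Agent.Lib.Helper49.TwOut.conj_mem_Nrm S h hh)).2 v hv

theorem H_conj_Y [Finite Γ] [Fact p.Prime] (S : SplitBN Γ ι p) (i : ι) (h : Γ) (hh : h ∈ S.P.B ⊓ S.P.N)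
    (y : Γ) (hy : y ∈ S.Y i) : h * y * h⁻¹ ∈ S.Y i := by
  rw [← Cfsg.Agent.Lib.Helper44.TwOut.V_inf_parabolic S i]
  have hhP : h ∈ S.P.parabolic {S.s i} :=
    (le_sup_left : S.P.B ≤ S.P.parabolic {S.s i}) (Subgroup.mem_inf.mp hh).1
  refine Subgroup.mem_inf.mpr ⟨H_conj_V S h hh y (Cfsg.Agent.Lib.Helper44.TwOut.Y_le_V S i hy), ?_⟩
  exact mul_mem (mul_mem hhP (Cfsg.Agent.Lib.Helper44.TwOut.Y_le_parabolic S i hy)) (inv_mem hhP)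

theorem H_conj_X [Finite Γ] [Fact p.Prime] (S : SplitBN Γ ι p) (i : ι) (h : Γ) (hh : h ∈ S.P.B ⊓ S.P.N)
    (x : Γ) (hx : x ∈ S.X i) : h * x * h⁻¹ ∈ S.X i := by
  rw [S.X_eq]
  have hy : S.n₀⁻¹ * x * S.n₀ ∈ S.Y (S.op i) := (S.X_eq i x).mp hx
  have := H_conj_Y S (S.op i) _ (n0_conj_H S h hh) _ hy
  have e : S.n₀⁻¹ * (h * x * h⁻¹) * S.n₀ =
      S.n₀⁻¹ * h * S.n₀ * (S.n₀⁻¹ * x * S.n₀) * (S.n₀⁻¹ * h * S.n₀)⁻¹ := by group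
  rw [e]
  exact this

end Cfsg.Agent.Lib.Helper25.F4Out
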