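/-
helper25, for helper91's project F4OUT (S2128): module F4OUT-[S-NH] (hedge).
If no element of `U` other than `1` commutes with `H = B ⊓ N`, then `N_Γ(H) ≤ N`.  Exact statement of the sheet
notes/helper91_F4OUT_abstract.lean.txt.
-/
import Cfsg.Agent.Lib.Helper91.TwOut.Defs
import Cfsg.Agent.Lib.Helper25.F4OutHNorm

set_option autoImplicit false

namespace Cfsg.Agent.Lib.Helper25.F4Out

open Cfsg Cfsg.Agent.Lib.Helper91.TwOut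

variable {Γ : Type*} [Group Γ] {ι : Type*} {p : ℕ}

/-- [S-NH] -/
theorem mem_N_of_normalizes_H (S : SplitBN Γ ι p)
    (hCU : ∀ u ∈ S.U, (∀ h ∈ S.P.B ⊓ S.P.N, h * u * h⁻¹ = u) → u = 1)
    (g : Γ) (hg : ∀ h, h ∈ S.P.B ⊓ S.P.N ↔ g * h * g⁻¹ ∈ S.P.B ⊓ S.P.N) : g ∈ S.P.N := by
  obtain ⟨u₀, hu₀, n, hn, u, hu, hform⟩ := S.form g
  have huU : u ∈ S.U := S.Um_le n hu
  -- conjugation by `n` keeps `H` inside `H`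
  have hnH : ∀ h ∈ S.P.B ⊓ S.P.N, n * h * n⁻¹ ∈ S.P.B ⊓ S.P.N := fun h hh =>
    Subgroup.mem_inf.mpr ⟨S.P.conj_mem n hn h hh,
      mul_mem (mul_mem hn (Subgroup.mem_inf.mp hh).2) (inv_mem hn)⟩
  -- the basic identity
  have hid : ∀ h : Γ, n * ((h⁻¹ * u * h) * u⁻¹) * n⁻¹ =
      (n * h * n⁻¹)⁻¹ * u₀⁻¹ * ((g * h * g⁻¹) * u₀ * (g * h * g⁻¹)⁻¹) * (g * h * g⁻¹) := by
    intro h
    rw [hform]
    group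
  -- step 1: u commutes with H, so u = 1
  have hu1 : u = 1 := by
    apply hCU u huU
    intro h hh
    have hh' : h⁻¹ ∈ S.P.B ⊓ S.P.N := inv_mem hh
    -- apply the identity to h⁻¹ : n (h u h⁻¹ u⁻¹) n⁻¹ ∈ V ⊓ B
    have hB : n * ((h⁻¹⁻¹ * u * h⁻¹) * u⁻¹) * n⁻¹ ∈ S.P.B := by
      rw [hid h⁻¹]
      have hgh : g * h⁻¹ * g⁻¹ ∈ S.P.B ⊓ S.P.N := (hg _).mp hh'
      have hghB : g * h⁻¹ * g⁻¹ ∈ S.P.B := (Subgroup.mem_inf.mp hgh).1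
      exact mul_mem (mul_mem (mul_mem (inv_mem (Subgroup.mem_inf.mp (hnH _ hh')).1)
        (inv_mem (S.U_le hu₀))) (S.U_le (S.U_norm _ hghB _ hu₀))) hghB
    have hV : n * ((h⁻¹⁻¹ * u * h⁻¹) * u⁻¹) * n⁻¹ ∈ S.V := by
      have e : n * ((h⁻¹⁻¹ * u * h⁻¹) * u⁻¹) * n⁻¹ =
          ((n * h * n⁻¹) * (n * u * n⁻¹) * (n * h * n⁻¹)⁻¹) * (n * u * n⁻¹)⁻¹ := by group
      rw [e]
      have hnu : n * u * n⁻¹ ∈ S.V := S.Um_conj n u hu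
      exact mul_mem (H_conj_V S _ (hnH h hh) _ hnu) (inv_mem hnu)
    have h1 : n * ((h⁻¹⁻¹ * u * h⁻¹) * u⁻¹) * n⁻¹ = 1 := by
      have : n * ((h⁻¹⁻¹ * u * h⁻¹) * u⁻¹) * n⁻¹ ∈ S.V ⊓ S.P.B := Subgroup.mem_inf.mpr ⟨hV, hB⟩
      rwa [S.V_inf_B, Subgroup.mem_bot] at this
    have h2 : (h⁻¹⁻¹ * u * h⁻¹) * u⁻¹ = 1 := by
      calc (h⁻¹⁻¹ * u * h⁻¹) * u⁻¹ = n⁻¹ * (n * ((h⁻¹⁻¹ * u * h⁻¹) * u⁻¹) * n⁻¹) * n := by group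
        _ = 1 := by rw [h1]; group
    have h3 := mul_inv_eq_one.mp h2
    rwa [inv_inv] at h3
  -- step 2: u₀ commutes with H, so u₀ = 1
  have hu01 : u₀ = 1 := by
    apply hCU u₀ hu₀
    intro h' hh'
    -- h' = g h g⁻¹ with h = g⁻¹ h' g ∈ H
    have hh : g⁻¹ * h' * g ∈ S.P.B ⊓ S.P.N := by
      apply (hg _).mpr
      have e : g * (g⁻¹ * h' * g) * g⁻¹ = h' := by group
      rw [e]; exact hh'
    have e' : g * (g⁻¹ * h' * g) * g⁻¹ = h' := by group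
    have hidh := hid (g⁻¹ * h' * g)
    rw [e', hu1] at hidh
    -- LHS = 1
    have hl : n * (((g⁻¹ * h' * g)⁻¹ * 1 * (g⁻¹ * h' * g)) * (1 : Γ)⁻¹) * n⁻¹ = 1 := by group
    rw [hl] at hidh
    -- so (h' u₀ h'⁻¹)⁻¹ u₀ = h' h₁⁻¹ ∈ U ⊓ H
    have hh₁ : n * (g⁻¹ * h' * g) * n⁻¹ ∈ S.P.B ⊓ S.P.N := hnH _ hh
    have key : (h' * u₀ * h'⁻¹)⁻¹ * u₀ = h' * (n * (g⁻¹ * h' * g) * n⁻¹)⁻¹ := by
      have : (h' * u₀ * h'⁻¹)⁻¹ * u₀ * ((n * (g⁻¹ * h' * g) * n⁻¹) *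
          ((n * (g⁻¹ * h' * g) * n⁻¹)⁻¹ * u₀⁻¹ * (h' * u₀ * h'⁻¹) * h')) = h' := by group
      rw [← hidh, mul_one] at this
      calc (h' * u₀ * h'⁻¹)⁻¹ * u₀ = ((h' * u₀ * h'⁻¹)⁻¹ * u₀ * (n * (g⁻¹ * h' * g) * n⁻¹)) *
            (n * (g⁻¹ * h' * g) * n⁻¹)⁻¹ := by group
        _ = h' * (n * (g⁻¹ * h' * g) * n⁻¹)⁻¹ := by rw [this]
    have hmem : (h' * u₀ * h'⁻¹)⁻¹ * u₀ ∈ S.U ⊓ (S.P.B ⊓ S.P.N) := by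
      refine Subgroup.mem_inf.mpr ⟨?_, ?_⟩
      · exact mul_mem (inv_mem (S.U_norm _ (Subgroup.mem_inf.mp hh').1 _ hu₀)) hu₀
      · rw [key]; exact mul_mem hh' (inv_mem hh₁)
    rw [U_inf_H, Subgroup.mem_bot] at hmem
    have := inv_mul_eq_one.mp hmem
    exact this
  rw [hform, hu1, hu01, one_mul, mul_one]
  exact hn

end Cfsg.Agent.Lib.Helper25.F4Out
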