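/-
helper25, for helper91's project F4OUT (S2128): module F4OUT-[S-UNIQ].
Uniqueness of the strong Bruhat form, and of `y x y' ∈ N`.  Exact statements of the sheet
notes/helper91_F4OUT_abstract.lean.txt.
-/
import Cfsg.Agent.Lib.Helper91.TwOut.Defs
import Cfsg.Agent.Lib.Helper44.TwOutIdx
import Cfsg.Agent.Lib.Helper44.TwOutVPar
import Cfsg.Agent.Lib.Helper25.F4OutHNorm
import Cfsg.Agent.S0309

set_option autoImplicit false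

namespace Cfsg.Agent.Lib.Helper25.F4Out

open Cfsg Cfsg.Agent.Lib.Helper91.TwOut

variable {Γ : Type*} [Group Γ] {ι : Type*} {p : ℕ}

/-- [S-UNIQ] uniqueness of the strong Bruhat form -/
theorem form_unique (S : SplitBN Γ ι p) (u₀ u₀' n n' u u' : Γ) (hu₀ : u₀ ∈ S.U) (hu₀' : u₀' ∈ S.U)
    (hn : n ∈ S.P.N) (hu : u ∈ S.Um n) (hu' : u' ∈ S.Um n) (hd : n⁻¹ * n' ∈ S.P.B ⊓ S.P.N)
    (e : u₀ * n * u = u₀' * n' * u') : u₀ = u₀' ∧ n = n' ∧ u = u' := by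
  obtain ⟨d, hdef⟩ : ∃ d, d = n⁻¹ * n' := ⟨_, rfl⟩
  rw [← hdef] at hd
  have hn' : n' = n * d := by rw [hdef]; group
  have hdinv : d⁻¹ ∈ S.P.B ⊓ S.P.N := inv_mem hd
  -- w = u' u⁻¹
  have hw : u' * u⁻¹ ∈ S.Um n := mul_mem hu' (inv_mem hu)
  have hwV : n * (u' * u⁻¹) * n⁻¹ ∈ S.V := S.Um_conj n _ hw
  have hkey : n * (u' * u⁻¹) * n⁻¹ = (n * d⁻¹ * n⁻¹) * (u₀'⁻¹ * u₀) := by
    have e2 : u₀'⁻¹ * u₀ = n * d * (u' * u⁻¹) * n⁻¹ := by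
      have : u₀'⁻¹ * (u₀ * n * u) * u⁻¹ * n⁻¹ = u₀'⁻¹ * (u₀' * n' * u') * u⁻¹ * n⁻¹ := by rw [e]
      rw [hn'] at this
      calc u₀'⁻¹ * u₀ = u₀'⁻¹ * (u₀ * n * u) * u⁻¹ * n⁻¹ := by group
        _ = u₀'⁻¹ * (u₀' * (n * d) * u') * u⁻¹ * n⁻¹ := this
        _ = n * d * (u' * u⁻¹) * n⁻¹ := by group
    rw [e2]; group
  have hwB : n * (u' * u⁻¹) * n⁻¹ ∈ S.P.B := by
    rw [hkey]
    exact mul_mem (S.P.conj_mem n hn _ hdinv) (S.U_le (mul_mem (inv_mem hu₀') hu₀))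
  have hw1 : n * (u' * u⁻¹) * n⁻¹ = 1 := by
    have : n * (u' * u⁻¹) * n⁻¹ ∈ S.V ⊓ S.P.B := Subgroup.mem_inf.mpr ⟨hwV, hwB⟩
    rwa [S.V_inf_B, Subgroup.mem_bot] at this
  have huu : u' * u⁻¹ = 1 := by
    calc u' * u⁻¹ = n⁻¹ * (n * (u' * u⁻¹) * n⁻¹) * n := by group
      _ = 1 := by rw [hw1]; group
  have huu' : u = u' := by
    have := mul_inv_eq_one.mp huu
    exact this.symm
  -- now u₀'⁻¹ u₀ = n d n⁻¹ ∈ U ⊓ H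
  have e3 : u₀'⁻¹ * u₀ = n * d * n⁻¹ := by
    have : (n * d⁻¹ * n⁻¹) * (u₀'⁻¹ * u₀) = 1 := by rw [← hkey, hw1]
    calc u₀'⁻¹ * u₀ = (n * d * n⁻¹) * ((n * d⁻¹ * n⁻¹) * (u₀'⁻¹ * u₀)) := by group
      _ = n * d * n⁻¹ := by rw [this, mul_one]
  have hH : n * d * n⁻¹ ∈ S.P.B ⊓ S.P.N :=
    Subgroup.mem_inf.mpr ⟨S.P.conj_mem n hn d hd,
      mul_mem (mul_mem hn (Subgroup.mem_inf.mp hd).2) (inv_mem hn)⟩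
  have hbot : u₀'⁻¹ * u₀ ∈ S.U ⊓ (S.P.B ⊓ S.P.N) :=
    Subgroup.mem_inf.mpr ⟨mul_mem (inv_mem hu₀') hu₀, e3 ▸ hH⟩
  rw [U_inf_H, Subgroup.mem_bot] at hbot
  have hd1 : d = 1 := by
    have : n * d * n⁻¹ = 1 := by rw [← e3, hbot]
    calc d = n⁻¹ * (n * d * n⁻¹) * n := by group
      _ = 1 := by rw [this]; group
  refine ⟨?_, ?_, huu'⟩
  · exact (inv_mul_eq_one.mp hbot).symm
  · rw [hn', hd1, mul_one]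

theorem mem_sH_of_mem_N (S : SplitBN Γ ι p) (i : ι) (x y y' : Γ) (hx : x ∈ S.X i) (hx1 : x ≠ 1)
    (hy : y ∈ S.Y i) (hy' : y' ∈ S.Y i) (hn : y * x * y' ∈ S.P.N) :
    (S.s i)⁻¹ * (y * x * y') ∈ S.P.B ⊓ S.P.N := by
  have hsN : S.s i ∈ S.P.N := Cfsg.Agent.Lib.Helper44.TwOut.s_mem_N S i
  refine Subgroup.mem_inf.mpr ⟨?_, mul_mem (inv_mem hsN) hn⟩
  have hXB : S.X i ≤ S.P.B := (Cfsg.Agent.Lib.Helper44.TwOut.X_le_U S i).trans S.U_le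
  have hBle : S.P.B ≤ S.P.parabolic {S.s i} := le_sup_left
  have hgP : y * x * y' ∈ S.P.parabolic {S.s i} :=
    mul_mem (mul_mem (Cfsg.Agent.Lib.Helper44.TwOut.Y_le_parabolic S i hy) (hBle (hXB hx)))
      (Cfsg.Agent.Lib.Helper44.TwOut.Y_le_parabolic S i hy')
  rcases Cfsg.Agent.Lib.Helper44.TwOut.parabolic_coset_cases S i _ hgP with hB | ⟨x', hx', hB⟩
  · -- impossible: then x = 1
    exfalso
    apply hx1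
    have hgH : y * x * y' ∈ S.P.B ⊓ S.P.N := Subgroup.mem_inf.mpr ⟨hB, hn⟩
    have h1 : S.n₀⁻¹ * y⁻¹ * S.n₀ ∈ S.P.B :=
      S.U_le ((S.V_eq _).mp (inv_mem (Cfsg.Agent.Lib.Helper44.TwOut.Y_le_V S i hy)))
    have h2 : S.n₀⁻¹ * y'⁻¹ * S.n₀ ∈ S.P.B :=
      S.U_le ((S.V_eq _).mp (inv_mem (Cfsg.Agent.Lib.Helper44.TwOut.Y_le_V S i hy')))
    have h3 : S.n₀⁻¹ * (y * x * y') * S.n₀ ∈ S.P.B := (Subgroup.mem_inf.mp (n0_conj_H S _ hgH)).1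
    have hxB : S.n₀⁻¹ * x * S.n₀ ∈ S.P.B := by
      have e : S.n₀⁻¹ * x * S.n₀ = (S.n₀⁻¹ * y⁻¹ * S.n₀) * (S.n₀⁻¹ * (y * x * y') * S.n₀) *
          (S.n₀⁻¹ * y'⁻¹ * S.n₀) := by group
      rw [e]
      exact mul_mem (mul_mem h1 h3) h2
    have hxV : S.n₀⁻¹ * x * S.n₀ ∈ S.V :=
      (S.U_eq x).mp (Cfsg.Agent.Lib.Helper44.TwOut.X_le_U S i hx)
    have : S.n₀⁻¹ * x * S.n₀ ∈ S.V ⊓ S.P.B := Subgroup.mem_inf.mpr ⟨hxV, hxB⟩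
    rw [S.V_inf_B, Subgroup.mem_bot] at this
    calc x = S.n₀ * (S.n₀⁻¹ * x * S.n₀) * S.n₀⁻¹ := by group
      _ = 1 := by rw [this]; group
  · -- g ∈ B s B
    have hmem : y * x * y' ∈ DoubleCoset.doubleCoset (S.s i) (S.P.B : Set Γ) S.P.B := by
      rw [DoubleCoset.mem_doubleCoset]
      refine ⟨x', hXB hx', (x' * S.s i)⁻¹ * (y * x * y'), hB, ?_⟩
      group
    have heq := DoubleCoset.doubleCoset_eq_of_mem hmem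
    exact (Cfsg.Agent.S0309.result S.P hsN hn).mp heq.symm

theorem pair_unique (S : SplitBN Γ ι p) (i : ι) (x y₁ y₁' y₂ y₂' : Γ) (hx : x ∈ S.X i) (hx1 : x ≠ 1)
    (h1 : y₁ ∈ S.Y i) (h1' : y₁' ∈ S.Y i) (h2 : y₂ ∈ S.Y i) (h2' : y₂' ∈ S.Y i)
    (hn1 : y₁ * x * y₁' ∈ S.P.N) (hn2 : y₂ * x * y₂' ∈ S.P.N) : y₁ = y₂ ∧ y₁' = y₂' := by
  have hsN : S.s i ∈ S.P.N := Cfsg.Agent.Lib.Helper44.TwOut.s_mem_N S i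
  have hsN' : (S.s i)⁻¹ ∈ S.P.N := inv_mem hsN
  -- conjugation by s⁻¹ keeps H inside H
  have hconj : ∀ d ∈ S.P.B ⊓ S.P.N, (S.s i)⁻¹ * d * S.s i ∈ S.P.B ⊓ S.P.N := by
    intro d hd
    refine Subgroup.mem_inf.mpr ⟨?_, mul_mem (mul_mem hsN' (Subgroup.mem_inf.mp hd).2) hsN⟩
    have := S.P.conj_mem _ hsN' d hd
    rwa [inv_inv] at this
  have hd1 := mem_sH_of_mem_N S i x y₁ y₁' hx hx1 h1 h1' hn1
  have hd2 := mem_sH_of_mem_N S i x y₂ y₂' hx hx1 h2 h2' hn2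
  have he1 := hconj _ hd1
  have he2 := hconj _ hd2
  -- the two forms of s⁻¹ x s
  have hY : ∀ y ∈ S.Y i, (S.s i)⁻¹ * y⁻¹ * S.s i ∈ S.X i := fun y hy => (S.Y_eq i _).mp (inv_mem hy)
  have f1 : (S.s i)⁻¹ * x * S.s i = ((S.s i)⁻¹ * y₁⁻¹ * S.s i) *
      (S.s i * ((S.s i)⁻¹ * ((S.s i)⁻¹ * (y₁ * x * y₁')) * S.s i)) * ((S.s i)⁻¹ * y₁'⁻¹ * S.s i) := by
    group
  have f2 : (S.s i)⁻¹ * x * S.s i = ((S.s i)⁻¹ * y₂⁻¹ * S.s i) *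
      (S.s i * ((S.s i)⁻¹ * ((S.s i)⁻¹ * (y₂ * x * y₂')) * S.s i)) * ((S.s i)⁻¹ * y₂'⁻¹ * S.s i) := by
    group
  have hUm : ∀ e ∈ S.P.B ⊓ S.P.N, S.Um (S.s i * e) = S.X i := by
    intro e he
    rw [S.Um_diag _ e he, S.Um_s]
  have hform := form_unique S ((S.s i)⁻¹ * y₁⁻¹ * S.s i) ((S.s i)⁻¹ * y₂⁻¹ * S.s i)
    (S.s i * ((S.s i)⁻¹ * ((S.s i)⁻¹ * (y₁ * x * y₁')) * S.s i))
    (S.s i * ((S.s i)⁻¹ * ((S.s i)⁻¹ * (y₂ * x * y₂')) * S.s i))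
    ((S.s i)⁻¹ * y₁'⁻¹ * S.s i) ((S.s i)⁻¹ * y₂'⁻¹ * S.s i)
    (Cfsg.Agent.Lib.Helper44.TwOut.X_le_U S i (hY y₁ h1))
    (Cfsg.Agent.Lib.Helper44.TwOut.X_le_U S i (hY y₂ h2))
    (mul_mem hsN (Subgroup.mem_inf.mp he1).2)
    (by rw [hUm _ he1]; exact hY y₁' h1')
    (by rw [hUm _ he1]; exact hY y₂' h2')
    (by
      have e : (S.s i * ((S.s i)⁻¹ * ((S.s i)⁻¹ * (y₁ * x * y₁')) * S.s i))⁻¹ *
          (S.s i * ((S.s i)⁻¹ * ((S.s i)⁻¹ * (y₂ * x * y₂')) * S.s i)) =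
          ((S.s i)⁻¹ * ((S.s i)⁻¹ * (y₁ * x * y₁')) * S.s i)⁻¹ *
            ((S.s i)⁻¹ * ((S.s i)⁻¹ * (y₂ * x * y₂')) * S.s i) := by group
      rw [e]
      exact mul_mem (inv_mem he1) he2)
    (f1.symm.trans f2)
  obtain ⟨ha, -, hc⟩ := hform
  constructor
  · have : y₁⁻¹ = y₂⁻¹ := by
      calc y₁⁻¹ = S.s i * ((S.s i)⁻¹ * y₁⁻¹ * S.s i) * (S.s i)⁻¹ := by group
        _ = S.s i * ((S.s i)⁻¹ * y₂⁻¹ * S.s i) * (S.s i)⁻¹ := by rw [ha]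
        _ = y₂⁻¹ := by group
    exact inv_injective this
  · have : y₁'⁻¹ = y₂'⁻¹ := by
      calc y₁'⁻¹ = S.s i * ((S.s i)⁻¹ * y₁'⁻¹ * S.s i) * (S.s i)⁻¹ := by group
        _ = S.s i * ((S.s i)⁻¹ * y₂'⁻¹ * S.s i) * (S.s i)⁻¹ := by rw [hc]
        _ = y₂'⁻¹ := by group
    exact inv_injective this

end Cfsg.Agent.Lib.Helper25.F4Out
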