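import Mathlib
import Cfsg.Agent.Lib.Helper76.GOut.P1Defs

/-!
# GOUT (S3066), module GOUT-[P1-MAIN] (helper25): assembly of block P1, `_of` form

`P1_main_of` takes the four leaf statements of `SkelP1.lean.txt` that it uses
(`[P1-ZS]`, `[P1-SIX-IRR]`, `[P1-SIX-SOLV]`, `[P1-FRAT]`, each at the instance needed) as hypotheses.
Exact sheet form, once the four leaves are on main under their sheet names:

```
theorem P1_main (X Y : Subgroup (V ≃ₗ[ZMod 2] V)) (hYX : Y ≤ X)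
    (hnorm : ∀ x ∈ X, ∀ y ∈ Y, x * y * x⁻¹ ∈ Y) (htrans : TransSub Y) : SolvMod X Y :=
  H25.P1_main_of X Y hYX hnorm htrans (P1_of_ne_six X Y hYX hnorm htrans)
    (six_sylow_three_irrSub Y htrans) (fun hn P hP hirr => six_isSolvable_normalizer hn P hP hirr)
    (fun P hsol => solvMod_of_sylow_normalizer X Y hYX hnorm 3 P hsol)
```
-/

set_option autoImplicit false

namespace Cfsg.Agent.Lib.Helper76.GOut.H25

open Cfsg.Agent.Lib.Helper76.GOut

variable {V : Type*} [AddCommGroup V] [Module (ZMod 2) V] [Finite V]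

/-- **Block P1**, assembly (`_of` form). -/
theorem P1_main_of (X Y : Subgroup (V ≃ₗ[ZMod 2] V)) (hYX : Y ≤ X)
    (hnorm : ∀ x ∈ X, ∀ y ∈ Y, x * y * x⁻¹ ∈ Y) (htrans : TransSub Y)
    (hZS : Module.finrank (ZMod 2) V ≠ 6 → SolvMod X Y)
    (hIrr : Module.finrank (ZMod 2) V = 6 → ∀ P : Sylow 3 ↥Y, IrrSub ((P : Subgroup ↥Y).map Y.subtype))
    (hSolv : Module.finrank (ZMod 2) V = 6 → ∀ P : Subgroup (V ≃ₗ[ZMod 2] V), IsPGroup 3 P → IrrSub P →
      Group.IsSolvable ↥(Subgroup.normalizer (P : Set (V ≃ₗ[ZMod 2] V))))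
    (hFrat : ∀ P : Sylow 3 ↥Y,
      Group.IsSolvable
        ↥(X ⊓ Subgroup.normalizer
          ((((P : Subgroup ↥Y).map Y.subtype : Subgroup (V ≃ₗ[ZMod 2] V))) : Set (V ≃ₗ[ZMod 2] V))) →
      SolvMod X Y) :
    SolvMod X Y := by
  by_cases hn : Module.finrank (ZMod 2) V = 6
  · obtain ⟨P⟩ : Nonempty (Sylow 3 ↥Y) := inferInstance
    have hirr := hIrr hn P
    have hP3 : IsPGroup 3 ((P : Subgroup ↥Y).map Y.subtype) := P.isPGroup'.map Y.subtype
    have hsol := hSolv hn _ hP3 hirr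
    refine hFrat P ?_
    exact Group.isSolvable_of_isSolvable_injective
      (Subgroup.inclusion_injective (inf_le_right :
        X ⊓ Subgroup.normalizer ((((P : Subgroup ↥Y).map Y.subtype : Subgroup (V ≃ₗ[ZMod 2] V))) :
          Set (V ≃ₗ[ZMod 2] V)) ≤ _))
  · exact hZS hn

end Cfsg.Agent.Lib.Helper76.GOut.H25
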