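import Mathlib
import Cfsg.Agent.Lib.Helper41.PIM.Defs
import Cfsg.Agent.Lib.Helper47.PIMBasic
import Cfsg.Agent.Lib.Helper16.KSH.Defs

/-!
# Project KSH (helper16), module KSH-[COMM] (hedge by helper25)

`mem_commSpace_iff`: an element of the group algebra `k[G]` lies in the commutator space `[k[G], k[G]]`
iff all its class sums vanish.  EXACT statement of `Lib/Helper16/KSH/Skel.lean.txt`, in the nested namespace
`Cfsg.Agent.Lib.Helper16.KSH.H25`.
-/

set_option autoImplicit false

namespace Cfsg.Agent.Lib.Helper16.KSH.H25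

open Cfsg Cfsg.Agent.Lib.Helper41.PIM Cfsg.Agent.Lib.Helper16.KSH

universe u

variable {G : Type u} [Group G] [Fintype G]

section sumOn

variable {k : Type*} [Field k]

theorem sumOn_zero' (S : Set G) : sumOn S (0 : MonoidAlgebra k G) = 0 := by
  unfold sumOn
  simp

theorem sumOn_add' (S : Set G) (a b : MonoidAlgebra k G) :
    sumOn S (a + b) = sumOn S a + sumOn S b := by
  unfold sumOn
  rw [← Finset.sum_add_distrib]
  refine Finset.sum_congr rfl fun g _ => ?_
  split_ifs <;> simp

theorem sumOn_smul' (S : Set G) (c : k) (a : MonoidAlgebra k G) :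
    sumOn S (c • a) = c * sumOn S a := by
  unfold sumOn
  rw [Finset.mul_sum]
  refine Finset.sum_congr rfl fun g _ => ?_
  split_ifs <;> simp

theorem sumOn_sub' (S : Set G) (a b : MonoidAlgebra k G) :
    sumOn S (a - b) = sumOn S a - sumOn S b := by
  unfold sumOn
  rw [← Finset.sum_sub_distrib]
  refine Finset.sum_congr rfl fun g _ => ?_
  split_ifs <;> simp

omit [Fintype G] in
theorem clsSet_conj (x g h : G) (hg : g ∈ clsSet x) : h * g * h⁻¹ ∈ clsSet x := by
  have h1 : IsConj g (h * g * h⁻¹) := isConj_iff.2 ⟨h, rfl⟩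
  exact h1.symm.trans hg

/-- class sums vanish on the commutator space. -/
theorem sumOn_clsSet_of_mem_commSpace (a : MonoidAlgebra k G)
    (ha : a ∈ commSpace k (MonoidAlgebra k G)) (x : G) : sumOn (clsSet x) a = 0 := by
  unfold commSpace at ha
  induction ha using Submodule.span_induction with
  | mem a ha =>
    obtain ⟨u, v, rfl⟩ := ha
    rw [sumOn_sub', Cfsg.Agent.Lib.Helper47.PIM.sumOn_mul_comm (clsSet x) (clsSet_conj x) u v, sub_self]
  | zero => exact sumOn_zero' _
  | add a b _ _ iha ihb => rw [sumOn_add', iha, ihb, add_zero]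
  | smul c a _ iha => rw [sumOn_smul', iha, mul_zero]

omit [Fintype G] in
/-- `single (y g y⁻¹) c - single g c` is a commutator. -/
theorem single_conj_sub_single_mem (g y : G) (c : k) :
    MonoidAlgebra.single (y * g * y⁻¹) c - MonoidAlgebra.single g c ∈ commSpace k (MonoidAlgebra k G) := by
  refine Submodule.subset_span ⟨MonoidAlgebra.single (y * g) c, MonoidAlgebra.single y⁻¹ 1, ?_⟩
  rw [MonoidAlgebra.single_mul_single, MonoidAlgebra.single_mul_single, mul_one, one_mul,
    inv_mul_cancel_left]

omit [Fintype G] in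
theorem single_sub_single_mem_of_isConj {g h : G} (hgh : IsConj g h) (c : k) :
    MonoidAlgebra.single h c - MonoidAlgebra.single g c ∈ commSpace k (MonoidAlgebra k G) := by
  obtain ⟨y, rfl⟩ := isConj_iff.1 hgh
  exact single_conj_sub_single_mem g y c

omit [Group G] in
theorem eq_sum_single (a : MonoidAlgebra k G) :
    a = ∑ g : G, MonoidAlgebra.single g (a.coeff g) := by
  conv_lhs => rw [← MonoidAlgebra.sum_coeff_single a]
  rw [Finsupp.sum_fintype]
  intro g
  exact MonoidAlgebra.single_zero g

/-- **[COMM]** -/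
theorem mem_commSpace_iff (a : MonoidAlgebra k G) :
    a ∈ commSpace k (MonoidAlgebra k G) ↔ ∀ x : G, sumOn (clsSet x) a = 0 := by
  classical
  refine ⟨sumOn_clsSet_of_mem_commSpace a, fun h => ?_⟩
  -- class representatives
  obtain ⟨r, hrdef⟩ : ∃ r : G → G, r = fun g => (ConjClasses.mk g).out := ⟨_, rfl⟩
  have hr1 : ∀ g, IsConj (r g) g := by
    intro g
    rw [hrdef]
    exact ConjClasses.mk_eq_mk_iff_isConj.1 (Quotient.out_eq _)
  have hr2 : ∀ g h, IsConj g h → r g = r h := by
    intro g h hgh
    rw [hrdef]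
    show (ConjClasses.mk g).out = (ConjClasses.mk h).out
    rw [ConjClasses.mk_eq_mk_iff_isConj.2 hgh]
  have hsplit : a = (∑ g : G, (MonoidAlgebra.single g (a.coeff g) - MonoidAlgebra.single (r g) (a.coeff g)))
      + ∑ g : G, MonoidAlgebra.single (r g) (a.coeff g) := by
    rw [← Finset.sum_add_distrib]
    conv_lhs => rw [eq_sum_single a]
    refine Finset.sum_congr rfl fun g _ => ?_
    rw [sub_add_cancel]
  have hzero : ∑ g : G, MonoidAlgebra.single (r g) (a.coeff g) = 0 := by
    apply MonoidAlgebra.coeff_injective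
    ext y
    rw [MonoidAlgebra.coeff_sum, Finsupp.finsetSum_apply]
    simp only [MonoidAlgebra.coeff_single, Finsupp.single_apply, MonoidAlgebra.coeff_zero,
      Finsupp.coe_zero, Pi.zero_apply]
    by_cases hy : r y = y
    · have := h y
      unfold sumOn at this
      refine Eq.trans ?_ this
      refine Finset.sum_congr rfl fun g _ => ?_
      have hiff : r g = y ↔ g ∈ clsSet y := by
        constructor
        · intro hg
          have := hr1 g
          rw [hg] at this
          exact this.symm
        · intro hg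
          rw [hr2 g y hg, hy]
      by_cases hg : r g = y
      · rw [if_pos hg, if_pos (hiff.1 hg)]
      · rw [if_neg hg, if_neg (fun h' => hg (hiff.2 h'))]
    · refine Finset.sum_eq_zero fun g _ => ?_
      rw [if_neg]
      intro hg
      apply hy
      rw [← hg]
      exact hr2 _ _ (hr1 g)
  rw [hsplit, hzero, add_zero]
  refine Submodule.sum_mem _ fun g _ => ?_
  exact single_sub_single_mem_of_isConj (hr1 g) (a.coeff g)

end sumOn

end Cfsg.Agent.Lib.Helper16.KSH.H25
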