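import Mathlib
import Cfsg.Agent.Lib.Helper41.PIM.Defs
import Cfsg.Agent.Lib.Helper16.KSH.Defs
import Cfsg.Agent.Lib.Helper55.KSH.QQ

/-!
# Project KSH (helper16), module KSH-[DIM-T] (hedge by helper25)

`finrank_quot_TT`: `dim k[G] / T(kG)` is the number of `p`-regular classes.  EXACT statement of
`Lib/Helper16/KSH/Skel.lean.txt`, in the nested namespace `Cfsg.Agent.Lib.Helper16.KSH.H25`.
-/

set_option autoImplicit false

namespace Cfsg.Agent.Lib.Helper16.KSH.H25

open Cfsg Cfsg.Agent.Lib.Helper41.PIM Cfsg.Agent.Lib.Helper16.KSH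

universe u

variable {G : Type u} [Group G] [Fintype G]

section dimT

variable {k : Type*} [Field k]

/-- `sumOn S` as a linear functional. -/
noncomputable def sumOnL (S : Set G) : MonoidAlgebra k G →ₗ[k] k where
  toFun := sumOn S
  map_add' a b := by
    unfold sumOn
    rw [← Finset.sum_add_distrib]
    refine Finset.sum_congr rfl fun g _ => ?_
    split_ifs <;> simp
  map_smul' c a := by
    unfold sumOn
    rw [RingHom.id_apply, smul_eq_mul, Finset.mul_sum]
    refine Finset.sum_congr rfl fun g _ => ?_
    split_ifs <;> simp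

omit [Group G] in
theorem sumOnL_apply (S : Set G) (a : MonoidAlgebra k G) : sumOnL S a = sumOn S a := rfl

omit [Group G] in
open Classical in
theorem sumOn_single (S : Set G) (g : G) (c : k) :
    sumOn S (MonoidAlgebra.single g c) = if g ∈ S then c else 0 := by
  unfold sumOn
  rw [Finset.sum_eq_single g]
  · simp
  · intro h _ hne
    simp [MonoidAlgebra.coeff_single, hne.symm]
  · intro h
    exact absurd (Finset.mem_univ g) h

omit [Fintype G] in
theorem secSet_eq_of_isConj (p : ℕ) [Fintype G] {x y : G} (h : IsConj x y) : secSet p x = secSet p y := by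
  ext g
  exact ⟨fun hg => IsConj.trans hg h, fun hg => IsConj.trans hg h.symm⟩

/-- a representative of a `p`-regular class. -/
noncomputable def prRep (p : ℕ) (C : pRegClasses p G) : G := Classical.choose C.2

omit [Fintype G] in
theorem prRep_mk (p : ℕ) (C : pRegClasses p G) : ConjClasses.mk (prRep p C) = C.1 :=
  (Classical.choose_spec C.2).1

omit [Fintype G] in
theorem prRep_reg (p : ℕ) (C : pRegClasses p G) : ¬ p ∣ orderOf (prRep p C) :=
  (Classical.choose_spec C.2).2

/-- the section-sum functionals, one for each `p`-regular class. -/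
noncomputable def secMap (k : Type*) [Field k] (p : ℕ) (G : Type u) [Group G] [Fintype G] :
    MonoidAlgebra k G →ₗ[k] (pRegClasses p G → k) :=
  LinearMap.pi fun C => sumOnL (secSet p (prRep p C))

theorem secMap_apply (p : ℕ) (a : MonoidAlgebra k G) (C : pRegClasses p G) :
    secMap k p G a C = sumOn (secSet p (prRep p C)) a := rfl

theorem ker_secMap (p : ℕ) : LinearMap.ker (secMap k p G) = TT k p G := by
  ext a
  rw [LinearMap.mem_ker, mem_TT]
  constructor
  · intro h x hx
    have hC : sumOn (secSet p (prRep p (⟨ConjClasses.mk x, x, rfl, hx⟩ : pRegClasses p G))) a = 0 :=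
      congrFun h ⟨ConjClasses.mk x, x, rfl, hx⟩
    have hconj : IsConj (prRep p (⟨ConjClasses.mk x, x, rfl, hx⟩ : pRegClasses p G)) x :=
      ConjClasses.mk_eq_mk_iff_isConj.1 (prRep_mk p _)
    rw [← secSet_eq_of_isConj p hconj]
    exact hC
  · intro h
    funext C
    exact h _ (prRep_reg p C)

theorem secMap_surjective (p : ℕ) [Fact p.Prime] : Function.Surjective (secMap k p G) := by
  classical
  have : Finite (pRegClasses p G) := by
    unfold pRegClasses
    infer_instance
  have : Fintype (pRegClasses p G) := Fintype.ofFinite _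
  intro f
  refine ⟨∑ C : pRegClasses p G, MonoidAlgebra.single (prRep p C) (f C), ?_⟩
  funext C'
  show sumOnL (secSet p (prRep p C')) (∑ C : pRegClasses p G, MonoidAlgebra.single (prRep p C) (f C)) = f C'
  rw [map_sum]
  simp only [sumOnL_apply, sumOn_single]
  rw [Finset.sum_eq_single C']
  · rw [if_pos]
    show IsConj ((prRep p C') ^ qq p G) (prRep p C')
    rw [pow_qq_of_reg p _ (prRep_reg p C')]
  · intro C _ hne
    rw [if_neg]
    intro hmem
    apply hne
    have hmem' : IsConj ((prRep p C) ^ qq p G) (prRep p C') := hmem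
    rw [pow_qq_of_reg p _ (prRep_reg p C)] at hmem'
    apply Subtype.ext
    rw [← prRep_mk p C, ← prRep_mk p C']
    exact ConjClasses.mk_eq_mk_iff_isConj.2 hmem'
  · intro h
    exact absurd (Finset.mem_univ C') h

/-- **[DIM-T]** -/
theorem finrank_quot_TT (p : ℕ) [Fact p.Prime] :
    Module.finrank k (MonoidAlgebra k G ⧸ TT k p G) = Nat.card (pRegClasses p G) := by
  classical
  have : Finite (pRegClasses p G) := by
    unfold pRegClasses
    infer_instance
  have : Fintype (pRegClasses p G) := Fintype.ofFinite _
  rw [← ker_secMap (k := k) p,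
    LinearEquiv.finrank_eq ((secMap k p G).quotKerEquivOfSurjective (secMap_surjective p)),
    Module.finrank_fintype_fun_eq_card, Nat.card_eq_fintype_card]

end dimT

end Cfsg.Agent.Lib.Helper16.KSH.H25
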