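/-
helper25: module [GL-L4] of helper43's S5634 project: an element with a zero entry of a subgroup
`Y` of `GL ι F` containing the diagonal group and having the column-star property is monomial
(`4 ≤ |F|`).
-/
import Mathlib
import Cfsg.Agent.Lib.Helper43.MonoStar

set_option autoImplicit false
set_option linter.unusedSectionVars false
set_option linter.unusedVariables false

namespace Cfsg.Agent.Lib.Helper25

open Matrix Cfsg.Geo Cfsg.Agent.Lib.Helper93 Cfsg.Agent.Lib.Helper43

variable {ι : Type} [Fintype ι] [DecidableEq ι] {F : Type*} [Field F]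

/-- entries of `g⁻¹ * dg1 l μ * g`: the matrix `1 + (μ - 1) v ψᵀ`, `v` the column `l` of `g⁻¹`,
`ψ` the row `l` of `g` -/
theorem gll4_conj_apply (g : GL ι F) (l : ι) (μ : Fˣ) (r s : ι) :
    ((g⁻¹ * dg1 l μ * g : GL ι F) : Matrix ι ι F) r s =
      (if r = s then 1 else 0) +
        ((μ : F) - 1) * ((g⁻¹ : GL ι F) : Matrix ι ι F) r l * (g : Matrix ι ι F) l s := by
  unfold dg1
  rw [mul_dg_mul_apply]
  have h1 : ∀ j, ((g⁻¹ : GL ι F) : Matrix ι ι F) r j *
        ((Function.update (1 : ι → Fˣ) l μ j : Fˣ) : F) * (g : Matrix ι ι F) j s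
      = ((g⁻¹ : GL ι F) : Matrix ι ι F) r j * (g : Matrix ι ι F) j s +
        (if j = l then ((μ : F) - 1) * ((g⁻¹ : GL ι F) : Matrix ι ι F) r l *
          (g : Matrix ι ι F) l s else 0) := by
    intro j
    by_cases hj : j = l
    · subst hj; rw [Function.update_self, if_pos rfl]; ring
    · rw [Function.update_of_ne hj, if_neg hj]; simp
  rw [Finset.sum_congr rfl (fun j _ => h1 j), Finset.sum_add_distrib,
    Finset.sum_ite_eq' Finset.univ l, if_pos (Finset.mem_univ l)]
  congr 1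
  have h2 : (((g⁻¹ : GL ι F) : Matrix ι ι F) * (g : Matrix ι ι F)) r s = (1 : Matrix ι ι F) r s := by
    rw [← Units.val_mul, inv_mul_cancel, Units.val_one]
  rw [Matrix.mul_apply, Matrix.one_apply] at h2
  exact h2

/-- a finite field with at least `4` elements has two distinct units different from `1` -/
theorem gll4_exists_units [Fintype F] (hq : 4 ≤ Fintype.card F) :
    ∃ μ μ' : Fˣ, μ ≠ 1 ∧ μ' ≠ 1 ∧ μ ≠ μ' := by
  classical
  have hex : ∀ s : Finset F, s.card < 4 → ∃ x, x ∉ s := by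
    intro s hs
    by_contra hcon
    push Not at hcon
    have : s = Finset.univ := Finset.eq_univ_iff_forall.2 hcon
    rw [this, Finset.card_univ] at hs
    omega
  obtain ⟨x, hx⟩ := hex {0, 1} (lt_of_le_of_lt (Finset.card_insert_le _ _) (by simp))
  obtain ⟨y, hy⟩ := hex {0, 1, x} (lt_of_le_of_lt (Finset.card_insert_le _ _)
    (Nat.succ_lt_succ (lt_of_le_of_lt (Finset.card_insert_le _ _) (by simp))))
  simp only [Finset.mem_insert, Finset.mem_singleton, not_or] at hx hy
  refine ⟨Units.mk0 x hx.1, Units.mk0 y hy.1, ?_, ?_, ?_⟩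
  · intro h; apply hx.2; have := congrArg Units.val h; simpa using this
  · intro h; apply hy.2.1; have := congrArg Units.val h; simpa using this
  · intro h; apply hy.2.2; have := congrArg Units.val h; simp at this; exact this.symm

/-- [GL-L4] -/
theorem gl_zero_entry_mono [Fintype F] (hq : 4 ≤ Fintype.card F) {Y : Subgroup (GL ι F)}
    (hD : ∀ d : ι → Fˣ, dg d ∈ Y) (hstar : ColStar Y) {g : GL ι F} (hg : g ∈ Y) {l i : ι}
    (h0 : (g : Matrix ι ι F) l i = 0) : g ∈ Mono ι F := by
  classical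
  -- the conjugates `h_μ` are monomial
  have hmono : ∀ μ : Fˣ, (g⁻¹ * dg1 l μ * g : GL ι F) ∈ Mono ι F := by
    intro μ
    have hmem : (g⁻¹ * dg1 l μ * g : GL ι F) ∈ Y :=
      Y.mul_mem (Y.mul_mem (Y.inv_mem hg) (hD _)) hg
    refine hstar _ hmem i i ?_
    intro r hr
    rw [gll4_conj_apply, if_neg hr, h0, mul_zero, add_zero]
  obtain ⟨μ, μ', hμ, hμ', hne⟩ := gll4_exists_units (F := F) hq
  have hμ1 : (μ : F) - 1 ≠ 0 := by
    intro h; apply hμ; apply Units.ext; rw [Units.val_one]; exact sub_eq_zero.1 h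
  have hμ'1 : (μ' : F) - 1 ≠ 0 := by
    intro h; apply hμ'; apply Units.ext; rw [Units.val_one]; exact sub_eq_zero.1 h
  have hμμ' : (μ : F) - (μ' : F) ≠ 0 := by
    intro h; apply hne; apply Units.ext; exact sub_eq_zero.1 h
  -- rank-one lemma
  have hsupp : ∀ a b : ι, ((g⁻¹ : GL ι F) : Matrix ι ι F) a l ≠ 0 → (g : Matrix ι ι F) l b ≠ 0 →
      a = b := by
    intro a b hva hψb
    by_contra hab
    have key : ∀ ν : Fˣ, (ν : F) - 1 ≠ 0 → (g⁻¹ * dg1 l ν * g : GL ι F) ∈ Mono ι F →
        1 + ((ν : F) - 1) * ((g⁻¹ : GL ι F) : Matrix ι ι F) a l * (g : Matrix ι ι F) l a = 0 := by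
      intro ν hν hm
      by_contra hne0
      have hab' : ((g⁻¹ * dg1 l ν * g : GL ι F) : Matrix ι ι F) a b ≠ 0 := by
        rw [gll4_conj_apply, if_neg hab, zero_add]
        exact mul_ne_zero (mul_ne_zero hν hva) hψb
      have haa' : ((g⁻¹ * dg1 l ν * g : GL ι F) : Matrix ι ι F) a a ≠ 0 := by
        rw [gll4_conj_apply, if_pos rfl]
        exact hne0
      exact hab ((IsMono.row_unique (mem_Mono.1 hm) haa' hab'))
    have e1 := key μ hμ1 (hmono μ)
    have e2 := key μ' hμ'1 (hmono μ')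
    have e3 : ((μ : F) - (μ' : F)) *
        (((g⁻¹ : GL ι F) : Matrix ι ι F) a l * (g : Matrix ι ι F) l a) = 0 := by
      linear_combination e1 - e2
    rcases mul_eq_zero.1 e3 with h | h
    · exact hμμ' h
    · rw [mul_assoc, h, mul_zero, add_zero] at e1
      exact one_ne_zero e1
  -- the row `l` of `g` is non-zero
  obtain ⟨b, hb⟩ := exists_ne_zero_row g l
  -- the column `l` of `g⁻¹` is supported at `b`
  have hcol : ∀ r, r ≠ b → ((g⁻¹ : GL ι F) : Matrix ι ι F) r l = 0 := by
    intro r hr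
    by_contra hne0
    exact hr (hsupp r b hne0 hb)
  have hinv : g⁻¹ ∈ Mono ι F := hstar _ (Y.inv_mem hg) l b hcol
  have := (Mono ι F).inv_mem hinv
  rwa [inv_inv] at this

end Cfsg.Agent.Lib.Helper25
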