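/-
helper25: module [GL-P2H] of helper43's S5634 project: a subgroup `Y` of `GL (Fin 2) F` containing
the monomial group and no non-trivial elementary transvection is monomial or contains the
Hadamard matrix `!![1, 1; 1, -1]`.
-/
import Mathlib
import Cfsg.Agent.Lib.Helper43.MonoStar

set_option autoImplicit false
set_option linter.unusedSectionVars false
set_option linter.unusedVariables false

namespace Cfsg.Agent.Lib.Helper25

open Matrix Cfsg.Geo Cfsg.Agent.Lib.Helper93 Cfsg.Agent.Lib.Helper43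

variable {F : Type*} [Field F]

theorem glp2_fin2_cases : ∀ i j : Fin 2, i ≠ j → ∀ r : Fin 2, r = i ∨ r = j := by decide

theorem glp2_swap_ne : ∀ l : Fin 2, l ≠ Equiv.swap (0 : Fin 2) 1 l := by decide

theorem glp2_swap_swap : ∀ l : Fin 2, Equiv.swap (0 : Fin 2) 1 (Equiv.swap (0 : Fin 2) 1 l) = l := by
  decide

/-- (1a) an element of `Y` with a zero off-diagonal entry is monomial -/
theorem glp2_offdiag_zero {Y : Subgroup (GL (Fin 2) F)} (hY : GLHyp Y) {g : GL (Fin 2) F}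
    (hg : g ∈ Y) {i j : Fin 2} (hij : i ≠ j) (h0 : (g : Matrix (Fin 2) (Fin 2) F) i j = 0) :
    g ∈ Mono (Fin 2) F := by
  have hii : (g : Matrix (Fin 2) (Fin 2) F) i i ≠ 0 := by
    obtain ⟨s, hs⟩ := exists_ne_zero_row g i
    rcases glp2_fin2_cases i j hij s with h | h
    · rw [h] at hs; exact hs
    · rw [h] at hs; exact absurd h0 hs
  have hjj : (g : Matrix (Fin 2) (Fin 2) F) j j ≠ 0 := by
    obtain ⟨r, hr⟩ := exists_ne_zero_col g j
    rcases glp2_fin2_cases i j hij r with h | h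
    · rw [h] at hr; exact absurd h0 hr
    · rw [h] at hr; exact hr
  have hdiag : ∀ r, (g : Matrix (Fin 2) (Fin 2) F) r r ≠ 0 := by
    intro r
    rcases glp2_fin2_cases i j hij r with h | h
    · rw [h]; exact hii
    · rw [h]; exact hjj
  have hx : (dg (fun r => Units.mk0 _ (hdiag r)))⁻¹ * g ∈ Y :=
    Y.mul_mem (Y.inv_mem (hY.mono_le (dg_mem_Mono _))) hg
  have hxe : (dg (fun r => Units.mk0 _ (hdiag r)))⁻¹ * g =
      elemTv j i hij.symm
        ((g : Matrix (Fin 2) (Fin 2) F) j i / (g : Matrix (Fin 2) (Fin 2) F) j j) := by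
    apply Units.ext
    ext r s
    rw [dg_inv, dg_mul_apply, elemTv_apply]
    have hval : (((fun r => Units.mk0 _ (hdiag r))⁻¹ : Fin 2 → Fˣ) r : F) =
        ((g : Matrix (Fin 2) (Fin 2) F) r r)⁻¹ := by
      simp
    rw [hval]
    rcases glp2_fin2_cases i j hij r with hr | hr <;>
      rcases glp2_fin2_cases i j hij s with hs | hs
    · rw [hr, hs, if_pos rfl, if_neg (by rintro ⟨h1, h2⟩; exact hij h1), add_zero,
        inv_mul_cancel₀ hii]
    · rw [hr, hs, if_neg hij, if_neg (by rintro ⟨h1, h2⟩; exact hij h1), add_zero, h0, mul_zero]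
    · rw [hr, hs, if_neg hij.symm, if_pos ⟨rfl, rfl⟩, zero_add, div_eq_inv_mul]
    · rw [hr, hs, if_pos rfl, if_neg (by rintro ⟨h1, h2⟩; exact hij h2.symm), add_zero,
        inv_mul_cancel₀ hjj]
  rw [hxe] at hx
  have hb := hY.net j i hij.symm _ hx
  have hji : (g : Matrix (Fin 2) (Fin 2) F) j i = 0 := by
    rcases div_eq_zero_iff.1 hb with h | h
    · exact h
    · exact absurd h hjj
  refine ⟨1, fun r s hrs => ?_⟩
  have hrs' : r ≠ s := by simpa using hrs
  rcases glp2_fin2_cases i j hij r with hr | hr <;>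
    rcases glp2_fin2_cases i j hij s with hs | hs
  · exact absurd (hr.trans hs.symm) hrs'
  · rw [hr, hs]; exact h0
  · rw [hr, hs]; exact hji
  · exact absurd (hr.trans hs.symm) hrs'

/-- (1) an element of `Y` with a zero entry is monomial -/
theorem glp2_zero_entry_mono {Y : Subgroup (GL (Fin 2) F)} (hY : GLHyp Y) {g : GL (Fin 2) F}
    (hg : g ∈ Y) {l i : Fin 2} (h0 : (g : Matrix (Fin 2) (Fin 2) F) l i = 0) :
    g ∈ Mono (Fin 2) F := by
  by_cases hli : l = i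
  · subst hli
    have hmem : g * pm (Equiv.swap (0 : Fin 2) 1) ∈ Y :=
      Y.mul_mem hg (hY.mono_le (pm_mem_Mono _))
    have h1 : ((g * pm (Equiv.swap (0 : Fin 2) 1) : GL (Fin 2) F) : Matrix (Fin 2) (Fin 2) F) l
        (Equiv.swap (0 : Fin 2) 1 l) = 0 := by
      rw [mul_pm_apply, glp2_swap_swap, h0]
    have h2 := glp2_offdiag_zero hY hmem (glp2_swap_ne l) h1
    have h3 := (Mono (Fin 2) F).mul_mem h2
      ((Mono (Fin 2) F).inv_mem (pm_mem_Mono (Equiv.swap (0 : Fin 2) 1)))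
    rwa [mul_inv_cancel_right] at h3
  · exact glp2_offdiag_zero hY hg hli h0

/-- the invariant `δ` of a normalised element is not `1` -/
theorem glp2_delta_ne_one {h : GL (Fin 2) F} {δ : F}
    (hv : (h : Matrix (Fin 2) (Fin 2) F) = !![1, 1; 1, δ]) : δ ≠ 1 := by
  intro hδ
  have hdet : IsUnit (h : Matrix (Fin 2) (Fin 2) F).det :=
    (Matrix.isUnit_iff_isUnit_det _).1 h.isUnit
  rw [hv, Matrix.det_fin_two_of, hδ] at hdet
  simp at hdet

/-- (2) an element of `Y` without zero entry can be normalised to `!![1, 1; 1, δ]`,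
`δ = a d / (b c)` -/
theorem glp2_normalize {Y : Subgroup (GL (Fin 2) F)} (hY : GLHyp Y) {g : GL (Fin 2) F}
    (hg : g ∈ Y) (hfull : ∀ r s, (g : Matrix (Fin 2) (Fin 2) F) r s ≠ 0) :
    ∃ h : GL (Fin 2) F, h ∈ Y ∧ (h : Matrix (Fin 2) (Fin 2) F) =
      !![1, 1; 1, (g : Matrix (Fin 2) (Fin 2) F) 0 0 * (g : Matrix (Fin 2) (Fin 2) F) 1 1 /
        ((g : Matrix (Fin 2) (Fin 2) F) 0 1 * (g : Matrix (Fin 2) (Fin 2) F) 1 0)] := by
  have ha := hfull 0 0
  have hb := hfull 0 1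
  have hc := hfull 1 0
  have hd := hfull 1 1
  refine ⟨dg ![(Units.mk0 _ ha)⁻¹, (Units.mk0 _ hc)⁻¹] * g *
      dg ![1, Units.mk0 _ ha / Units.mk0 _ hb],
    Y.mul_mem (Y.mul_mem (hY.mono_le (dg_mem_Mono _)) hg) (hY.mono_le (dg_mem_Mono _)), ?_⟩
  ext r s
  rw [mul_dg_apply, dg_mul_apply]
  fin_cases r <;> fin_cases s
  · simp [ha]
  · simp
    field_simp
  · simp [hc]
  · simp
    field_simp

/-- (3) the invariants of two normalised elements of `Y` multiply to `1` -/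
theorem glp2_delta_mul {Y : Subgroup (GL (Fin 2) F)} (hY : GLHyp Y) {h h' : GL (Fin 2) F}
    (hh : h ∈ Y) (hh' : h' ∈ Y) {δ ε : F}
    (hv : (h : Matrix (Fin 2) (Fin 2) F) = !![1, 1; 1, δ])
    (hv' : (h' : Matrix (Fin 2) (Fin 2) F) = !![1, 1; 1, ε]) : δ * ε = 1 := by
  have hδ : δ ≠ 1 := glp2_delta_ne_one hv
  have hε : ε ≠ 1 := glp2_delta_ne_one hv'
  have hx : h * dg ![1, -1] * h' ∈ Y :=
    Y.mul_mem (Y.mul_mem hh (hY.mono_le (dg_mem_Mono _))) hh'
  have e00 : ((h * dg ![1, -1] * h' : GL (Fin 2) F) : Matrix (Fin 2) (Fin 2) F) 0 0 = 0 := by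
    rw [mul_dg_mul_apply, Fin.sum_univ_two, hv, hv']
    simp
  have e10 : ((h * dg ![1, -1] * h' : GL (Fin 2) F) : Matrix (Fin 2) (Fin 2) F) 1 0 = 1 - δ := by
    rw [mul_dg_mul_apply, Fin.sum_univ_two, hv, hv']
    simp
    ring
  have e11 : ((h * dg ![1, -1] * h' : GL (Fin 2) F) : Matrix (Fin 2) (Fin 2) F) 1 1 =
      1 - δ * ε := by
    rw [mul_dg_mul_apply, Fin.sum_univ_two, hv, hv']
    simp
    ring
  have hmono := glp2_zero_entry_mono hY hx e00
  by_contra hne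
  have h10 : ((h * dg ![1, -1] * h' : GL (Fin 2) F) : Matrix (Fin 2) (Fin 2) F) 1 0 ≠ 0 := by
    rw [e10]; exact sub_ne_zero.2 (Ne.symm hδ)
  have h11 : ((h * dg ![1, -1] * h' : GL (Fin 2) F) : Matrix (Fin 2) (Fin 2) F) 1 1 ≠ 0 := by
    rw [e11]; exact sub_ne_zero.2 (Ne.symm hne)
  have := IsMono.row_unique (mem_Mono.1 hmono) h10 h11
  exact absurd this (by decide)

/-- [GL-P2H] -/
theorem gl_two_hadamard {Y : Subgroup (GL (Fin 2) F)} (hY : GLHyp Y) :
    Y ≤ Mono (Fin 2) F ∨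
      ∃ hm : GL (Fin 2) F, hm ∈ Y ∧ (hm : Matrix (Fin 2) (Fin 2) F) = !![1, 1; 1, -1] := by
  by_cases hle : Y ≤ Mono (Fin 2) F
  · exact Or.inl hle
  · right
    rw [SetLike.not_le_iff_exists] at hle
    obtain ⟨g, hg, hgm⟩ := hle
    have hfull : ∀ r s, (g : Matrix (Fin 2) (Fin 2) F) r s ≠ 0 :=
      fun r s h0 => hgm (glp2_zero_entry_mono hY hg h0)
    obtain ⟨h, hh, hv⟩ := glp2_normalize hY hg hfull
    obtain ⟨δ, hδdef⟩ : ∃ δ : F, δ = (g : Matrix (Fin 2) (Fin 2) F) 0 0 *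
        (g : Matrix (Fin 2) (Fin 2) F) 1 1 /
        ((g : Matrix (Fin 2) (Fin 2) F) 0 1 * (g : Matrix (Fin 2) (Fin 2) F) 1 0) := ⟨_, rfl⟩
    rw [← hδdef] at hv
    have h1 := glp2_delta_mul hY hh hh hv hv
    have hδ1 : δ ≠ 1 := glp2_delta_ne_one hv
    have hδ : δ = -1 := by
      have h2 : (δ - 1) * (δ + 1) = 0 := by linear_combination h1
      rcases mul_eq_zero.1 h2 with h | h
      · exact absurd (sub_eq_zero.1 h) hδ1
      · exact eq_neg_of_add_eq_zero_left h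
    exact ⟨h, hh, by rw [hv, hδ]⟩

end Cfsg.Agent.Lib.Helper25
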