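/-
helper25: module [GL-P2] of helper43's S5634 project: for `7 ≤ |F|` a subgroup `Y` of
`GL (Fin 2) F` containing the monomial group and no non-trivial elementary transvection does not
contain the Hadamard matrix `!![1, 1; 1, -1]`.
-/
import Mathlib
import Cfsg.Agent.Lib.Helper43.MonoStar
import Cfsg.Agent.Lib.Helper25.MonoGLP2H

set_option autoImplicit false
set_option linter.unusedSectionVars false
set_option linter.unusedVariables false

namespace Cfsg.Agent.Lib.Helper25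

open Matrix Cfsg.Geo Cfsg.Agent.Lib.Helper93 Cfsg.Agent.Lib.Helper43

variable {F : Type*} [Field F]

/-- if the Hadamard matrix is in `Y` then every `s ∉ {0, 1, -1}` satisfies `s ^ 2 = -1` -/
theorem glp2_sq_eq_neg_one {Y : Subgroup (GL (Fin 2) F)}
    (hY : GLHyp Y) {hm : GL (Fin 2) F} (hmY : hm ∈ Y)
    (hmv : (hm : Matrix (Fin 2) (Fin 2) F) = !![1, 1; 1, -1]) {s : F} (hs0 : s ≠ 0)
    (hs1 : s ≠ 1) (hs2 : s ≠ -1) : s ^ 2 = -1 := by
  have h2 : (2 : F) ≠ 0 := by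
    intro h2
    have hdet : IsUnit (hm : Matrix (Fin 2) (Fin 2) F).det :=
      (Matrix.isUnit_iff_isUnit_det _).1 hm.isUnit
    rw [hmv, Matrix.det_fin_two_of] at hdet
    have : (1 : F) * -1 - 1 * 1 = 0 := by linear_combination -h2
    rw [this] at hdet
    exact not_isUnit_zero hdet
  have hp : s + 1 ≠ 0 := fun h => hs2 (eq_neg_of_add_eq_zero_left h)
  have hn : s - 1 ≠ 0 := sub_ne_zero.2 hs1
  have hx : hm * dg ![Units.mk0 s hs0, 1] * hm ∈ Y :=
    Y.mul_mem (Y.mul_mem hmY (hY.mono_le (dg_mem_Mono _))) hmY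
  have e00 : ((hm * dg ![Units.mk0 s hs0, 1] * hm : GL (Fin 2) F) :
      Matrix (Fin 2) (Fin 2) F) 0 0 = s + 1 := by
    rw [mul_dg_mul_apply, Fin.sum_univ_two, hmv]
    simp
  have e01 : ((hm * dg ![Units.mk0 s hs0, 1] * hm : GL (Fin 2) F) :
      Matrix (Fin 2) (Fin 2) F) 0 1 = s - 1 := by
    rw [mul_dg_mul_apply, Fin.sum_univ_two, hmv]
    simp
    ring
  have e10 : ((hm * dg ![Units.mk0 s hs0, 1] * hm : GL (Fin 2) F) :
      Matrix (Fin 2) (Fin 2) F) 1 0 = s - 1 := by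
    rw [mul_dg_mul_apply, Fin.sum_univ_two, hmv]
    simp
    ring
  have e11 : ((hm * dg ![Units.mk0 s hs0, 1] * hm : GL (Fin 2) F) :
      Matrix (Fin 2) (Fin 2) F) 1 1 = s + 1 := by
    rw [mul_dg_mul_apply, Fin.sum_univ_two, hmv]
    simp
  have hfull : ∀ r c, ((hm * dg ![Units.mk0 s hs0, 1] * hm : GL (Fin 2) F) :
      Matrix (Fin 2) (Fin 2) F) r c ≠ 0 := by
    intro r c
    fin_cases r <;> fin_cases c
    · show ((hm * dg ![Units.mk0 s hs0, 1] * hm : GL (Fin 2) F) :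
        Matrix (Fin 2) (Fin 2) F) 0 0 ≠ 0
      rw [e00]; exact hp
    · show ((hm * dg ![Units.mk0 s hs0, 1] * hm : GL (Fin 2) F) :
        Matrix (Fin 2) (Fin 2) F) 0 1 ≠ 0
      rw [e01]; exact hn
    · show ((hm * dg ![Units.mk0 s hs0, 1] * hm : GL (Fin 2) F) :
        Matrix (Fin 2) (Fin 2) F) 1 0 ≠ 0
      rw [e10]; exact hn
    · show ((hm * dg ![Units.mk0 s hs0, 1] * hm : GL (Fin 2) F) :
        Matrix (Fin 2) (Fin 2) F) 1 1 ≠ 0
      rw [e11]; exact hp
  obtain ⟨h, hh, hv⟩ := glp2_normalize hY hx hfull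
  rw [e00, e01, e10, e11] at hv
  have h1 := glp2_delta_mul hY hh hmY hv hmv
  have h3 : (s + 1) * (s + 1) = -((s - 1) * (s - 1)) := by
    have hne : (s - 1) * (s - 1) ≠ 0 := mul_ne_zero hn hn
    field_simp at h1
    linear_combination -h1
  have h4 : 2 * (s ^ 2 + 1) = 0 := by linear_combination h3
  rcases mul_eq_zero.1 h4 with h | h
  · exact absurd h h2
  · exact eq_neg_of_add_eq_zero_left h

/-- [GL-P2] -/
theorem gl_two_no_hadamard [Fintype F] (hq : 7 ≤ Fintype.card F) {Y : Subgroup (GL (Fin 2) F)}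
    (hY : GLHyp Y) {hm : GL (Fin 2) F} (hmY : hm ∈ Y)
    (hmv : (hm : Matrix (Fin 2) (Fin 2) F) = !![1, 1; 1, -1]) : False := by
  classical
  have hex : ∀ s : Finset F, s.card < 7 → ∃ x, x ∉ s := by
    intro s hs
    by_contra hcon
    push Not at hcon
    have : s = Finset.univ := Finset.eq_univ_iff_forall.2 hcon
    rw [this, Finset.card_univ] at hs
    omega
  obtain ⟨x, hx⟩ := hex {0, 1, -1} (lt_of_le_of_lt Finset.card_le_three (by norm_num))
  obtain ⟨y, hy⟩ := hex {0, 1, -1, x, -x} (lt_of_le_of_lt Finset.card_le_five (by norm_num))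
  simp only [Finset.mem_insert, Finset.mem_singleton, not_or] at hx hy
  have ex := glp2_sq_eq_neg_one hY hmY hmv hx.1 hx.2.1 hx.2.2
  have ey := glp2_sq_eq_neg_one hY hmY hmv hy.1 hy.2.1 hy.2.2.1
  have h : (y - x) * (y + x) = 0 := by linear_combination ey - ex
  rcases mul_eq_zero.1 h with h | h
  · exact hy.2.2.2.1 (sub_eq_zero.1 h)
  · exact hy.2.2.2.2 (eq_neg_of_add_eq_zero_left h)

end Cfsg.Agent.Lib.Helper25
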