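import Mathlib
import Cfsg.Prelude.Def_GeometricClasses
import Cfsg.Agent.Lib.Helper99.AschDefs
import Cfsg.Agent.Lib.Helper55.Oe.Defs
import Cfsg.Agent.Lib.Helper11.AschResid
import Cfsg.Agent.Lib.Helper13.FormKitBilUni

/-!
# ASCHOE-[II-RESID] (project ASCHOE, helper55): a perfect minimal `P`, simple modulo scalars and absolutely
irreducible, gives `OutSubfield Q H` or the orthogonal residual class.  `_of` form: the statement of
ASCHOE-[II-SUBFIELD] (`outSubfield_of_realisable`) is a hypothesis.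
-/

set_option autoImplicit false

namespace Cfsg.Agent.Lib.Helper25.Oe

open Cfsg Cfsg.Geo Cfsg.Agent.Lib.Helper99.Asch Cfsg.Agent.Lib.Helper55.Oe
  Cfsg.Agent.Lib.Helper11.AschResid
open scoped MatrixGroups Matrix

variable {n : ℕ} {F : Type*} [Field F] [Fintype F]

/-- ASCHOE-[II-RESID] with the statement of [II-SUBFIELD] as a hypothesis. -/
theorem subfield_or_residual_of {Q : (Fin n → F) → F}
    (hSUB : ∀ (S : Subgroup (GL (Fin n) F)) {H : Subgroup (GL (Fin n) F)}, H ≤ isometryGroup F Q → S ≤ H →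
      ActsAbsolutelyIrreducibly (matrixSet S) → Nrm H S → ∀ F₀ : Subfield F, F₀ ≠ ⊤ →
      RealisableOver F₀ (matrixSet S) → OutSubfield Q H)
    (hQ : IsNondegenerateQuadraticForm Q) (hn : 2 ≤ n)
    {H : Subgroup (GL (Fin n) F)} (hH : H ≤ isometryGroup F Q)
    (P : Subgroup (GL (Fin n) F)) (hP : PerfMin H P) (habs : ActsAbsolutelyIrreducibly (matrixSet P))
    (hsimple : ∀ M : Subgroup (GL (Fin n) F), M ≤ P → Nrm P M → M ≤ scalars (Fin n) F ∨ M = P) :
    OutSubfield Q H ∨ InOrthogonalResidualClass H := by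
  have hne : Nonempty (Fin n) := ⟨⟨0, by omega⟩⟩
  by_cases h1 : ∃ F₀ : Subfield F, F₀ ≠ ⊤ ∧ RealisableOver F₀ (matrixSet P)
  · obtain ⟨F₀, hF₀, hreal⟩ := h1
    exact Or.inl (hSUB P hH hP.le habs hP.nrm F₀ hF₀ hreal)
  by_cases h4 : ∃ (σ : F ≃+* F) (f : (Fin n → F) → (Fin n → F) → F), IsUnitaryForm σ f ∧
      FixesForm (matrixSet P) f
  · obtain ⟨σ, f, hf, hfix⟩ := h4
    have hQfix : FixesQuadForm (matrixSet P) Q := by
      rintro _ ⟨x, hx, rfl⟩ v
      exact hH (hP.le hx) v v
    exact absurd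
      (Cfsg.Agent.Lib.Helper13.FormKit.realisable_of_fixes_quadratic_unitary P habs hQ hQfix hf hfix) h1
  right
  refine ⟨P, ?_, h4⟩
  exact
    { le := hP.le
      normal := hP.nrm
      perfect := hP.perfect
      simple := isSimpleGroup_quotient hP.not_le hsimple
      nonabelian := not_isMulCommutative_quotient hP.not_le hP.perfect
      centralizer_scalar := fun h _ hh =>
        mem_scalars_of_commute habs h (commute_of_perfect hP.perfect h hh)
      absIrred := habs
      no_subfield := fun F₀ hF₀ hreal => h1 ⟨F₀, hF₀, hreal⟩ }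

end Cfsg.Agent.Lib.Helper25.Oe
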