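import Mathlib
import Cfsg.Prelude.Def_GeometricClasses

/-!
# Rationality of an invariant quadratic form (all characteristics)

`Q'` is a quadratic form on `F^ι` (`F` finite, `2 ≤ |ι|`) whose polar form has a Gram matrix `X` with entries in
the subfield `F₁`, invariant under the conjugates `B s B⁻¹` (`s ∈ T`, `T` irreducible), all of which have entries in
`F₁`.  Then `Q'` takes values in `F₁` on the vectors with entries in `F₁`.  The argument is uniform in the
characteristic: for `σ ∈ Gal(F / F₁)` the difference `δ = σ ∘ Q' ∘ σ⁻¹ − Q'` is additive, satisfies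
`δ (c u) = c² δ u` and is invariant, so its zero set is an invariant subspace; it cannot be `0` because an additive
injection `F^ι → F` does not exist.
-/

set_option autoImplicit false

namespace Cfsg.Agent.Lib.Helper25.Oe

open Cfsg Cfsg.Geo
open scoped Matrix

variable {ι : Type} [Fintype ι] [DecidableEq ι] {F : Type*} [Field F] [Fintype F]

/-- The twisted form `σ ∘ Q' ∘ σ⁻¹` is `Q'` again. -/
theorem quad_twist_eq (hcard : 2 ≤ Fintype.card ι) (F₁ : Subfield F) (σ : F ≃+* F)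
    (hσ : ∀ x ∈ F₁, σ x = x)
    (T : Set (Matrix ι ι F)) (hirr : ActsIrreducibly T) (B Bi : Matrix ι ι F)
    (hBBi : B * Bi = 1) (hBiB : Bi * B = 1)
    (hent : ∀ s ∈ T, ∀ i j, (B * s * Bi) i j ∈ F₁)
    (X : Matrix ι ι F) (hX : ∀ i j, X i j ∈ F₁)
    (Q' : (ι → F) → F) (hsmul : ∀ (c : F) (u : ι → F), Q' (c • u) = c ^ 2 * Q' u)
    (hadd : ∀ u v : ι → F, Q' (u + v) = Q' u + Q' v + u ⬝ᵥ X *ᵥ v)
    (hinv : ∀ s ∈ T, ∀ u, Q' ((B * s * Bi) *ᵥ u) = Q' u) (u : ι → F) :
    σ (Q' (fun i => σ.symm (u i))) = Q' u := by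
  classical
  have hσs : ∀ x ∈ F₁, σ.symm x = x := fun x hx => by
    conv_lhs => rw [← hσ x hx]
    exact σ.symm_apply_apply x
  obtain ⟨δ, hδ⟩ : ∃ δ : (ι → F) → F, δ = fun w => σ (Q' (fun i => σ.symm (w i))) - Q' w := ⟨_, rfl⟩
  have hmapX : ∀ a b : ι → F,
      σ ((fun i => σ.symm (a i)) ⬝ᵥ X *ᵥ (fun i => σ.symm (b i))) = a ⬝ᵥ X *ᵥ b := by
    intro a b
    simp only [dotProduct, Matrix.mulVec, map_sum, map_mul, RingEquiv.apply_symm_apply]
    refine Finset.sum_congr rfl fun i _ => ?_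
    congr 1
    refine Finset.sum_congr rfl fun j _ => ?_
    rw [hσ _ (hX i j)]
  have hδadd : ∀ a b, δ (a + b) = δ a + δ b := by
    intro a b
    simp only [hδ]
    have h1 : (fun i => σ.symm ((a + b) i)) = (fun i => σ.symm (a i)) + (fun i => σ.symm (b i)) := by
      ext i; simp
    rw [h1, hadd, hadd, map_add, map_add, hmapX]
    ring
  have hδsmul : ∀ (c : F) a, δ (c • a) = c ^ 2 * δ a := by
    intro c a
    simp only [hδ]
    have h1 : (fun i => σ.symm ((c • a) i)) = σ.symm c • (fun i => σ.symm (a i)) := by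
      ext i; simp
    rw [h1, hsmul, hsmul, map_mul, map_pow, RingEquiv.apply_symm_apply]
    ring
  have hδinv : ∀ s ∈ T, ∀ a, δ ((B * s * Bi) *ᵥ a) = δ a := by
    intro s hs a
    simp only [hδ]
    have h1 : (fun i => σ.symm (((B * s * Bi) *ᵥ a) i)) =
        (B * s * Bi) *ᵥ (fun i => σ.symm (a i)) := by
      ext i
      have h2 := RingHom.map_mulVec (σ.symm : F →+* F) (B * s * Bi) a i
      have h3 : (B * s * Bi).map (σ.symm : F →+* F) = B * s * Bi := by
        ext k l
        rw [Matrix.map_apply]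
        exact hσs _ (hent s hs k l)
      rw [h3] at h2
      exact h2
    rw [h1, hinv s hs, hinv s hs]
  have hδ0 : δ 0 = 0 := by
    have := hδsmul 0 0
    rwa [zero_smul, zero_pow two_ne_zero, zero_mul] at this
  -- the zero set, pulled back along `B`
  let W : Submodule F (ι → F) :=
    { carrier := {w | δ (B *ᵥ w) = 0}
      zero_mem' := by
        show δ (B *ᵥ 0) = 0
        rw [Matrix.mulVec_zero, hδ0]
      add_mem' := by
        intro a b ha hb
        show δ (B *ᵥ (a + b)) = 0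
        rw [Matrix.mulVec_add, hδadd, show δ (B *ᵥ a) = 0 from ha, show δ (B *ᵥ b) = 0 from hb,
          add_zero]
      smul_mem' := by
        intro c a ha
        show δ (B *ᵥ (c • a)) = 0
        rw [Matrix.mulVec_smul, hδsmul, show δ (B *ᵥ a) = 0 from ha, mul_zero] }
  have hWmem : ∀ w, w ∈ W ↔ δ (B *ᵥ w) = 0 := fun w => Iff.rfl
  have hW : ∀ s ∈ T, W.map (Matrix.toLin' s) ≤ W := by
    intro s hs
    rintro _ ⟨w, hw, rfl⟩
    rw [hWmem, Matrix.toLin'_apply]
    have h1 : B *ᵥ (s *ᵥ w) = (B * s * Bi) *ᵥ (B *ᵥ w) := by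
      rw [Matrix.mulVec_mulVec, Matrix.mulVec_mulVec, mul_assoc (B * s), hBiB, mul_one]
    rw [h1, hδinv s hs]
    exact (hWmem w).1 hw
  have hu : δ u = 0 := by
    rcases hirr W hW with h | h
    · exfalso
      let f : (ι → F) →+ F := AddMonoidHom.mk' (fun w => δ (B *ᵥ w)) (by
        intro a b
        show δ (B *ᵥ (a + b)) = δ (B *ᵥ a) + δ (B *ᵥ b)
        rw [Matrix.mulVec_add, hδadd])
      have hinj : Function.Injective f := by
        rw [injective_iff_map_eq_zero]
        intro w hw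
        have hwW : w ∈ W := (hWmem w).2 hw
        rw [h] at hwW
        exact (Submodule.mem_bot F).1 hwW
      have hle := Fintype.card_le_of_injective f hinj
      rw [Fintype.card_fun] at hle
      have h2 : 2 ≤ Fintype.card F := Fintype.one_lt_card
      have h3 : Fintype.card F ^ 2 ≤ Fintype.card F ^ Fintype.card ι :=
        Nat.pow_le_pow_right (by omega) hcard
      nlinarith
    · have h1 : Bi *ᵥ u ∈ W := by rw [h]; trivial
      rw [hWmem, Matrix.mulVec_mulVec, hBBi, Matrix.one_mulVec] at h1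
      exact h1
  rw [hδ] at hu
  exact sub_eq_zero.1 hu

/-- **Rationality of an invariant quadratic form.** -/
theorem quad_rational_of_invariant (hcard : 2 ≤ Fintype.card ι) (F₁ : Subfield F)
    (T : Set (Matrix ι ι F)) (hirr : ActsIrreducibly T) (B Bi : Matrix ι ι F)
    (hBBi : B * Bi = 1) (hBiB : Bi * B = 1)
    (hent : ∀ s ∈ T, ∀ i j, (B * s * Bi) i j ∈ F₁)
    (X : Matrix ι ι F) (hX : ∀ i j, X i j ∈ F₁)
    (Q' : (ι → F) → F) (hsmul : ∀ (c : F) (u : ι → F), Q' (c • u) = c ^ 2 * Q' u)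
    (hadd : ∀ u v : ι → F, Q' (u + v) = Q' u + Q' v + u ⬝ᵥ X *ᵥ v)
    (hinv : ∀ s ∈ T, ∀ u, Q' ((B * s * Bi) *ᵥ u) = Q' u) :
    ∀ u : ι → F, (∀ i, u i ∈ F₁) → Q' u ∈ F₁ := by
  intro u hu
  have h1 : Q' u ∈ Set.range (algebraMap F₁ F) := by
    rw [IsGalois.mem_range_algebraMap_iff_fixed]
    intro τ
    have hτ : ∀ x ∈ F₁, (τ : F ≃+* F) x = x := fun x hx => τ.commutes ⟨x, hx⟩
    have h2 := quad_twist_eq hcard F₁ (τ : F ≃+* F) hτ T hirr B Bi hBBi hBiB hent X hX Q' hsmul hadd
      hinv u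
    have h3 : (fun i => (τ : F ≃+* F).symm (u i)) = u := by
      ext i
      conv_lhs => rw [← hτ (u i) (hu i)]
      exact (τ : F ≃+* F).symm_apply_apply (u i)
    rw [h3] at h2
    exact h2
  obtain ⟨y, hy⟩ := h1
  rw [← hy]
  exact y.2

end Cfsg.Agent.Lib.Helper25.Oe
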