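import Mathlib
import Cfsg.Prelude.Def_GeometricClasses
import Cfsg.Agent.Lib.Helper99.AschDefs
import Cfsg.Agent.Lib.Helper55.Oe.Defs
import Cfsg.Agent.Lib.Helper83.AschONDesc
import Cfsg.Agent.Lib.Helper25.OeQuadRat

/-!
# ASCHOE-[II-SUBFIELD] (project ASCHOE, helper55)

An absolutely irreducible `S ≤ H ≤ I(Q)` normalised by `H` and realisable over a proper subfield gives
`OutSubfield Q H` (all characteristics).  The group part and the rationality of the polar form follow helper83's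
`geoO_of_realisable`; the quadratic part is `quad_rational_of_invariant`.
-/

set_option autoImplicit false

namespace Cfsg.Agent.Lib.Helper55.Oe

open Cfsg Cfsg.Geo Cfsg.Agent.Lib.Helper99.Asch Cfsg.Agent.Lib.Helper37.Asch
open Cfsg.Agent.Lib.Helper49.AschNDesc Cfsg.Agent.Lib.Helper83.AschONDesc
open Cfsg.Agent.Lib.Helper5.AschO
open scoped MatrixGroups Matrix

variable {n : ℕ} {F : Type*} [Field F] [Fintype F]

/-- ASCHOE-[II-SUBFIELD] -/
theorem outSubfield_of_realisable {Q : (Fin n → F) → F} (hQ : IsNondegenerateQuadraticForm Q) (hn : 2 ≤ n)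
    {H : Subgroup (GL (Fin n) F)} (hH : H ≤ isometryGroup F Q)
    (S : Subgroup (GL (Fin n) F)) (hSH : S ≤ H) (hSabs : ActsAbsolutelyIrreducibly (matrixSet S))
    (hnrm : Nrm H S) (F₀ : Subfield F) (hF₀ : F₀ ≠ ⊤) (hreal : RealisableOver F₀ (matrixSet S)) :
    OutSubfield Q H := by
  classical
  obtain ⟨B, hB⟩ := hreal
  obtain ⟨F₁, r, hr, hle, hcard⟩ :=
    Cfsg.Agent.Lib.Helper84.AschC5.exists_prime_degree_subfield F₀ hF₀
  have hn0 : 0 < n := by omega
  -- the conjugate `S' = B S B⁻¹` has entries in `F₀`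
  have hS'ent : ∀ s ∈ matrixSet (conjSub B S), ∀ i j, s i j ∈ F₀ := by
    intro s hs i j
    obtain ⟨s', hs', rfl⟩ := (mem_matrixSet_conjSub B S s).1 hs
    exact hB s' hs' i j
  have hspan' := span_conjSub B S (span_eq_top_of_absIrred S hSabs)
  have hcomm' := comm_conjSub B S hSabs.2
  -- group part
  have hHsub : H ≤ subfieldSubgroup F₁ B⁻¹ := by
    intro h hh
    obtain ⟨c, hc⟩ := exists_smul_mem_of_normalizes (conjSub B S) hspan' hcomm' F₀ hS'ent
      (B * h * B⁻¹) (by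
        intro y hy
        obtain ⟨x, hx, rfl⟩ := (mem_conjSub B S y).1 hy
        rw [mem_conjSub]
        refine ⟨h * x * h⁻¹, hnrm h hh x hx, ?_⟩
        group)
    have hmem : B * h * B⁻¹ ∈ Cfsg.Agent.Lib.Helper44.SubF.NGrp F₁ :=
      (Cfsg.Agent.Lib.Helper44.SubF.mem_NGrp_iff _).2 ⟨c, fun i j => hle (hc i j)⟩
    refine ⟨B * h * B⁻¹, hmem, ?_⟩
    show B⁻¹ * (B * h * B⁻¹) * B⁻¹⁻¹ = h
    group
  -- form part
  have hbs := isSesq_of_bilinear hQ.polar_bilinear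
  have hGu : IsUnit (gram (QuadraticMap.polar Q)) := hbs.isUnit_gram hQ.nondegenerate
  obtain ⟨G, hG⟩ : ∃ G, G = gram (QuadraticMap.polar Q) := ⟨_, rfl⟩
  rw [← hG] at hGu
  obtain ⟨Bi, hBi⟩ : ∃ Bi : Matrix (Fin n) (Fin n) F,
      Bi = ((B⁻¹ : GL (Fin n) F) : Matrix (Fin n) (Fin n) F) := ⟨_, rfl⟩
  have hBiB : Bi * (B : Matrix (Fin n) (Fin n) F) = 1 := by
    rw [hBi, ← Units.val_mul, inv_mul_cancel, Units.val_one]
  have hBBi : (B : Matrix (Fin n) (Fin n) F) * Bi = 1 := by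
    rw [hBi, ← Units.val_mul, mul_inv_cancel, Units.val_one]
  obtain ⟨G', hG'⟩ : ∃ G' : Matrix (Fin n) (Fin n) F, G' = Biᵀ * G * Bi := ⟨_, rfl⟩
  have hG'u : IsUnit G' := by
    have hBiu : IsUnit Bi := by rw [hBi]; exact (B⁻¹).isUnit
    have hBiTu : IsUnit Biᵀ := by
      rw [Matrix.isUnit_iff_isUnit_det, Matrix.det_transpose, ← Matrix.isUnit_iff_isUnit_det]
      exact hBiu
    rw [hG']
    exact (hBiTu.mul hGu).mul hBiu
  -- invariance of `Q` and of `G` under `S`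
  have hfixQ : ∀ x ∈ S, ∀ v, Q ((x : Matrix (Fin n) (Fin n) F) *ᵥ v) = Q v := fun x hx =>
    (mem_isometryGroup_iff x).mp (hH (hSH hx))
  have hfixG : ∀ x ∈ S, (x : Matrix (Fin n) (Fin n) F)ᵀ * G * (x : Matrix (Fin n) (Fin n) F) = G := by
    intro x hx
    have hxQ := hfixQ x hx
    have h1 := hbs.gram_of_fixes (A := (x : Matrix (Fin n) (Fin n) F)) (fun u v => by
      have := polar_map_of_similarity (x : Matrix (Fin n) (Fin n) F) 1
        (fun v => by rw [one_mul]; exact hxQ v) u v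
      rw [one_mul] at this
      exact this)
    rw [map_refl, ← hG] at h1
    exact h1
  -- invariance of `G'` under `S'`
  have hfixG' : ∀ y ∈ conjSub B S,
      (y : Matrix (Fin n) (Fin n) F)ᵀ * G' * (y : Matrix (Fin n) (Fin n) F) = G' := by
    intro y hy
    obtain ⟨x, hx, rfl⟩ := (mem_conjSub B S y).1 hy
    have hval : ((B * x * B⁻¹ : GL (Fin n) F) : Matrix (Fin n) (Fin n) F) =
        (B : Matrix (Fin n) (Fin n) F) * (x : Matrix (Fin n) (Fin n) F) * Bi := by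
      rw [Units.val_mul, Units.val_mul, hBi]
    have hBT : (B : Matrix (Fin n) (Fin n) F)ᵀ * Biᵀ = 1 := by
      rw [← Matrix.transpose_mul, hBiB, Matrix.transpose_one]
    rw [hval, hG', Matrix.transpose_mul, Matrix.transpose_mul]
    calc Biᵀ * ((x : Matrix (Fin n) (Fin n) F)ᵀ * (B : Matrix (Fin n) (Fin n) F)ᵀ) * (Biᵀ * G * Bi) *
          ((B : Matrix (Fin n) (Fin n) F) * (x : Matrix (Fin n) (Fin n) F) * Bi)
        = Biᵀ * (x : Matrix (Fin n) (Fin n) F)ᵀ * ((B : Matrix (Fin n) (Fin n) F)ᵀ * Biᵀ) * G *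
          (Bi * (B : Matrix (Fin n) (Fin n) F)) * (x : Matrix (Fin n) (Fin n) F) * Bi := by
          simp only [mul_assoc]
      _ = Biᵀ * ((x : Matrix (Fin n) (Fin n) F)ᵀ * G * (x : Matrix (Fin n) (Fin n) F)) * Bi := by
          rw [hBT, hBiB]; simp only [mul_one, mul_assoc]
      _ = Biᵀ * G * Bi := by rw [hfixG x hx]
  -- normalise one entry to `1`
  obtain ⟨a, b, hab⟩ : ∃ a b, G' a b ≠ 0 := by
    by_contra hcon
    push Not at hcon
    have h0 : G' = 0 := by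
      ext i j
      exact hcon i j
    rw [h0] at hG'u
    have : Nonempty (Fin n) := ⟨⟨0, hn0⟩⟩
    exact not_isUnit_zero hG'u
  obtain ⟨ζ, hζ⟩ : ∃ ζ : F, ζ = (G' a b)⁻¹ := ⟨_, rfl⟩
  have hζ0 : ζ ≠ 0 := by rw [hζ]; exact inv_ne_zero hab
  obtain ⟨X, hX⟩ : ∃ X : Matrix (Fin n) (Fin n) F, X = ζ • G' := ⟨_, rfl⟩
  have hXab : X a b = 1 := by
    rw [hX, Matrix.smul_apply, smul_eq_mul, hζ, inv_mul_cancel₀ hab]
  have hXu : IsUnit X := by
    rw [hX, Matrix.isUnit_iff_isUnit_det, Matrix.det_smul]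
    exact (IsUnit.mk0 _ (pow_ne_zero _ hζ0)).mul ((Matrix.isUnit_iff_isUnit_det _).mp hG'u)
  have hfixX : ∀ y ∈ conjSub B S,
      (y : Matrix (Fin n) (Fin n) F)ᵀ * X * (y : Matrix (Fin n) (Fin n) F) = X := by
    intro y hy
    rw [hX, Matrix.mul_smul, Matrix.smul_mul, hfixG' y hy]
  have hXent : ∀ i j, X i j ∈ F₁ :=
    entries_mem_of_invariant F₁ (conjSub B S) hcomm'
      (fun x hx i j => hle (hS'ent _ ⟨x, hx, rfl⟩ i j)) X hXu hfixX a b hXab
  -- the rational structure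
  have hrat : IsQuadFormRationalStructure (fun v => ζ * Q v) F₁ B⁻¹ := by
    have hcardn : 2 ≤ Fintype.card (Fin n) := by rw [Fintype.card_fin]; exact hn
    have key := Cfsg.Agent.Lib.Helper25.Oe.quad_rational_of_invariant hcardn F₁ (matrixSet S) hSabs.1
      (B : Matrix (Fin n) (Fin n) F) Bi hBBi hBiB
      (fun s hs i j => by rw [hBi]; exact hle (hB s hs i j)) X hXent
      (fun u => ζ * Q (Bi *ᵥ u))
      (fun c u => by
        show ζ * Q (Bi *ᵥ (c • u)) = c ^ 2 * (ζ * Q (Bi *ᵥ u))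
        rw [Matrix.mulVec_smul, hQ.smul]
        ring)
      (fun u v => by
        show ζ * Q (Bi *ᵥ (u + v)) = ζ * Q (Bi *ᵥ u) + ζ * Q (Bi *ᵥ v) + u ⬝ᵥ X *ᵥ v
        have h1 := hbs.apply_mulVec Bi u v
        rw [map_refl, ← hG, ← hG'] at h1
        have h3 : (fun j => (RingEquiv.refl F) (v j)) = v := rfl
        rw [h3] at h1
        rw [hX, Matrix.smul_mulVec, dotProduct_smul, smul_eq_mul, ← h1, Matrix.mulVec_add]
        simp only [QuadraticMap.polar]
        ring)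
      (fun s hs u => by
        obtain ⟨x, hx, rfl⟩ := hs
        show ζ * Q (Bi *ᵥ (((B : Matrix (Fin n) (Fin n) F) * (x : Matrix (Fin n) (Fin n) F) * Bi) *ᵥ u)) =
          ζ * Q (Bi *ᵥ u)
        have h1 : Bi *ᵥ (((B : Matrix (Fin n) (Fin n) F) * (x : Matrix (Fin n) (Fin n) F) * Bi) *ᵥ u) =
            (x : Matrix (Fin n) (Fin n) F) *ᵥ (Bi *ᵥ u) := by
          rw [Matrix.mulVec_mulVec, Matrix.mulVec_mulVec, ← mul_assoc, ← mul_assoc, hBiB, one_mul]
        rw [h1, hfixQ x hx])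
    intro u hu
    have := key u hu
    rw [hBi] at this
    exact this
  exact ⟨F₁, r, B⁻¹, ζ, hr, hcard, hζ0, hrat, hHsub⟩

end Cfsg.Agent.Lib.Helper55.Oe
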