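import Mathlib
import Cfsg.Prelude.Def_GeometricClasses
import Cfsg.Agent.Lib.Helper99.AschDefs
import Cfsg.Agent.Lib.Helper55.Oe.Defs
import Cfsg.Agent.Lib.Helper25.OeIIResid
import Cfsg.Agent.Lib.Helper25.OeIISubfield

/-!
# ASCHOE-[II-RESID] (project ASCHOE, helper55), exact sheet statement
-/

set_option autoImplicit false

namespace Cfsg.Agent.Lib.Helper55.Oe

open Cfsg Cfsg.Geo Cfsg.Agent.Lib.Helper99.Asch
open scoped MatrixGroups Matrix

variable {n : ℕ} {F : Type*} [Field F] [Fintype F]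

/-- ASCHOE-[II-RESID] -/
theorem subfield_or_residual {Q : (Fin n → F) → F} (hQ : IsNondegenerateQuadraticForm Q) (hn : 2 ≤ n)
    {H : Subgroup (GL (Fin n) F)} (hH : H ≤ isometryGroup F Q)
    (P : Subgroup (GL (Fin n) F)) (hP : PerfMin H P) (habs : ActsAbsolutelyIrreducibly (matrixSet P))
    (hsimple : ∀ M : Subgroup (GL (Fin n) F), M ≤ P → Nrm P M → M ≤ scalars (Fin n) F ∨ M = P) :
    OutSubfield Q H ∨ InOrthogonalResidualClass H :=
  Cfsg.Agent.Lib.Helper25.Oe.subfield_or_residual_of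
    (fun S _ hH' hSH hSabs hnrm F₀ hF₀ hreal =>
      outSubfield_of_realisable hQ hn hH' S hSH hSabs hnrm F₀ hF₀ hreal)
    hQ hn hH P hP habs hsimple

end Cfsg.Agent.Lib.Helper55.Oe
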