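import Mathlib

/-!
# PF (12.7) module [XSET] (helper74, board #3238)

Many `x`-invariant nontrivial linear characters of `K`, from an abelian quotient `K/T` on which
`x` acts trivially.  By helper25.
-/

set_option autoImplicit false
set_option linter.unusedVariables false
set_option linter.unusedSectionVars false
set_option linter.style.haveILetI false

namespace Cfsg.Agent.Lib.Helper25.PF127XSet

theorem exists_invariant_linear_chars {G : Type*} [Group G] [Finite G] (K T : Subgroup G) (x : G)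
    (hTK : T ≤ K) (hTn : ∀ k ∈ K, ∀ t ∈ T, k * t * k⁻¹ ∈ T)
    (hcomm : ∀ k₁ ∈ K, ∀ k₂ ∈ K, k₁ * k₂ * k₁⁻¹ * k₂⁻¹ ∈ T)
    (hx : ∀ k ∈ K, x * k * x⁻¹ ∈ K) (hxT : ∀ k ∈ K, x * k * x⁻¹ * k⁻¹ ∈ T)
    (m : ℕ) (hm : m + 1 ≤ T.relIndex K) :
    ∃ X : Finset (↥K →* ℂˣ), m ≤ X.card ∧ (∀ θ ∈ X, θ ≠ 1) ∧
      ∀ θ ∈ X, ∀ h h' : ↥K, (h' : G) = x * (h : G) * x⁻¹ → θ h' = θ h := by
  classical
  haveI hN : (T.subgroupOf K).Normal := by
    refine ⟨fun n hn g => ?_⟩
    rw [Subgroup.mem_subgroupOf] at hn ⊢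
    simpa using hTn g g.2 n hn
  -- the quotient is commutative
  letI : CommGroup (↥K ⧸ T.subgroupOf K) :=
    { (inferInstance : Group (↥K ⧸ T.subgroupOf K)) with
      mul_comm := by
        intro a b
        induction a using QuotientGroup.induction_on with
        | H a =>
        induction b using QuotientGroup.induction_on with
        | H b =>
        rw [← QuotientGroup.mk_mul, ← QuotientGroup.mk_mul, QuotientGroup.eq,
          Subgroup.mem_subgroupOf]
        -- (a b)⁻¹ (b a) = b⁻¹ a⁻¹ b a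
        have := hcomm _ (inv_mem b.2) _ (inv_mem a.2)
        simpa [mul_assoc] using this }
  haveI : HasEnoughRootsOfUnity ℂ (Monoid.exponent (↥K ⧸ T.subgroupOf K)) := by
    haveI : NeZero ((Monoid.exponent (↥K ⧸ T.subgroupOf K) : ℕ) : ℂ) :=
      ⟨by exact_mod_cast (Monoid.exponent_ne_zero_of_finite (G := ↥K ⧸ T.subgroupOf K))⟩
    infer_instance
  have hcard : Nat.card ((↥K ⧸ T.subgroupOf K) →* ℂˣ) = T.relIndex K := by
    rw [CommGroup.card_monoidHom_of_hasEnoughRootsOfUnity (↥K ⧸ T.subgroupOf K) ℂ]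
    rfl
  have hpos : 0 < T.relIndex K := by omega
  haveI : Finite ((↥K ⧸ T.subgroupOf K) →* ℂˣ) :=
    Nat.finite_of_card_ne_zero (by rw [hcard]; omega)
  haveI : Fintype ((↥K ⧸ T.subgroupOf K) →* ℂˣ) := Fintype.ofFinite _
  let F : ((↥K ⧸ T.subgroupOf K) →* ℂˣ) → (↥K →* ℂˣ) :=
    fun ψ => ψ.comp (QuotientGroup.mk' (T.subgroupOf K))
  have hF : Function.Injective F := by
    intro ψ ψ' h
    exact (MonoidHom.cancel_right (QuotientGroup.mk'_surjective _)).1 h
  refine ⟨(Finset.univ.erase (1 : (↥K ⧸ T.subgroupOf K) →* ℂˣ)).image F, ?_, ?_, ?_⟩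
  · rw [Finset.card_image_of_injective _ hF, Finset.card_erase_of_mem (Finset.mem_univ _),
      Finset.card_univ, ← Nat.card_eq_fintype_card, hcard]
    omega
  · intro θ hθ
    obtain ⟨ψ, hψ, rfl⟩ := Finset.mem_image.1 hθ
    intro h
    have : ψ = 1 := hF (by rw [h]; rfl)
    exact (Finset.ne_of_mem_erase hψ) this
  · intro θ hθ h h' hh
    obtain ⟨ψ, hψ, rfl⟩ := Finset.mem_image.1 hθ
    change ψ (QuotientGroup.mk h') = ψ (QuotientGroup.mk h)
    congr 1
    rw [QuotientGroup.eq, Subgroup.mem_subgroupOf]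
    -- h'⁻¹ h ∈ T
    have h1 : x * (h : G) * x⁻¹ * (h : G)⁻¹ ∈ T := hxT h h.2
    have h2 : (h : G)⁻¹ * (x * (h : G) * x⁻¹ * (h : G)⁻¹) * ((h : G)⁻¹)⁻¹ ∈ T :=
      hTn _ (inv_mem h.2) _ h1
    have h3 : ((h : G)⁻¹ * (x * (h : G) * x⁻¹))⁻¹ ∈ T := by
      apply inv_mem
      simpa [mul_assoc] using h2
    simpa [hh, mul_assoc] using h3

end Cfsg.Agent.Lib.Helper25.PF127XSet
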