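import Mathlib
import Cfsg.Agent.Lib.Helper41.PIM.Defs

/-!
# PROJECT PIM (S4427), module [INTCL] (helper25): the local ring `O_M` is integrally closed in `ℂ`
-/

set_option autoImplicit false
set_option linter.unusedSectionVars false
set_option linter.style.haveILetI false

namespace Cfsg.Agent.Lib.Helper25.PIM

open Cfsg Cfsg.Agent.Lib.Helper16 Cfsg.Agent.Lib.Helper41.PIM

universe u

variable {G : Type u} [Group G] [Fintype G]

/-- the inclusion of the algebraic integers in the local ring at `M`. -/
noncomputable def algIntToLocal (M : Ideal AlgInt) [hMp : M.IsPrime] : AlgInt →+* localSubring M where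
  toFun a := ⟨(a : ℂ), memLocalRing_algInt hMp.ne_top a⟩
  map_one' := rfl
  map_mul' _ _ := rfl
  map_zero' := rfl
  map_add' _ _ := rfl

theorem coe_algIntToLocal (M : Ideal AlgInt) [M.IsPrime] (a : AlgInt) :
    ((algIntToLocal M a : localSubring M) : ℂ) = (a : ℂ) := rfl

/-- [INTCL] -/
theorem mem_localSubring_of_isIntegral (M : Ideal AlgInt) [M.IsPrime] {z : ℂ}
    (hz : IsIntegral (localSubring M) z) : z ∈ localSubring M := by
  letI : Algebra AlgInt (localSubring M) := (algIntToLocal M).toAlgebra
  haveI : IsScalarTower AlgInt (localSubring M) ℂ :=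
    IsScalarTower.of_algebraMap_eq (fun a => rfl)
  haveI : IsLocalization M.primeCompl (localSubring M) := by
    rw [isLocalization_iff]
    refine ⟨?_, ?_, ?_⟩
    · intro b
      apply isUnit_of_not_mem_localIdeal
      intro hmem
      have h1 : MemLocalIdeal M ((b : AlgInt) : ℂ) := hmem
      rw [memLocalIdeal_coe_iff] at h1
      exact b.2 h1
    · intro w
      obtain ⟨a, b, hb, hab⟩ := w.2
      refine ⟨(a, ⟨b, hb⟩), ?_⟩
      apply Subtype.ext
      have hb0 : (b : ℂ) ≠ 0 := coe_ne_zero_of_not_mem hb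
      show (w : ℂ) * (b : ℂ) = (a : ℂ)
      rw [← hab]
      field_simp
    · intro x y hxy
      refine ⟨1, ?_⟩
      have h1 : ((algIntToLocal M x : localSubring M) : ℂ) = ((algIntToLocal M y : localSubring M) : ℂ) :=
        congrArg Subtype.val hxy
      rw [coe_algIntToLocal, coe_algIntToLocal] at h1
      rw [Subtype.ext h1]
  obtain ⟨m, hm⟩ := IsIntegral.exists_multiple_integral_of_isLocalization M.primeCompl z hz
  have hm' : IsIntegral ℤ (m • z) := isIntegral_trans (A := AlgInt) _ hm
  have hmem : m • z ∈ AlgInt := (mem_integralClosure_iff ℤ ℂ).mpr hm'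
  have hb : (m : AlgInt) ∉ M := m.2
  have hb0 : ((m : AlgInt) : ℂ) ≠ 0 := coe_ne_zero_of_not_mem hb
  refine ⟨⟨m • z, hmem⟩, (m : AlgInt), hb, ?_⟩
  show m • z / ((m : AlgInt) : ℂ) = z
  have : m • z = ((m : AlgInt) : ℂ) * z := by
    rw [Submonoid.smul_def, Algebra.smul_def]
    rfl
  rw [this]
  field_simp

end Cfsg.Agent.Lib.Helper25.PIM
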