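import Mathlib
import Cfsg.Agent.Lib.Helper41.PIM.Defs

/-!
# PROJECT PIM (S4427), module [KPRIM] (helper25): a local idempotent for an augmentation

For a finite-dimensional algebra `A` over a field `k` with an algebra map `φ : A → k` there is
an idempotent `ε` with `φ ε = 1` such that every `c ∈ εAε` with `φ c ≠ 0` is right invertible
in `εAε`.
-/

set_option autoImplicit false
set_option linter.unusedSectionVars false

namespace Cfsg.Agent.Lib.Helper25.PIM

open Cfsg Cfsg.Agent.Lib.Helper16 Cfsg.Agent.Lib.Helper41.PIM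
open Polynomial

universe u

variable {G : Type u} [Group G] [Fintype G]

/-- In a finite-dimensional algebra the powers of an element stabilise:
`c^N = c^(N+1) b` with `b` commuting with `c`. -/
theorem exists_pow_eq_pow_succ_mul {k A : Type*} [Field k] [Ring A] [Algebra k A]
    [FiniteDimensional k A] (c : A) :
    ∃ (N : ℕ) (b : A), 0 < N ∧ Commute c b ∧ c ^ N = c ^ (N + 1) * b := by
  obtain ⟨P, hPmonic, hPc⟩ := Algebra.IsIntegral.isIntegral (R := k) c
  have hP0 : P ≠ 0 := hPmonic.ne_zero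
  obtain ⟨Q, hPQ, hQ⟩ := exists_eq_pow_rootMultiplicity_mul_and_not_dvd P hP0 0
  obtain ⟨n, hn⟩ : ∃ n, n = rootMultiplicity 0 P := ⟨_, rfl⟩
  rw [← hn, C_0, sub_zero] at hPQ
  rw [C_0, sub_zero] at hQ
  have hQ0 : Q.coeff 0 ≠ 0 := fun h => hQ (X_dvd_iff.mpr h)
  have hQ' := divX_mul_X_add Q
  have hcomm : c * aeval c Q.divX = aeval c Q.divX * c := by
    calc c * aeval c Q.divX = aeval c (X * Q.divX) := by rw [map_mul, aeval_X]
      _ = aeval c (Q.divX * X) := by rw [mul_comm]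
      _ = aeval c Q.divX * c := by rw [map_mul, aeval_X]
  have hc : c ^ n * (aeval c Q.divX * c + algebraMap k A (Q.coeff 0)) = 0 := by
    have h0 : aeval c P = 0 := hPc
    rw [hPQ, ← hQ'] at h0
    simpa [map_mul, map_add, map_pow, aeval_X, aeval_C] using h0
  obtain ⟨q0, hq0⟩ : ∃ q0, q0 = Q.coeff 0 := ⟨_, rfl⟩
  rw [← hq0] at hc hQ0
  obtain ⟨r, hr⟩ : ∃ r, r = aeval c Q.divX := ⟨_, rfl⟩
  rw [← hr] at hc hcomm
  -- `c^n = c^(n+1) * b` with `b = -(q0⁻¹ • r)`
  have hcomm' : Commute c r := hcomm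
  have hkey : c ^ n = c ^ (n + 1) * (-(q0⁻¹ • r)) := by
    have h1 : c ^ n * (r * c) + q0 • c ^ n = 0 := by
      rw [mul_add, ← Algebra.commutes] at hc
      rw [Algebra.smul_def]
      exact hc
    have h2 : q0 • c ^ n = -(c ^ (n + 1) * r) := by
      have : c ^ n * (r * c) = c ^ (n + 1) * r := by
        rw [← hcomm'.eq, ← mul_assoc, ← pow_succ]
      rw [this] at h1
      exact eq_neg_of_add_eq_zero_right h1
    have h3 : c ^ n = q0⁻¹ • (q0 • c ^ n) := by
      rw [smul_smul, inv_mul_cancel₀ hQ0, one_smul]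
    rw [h3, h2]
    simp [mul_neg]
  have hbcomm : Commute c (-(q0⁻¹ • r)) := (hcomm'.smul_right q0⁻¹).neg_right
  refine ⟨n + 1, -(q0⁻¹ • r), Nat.succ_pos n, hbcomm, ?_⟩
  rw [pow_succ' c (n + 1), mul_assoc, ← hkey, ← pow_succ']


/-- [KPRIM] -/
theorem exists_local_idem {k A : Type*} [Field k] [Ring A] [Algebra k A] [FiniteDimensional k A]
    (φ : A →ₐ[k] k) :
    ∃ ε : A, ε * ε = ε ∧ φ ε = 1 ∧
      ∀ c : A, ε * c * ε = c → φ c ≠ 0 → ∃ z : A, ε * z * ε = z ∧ c * z = ε := by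
  classical
  obtain ⟨d, hd⟩ : ∃ d : A → ℕ, d = fun e =>
      Module.finrank k (LinearMap.range (LinearMap.mulLeft k e)) := ⟨_, rfl⟩
  have hex : ∃ m, ∃ e : A, e * e = e ∧ φ e = 1 ∧ d e = m :=
    ⟨d 1, 1, one_mul 1, map_one φ, rfl⟩
  obtain ⟨ε, hε, hφε, hdε⟩ := Nat.find_spec hex
  have hmin : ∀ e : A, e * e = e → φ e = 1 → d ε ≤ d e := by
    intro e he hφe
    rw [hdε]
    exact Nat.find_min' hex ⟨e, he, hφe, rfl⟩
  have hmin' : ∀ e : A, e * e = e → φ e = 1 → ε * e = e → e * ε = e → e = ε := by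
    intro e he hφe h1 h2
    have hle : LinearMap.range (LinearMap.mulLeft k e) ≤
        LinearMap.range (LinearMap.mulLeft k ε) := by
      rintro _ ⟨a, rfl⟩
      refine ⟨e * a, ?_⟩
      simp only [LinearMap.mulLeft_apply]
      rw [← mul_assoc, h1]
    have hfin : Module.finrank k (LinearMap.range (LinearMap.mulLeft k e)) =
        Module.finrank k (LinearMap.range (LinearMap.mulLeft k ε)) := by
      have h3 := hmin e he hφe
      rw [hd] at h3
      exact le_antisymm (Submodule.finrank_mono hle) h3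
    have heq := Submodule.eq_of_le_of_finrank_eq hle hfin
    have hεmem : ε ∈ LinearMap.range (LinearMap.mulLeft k ε) :=
      ⟨ε, by simp only [LinearMap.mulLeft_apply]; exact hε⟩
    rw [← heq] at hεmem
    obtain ⟨a, ha⟩ := hεmem
    simp only [LinearMap.mulLeft_apply] at ha
    calc e = e * ε := h2.symm
      _ = e * (e * a) := by rw [ha]
      _ = e * a := by rw [← mul_assoc, he]
      _ = ε := ha
  refine ⟨ε, hε, hφε, ?_⟩
  intro c hc hφc
  have hεc : ε * c = c := by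
    calc ε * c = ε * (ε * c * ε) := by rw [hc]
      _ = ε * ε * c * ε := by simp only [mul_assoc]
      _ = c := by rw [hε, hc]
  have hcε : c * ε = c := by
    calc c * ε = ε * c * ε * ε := by rw [hc]
      _ = ε * c * (ε * ε) := by simp only [mul_assoc]
      _ = c := by rw [hε, hc]
  obtain ⟨N, b, hN, hcb, hpow⟩ := exists_pow_eq_pow_succ_mul (k := k) c
  have hpowj : ∀ j : ℕ, c ^ N = c ^ (N + j) * b ^ j := by
    intro j
    induction j with
    | zero => simp
    | succ j ih =>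
      calc c ^ N = c ^ (N + j) * b ^ j := ih
        _ = c ^ j * c ^ N * b ^ j := by rw [← pow_add, add_comm]
        _ = c ^ j * (c ^ (N + 1) * b) * b ^ j := by rw [← hpow]
        _ = (c ^ j * c ^ (N + 1)) * (b * b ^ j) := by simp only [mul_assoc]
        _ = c ^ (N + (j + 1)) * b ^ (j + 1) := by
            rw [← pow_add, ← pow_succ']
            have : j + (N + 1) = N + (j + 1) := by omega
            rw [this]
  obtain ⟨N', rfl⟩ : ∃ N', N = N' + 1 := ⟨N - 1, by omega⟩
  obtain ⟨e, hedef⟩ : ∃ e, e = c ^ (N' + 1) * b ^ (N' + 1) := ⟨_, rfl⟩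
  have hbc : b ^ (N' + 1) * c ^ (N' + 1) = c ^ (N' + 1) * b ^ (N' + 1) :=
    ((hcb.pow_pow (N' + 1) (N' + 1)).eq).symm
  have hcNe : c ^ (N' + 1) = c ^ (N' + 1) * e := by
    have h1 := hpowj (N' + 1)
    rw [pow_add c (N' + 1) (N' + 1), mul_assoc, ← hedef] at h1
    exact h1
  have he : e * e = e := by
    calc e * e = c ^ (N' + 1) * (b ^ (N' + 1) * c ^ (N' + 1)) * b ^ (N' + 1) := by
          rw [hedef]; simp only [mul_assoc]
      _ = c ^ (N' + 1) * (c ^ (N' + 1) * b ^ (N' + 1)) * b ^ (N' + 1) := by rw [hbc]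
      _ = c ^ (N' + 1) * e * b ^ (N' + 1) := by rw [← hedef]
      _ = c ^ (N' + 1) * b ^ (N' + 1) := by rw [← hcNe]
      _ = e := hedef.symm
  have hεcN : ε * c ^ (N' + 1) = c ^ (N' + 1) := by
    rw [pow_succ', ← mul_assoc, hεc]
  have hcNε : c ^ (N' + 1) * ε = c ^ (N' + 1) := by
    rw [pow_succ, mul_assoc, hcε]
  have hεe : ε * e = e := by
    rw [hedef, ← mul_assoc, hεcN]
  have heε : e * ε = e := by
    rw [hedef, ← hbc, mul_assoc, hcNε]
  have hφe : φ e = 1 := by
    have h1 := congrArg φ hcNe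
    rw [map_mul] at h1
    have h0 : φ (c ^ (N' + 1)) ≠ 0 := by
      rw [map_pow]
      exact pow_ne_zero _ hφc
    have h2 : φ (c ^ (N' + 1)) * 1 = φ (c ^ (N' + 1)) * φ e := by rw [mul_one]; exact h1
    exact (mul_left_cancel₀ h0 h2).symm
  have heq : e = ε := hmin' e he hφe hεe heε
  refine ⟨ε * (c ^ N' * b ^ (N' + 1)) * ε, ?_, ?_⟩
  · calc ε * (ε * (c ^ N' * b ^ (N' + 1)) * ε) * ε
        = (ε * ε) * (c ^ N' * b ^ (N' + 1)) * (ε * ε) := by simp only [mul_assoc]
      _ = ε * (c ^ N' * b ^ (N' + 1)) * ε := by rw [hε]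
  · calc c * (ε * (c ^ N' * b ^ (N' + 1)) * ε)
        = (c * ε) * (c ^ N' * b ^ (N' + 1)) * ε := by simp only [mul_assoc]
      _ = (c * c ^ N') * b ^ (N' + 1) * ε := by rw [hcε]; simp only [mul_assoc]
      _ = e * ε := by rw [← pow_succ', ← hedef]
      _ = ε := by rw [heε, heq]

end Cfsg.Agent.Lib.Helper25.PIM
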