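import Mathlib
import Cfsg.Agent.Lib.Helper41.PIM.Defs

/-!
# PROJECT PIM (S4427), module [NAK] (helper25): Nakayama for group rings

If `I ≤ rad O` and the reduction of `x ∈ O[G]` modulo `I` has a right inverse, then `x` has a
right inverse.
-/

set_option autoImplicit false
set_option linter.unusedSectionVars false

namespace Cfsg.Agent.Lib.Helper25.PIM

open Cfsg Cfsg.Agent.Lib.Helper16 Cfsg.Agent.Lib.Helper41.PIM

universe u

variable {G : Type u} [Group G] [Fintype G]

/-- every element of a group ring over a finite group is the sum of its monomials. -/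
theorem eq_sum_single {R : Type*} [Semiring R] (b : MonoidAlgebra R G) :
    b = ∑ g : G, MonoidAlgebra.single g (b.coeff g) := by
  conv_lhs => rw [← MonoidAlgebra.sum_coeff_single b]
  rw [Finsupp.sum_fintype]
  intro g
  simp

theorem mapRingHom_surjective {O : Type*} [CommRing O] (I : Ideal O)
    (b' : MonoidAlgebra (O ⧸ I) G) :
    ∃ b : MonoidAlgebra O G, MonoidAlgebra.mapRingHom G (Ideal.Quotient.mk I) b = b' := by
  choose f hf using (Ideal.Quotient.mk_surjective (I := I))
  refine ⟨∑ g : G, MonoidAlgebra.single g (f (b'.coeff g)), ?_⟩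
  rw [map_sum]
  simp only [MonoidAlgebra.mapRingHom_single, hf]
  exact (eq_sum_single b').symm

theorem mem_smul_top_of_map_eq_zero {O : Type*} [CommRing O] (I : Ideal O)
    (b : MonoidAlgebra O G)
    (hb : MonoidAlgebra.mapRingHom G (Ideal.Quotient.mk I) b = 0) :
    b ∈ I • (⊤ : Submodule O (MonoidAlgebra O G)) := by
  have hcoef : ∀ g : G, b.coeff g ∈ I := by
    intro g
    have h1 := MonoidAlgebra.coeff_mapRingHom (M := G) (Ideal.Quotient.mk I) b g
    rw [hb] at h1
    rw [← Ideal.Quotient.eq_zero_iff_mem]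
    simpa using h1.symm
  rw [eq_sum_single b]
  apply Submodule.sum_mem
  intro g _
  have : MonoidAlgebra.single g (b.coeff g) = (b.coeff g) • MonoidAlgebra.single g (1 : O) := by
    rw [MonoidAlgebra.smul_single, smul_eq_mul, mul_one]
  rw [this]
  exact Submodule.smul_mem_smul (hcoef g) Submodule.mem_top

/-- [NAK] -/
theorem exists_right_inv_of_red {O : Type*} [CommRing O] (I : Ideal O)
    (hI : I ≤ Ideal.jacobson ⊥) (x : MonoidAlgebra O G) (y' : MonoidAlgebra (O ⧸ I) G)
    (h : MonoidAlgebra.mapRingHom G (Ideal.Quotient.mk I) x * y' = 1) :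
    ∃ y : MonoidAlgebra O G, x * y = 1 := by
  obtain ⟨y₀, hy₀⟩ := mapRingHom_surjective I y'
  obtain ⟨w, hw⟩ : ∃ w, w = x * y₀ := ⟨_, rfl⟩
  have hπw : MonoidAlgebra.mapRingHom G (Ideal.Quotient.mk I) w = 1 := by
    rw [hw, map_mul, hy₀, h]
  have hfg : (⊤ : Submodule O (MonoidAlgebra O G)).FG := Module.Finite.fg_top
  have hle : (⊤ : Submodule O (MonoidAlgebra O G)) ≤
      LinearMap.range (LinearMap.mulLeft O w) ⊔ I • (⊤ : Submodule O (MonoidAlgebra O G)) := by
    intro a _
    have ha : a = w * a + (a - w * a) := by abel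
    rw [ha]
    apply Submodule.add_mem_sup
    · exact ⟨a, rfl⟩
    · apply mem_smul_top_of_map_eq_zero
      rw [map_sub, map_mul, hπw, one_mul, sub_self]
  have hall := Submodule.le_of_le_smul_of_le_jacobson_bot hfg hI hle
  obtain ⟨a, ha⟩ := hall (Submodule.mem_top : (1 : MonoidAlgebra O G) ∈ ⊤)
  refine ⟨y₀ * a, ?_⟩
  rw [← mul_assoc, ← hw]
  exact ha

end Cfsg.Agent.Lib.Helper25.PIM
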