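import Mathlib
import Cfsg.Agent.Lib.Helper26.PGV.End2Defs
import Cfsg.Agent.Lib.Helper6.PgvE5Alg

/-!
# S3086 END2, module PGV-[SIMPLE-STRUCT] (hedge by helper25): the structure of a `σ`-simple ring

`simple_struct` is the EXACT sheet statement (`notes/helper26_END2_SHEET.lean.txt`), in the nested namespace
`Cfsg.Agent.Lib.Helper26.PGV.H25`.  Pieces: `two_lt_card_of_perfect` (S5), `norm_mem_center` (S3a),
`twoSided_eq_bot_or_top` (S1), `size_le_two` (S3b), `fixed_iff_trace` (S4), `exists_matrix_equiv` (S2).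
-/

set_option autoImplicit false

namespace Cfsg.Agent.Lib.Helper26.PGV.H25

open Cfsg.Agent.Lib.Helper6.PGV

universe u


/-- a group of order `6` is solvable. -/
theorem isSolvable_of_card_eq_six {G : Type*} [Group G] (h6 : Nat.card G = 6) : Group.IsSolvable G := by
  have : Finite G := Nat.finite_of_card_ne_zero (by omega)
  have : Fact (Nat.Prime 3) := ⟨by norm_num⟩
  have : Fact (Nat.Prime 2) := ⟨by norm_num⟩
  obtain ⟨P, hP⟩ := Sylow.exists_subgroup_card_pow_prime (G := G) 3 (n := 1) (by rw [h6]; norm_num)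
  rw [pow_one] at hP
  have hidx : P.index = 2 := by
    have := P.card_mul_index
    rw [hP, h6] at this
    omega
  have hPn : P.Normal := Subgroup.normal_of_index_eq_two hidx
  have hPc : IsCyclic P := isCyclic_of_prime_card hP
  have hQc : IsCyclic (G ⧸ P) := by
    apply isCyclic_of_prime_card (p := 2)
    rw [← Subgroup.index_eq_card]
    exact hidx
  have hS1 : Group.IsSolvable P :=
    Group.isSolvable_of_comm (fun a b => (IsCyclic.commGroup (α := P)).mul_comm a b)
  have hS2 : Group.IsSolvable (G ⧸ P) :=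
    Group.isSolvable_of_comm (fun a b => (IsCyclic.commGroup (α := G ⧸ P)).mul_comm a b)
  refine Group.isSolvable_of_ker_le_range P.subtype (QuotientGroup.mk' P) ?_
  rw [QuotientGroup.ker_mk', Subgroup.range_subtype]

/-- (S5) a nontrivial perfect group of units of `M₂(F)` forces `|F| > 2`. -/
theorem two_lt_card_of_perfect {F : Type*} [Field F] [Finite F]
    (K : Subgroup (Matrix (Fin 2) (Fin 2) F)ˣ) (hKperf : ⁅K, K⁆ = K) (hKne : K ≠ ⊥) :
    2 < Nat.card F := by
  by_contra hle
  push Not at hle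
  have h1 : 1 < Nat.card F := Finite.one_lt_card
  have h2 : Nat.card F = 2 := by omega
  have : Fintype F := Fintype.ofFinite F
  have h6 : Nat.card (Matrix (Fin 2) (Fin 2) F)ˣ = 6 := by
    have := Matrix.card_GL_field (𝔽 := F) 2
    rw [← Nat.card_eq_fintype_card, h2] at this
    rw [this]
    simp [Fin.prod_univ_two]
  have := isSolvable_of_card_eq_six h6
  exact (Group.IsSolvable.commutator_lt_of_ne_bot hKne).ne hKperf




section antiinv

variable {R : Type*} [Ring R] (σ : R →+ R) (hσmul : ∀ x y, σ (x * y) = σ y * σ x)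
  (hσσ : ∀ x, σ (σ x) = x)

include hσmul hσσ

theorem sigma_one : σ 1 = 1 := by
  have h : ∀ x, σ 1 * x = x := by
    intro x
    have := hσmul (σ x) 1
    rw [mul_one, hσσ] at this
    exact this.symm
  have := h 1
  rwa [mul_one] at this

theorem sigma_mem_center {c : R} (hc : c ∈ Subring.center R) : σ c ∈ Subring.center R := by
  rw [Subring.mem_center_iff] at hc ⊢
  intro y
  have := hσmul c (σ y)
  have h2 := hσmul (σ y) c
  rw [hσσ] at this h2
  rw [← this, ← h2, hc (σ y)]

/-- (S3a) the norm `x * σ x` is central, given that it is on a spanning set closed... -/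
theorem norm_mem_center (hT : ∀ x, x + σ x ∈ Subring.center R) (S : Set R)
    (hS : AddSubgroup.closure S = ⊤) (hS1 : ∀ x ∈ S, x * σ x ∈ Subring.center R) (x : R) :
    x * σ x ∈ Subring.center R := by
  have hx : x ∈ AddSubgroup.closure S := by rw [hS]; trivial
  induction hx using AddSubgroup.closure_induction with
  | mem x hx => exact hS1 x hx
  | zero => simp
  | add x y _ _ ihx ihy =>
    have h : (x + y) * σ (x + y) = x * σ x + y * σ y + (x * σ y + σ (x * σ y)) := by
      rw [hσmul, hσσ, map_add]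
      noncomm_ring
    rw [h]
    exact Subring.add_mem _ (Subring.add_mem _ ihx ihy) (hT _)
  | neg x _ ih =>
    have h : (-x) * σ (-x) = x * σ x := by
      rw [map_neg]
      noncomm_ring
    rw [h]
    exact ih

/-- (S1) a `σ`-simple ring with central traces that is not commutative has no proper two-sided ideals. -/
theorem twoSided_eq_bot_or_top (hT : ∀ x, x + σ x ∈ Subring.center R)
    (hsimple : ∀ I : AddSubgroup R, IsTwoSided I → (∀ x ∈ I, σ x ∈ I) → I = ⊥ ∨ I = ⊤)
    (hnc : ¬ ∀ a b : R, a * b = b * a) (P : AddSubgroup R) (hP : IsTwoSided P) :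
    P = ⊥ ∨ P = ⊤ := by
  by_contra hcon
  push Not at hcon
  obtain ⟨hPbot, hPtop⟩ := hcon
  obtain ⟨Q, hQdef⟩ : ∃ Q : AddSubgroup R, Q = P.map σ := ⟨_, rfl⟩
  have hQiff : ∀ x, x ∈ Q ↔ σ x ∈ P := by
    intro x
    rw [hQdef]
    constructor
    · rintro ⟨p, hp, rfl⟩
      rw [hσσ]; exact hp
    · intro h
      exact ⟨σ x, h, hσσ x⟩
  have hQ : IsTwoSided Q := by
    intro x hx y
    rw [hQiff] at hx
    rw [hQiff, hQiff, hσmul, hσmul]
    exact ⟨(hP _ hx (σ y)).2, (hP _ hx (σ y)).1⟩
  -- the intersection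
  have hinf : P ⊓ Q = ⊥ := by
    have h1 : IsTwoSided (P ⊓ Q) := by
      intro x hx y
      exact ⟨⟨(hP x hx.1 y).1, (hQ x hx.2 y).1⟩, ⟨(hP x hx.1 y).2, (hQ x hx.2 y).2⟩⟩
    have h2 : ∀ x ∈ P ⊓ Q, σ x ∈ P ⊓ Q := by
      intro x hx
      refine ⟨(hQiff x).1 hx.2, ?_⟩
      change σ x ∈ Q
      rw [hQiff, hσσ]; exact hx.1
    rcases hsimple _ h1 h2 with h | h
    · exact h
    · exact absurd (top_le_iff.1 (h ▸ inf_le_left)) hPtop
  have hsup : P ⊔ Q = ⊤ := by
    have h1 : IsTwoSided (P ⊔ Q) := by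
      intro x hx y
      obtain ⟨p, hp, q, hq, rfl⟩ := AddSubgroup.mem_sup.1 hx
      rw [mul_add, add_mul]
      exact ⟨AddSubgroup.mem_sup.2 ⟨_, (hP p hp y).1, _, (hQ q hq y).1, rfl⟩,
        AddSubgroup.mem_sup.2 ⟨_, (hP p hp y).2, _, (hQ q hq y).2, rfl⟩⟩
    have h2 : ∀ x ∈ P ⊔ Q, σ x ∈ P ⊔ Q := by
      intro x hx
      obtain ⟨p, hp, q, hq, rfl⟩ := AddSubgroup.mem_sup.1 hx
      rw [map_add, add_comm]
      refine AddSubgroup.mem_sup.2 ⟨_, (hQiff q).1 hq, _, ?_, rfl⟩
      rw [hQiff, hσσ]; exact hp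
    rcases hsimple _ h1 h2 with h | h
    · exact absurd (le_bot_iff.1 (h ▸ le_sup_left)) hPbot
    · exact h
  have hdisj : ∀ z, z ∈ P → z ∈ Q → z = 0 := by
    intro z h1 h2
    have : z ∈ P ⊓ Q := ⟨h1, h2⟩
    rw [hinf] at this
    exact this
  obtain ⟨e, he, e', he', hee'⟩ := AddSubgroup.mem_sup.1 (hsup ▸ AddSubgroup.mem_top (1 : R))
  have hPr : ∀ x ∈ P, x * e = x := by
    intro x hx
    have h0 : x * e' = 0 := hdisj _ (hP x hx e').2 (hQ e' he' x).1
    have : x * (e + e') = x := by rw [hee', mul_one]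
    rw [mul_add, h0, add_zero] at this
    exact this
  have hPl : ∀ x ∈ P, e * x = x := by
    intro x hx
    have h0 : e' * x = 0 := hdisj _ (hP x hx e').1 (hQ e' he' x).2
    have : (e + e') * x = x := by rw [hee', one_mul]
    rw [add_mul, h0, add_zero] at this
    exact this
  have hecen : e ∈ Subring.center R := by
    rw [Subring.mem_center_iff]
    intro y
    have h1 := hPl _ (hP e he y).1
    have h2 := hPr _ (hP e he y).2
    rw [← h1, ← mul_assoc, h2]
  have horth : e * σ e = 0 := by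
    refine hdisj _ (hP e he _).2 ?_
    have : σ e ∈ Q := by rw [hQiff, hσσ]; exact he
    exact (hQ _ this e).1
  have hcen : ∀ x, e * x = x → x ∈ Subring.center R :=
    fun x hx => central_of_swapped_idempotent σ hσmul hT e hecen horth x hx
  apply hnc
  have hall : ∀ y : R, y ∈ Subring.center R := by
    intro y
    have hy : y = e * y + e' * y := by rw [← add_mul, hee', one_mul]
    rw [hy]
    refine Subring.add_mem _ (hcen _ (hPl _ (hP e he y).2)) ?_
    have h1 : σ (e' * y) ∈ P := (hQiff _).1 (hQ e' he' y).2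
    have h2 := sigma_mem_center σ hσmul hσσ (hcen _ (hPl _ h1))
    rwa [hσσ] at h2
  intro a b
  exact (Subring.mem_center_iff.1 (hall b)) a

end antiinv




section matrix

variable {F : Type*} [Field F] {n : ℕ}

theorem mem_center_matrix_iff (x : Matrix (Fin n) (Fin n) F) :
    x ∈ Subring.center (Matrix (Fin n) (Fin n) F) ↔ ∃ c : F, x = c • (1 : Matrix (Fin n) (Fin n) F) := by
  have h : x ∈ Subring.center (Matrix (Fin n) (Fin n) F) ↔ x ∈ Set.center (Matrix (Fin n) (Fin n) F) :=
    Iff.rfl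
  rw [h, Matrix.center_eq_range]
  constructor
  · rintro ⟨c, rfl⟩
    exact ⟨c, by rw [Matrix.smul_one_eq_diagonal]; rfl⟩
  · rintro ⟨c, rfl⟩
    exact ⟨c, by rw [Matrix.smul_one_eq_diagonal]; rfl⟩

variable (τ : Matrix (Fin n) (Fin n) F →+ Matrix (Fin n) (Fin n) F)
  (hT : ∀ x, x + τ x ∈ Subring.center (Matrix (Fin n) (Fin n) F))
  (hN : ∀ x, x * τ x ∈ Subring.center (Matrix (Fin n) (Fin n) F))

include hT hN in
/-- (S3b) central trace and norm force `n ≤ 2`. -/
theorem size_le_two : n ≤ 2 := by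
  refine le_two_of_forall_quadratic (F := F) (fun ξ => ?_)
  obtain ⟨s, hs⟩ := (mem_center_matrix_iff _).1 (hT ξ)
  obtain ⟨t, ht⟩ := (mem_center_matrix_iff _).1 (hN ξ)
  refine ⟨-s, t, ?_⟩
  have := quad_relation τ ξ (hT ξ)
  rw [hs, ht, smul_mul_assoc, one_mul] at this
  rw [neg_smul, ← sub_eq_add_neg]
  exact this

end matrix

section two

variable {F : Type*} [Field F] [CharP F 2]
  (τ : Matrix (Fin 2) (Fin 2) F →+ Matrix (Fin 2) (Fin 2) F)
  (hτmul : ∀ x y, τ (x * y) = τ y * τ x) (hτ2 : ∀ x, τ (τ x) = x)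
  (hT : ∀ x, x + τ x ∈ Subring.center (Matrix (Fin 2) (Fin 2) F))
  (hN : ∀ x, x * τ x ∈ Subring.center (Matrix (Fin 2) (Fin 2) F))

omit [CharP F 2] in
theorem single_ne_scalar (c : F) :
    (Matrix.single (0 : Fin 2) (1 : Fin 2) (1 : F)) ≠ c • (1 : Matrix (Fin 2) (Fin 2) F) := by
  intro h
  have := congrFun (congrFun h 0) 1
  simp at this

theorem add_self_matrix (x : Matrix (Fin 2) (Fin 2) F) : x + x = 0 := by
  ext i j
  simp [CharTwo.add_self_eq_zero]

omit [CharP F 2] in
include hτmul hT in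
/-- `τ` fixes the scalars. -/
theorem tau_scalar (c : F) : τ (c • (1 : Matrix (Fin 2) (Fin 2) F)) = c • (1 : Matrix (Fin 2) (Fin 2) F) := by
  have hc : c • (1 : Matrix (Fin 2) (Fin 2) F) ∈ Subring.center (Matrix (Fin 2) (Fin 2) F) :=
    (mem_center_matrix_iff _).2 ⟨c, rfl⟩
  have hτc : τ (c • (1 : Matrix (Fin 2) (Fin 2) F)) ∈ Subring.center (Matrix (Fin 2) (Fin 2) F) := by
    have := Subring.sub_mem _ (hT (c • (1 : Matrix (Fin 2) (Fin 2) F))) hc
    rwa [add_sub_cancel_left] at this
  refine sigma_eq_self_of_central τ hτmul hT _ hc hτc (Matrix.single (0 : Fin 2) (1 : Fin 2) (1 : F)) ?_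
  intro z hz hzξ
  obtain ⟨a, rfl⟩ := (mem_center_matrix_iff _).1 hz
  obtain ⟨d, hd⟩ := (mem_center_matrix_iff _).1 hzξ
  rw [smul_mul_assoc, one_mul] at hd
  rw [eq_zero_of_smul_scalar _ single_ne_scalar a d hd, zero_smul]

include hτmul hT hN in
/-- (S4) the fixed points of `τ` are the matrices of trace `0`. -/
theorem fixed_iff_trace (x : Matrix (Fin 2) (Fin 2) F) : τ x = x ↔ x.trace = 0 := by
  by_cases hsc : ∃ c : F, x = c • (1 : Matrix (Fin 2) (Fin 2) F)
  · obtain ⟨c, rfl⟩ := hsc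
    refine iff_of_true (tau_scalar τ hτmul hT c) ?_
    rw [Matrix.trace_smul, Matrix.trace_one, Fintype.card_fin, smul_eq_mul]
    have : ((2 : ℕ) : F) = 0 := CharP.cast_eq_zero F 2
    rw [this, mul_zero]
  · push Not at hsc
    obtain ⟨T, hTx⟩ := (mem_center_matrix_iff _).1 (hT x)
    obtain ⟨N, hNx⟩ := (mem_center_matrix_iff _).1 (hN x)
    have hq := quad_relation τ x (hT x)
    rw [hTx, hNx, smul_mul_assoc, one_mul] at hq
    obtain ⟨hTtr, -⟩ := trace_eq_of_quadratic x hsc T N hq
    rw [← hTtr]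
    constructor
    · intro h
      rw [h, add_self_matrix] at hTx
      by_contra hT0
      have h1 : (1 : Matrix (Fin 2) (Fin 2) F) = 0 := by
        have := congrArg (fun m => T⁻¹ • m) hTx
        simp only [smul_zero, smul_smul, inv_mul_cancel₀ hT0, one_smul] at this
        exact this.symm
      exact one_ne_zero h1
    · intro h
      rw [h, zero_smul] at hTx
      have := add_self_matrix x
      rw [← hTx] at this
      exact (add_left_cancel this).symm

end two


section wedderburn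

/-- (S2) a finite ring without proper two-sided ideals is a matrix ring over a finite field. -/
theorem exists_matrix_equiv {R : Type u} [Ring R] [Finite R] [Nontrivial R]
    (h : ∀ P : AddSubgroup R, IsTwoSided P → P = ⊥ ∨ P = ⊤) :
    ∃ (n : ℕ) (_ : NeZero n) (F : Type u) (_ : Field F) (_ : Finite F),
      Nonempty (R ≃+* Matrix (Fin n) (Fin n) F) := by
  have hsimp : IsSimpleRing R := by
    refine isSimpleRing_iff_isTwoSided_imp.2 ⟨inferInstance, fun I hI => ?_⟩
    have hP : IsTwoSided I.toAddSubgroup := by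
      intro x hx y
      exact ⟨I.mul_mem_left y hx, I.mul_mem_right y hx⟩
    rcases h _ hP with h0 | h1
    · left
      ext x
      have : x ∈ I.toAddSubgroup ↔ x ∈ (⊥ : AddSubgroup R) := by rw [h0]
      simpa using this
    · right
      ext x
      have : x ∈ I.toAddSubgroup ↔ x ∈ (⊤ : AddSubgroup R) := by rw [h1]
      simpa using this
  obtain ⟨n, hn, D, hD, ⟨φ⟩⟩ := IsSimpleRing.exists_ringEquiv_matrix_divisionRing R
  have hfinM : Finite (Matrix (Fin n) (Fin n) D) := Finite.of_equiv R φ.toEquiv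
  have hfinD : Finite D :=
    Finite.of_surjective (fun M : Matrix (Fin n) (Fin n) D => M 0 0) (fun d => ⟨fun _ _ => d, rfl⟩)
  exact ⟨n, hn, D, littleWedderburn D, hfinD, ⟨φ⟩⟩

end wedderburn

section transport

variable {R : Type*} [Ring R] {S : Type*} [Ring S] (φ : R ≃+* S)

theorem map_mem_center {c : R} (hc : c ∈ Subring.center R) : φ c ∈ Subring.center S := by
  rw [Subring.mem_center_iff] at hc ⊢
  intro y
  have := congrArg φ (hc (φ.symm y))
  rwa [map_mul, map_mul, RingEquiv.apply_symm_apply] at this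

/-- the transported anti-involution. -/
def transportHom (σ : R →+ R) : S →+ S :=
  (φ : R →+ S).comp (σ.comp (φ.symm : S →+ R))

theorem transportHom_apply (σ : R →+ R) (y : S) : transportHom φ σ y = φ (σ (φ.symm y)) := rfl

end transport

/-- `1 × 1` matrices commute. -/
theorem matrix_one_comm {F : Type*} [Field F] (a b : Matrix (Fin 1) (Fin 1) F) : a * b = b * a := by
  ext i j
  obtain rfl : i = 0 := Subsingleton.elim _ _
  obtain rfl : j = 0 := Subsingleton.elim _ _
  simp [Matrix.mul_apply, mul_comm]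

/-- **PGV-[SIMPLE-STRUCT]** (exact sheet statement). -/
theorem simple_struct {R : Type u} [Ring R] [Finite R] (h2 : (2 : R) = 0)
    (σ : R →+ R) (hσmul : ∀ x y, σ (x * y) = σ y * σ x) (hσσ : ∀ x, σ (σ x) = x)
    (hT : ∀ x, x + σ x ∈ Subring.center R)
    (K : Subgroup Rˣ) (hKspan : AddSubgroup.closure {x : R | ∃ u ∈ K, (u : R) = x} = ⊤)
    (hKσ : ∀ u ∈ K, σ (u : R) = ((u⁻¹ : Rˣ) : R))
    (hKperf : ⁅K, K⁆ = K) (hKne : K ≠ ⊥)
    (hsimple : ∀ I : AddSubgroup R, IsTwoSided I → (∀ x ∈ I, σ x ∈ I) → I = ⊥ ∨ I = ⊤) :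
    ∃ (F : Type u) (_ : Field F) (_ : Finite F) (_ : CharP F 2) (φ : R ≃+* Matrix (Fin 2) (Fin 2) F),
      2 < Nat.card F ∧ ∀ x, σ x = x ↔ (φ x).trace = 0 := by
  -- the norm is central
  have hN : ∀ x, x * σ x ∈ Subring.center R := by
    refine norm_mem_center σ hσmul hσσ hT _ hKspan ?_
    rintro x ⟨u, hu, rfl⟩
    rw [hKσ u hu, Units.mul_inv]
    exact Subring.one_mem _
  -- `R` is not commutative
  have hnc : ¬ ∀ a b : R, a * b = b * a := by
    intro hc
    apply hKne
    rw [← hKperf, Subgroup.commutator_eq_bot_iff_le_centralizer]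
    intro u _ v _
    exact Units.ext (hc _ _)
  have hnt : Nontrivial R := by
    by_contra hnt
    rw [not_nontrivial_iff_subsingleton] at hnt
    exact hnc (fun a b => Subsingleton.elim _ _)
  -- `R` is simple, hence a matrix ring
  obtain ⟨n, hn, F, hF, hFfin, ⟨φ⟩⟩ :=
    exists_matrix_equiv (twoSided_eq_bot_or_top σ hσmul hσσ hT hsimple hnc)
  -- transported structure
  obtain ⟨τ, hτdef⟩ : ∃ τ : Matrix (Fin n) (Fin n) F →+ Matrix (Fin n) (Fin n) F,
      τ = transportHom φ σ := ⟨_, rfl⟩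
  have hτ : ∀ y, τ y = φ (σ (φ.symm y)) := fun y => by rw [hτdef]; rfl
  have hτmul : ∀ x y, τ (x * y) = τ y * τ x := by
    intro x y
    rw [hτ, hτ, hτ, map_mul, hσmul, map_mul]
  have hτ2 : ∀ x, τ (τ x) = x := by
    intro x
    rw [hτ, hτ, RingEquiv.symm_apply_apply, hσσ, RingEquiv.apply_symm_apply]
  have hTτ : ∀ x, x + τ x ∈ Subring.center (Matrix (Fin n) (Fin n) F) := by
    intro x
    have := map_mem_center φ (hT (φ.symm x))
    rwa [map_add, RingEquiv.apply_symm_apply, ← hτ] at this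
  have hNτ : ∀ x, x * τ x ∈ Subring.center (Matrix (Fin n) (Fin n) F) := by
    intro x
    have := map_mem_center φ (hN (φ.symm x))
    rwa [map_mul, RingEquiv.apply_symm_apply, ← hτ] at this
  -- `n = 2`
  have hle : n ≤ 2 := size_le_two τ hTτ hNτ
  have hn0 : n ≠ 0 := hn.out
  have hn1 : n ≠ 1 := by
    rintro rfl
    apply hnc
    intro a b
    apply φ.injective
    rw [map_mul, map_mul]
    exact matrix_one_comm _ _
  obtain rfl : n = 2 := by omega
  -- characteristic 2
  have h2F : (2 : F) = 0 := by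
    have h : φ (1 + 1) = 0 := by rw [one_add_one_eq_two, h2, map_zero]
    rw [map_add, map_one] at h
    have h00 := congrFun (congrFun h 0) 0
    have h11 : (1 : F) + 1 = 0 := by simpa using h00
    calc (2 : F) = 1 + 1 := (one_add_one_eq_two).symm
      _ = 0 := h11
  have hchar : CharP F 2 := CharTwo.of_one_ne_zero_of_two_eq_zero one_ne_zero h2F
  refine ⟨F, hF, hFfin, hchar, φ, ?_, ?_⟩
  · -- `|F| > 2`
    obtain ⟨f, hfdef⟩ : ∃ f : Rˣ →* (Matrix (Fin 2) (Fin 2) F)ˣ, f = Units.map φ.toMonoidHom := ⟨_, rfl⟩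
    have hfinj : Function.Injective f := by
      rw [hfdef]
      intro u v huv
      apply Units.ext
      apply φ.injective
      have := congrArg Units.val huv
      simpa using this
    refine two_lt_card_of_perfect (K.map f) ?_ ?_
    · rw [← Subgroup.map_commutator, hKperf]
    · rwa [Ne, Subgroup.map_eq_bot_iff_of_injective K hfinj]
  · intro x
    rw [← fixed_iff_trace τ hτmul hTτ hNτ (φ x), hτ, RingEquiv.symm_apply_apply]
    exact ⟨fun h => by rw [h], fun h => φ.injective h⟩

end Cfsg.Agent.Lib.Helper26.PGV.H25
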