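import Mathlib
import Cfsg.Agent.Lib.Helper25.PgvSimpleStruct
import Cfsg.Agent.Lib.Helper94.PgvEnd2Glue

/-!
# S3086 END2: the closed END2 chain (helper25)

`H25.simple_struct` (Lib/Helper25/PgvSimpleStruct.lean) discharges the hypothesis `SimpleStruct` of helper94's glue
(`Lib/Helper94/PgvEnd2Glue.lean`), which gives the EXACT sheet statements `simple_thm`, `ring_thm`, `end2_abs`,
`end2_insitu` of `notes/helper26_END2_SHEET.lean.txt` with no hypotheses left.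
-/

set_option autoImplicit false

namespace Cfsg.Agent.Lib.Helper26.PGV.H25

open Cfsg Cfsg.Agent.Lib.Helper26.PGV

universe u v

/-- helper94's `SimpleStruct` holds. -/
theorem simpleStruct_holds : Cfsg.Agent.Lib.Helper94.PGV.SimpleStruct.{u} :=
  fun h2 σ hσmul hσσ hT K hKspan hKσ hKperf hKne hsimple =>
    simple_struct h2 σ hσmul hσσ hT K hKspan hKσ hKperf hKne hsimple

/-- **PGV-[SIMPLE-THM]**, exact sheet statement. -/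
theorem simple_thm {R : Type u} [Ring R] [Finite R] (h2 : (2 : R) = 0)
    (σ : R →+ R) (hσmul : ∀ x y, σ (x * y) = σ y * σ x) (hσσ : ∀ x, σ (σ x) = x)
    (hT : ∀ x, x + σ x ∈ Subring.center R)
    (K : Subgroup Rˣ) (hKspan : AddSubgroup.closure {x : R | ∃ u ∈ K, (u : R) = x} = ⊤)
    (hKσ : ∀ u ∈ K, σ (u : R) = ((u⁻¹ : Rˣ) : R))
    (hKperf : ⁅K, K⁆ = K) (hKne : K ≠ ⊥)
    (hsimple : ∀ I : AddSubgroup R, IsTwoSided I → (∀ x ∈ I, σ x ∈ I) → I = ⊥ ∨ I = ⊤)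
    (B : Subgroup (RingAut R)) (hB2 : ∀ b ∈ B, b * b = 1) :
    2 * Nat.card B * Nat.card {x : R // σ x = x ∧ ∀ b ∈ B, b x = x} < Nat.card R :=
  Cfsg.Agent.Lib.Helper94.PGV.simple_thm_of_struct simpleStruct_holds h2 σ hσmul hσσ hT K hKspan hKσ hKperf hKne
    hsimple B hB2

/-- **PGV-[RING-THM]**, exact sheet statement. -/
theorem ring_thm {R : Type u} [Ring R] [Finite R] (h2 : (2 : R) = 0)
    (σ : R →+ R) (hσmul : ∀ x y, σ (x * y) = σ y * σ x) (hσσ : ∀ x, σ (σ x) = x)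
    (hT : ∀ x, x + σ x ∈ Subring.center R)
    (K : Subgroup Rˣ) (hKspan : AddSubgroup.closure {x : R | ∃ u ∈ K, (u : R) = x} = ⊤)
    (hKσ : ∀ u ∈ K, σ (u : R) = ((u⁻¹ : Rˣ) : R))
    (hKperf : ⁅K, K⁆ = K) (hKne : K ≠ ⊥)
    (B : Subgroup (RingAut R)) (hB2 : ∀ b ∈ B, b * b = 1)
    (hBσ : ∀ b ∈ B, ∀ x, b (σ x) = σ (b x))
    (hBK : ∀ b ∈ B, ∀ u ∈ K, ∃ u' ∈ K, (u' : R) = b (u : R))
    (hsimple : ∀ I : AddSubgroup R, IsTwoSided I → (∀ x ∈ I, σ x ∈ I) →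
        (∀ b ∈ B, ∀ x ∈ I, b x ∈ I) → I = ⊥ ∨ I = ⊤) :
    2 * Nat.card B * Nat.card {x : R // σ x = x ∧ ∀ b ∈ B, b x = x} < Nat.card R :=
  Cfsg.Agent.Lib.Helper94.PGV.ringThm_of_struct simpleStruct_holds h2 σ hσmul hσσ hT K hKspan hKσ hKperf hKne B hB2
    hBσ hBK hsimple

/-- **END2, abstract form**, exact sheet statement. -/
theorem end2_abs {H : Type*} {W : Type u} [Group H] [AddCommGroup W] [Module (ZMod 2) W]
    (r : Representation (ZMod 2) H W) (K B : Subgroup H) (a : H) [Finite H] [Finite W] (c : Cfg r K B a) :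
    2 * Nat.card B * Nat.card {w : W // r a w = w ∧ ∀ b ∈ B, r b w = w} < Nat.card W :=
  Cfsg.Agent.Lib.Helper94.PGV.end2_abs_of_struct r K B a simpleStruct_holds c

/-- **END2, in-situ form (THE interface RED -> END2)**, exact sheet statement. -/
theorem end2_insitu {G V : Type*} [Group G] [Finite G] [AddCommGroup V] [Module (ZMod 2) V] [Finite V]
    (ρ : Representation (ZMod 2) G V) (K B : Subgroup G) (a : G)
    (ha2 : a * a = 1)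
    (hKqs : IsQuasisimple K)
    (hcomm : ∀ x ∈ K, ∀ y ∈ K, x * (a * y * a⁻¹) = (a * y * a⁻¹) * x)
    (hB2 : ∀ b ∈ B, b * b = 1)
    (hBa : ∀ b ∈ B, b * a = a * b)
    (hBK : ∀ b ∈ B, ∀ x ∈ K, b * x * b⁻¹ ∈ K)
    (hBfaith : ∀ b ∈ B, (∀ x ∈ K, b * x * b⁻¹ = x) → b = 1)
    (V₁ V₂ : Submodule (ZMod 2) V) (h21 : V₂ ≤ V₁)
    (hV₁ : ∀ g, (g ∈ K ∨ g ∈ B ∨ g = a) → ∀ v ∈ V₁, ρ g v ∈ V₁)
    (hV₂ : ∀ g, (g ∈ K ∨ g ∈ B ∨ g = a) → ∀ v ∈ V₂, ρ g v ∈ V₂)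
    (hirr : ∀ U : Submodule (ZMod 2) V, V₂ ≤ U → U ≤ V₁ →
        (∀ g, (g ∈ K ∨ g ∈ B ∨ g = a) → ∀ v ∈ U, ρ g v ∈ U) → U = V₂ ∨ U = V₁)
    (hKnt : ∃ x ∈ K, ∃ v ∈ V₁, ρ x v - v ∉ V₂)
    (hHD : ∀ x ∈ K, ∀ v ∈ V₁, ρ (x * (a * x * a⁻¹)) (ρ a v - v) - (ρ a v - v) ∈ V₂) :
    2 * Nat.card B * Nat.card {v : V // v ∈ V₁ ∧ ρ a v - v ∈ V₂ ∧ ∀ b ∈ B, ρ b v - v ∈ V₂} < Nat.card V₁ :=
  Cfsg.Agent.Lib.Helper94.PGV.end2_insitu_of_struct simpleStruct_holds ρ K B a ha2 hKqs hcomm hB2 hBa hBK hBfaith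
    V₁ V₂ h21 hV₁ hV₂ hirr hKnt hHD

end Cfsg.Agent.Lib.Helper26.PGV.H25
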