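import Mathlib
import Cfsg.Prelude.Def_Local
import Cfsg.Prelude.Def_Transfer
import Cfsg.Agent.Lib.Helper41.PGV.Defs
import Cfsg.Agent.Lib.Helper22.Components
import Cfsg.Agent.Lib.Helper61.PGV.Podd

/-!
# Project PGV (S3086), sub-project RED: hedge of the leaf PGV-[ODD-ASM] (helper25)

`p` odd: there is no counterexample.  `_of` form: the leaves `timmesfeld_rep` ([T4-REP]),
`red_Q` ([RED-Q]), `comm_gen` ([RED-D-COR]) and `components_commute` ([T5-DISTINCT]) of the sheet
enter as hypotheses in the shape of the sheet; PODD (helper61) is imported.  Exact statement: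
```
theorem ce_false_odd (hp : p ≠ 2) (h : CE ρ A K1 a) : False :=
  H25.ce_false_odd_of hp (fun hL hM hne => components_commute hL hM hne)
    (timmesfeld_rep h.inj h.el h.off) (fun q hqA hquad => red_Q hp h q hqA hquad)
    (fun q hqA hq1 hqN => comm_gen h q hqA hq1 hqN) h
```
-/

set_option autoImplicit false

universe v

namespace Cfsg.Agent.Lib.Helper41.PGV.H25

open Cfsg Cfsg.Agent.Lib.Helper41.PGV

variable {p : ℕ} [Fact p.Prime] {G V : Type v} [Group G] [Finite G] [AddCommGroup V]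
  [Module (ZMod p) V] {ρ : Representation (ZMod p) G V} {A K1 : Subgroup G} {a : G}

/-- **[ODD-ASM]** (`_of` form): `p` odd, no counterexample. -/
theorem ce_false_odd_of (hp : p ≠ 2)
    (hcc : ∀ {L M : Subgroup G}, IsComponent L → IsComponent M → L ≠ M →
      ∀ x ∈ L, ∀ y ∈ M, x * y = y * x)
    (htim : A ≠ ⊥ → ∃ Q : Subgroup G, (∀ q, q ∈ Q ↔ q ∈ A ∧ QuadOn ρ A q) ∧ Q ≠ ⊥ ∧
      BestOffender ρ Q)
    (hredQ : ∀ q : G, q ∈ A → QuadOn ρ A q → q ∈ Subgroup.normalizer (K1 : Set G))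
    (hcg : ∀ q : G, q ∈ A → q ≠ 1 → q ∈ Subgroup.normalizer (K1 : Set G) →
      K1 ≤ Subgroup.closure {u | ∃ x ∈ K1, u = q⁻¹ * x⁻¹ * q * x})
    (h : CE ρ A K1 a) : False := by
  have hA : A ≠ ⊥ := by
    intro hbot
    have ha : a = 1 := by
      have := h.mem
      rw [hbot, Subgroup.mem_bot] at this
      exact this
    apply h.move
    rw [ha]
    ext x
    simp
  obtain ⟨Q, hQmem, hQne, -⟩ := htim hA
  obtain ⟨q, hq1⟩ := (Subgroup.ne_bot_iff_exists_ne_one).1 hQne
  have hq1' : (q : G) ≠ 1 := fun hh => hq1 (Subtype.ext hh)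
  obtain ⟨hqA, hquad⟩ := (hQmem q).1 q.2
  have hqN := hredQ q hqA hquad
  have hgen := hcg q hqA hq1' hqN
  have hN1 : ∀ x ∈ K1, (q : G) * x * (q : G)⁻¹ ∈ K1 := fun x hx =>
    (Subgroup.mem_normalizer_iff.1 hqN x).1 hx
  have hN2 : ∀ x ∈ K1, (q : G)⁻¹ * x * (q : G) ∈ K1 := by
    intro x hx
    have hqi : (q : G)⁻¹ ∈ Subgroup.normalizer (K1 : Set G) := Subgroup.inv_mem _ hqN
    have := (Subgroup.mem_normalizer_iff.1 hqi x).1 hx
    rwa [inv_inv] at this
  have hqa : (q : G) * a = a * (q : G) := by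
    have hcomm := h.el.1
    have := hcomm.is_comm.comm (⟨q, hqA⟩ : A) ⟨a, h.mem⟩
    exact congrArg Subtype.val this
  have hconj : IsComponent (K1.map (MulAut.conj a).toMonoidHom) :=
    Cfsg.Agent.Lib.Helper22.component_conj h.comp a
  have hcomm : ∀ x ∈ K1, ∀ y ∈ K1, x * (a * y * a⁻¹) = (a * y * a⁻¹) * x := by
    intro x hx y hy
    have hay : a * y * a⁻¹ ∈ K1.map (MulAut.conj a).toMonoidHom :=
      ⟨y, hy, by simp [MulAut.conj_apply]⟩
    exact (hcc hconj h.comp h.move _ hay x hx).symm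
  have hqq : (ρ q - 1) * (ρ q - 1) = 0 := hquad q hqA
  have hqaa : (ρ q - 1) * (ρ a - 1) = 0 := hquad a h.mem
  have hρc : ρ a * ρ q = ρ q * ρ a := by
    rw [← map_mul, ← map_mul, hqa]
  have haq : (ρ a - 1) * (ρ q - 1) = 0 := by
    have e : (ρ a - 1) * (ρ q - 1) = (ρ q - 1) * (ρ a - 1) := by
      simp only [sub_mul, mul_sub, mul_one, one_mul, hρc]
      abel
    rw [e, hqaa]
  have hquad' : ∀ v, ρ q (ρ q v - v) = ρ q v - v := by
    intro v
    have := congrArg (fun f : Module.End (ZMod p) V => f v) hqq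
    simp only [Module.End.mul_apply, LinearMap.sub_apply, Module.End.one_apply,
      LinearMap.zero_apply] at this
    exact sub_eq_zero.1 this
  have hT4 : ∀ v, ρ a (ρ q v - v) = ρ q v - v := by
    intro v
    have := congrArg (fun f : Module.End (ZMod p) V => f v) haq
    simp only [Module.End.mul_apply, LinearMap.sub_apply, Module.End.one_apply,
      LinearMap.zero_apply] at this
    exact sub_eq_zero.1 this
  have hpow := Cfsg.Agent.Lib.Helper61.PGV.podd_rep hp ρ h.inj K1 a q hcomm hqa hquad' hN1 hN2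
    hgen hT4
  have hbot := Cfsg.Agent.Lib.Helper61.PGV.eq_bot_of_perfect_of_pow p K1
    (Cfsg.Agent.Lib.Helper22.component_commutator_self h.comp) hpow
  exact Cfsg.Agent.Lib.Helper22.component_ne_bot h.comp hbot

end Cfsg.Agent.Lib.Helper41.PGV.H25
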