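import Mathlib
import Cfsg.Prelude.Def_Local
import Cfsg.Prelude.Def_Transfer
import Cfsg.Agent.Lib.Helper41.PGV.Defs
import Cfsg.Agent.Lib.Helper22.Components

/-!
# Project PGV (S3086), sub-project RED: hedges of the leaves PGV-[RED-D] and PGV-[RED-D-COR]
(helper25)

`_of` forms: the leaves `components_commute` ([T5-DISTINCT]), `loc` ([LOC]) and
`comm_gen_of_not_centralizes` ([T5-COMMGEN]) of the sheet enter as hypotheses, in exactly the
shape of the sheet, so that the exact statements are one-line instances: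
```
theorem red_D (h : CE ρ A K1 a) D hDA hD hcent : False :=
  H25.red_D_of (fun hL hM hne => components_commute hL hM hne)
    (fun D H L h1 h2 h3 h4 h5 h6 b hb hc => loc h.inj h.el h.off h.ih D H L h1 h2 h3 h4 h5 h6 b hb hc)
    h D hDA hD hcent
theorem comm_gen (h : CE ρ A K1 a) q hqA hq1 hqN :=
  H25.comm_gen_of (fun hL q h1 h2 h3 => comm_gen_of_not_centralizes hL q h1 h2 h3)
    (fun D hDA hD hcent => red_D h D hDA hD hcent) h q hqA hq1 hqN
```
-/

set_option autoImplicit false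

universe v

namespace Cfsg.Agent.Lib.Helper41.PGV.H25

open Cfsg Cfsg.Agent.Lib.Helper41.PGV

variable {p : ℕ} [Fact p.Prime] {G V : Type v} [Group G] [AddCommGroup V]
  [Module (ZMod p) V] {ρ : Representation (ZMod p) G V} {A K1 : Subgroup G} {a : G}

/-- **[RED-D]** (`_of` form): no `1 ≠ D ≤ A` centralizes `K1`. -/
theorem red_D_of
    (hcc : ∀ {L M : Subgroup G}, IsComponent L → IsComponent M → L ≠ M →
      ∀ x ∈ L, ∀ y ∈ M, x * y = y * x)
    (hloc : ∀ (D H L : Subgroup G), D ≤ A → D ≠ ⊥ → H ≤ Subgroup.centralizer (D : Set G) →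
      A ≤ H → L ≤ H → IsComponent (L.subgroupOf H) → ∀ b : G, b ∈ A →
      (∀ x ∈ L, ∀ y ∈ L, (b * x * b⁻¹) * y = y * (b * x * b⁻¹)) → False)
    (h : CE ρ A K1 a) (D : Subgroup G) (hDA : D ≤ A) (hD : D ≠ ⊥)
    (hcent : ∀ d ∈ D, ∀ x ∈ K1, d * x = x * d) : False := by
  have hAH : A ≤ Subgroup.centralizer (D : Set G) := by
    intro x hx
    rw [Subgroup.mem_centralizer_iff]
    intro d hd
    have hcomm := h.el.1
    have := hcomm.is_comm.comm (⟨d, hDA hd⟩ : A) ⟨x, hx⟩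
    exact congrArg Subtype.val this
  have hLH : K1 ≤ Subgroup.centralizer (D : Set G) := by
    intro x hx
    rw [Subgroup.mem_centralizer_iff]
    intro d hd
    exact hcent d hd x hx
  have hL : IsComponent (K1.subgroupOf (Subgroup.centralizer (D : Set G))) :=
    Cfsg.Agent.Lib.Helper22.component_subgroupOf h.comp hLH
  have hconj : IsComponent (K1.map (MulAut.conj a).toMonoidHom) :=
    Cfsg.Agent.Lib.Helper22.component_conj h.comp a
  refine hloc D (Subgroup.centralizer (D : Set G)) K1 hDA hD le_rfl hAH hLH hL a h.mem ?_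
  intro x hx y hy
  have hax : a * x * a⁻¹ ∈ K1.map (MulAut.conj a).toMonoidHom :=
    ⟨x, hx, by simp [MulAut.conj_apply]⟩
  exact hcc hconj h.comp h.move _ hax y hy

/-- **[RED-D-COR]** (`_of` form): `C_A(K1) = 1`, hence `[K1, q] = K1` for `1 ≠ q ∈ N_A(K1)`. -/
theorem comm_gen_of
    (hgen : ∀ {L : Subgroup G}, IsComponent L → ∀ q : G, (∀ x ∈ L, q * x * q⁻¹ ∈ L) →
      (∀ x ∈ L, q⁻¹ * x * q ∈ L) → (¬ ∀ x ∈ L, q * x = x * q) →
      L ≤ Subgroup.closure {u | ∃ x ∈ L, u = q⁻¹ * x⁻¹ * q * x})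
    (hredD : ∀ D : Subgroup G, D ≤ A → D ≠ ⊥ → (∀ d ∈ D, ∀ x ∈ K1, d * x = x * d) → False)
    (h : CE ρ A K1 a) (q : G) (hqA : q ∈ A) (hq1 : q ≠ 1)
    (hqN : q ∈ Subgroup.normalizer (K1 : Set G)) :
    K1 ≤ Subgroup.closure {u | ∃ x ∈ K1, u = q⁻¹ * x⁻¹ * q * x} := by
  have hN1 : ∀ x ∈ K1, q * x * q⁻¹ ∈ K1 := fun x hx =>
    (Subgroup.mem_normalizer_iff.1 hqN x).1 hx
  have hN2 : ∀ x ∈ K1, q⁻¹ * x * q ∈ K1 := by
    intro x hx
    have hqi : q⁻¹ ∈ Subgroup.normalizer (K1 : Set G) := Subgroup.inv_mem _ hqN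
    have := (Subgroup.mem_normalizer_iff.1 hqi x).1 hx
    rwa [inv_inv] at this
  apply hgen h.comp q hN1 hN2
  intro hc
  apply hredD (Subgroup.zpowers q)
  · rw [Subgroup.zpowers_le]
    exact hqA
  · rw [Subgroup.zpowers_ne_bot]
    exact hq1
  · have hqC : q ∈ Subgroup.centralizer (K1 : Set G) := by
      rw [Subgroup.mem_centralizer_iff]
      intro x hx
      exact (hc x hx).symm
    have hle : Subgroup.zpowers q ≤ Subgroup.centralizer (K1 : Set G) := by
      rw [Subgroup.zpowers_le]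
      exact hqC
    intro d hd x hx
    exact ((Subgroup.mem_centralizer_iff.1 (hle hd)) x hx).symm

end Cfsg.Agent.Lib.Helper41.PGV.H25
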