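import Mathlib
import Cfsg.Agent.Lib.Helper26.PGV.End2Defs
import Cfsg.Agent.Lib.Helper20.PGV.M2Count

/-!
# S3086 END2, module PGV-[SIMPLE-THM] (hedge by helper25, `_of` form)

`simple_thm_of` is the sheet statement `simple_thm` with the CONCLUSION of `simple_struct` taken as the
hypothesis `hss` (so none of the ring-theoretic hypotheses of the sheet are needed any more).
Exact sheet form, once `simple_struct` is on main:

```
theorem simple_thm ... : 2 * Nat.card B * Nat.card {x : R // σ x = x ∧ ∀ b ∈ B, b x = x} < Nat.card R :=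
  H25.simple_thm_of σ (simple_struct h2 σ hσmul hσσ hT K hKspan hKσ hKperf hKne hsimple) B hB2
```
-/

set_option autoImplicit false

namespace Cfsg.Agent.Lib.Helper26.PGV.H25

universe u v

/-- transport of ring automorphisms along a ring isomorphism, as a group isomorphism. -/
def ringAutCongr {R : Type u} {S : Type v} [Ring R] [Ring S] (φ : R ≃+* S) : RingAut R ≃* RingAut S where
  toFun b := φ.symm.trans (b.trans φ)
  invFun c := φ.trans (c.trans φ.symm)
  left_inv b := by
    ext x
    simp
  right_inv c := by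
    ext x
    simp
  map_mul' b c := by
    ext x
    simp [RingAut.mul_apply]

theorem ringAutCongr_apply {R : Type u} {S : Type v} [Ring R] [Ring S] (φ : R ≃+* S) (b : RingAut R) (y : S) :
    ringAutCongr φ b y = φ (b (φ.symm y)) := rfl

/-- the counting statement transported along a ring isomorphism. -/
theorem simple_thm_of {R : Type u} [Ring R] [Finite R] (σ : R →+ R)
    (hss : ∃ (F : Type u) (_ : Field F) (_ : Finite F) (_ : CharP F 2) (φ : R ≃+* Matrix (Fin 2) (Fin 2) F),
      2 < Nat.card F ∧ ∀ x, σ x = x ↔ (φ x).trace = 0)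
    (B : Subgroup (RingAut R)) (hB2 : ∀ b ∈ B, b * b = 1) :
    2 * Nat.card B * Nat.card {x : R // σ x = x ∧ ∀ b ∈ B, b x = x} < Nat.card R := by
  obtain ⟨F, _, _, _, φ, hq, hφ⟩ := hss
  -- the transported group
  let e := ringAutCongr φ
  let B' : Subgroup (RingAut (Matrix (Fin 2) (Fin 2) F)) := B.map e.toMonoidHom
  have hB'2 : ∀ b ∈ B', b * b = 1 := by
    rintro _ ⟨b, hb, rfl⟩
    have := hB2 b hb
    change e b * e b = 1
    rw [← map_mul, this, map_one]
  have hcardB : Nat.card B' = Nat.card B :=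
    (Nat.card_congr (B.equivMapOfInjective e.toMonoidHom e.injective).toEquiv).symm
  have hcardR : Nat.card R = Nat.card (Matrix (Fin 2) (Fin 2) F) := Nat.card_congr φ.toEquiv
  have hcardS : Nat.card {x : R // σ x = x ∧ ∀ b ∈ B, b x = x}
      = Nat.card {y : Matrix (Fin 2) (Fin 2) F // y.trace = 0 ∧ ∀ b ∈ B', b y = y} := by
    refine Nat.card_congr (φ.toEquiv.subtypeEquiv ?_)
    intro x
    change (σ x = x ∧ ∀ b ∈ B, b x = x) ↔ ((φ x).trace = 0 ∧ ∀ b ∈ B', b (φ x) = φ x)
    rw [hφ x]
    refine and_congr Iff.rfl ⟨?_, ?_⟩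
    · rintro h _ ⟨b, hb, rfl⟩
      change e b (φ x) = φ x
      rw [ringAutCongr_apply, RingEquiv.symm_apply_apply, h b hb]
    · intro h b hb
      have := h (e b) ⟨b, hb, rfl⟩
      rw [ringAutCongr_apply, RingEquiv.symm_apply_apply] at this
      exact φ.injective this
  have := Cfsg.Agent.Lib.Helper20.PGV.m2_count hq B' hB'2
  rw [hcardB, ← hcardS, ← hcardR] at this
  exact this

end Cfsg.Agent.Lib.Helper26.PGV.H25
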