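import Mathlib
import Cfsg.Agent.Lib.Helper70.RkRes.Defs

set_option autoImplicit false
set_option linter.unusedSectionVars false

/-!
# S5289 module [NF] (helper25): normal form in the groups `C(p,n)`, `G(p,n;ε)`
-/

namespace Cfsg.Agent.Lib.Helper25.RkRes
open Cfsg Cfsg.Agent.Lib.Helper70.RkRes

variable {Ω : Type*} [Group Ω]

/-- `AA y z j k = y^j z^k`. -/
def AA (y z : Ω) (j k : ℤ) : Ω := y ^ j * z ^ k

theorem AA_zero (y z : Ω) : AA y z 0 0 = 1 := by simp [AA]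

theorem AA_mul {y z : Ω} (hyz : y * z = z * y) (j k j' k' : ℤ) :
    AA y z j k * AA y z j' k' = AA y z (j + j') (k + k') := by
  have h : Commute y z := hyz
  unfold AA
  rw [zpow_add, zpow_add, mul_assoc, mul_assoc]
  congr 1
  rw [← mul_assoc, ← mul_assoc, ((h.zpow_zpow j' k).eq)]

theorem AA_inv {y z : Ω} (hyz : y * z = z * y) (j k : ℤ) :
    (AA y z j k)⁻¹ = AA y z (-j) (-k) := by
  apply inv_eq_of_mul_eq_one_right
  rw [AA_mul hyz]
  simp [AA_zero]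

theorem cj_zpow (x b : Ω) (i : ℤ) : x⁻¹ * b ^ i * x = (x⁻¹ * b * x) ^ i := by
  have := conj_zpow (a := x⁻¹) (b := b) (i := i)
  simpa using this.symm

theorem cj_mul (x a b : Ω) : x⁻¹ * (a * b) * x = (x⁻¹ * a * x) * (x⁻¹ * b * x) := by
  simp [mul_assoc]

variable {p n : ℕ} [Fact p.Prime] {S : Subgroup Ω} {x y z : Ω} {δ e : ℕ}

theorem pow_split (D : RData p n S x y z δ e) :
    p ^ (n - 2) = p * p ^ (n - 3) ∧ p ∣ p ^ (n - 3) ∧ p ^ n = p * p * p ^ (n - 2) := by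
  have hn := D.hn
  obtain ⟨m, rfl⟩ : ∃ m, n = m + 4 := ⟨n - 4, by omega⟩
  have e1 : m + 4 - 2 = m + 2 := by omega
  have e2 : m + 4 - 3 = m + 1 := by omega
  rw [e1, e2]
  refine ⟨by ring, ⟨p ^ m, by ring⟩, by ring⟩

theorem y_zpow_eq_one (D : RData p n S x y z δ e) {j : ℤ} (h : (p : ℤ) ∣ j) : y ^ j = 1 := by
  obtain ⟨t, rfl⟩ := h
  rw [zpow_mul, zpow_natCast, D.yp, one_zpow]

theorem x_zpow_eq_one (D : RData p n S x y z δ e) {j : ℤ} (h : (p : ℤ) ∣ j) : x ^ j = 1 := by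
  obtain ⟨t, rfl⟩ := h
  rw [zpow_mul, zpow_natCast, D.xp, one_zpow]

theorem z_zpow_eq_one (D : RData p n S x y z δ e) {j : ℤ} (h : ((p ^ (n - 2) : ℕ) : ℤ) ∣ j) :
    z ^ j = 1 := by
  obtain ⟨t, rfl⟩ := h
  rw [zpow_mul, zpow_natCast, D.zp, one_zpow]

/-- Conjugation by `x⁻¹` on `A₀ = ⟨y, z⟩`. -/
theorem conjx_AA (D : RData p n S x y z δ e) (j k : ℤ) :
    x⁻¹ * AA y z j k * x = AA y z (j + δ * k) (e * p ^ (n - 3) * j + k) := by
  have hyz : Commute y z := D.yz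
  unfold AA
  rw [cj_mul, cj_zpow, cj_zpow, D.xy, D.xz]
  rw [(hyz.pow_right _).mul_zpow, (hyz.pow_left _).mul_zpow]
  have e1 : (z ^ (e * p ^ (n - 3))) ^ j = z ^ ((e : ℤ) * (p : ℤ) ^ (n - 3) * j) := by
    rw [← zpow_natCast, ← zpow_mul]; push_cast; rfl
  have e2 : (y ^ δ) ^ k = y ^ ((δ : ℤ) * k) := by
    rw [← zpow_natCast, ← zpow_mul]
  rw [e1, e2]
  have := AA_mul D.yz j ((e : ℤ) * (p : ℤ) ^ (n - 3) * j) ((δ : ℤ) * k) k
  unfold AA at this
  rw [this]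

/-- Conjugation by `x^m`, `m : ℕ`, preserves `A₀`, and the `z`-exponent modulo `p^(n-3)`. -/
theorem conjx_pow_AA (D : RData p n S x y z δ e) (m : ℕ) (j k : ℤ) :
    ∃ j' k' : ℤ, (x ^ m)⁻¹ * AA y z j k * x ^ m = AA y z j' k' ∧
      ((p : ℤ) ^ (n - 3)) ∣ k' - k := by
  induction m generalizing j k with
  | zero => exact ⟨j, k, by simp, by simp⟩
  | succ m ih =>
    obtain ⟨j', k', h1, h2⟩ := ih j k
    refine ⟨j' + δ * k', e * p ^ (n - 3) * j' + k', ?_, ?_⟩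
    · rw [← conjx_AA D, ← h1, pow_succ]
      simp [mul_assoc]
    · have : (e : ℤ) * (p : ℤ) ^ (n - 3) * j' + k' - k = (p : ℤ) ^ (n - 3) * (e * j') + (k' - k) := by
        ring
      rw [this]
      exact dvd_add (dvd_mul_right _ _) h2

/-- Conjugation by `x^m`, `m : ℤ`. -/
theorem conjx_zpow_AA (D : RData p n S x y z δ e) (m : ℤ) (j k : ℤ) :
    ∃ j' k' : ℤ, (x ^ m)⁻¹ * AA y z j k * x ^ m = AA y z j' k' ∧
      ((p : ℤ) ^ (n - 3)) ∣ k' - k := by
  have hp : (p : ℤ) ≠ 0 := by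
    have := (Fact.out : p.Prime).pos
    exact_mod_cast this.ne'
  have h1 : x ^ m = x ^ ((m % (p : ℤ)).toNat) := by
    rw [zpow_eq_zpow_emod' m D.xp, ← zpow_natCast, Int.toNat_of_nonneg (Int.emod_nonneg _ hp)]
  rw [h1]
  exact conjx_pow_AA D _ j k

/-- The product formula for normal forms. -/
theorem nf_mul (D : RData p n S x y z δ e) (i j k i' j' k' : ℤ) :
    ∃ j'' k'' : ℤ, (x ^ i * AA y z j k) * (x ^ i' * AA y z j' k') = x ^ (i + i') * AA y z j'' k'' := by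
  obtain ⟨j₁, k₁, h1, -⟩ := conjx_zpow_AA D i' j k
  refine ⟨j₁ + j', k₁ + k', ?_⟩
  rw [← AA_mul D.yz, ← h1, zpow_add]
  simp [mul_assoc]

/-- The inverse formula for normal forms. -/
theorem nf_inv (D : RData p n S x y z δ e) (i j k : ℤ) :
    ∃ j'' k'' : ℤ, (x ^ i * AA y z j k)⁻¹ = x ^ (-i) * AA y z j'' k'' := by
  obtain ⟨j₁, k₁, h1, -⟩ := conjx_zpow_AA D (-i) (-j) (-k)
  refine ⟨j₁, k₁, ?_⟩
  rw [← h1, mul_inv_rev, AA_inv D.yz]
  simp [mul_assoc]

theorem x_mem (D : RData p n S x y z δ e) : x ∈ S := by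
  rw [← D.gen]; exact Subgroup.subset_closure (by simp)

theorem y_mem (D : RData p n S x y z δ e) : y ∈ S := by
  rw [← D.gen]; exact Subgroup.subset_closure (by simp)

theorem z_mem (D : RData p n S x y z δ e) : z ∈ S := by
  rw [← D.gen]; exact Subgroup.subset_closure (by simp)

/-- Normal form with integer exponents. -/
theorem mem_nf_int (D : RData p n S x y z δ e) : ∀ s ∈ S, ∃ i j k : ℤ, s = x ^ i * AA y z j k := by
  -- the set of normal forms is a subgroup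
  let T : Subgroup Ω :=
    { carrier := {s | ∃ i j k : ℤ, s = x ^ i * AA y z j k}
      one_mem' := ⟨0, 0, 0, by simp [AA_zero]⟩
      mul_mem' := by
        rintro a b ⟨i, j, k, rfl⟩ ⟨i', j', k', rfl⟩
        obtain ⟨j'', k'', h⟩ := nf_mul D i j k i' j' k'
        exact ⟨i + i', j'', k'', h⟩
      inv_mem' := by
        rintro a ⟨i, j, k, rfl⟩
        obtain ⟨j'', k'', h⟩ := nf_inv D i j k
        exact ⟨-i, j'', k'', h⟩ }
  have hT : S ≤ T := by
    rw [← D.gen, Subgroup.closure_le]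
    rintro g hg
    simp only [Set.mem_insert_iff, Set.mem_singleton_iff] at hg
    rcases hg with rfl | rfl | rfl
    · exact ⟨1, 0, 0, by simp [AA_zero]⟩
    · exact ⟨0, 1, 0, by simp [AA]⟩
    · exact ⟨0, 0, 1, by simp [AA]⟩
  intro s hs
  exact hT hs


/-- Normal form with bounded natural exponents. -/
theorem mem_nf_bdd (D : RData p n S x y z δ e) : ∀ s ∈ S, ∃ i j k : ℕ, i < p ∧ j < p ∧
    k < p ^ (n - 2) ∧ s = x ^ i * y ^ j * z ^ k := by
  intro s hs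
  obtain ⟨i, j, k, rfl⟩ := mem_nf_int D s hs
  have hp : (p : ℤ) ≠ 0 := by
    have := (Fact.out : p.Prime).pos
    exact_mod_cast this.ne'
  have hp' : (0 : ℤ) < p := by
    have := (Fact.out : p.Prime).pos
    exact_mod_cast this
  have hN : ((p ^ (n - 2) : ℕ) : ℤ) ≠ 0 := by
    have := (Fact.out : p.Prime).pos
    have : 0 < p ^ (n - 2) := pow_pos this _
    exact_mod_cast this.ne'
  have hN' : (0 : ℤ) < ((p ^ (n - 2) : ℕ) : ℤ) := by
    have := (Fact.out : p.Prime).pos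
    have : 0 < p ^ (n - 2) := pow_pos this _
    exact_mod_cast this
  refine ⟨(i % (p : ℤ)).toNat, (j % (p : ℤ)).toNat, (k % ((p ^ (n - 2) : ℕ) : ℤ)).toNat, ?_, ?_, ?_, ?_⟩
  · have := Int.emod_lt_of_pos i hp'
    have h0 := Int.emod_nonneg i hp
    omega
  · have := Int.emod_lt_of_pos j hp'
    have h0 := Int.emod_nonneg j hp
    omega
  · have := Int.emod_lt_of_pos k hN'
    have h0 := Int.emod_nonneg k hN
    omega
  · unfold AA
    rw [zpow_eq_zpow_emod' i D.xp, zpow_eq_zpow_emod' j D.yp, zpow_eq_zpow_emod' k D.zp,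
      ← zpow_natCast x, ← zpow_natCast y, ← zpow_natCast z,
      Int.toNat_of_nonneg (Int.emod_nonneg _ hp), Int.toNat_of_nonneg (Int.emod_nonneg _ hp),
      Int.toNat_of_nonneg (Int.emod_nonneg _ hN), mul_assoc]

/-- The parametrization of `S` by exponent triples. -/
noncomputable def nfMap (D : RData p n S x y z δ e) : Fin p × Fin p × Fin (p ^ (n - 2)) → ↥S :=
  fun t => ⟨x ^ (t.1 : ℕ) * y ^ (t.2.1 : ℕ) * z ^ (t.2.2 : ℕ),
    S.mul_mem (S.mul_mem (S.pow_mem (x_mem D) _) (S.pow_mem (y_mem D) _)) (S.pow_mem (z_mem D) _)⟩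

theorem nfMap_bijective (D : RData p n S x y z δ e) : Function.Bijective (nfMap D) := by
  apply Function.Surjective.bijective_of_nat_card_le
  · rintro ⟨s, hs⟩
    obtain ⟨i, j, k, hi, hj, hk, h⟩ := mem_nf_bdd D s hs
    exact ⟨(⟨i, hi⟩, ⟨j, hj⟩, ⟨k, hk⟩), Subtype.ext h.symm⟩
  · rw [D.card, Nat.card_eq_fintype_card]
    simp only [Fintype.card_prod, Fintype.card_fin]
    rw [(pow_split D).2.2, mul_assoc]

/-- Uniqueness of the bounded normal form. -/
theorem nf_unique (D : RData p n S x y z δ e) {i j k : ℕ} (hi : i < p) (hj : j < p)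
    (hk : k < p ^ (n - 2)) (h : x ^ i * y ^ j * z ^ k = 1) : i = 0 ∧ j = 0 ∧ k = 0 := by
  have hp := (Fact.out : p.Prime).pos
  have hN : 0 < p ^ (n - 2) := pow_pos hp _
  have h1 : nfMap D (⟨i, hi⟩, ⟨j, hj⟩, ⟨k, hk⟩) = nfMap D (⟨0, hp⟩, ⟨0, hp⟩, ⟨0, hN⟩) := by
    apply Subtype.ext
    simp only [nfMap]
    rw [h]
    simp
  have h2 := (nfMap_bijective D).1 h1
  simp only [Prod.mk.injEq, Fin.mk.injEq] at h2
  exact h2

theorem mem_normal_form (D : RData p n S x y z δ e) :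
    ∀ s ∈ S, ∃ i j k : ℕ, s = x ^ i * y ^ j * z ^ k := by
  intro s hs
  obtain ⟨i, j, k, -, -, -, h⟩ := mem_nf_bdd D s hs
  exact ⟨i, j, k, h⟩

theorem orderOf_z (D : RData p n S x y z δ e) : orderOf z = p ^ (n - 2) := by
  have hp := (Fact.out : p.Prime).pos
  have hN : 0 < p ^ (n - 2) := pow_pos hp _
  rw [orderOf_eq_iff hN]
  refine ⟨D.zp, ?_⟩
  intro m hm hm0 h
  have := nf_unique D hp hp hm (by simpa using h)
  omega

theorem indep (D : RData p n S x y z δ e) : ∀ i j k : ℤ, x ^ i * y ^ j * z ^ k = 1 →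
    (p : ℤ) ∣ i ∧ (p : ℤ) ∣ j ∧ ((p ^ (n - 2) : ℕ) : ℤ) ∣ k := by
  intro i j k h
  have hp : (p : ℤ) ≠ 0 := by
    have := (Fact.out : p.Prime).pos
    exact_mod_cast this.ne'
  have hp' : (0 : ℤ) < p := by
    have := (Fact.out : p.Prime).pos
    exact_mod_cast this
  have hN : ((p ^ (n - 2) : ℕ) : ℤ) ≠ 0 := by
    have := (Fact.out : p.Prime).pos
    have : 0 < p ^ (n - 2) := pow_pos this _
    exact_mod_cast this.ne'
  have hN' : (0 : ℤ) < ((p ^ (n - 2) : ℕ) : ℤ) := by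
    have := (Fact.out : p.Prime).pos
    have : 0 < p ^ (n - 2) := pow_pos this _
    exact_mod_cast this
  have h1 : x ^ (i % (p : ℤ)).toNat * y ^ (j % (p : ℤ)).toNat *
      z ^ (k % ((p ^ (n - 2) : ℕ) : ℤ)).toNat = 1 := by
    rw [← h, zpow_eq_zpow_emod' i D.xp, zpow_eq_zpow_emod' j D.yp, zpow_eq_zpow_emod' k D.zp,
      ← zpow_natCast x, ← zpow_natCast y, ← zpow_natCast z,
      Int.toNat_of_nonneg (Int.emod_nonneg _ hp), Int.toNat_of_nonneg (Int.emod_nonneg _ hp),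
      Int.toNat_of_nonneg (Int.emod_nonneg _ hN)]
  have h2 := nf_unique D (i := (i % (p : ℤ)).toNat) (j := (j % (p : ℤ)).toNat)
    (k := (k % ((p ^ (n - 2) : ℕ) : ℤ)).toNat) ?_ ?_ ?_ h1
  · obtain ⟨a, b, c⟩ := h2
    have a0 := Int.emod_nonneg i hp
    have b0 := Int.emod_nonneg j hp
    have c0 := Int.emod_nonneg k hN
    refine ⟨Int.dvd_of_emod_eq_zero (by omega), Int.dvd_of_emod_eq_zero (by omega),
      Int.dvd_of_emod_eq_zero (by omega)⟩
  · have := Int.emod_lt_of_pos i hp'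
    have h0 := Int.emod_nonneg i hp
    omega
  · have := Int.emod_lt_of_pos j hp'
    have h0 := Int.emod_nonneg j hp
    omega
  · have := Int.emod_lt_of_pos k hN'
    have h0 := Int.emod_nonneg k hN
    omega

end Cfsg.Agent.Lib.Helper25.RkRes
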