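import Mathlib
import Cfsg.Agent.Lib.Helper70.RkRes.Defs
import Cfsg.Agent.Lib.Helper25.RkResNF

set_option autoImplicit false
set_option linter.unusedSectionVars false

/-!
# S5289 module [NF2] (helper25): basic relations in the groups `C(p,n)`, `G(p,n;ε)`
-/

namespace Cfsg.Agent.Lib.Helper25.RkRes
open Cfsg Cfsg.Agent.Lib.Helper70.RkRes

variable {Ω : Type*} [Group Ω]
variable {p n : ℕ} [Fact p.Prime] {S : Subgroup Ω} {x y z : Ω} {δ e : ℕ}

/-- If `g` commutes with `x`, `y`, `z` then it commutes with `S`. -/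
theorem commute_of_gens (D : RData p n S x y z δ e) {g : Ω} (hx : x * g = g * x) (hy : y * g = g * y)
    (hz : z * g = g * z) : ∀ s ∈ S, s * g = g * s := by
  have h : S ≤ Subgroup.centralizer {g} := by
    rw [← D.gen, Subgroup.closure_le]
    intro t ht
    simp only [Set.mem_insert_iff, Set.mem_singleton_iff] at ht
    rw [SetLike.mem_coe, Subgroup.mem_centralizer_iff]
    intro h hh
    rw [Set.mem_singleton_iff] at hh
    subst hh
    rcases ht with rfl | rfl | rfl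
    · exact hx.symm
    · exact hy.symm
    · exact hz.symm
  intro s hs
  have := Subgroup.mem_centralizer_iff.mp (h hs) g (Set.mem_singleton g)
  exact this.symm

/-- `x⁻¹ z^k x = z^k` when `p ∣ k`. -/
theorem conjx_z_zpow (D : RData p n S x y z δ e) {k : ℤ} (hk : (p : ℤ) ∣ k) :
    x⁻¹ * z ^ k * x = z ^ k := by
  have h := conjx_AA D 0 k
  have h1 : AA y z 0 k = z ^ k := by simp [AA]
  rw [h1] at h
  rw [h]
  unfold AA
  have h2 : y ^ ((0 : ℤ) + (δ : ℤ) * k) = 1 :=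
    y_zpow_eq_one D (by rw [zero_add]; exact Dvd.dvd.mul_left hk _)
  rw [h2]
  simp

theorem commute_x_z_zpow (D : RData p n S x y z δ e) {k : ℤ} (hk : (p : ℤ) ∣ k) :
    x * z ^ k = z ^ k * x := by
  have h := conjx_z_zpow D hk
  calc x * z ^ k = x * (x⁻¹ * z ^ k * x) := by rw [h]
    _ = z ^ k * x := by simp [mul_assoc]

theorem zpow_p_central (D : RData p n S x y z δ e) : ∀ s ∈ S, s * z ^ p = z ^ p * s := by
  apply commute_of_gens D
  · have := commute_x_z_zpow D (k := (p : ℤ)) dvd_rfl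
    rwa [zpow_natCast] at this
  · exact ((show Commute y z from D.yz).pow_right p).eq
  · exact ((Commute.refl z).pow_right p).eq

/-- `c = z^(p^(n-3))` is central in `S`. -/
theorem c_central (D : RData p n S x y z δ e) : ∀ s ∈ S, s * z ^ p ^ (n - 3) = z ^ p ^ (n - 3) * s := by
  apply commute_of_gens D
  · have := commute_x_z_zpow D (k := ((p ^ (n - 3) : ℕ) : ℤ)) (by exact_mod_cast (pow_split D).2.1)
    rwa [zpow_natCast] at this
  · exact ((show Commute y z from D.yz).pow_right _).eq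
  · exact ((Commute.refl z).pow_right _).eq

theorem c_zpow_central (D : RData p n S x y z δ e) (k : ℤ) :
    ∀ s ∈ S, s * (z ^ p ^ (n - 3)) ^ k = (z ^ p ^ (n - 3)) ^ k * s := by
  intro s hs
  have h : Commute s (z ^ p ^ (n - 3)) := c_central D s hs
  exact (h.zpow_right k).eq

theorem conj_y_aux (D : RData p n S x y z δ e) :
    ∀ s ∈ S, ∃ k : ℤ, s⁻¹ * y * s = y * (z ^ p ^ (n - 3)) ^ k := by
  let K : Subgroup Ω :=
    { carrier := {s | s ∈ S ∧ ∃ k : ℤ, s⁻¹ * y * s = y * (z ^ p ^ (n - 3)) ^ k}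
      one_mem' := ⟨S.one_mem, 0, by simp⟩
      mul_mem' := by
        rintro a b ⟨ha, k, hk⟩ ⟨hb, k', hk'⟩
        refine ⟨S.mul_mem ha hb, k' + k, ?_⟩
        have h1 : (a * b)⁻¹ * y * (a * b) = b⁻¹ * (a⁻¹ * y * a) * b := by simp [mul_assoc]
        rw [h1, hk]
        have h2 : b⁻¹ * (y * (z ^ p ^ (n - 3)) ^ k) * b =
            (b⁻¹ * y * b) * (b⁻¹ * (z ^ p ^ (n - 3)) ^ k * b) := by simp [mul_assoc]
        rw [h2, hk']
        have h3 : b⁻¹ * (z ^ p ^ (n - 3)) ^ k * b = (z ^ p ^ (n - 3)) ^ k := by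
          rw [mul_assoc, ← c_zpow_central D k b hb]
          simp
        rw [h3, mul_assoc, ← zpow_add]
      inv_mem' := by
        rintro a ⟨ha, k, hk⟩
        refine ⟨S.inv_mem ha, -k, ?_⟩
        rw [inv_inv]
        have h1 : y = a * (y * (z ^ p ^ (n - 3)) ^ k) * a⁻¹ := by
          rw [← hk]; simp [mul_assoc]
        have h2 : a * (y * (z ^ p ^ (n - 3)) ^ k) * a⁻¹ =
            (a * y * a⁻¹) * (z ^ p ^ (n - 3)) ^ k := by
          have := c_zpow_central D k a ha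
          calc a * (y * (z ^ p ^ (n - 3)) ^ k) * a⁻¹
              = a * y * ((z ^ p ^ (n - 3)) ^ k * a⁻¹) := by simp [mul_assoc]
            _ = a * y * (a⁻¹ * (z ^ p ^ (n - 3)) ^ k) := by
                congr 1
                have h' := c_zpow_central D k a⁻¹ (S.inv_mem ha)
                exact h'.symm
            _ = _ := by simp [mul_assoc]
        rw [h2] at h1
        rw [zpow_neg]
        exact eq_mul_inv_of_mul_eq h1.symm }
  have hK : S ≤ K := by
    rw [← D.gen, Subgroup.closure_le]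
    rintro g hg
    simp only [Set.mem_insert_iff, Set.mem_singleton_iff] at hg
    rcases hg with rfl | rfl | rfl
    · refine ⟨x_mem D, (e : ℤ), ?_⟩
      rw [D.xy, ← zpow_natCast, ← zpow_natCast, ← zpow_mul]
      push_cast
      rw [mul_comm]
    · exact ⟨y_mem D, 0, by simp⟩
    · refine ⟨z_mem D, 0, ?_⟩
      rw [mul_assoc, D.yz]
      simp
  intro s hs
  exact (hK hs).2

theorem conj_y (D : RData p n S x y z δ e) :
    ∀ s ∈ S, ∃ k : ℤ, y * s * y⁻¹ = s * (z ^ p ^ (n - 3)) ^ k := by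
  intro s hs
  obtain ⟨k, hk⟩ := conj_y_aux D s hs
  refine ⟨k, ?_⟩
  have h1 : y * s = s * (y * (z ^ p ^ (n - 3)) ^ k) := by
    rw [← hk]; simp [mul_assoc]
  rw [h1]
  have h2 : Commute y ((z ^ p ^ (n - 3)) ^ k) :=
    ((show Commute y z from D.yz).pow_right _).zpow_right k
  rw [h2.eq]
  simp [mul_assoc]

theorem z_central (D : RData p n S x y z 0 e) : ∀ s ∈ S, s * z = z * s := by
  apply commute_of_gens D
  · have h := D.xz
    rw [pow_zero, one_mul] at h
    calc x * z = x * (x⁻¹ * z * x) := by rw [h]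
      _ = z * x := by simp [mul_assoc]
  · exact D.yz
  · rfl


/-- The product formula for normal forms, with the `z`-exponent modulo `p^(n-3)`. -/
theorem nf_mul' (D : RData p n S x y z δ e) (i j k i' j' k' : ℤ) :
    ∃ j'' k'' : ℤ, (x ^ i * AA y z j k) * (x ^ i' * AA y z j' k') = x ^ (i + i') * AA y z j'' k'' ∧
      ((p : ℤ) ^ (n - 3)) ∣ k'' - (k + k') := by
  obtain ⟨j₁, k₁, h1, h2⟩ := conjx_zpow_AA D i' j k
  refine ⟨j₁ + j', k₁ + k', ?_, ?_⟩
  · rw [← AA_mul D.yz, ← h1, zpow_add]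
    simp [mul_assoc]
  · have : k₁ + k' - (k + k') = k₁ - k := by ring
    rw [this]; exact h2

theorem AA_of_dvd (y z : Ω) (p n : ℕ) {j k : ℤ} (hk : ((p : ℤ) ^ (n - 3)) ∣ k) :
    ∃ t : ℤ, AA y z j k = y ^ j * (z ^ p ^ (n - 3)) ^ t := by
  obtain ⟨t, rfl⟩ := hk
  refine ⟨t, ?_⟩
  unfold AA
  rw [zpow_mul, ← zpow_natCast z]
  push_cast
  rfl

theorem comm_mem (D : RData p n S x y z δ e) : ∀ s ∈ S, ∀ t ∈ S, ∃ j k : ℤ,
    s * t * s⁻¹ * t⁻¹ = y ^ j * (z ^ p ^ (n - 3)) ^ k := by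
  intro s hs t ht
  obtain ⟨i, j, k, rfl⟩ := mem_nf_int D s hs
  obtain ⟨i', j', k', rfl⟩ := mem_nf_int D t ht
  obtain ⟨a, b, h1, h2⟩ := nf_mul' D i j k i' j' k'
  obtain ⟨a', b', h1', h2'⟩ := nf_mul' D i' j' k' i j k
  have e1 : x ^ i * AA y z j k * (x ^ i' * AA y z j' k') * (x ^ i * AA y z j k)⁻¹ *
      (x ^ i' * AA y z j' k')⁻¹ =
      (x ^ i * AA y z j k * (x ^ i' * AA y z j' k')) *
        ((x ^ i' * AA y z j' k') * (x ^ i * AA y z j k))⁻¹ := by
    simp [mul_assoc]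
  rw [e1, h1, h1', add_comm i' i, mul_inv_rev, AA_inv D.yz]
  have e2 : x ^ (i + i') * AA y z a b * (AA y z (-a') (-b') * (x ^ (i + i'))⁻¹) =
      (x ^ (-(i + i')))⁻¹ * (AA y z a b * AA y z (-a') (-b')) * x ^ (-(i + i')) := by
    rw [zpow_neg, inv_inv]
    simp only [mul_assoc]
  rw [e2, AA_mul D.yz]
  obtain ⟨J, K, h3, h4⟩ := conjx_zpow_AA D (-(i + i')) (a + -a') (b + -b')
  rw [h3]
  have hK : ((p : ℤ) ^ (n - 3)) ∣ K := by
    have h5 : ((p : ℤ) ^ (n - 3)) ∣ (b + -b') := by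
      have : b + -b' = (b - (k + k')) - (b' - (k' + k)) := by ring
      rw [this]
      exact dvd_sub h2 h2'
    have : K = (K - (b + -b')) + (b + -b') := by ring
    rw [this]
    exact dvd_add h4 h5
  obtain ⟨t, ht⟩ := AA_of_dvd y z p n (j := J) hK
  exact ⟨J, t, ht⟩

theorem AA_congr_y (D : RData p n S x y z δ e) {j j' : ℤ} (k : ℤ) (h : (p : ℤ) ∣ j - j') :
    AA y z j k = AA y z j' k := by
  unfold AA
  have : y ^ j = y ^ j' := by
    have h1 : y ^ (j - j') = 1 := y_zpow_eq_one D h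
    rw [zpow_sub, mul_inv_eq_one] at h1
    exact h1
  rw [this]

/-- Conjugating `y` by `x^m`. -/
theorem conjx_pow_y (D : RData p n S x y z δ e) (m : ℕ) :
    (x ^ m)⁻¹ * y * x ^ m = AA y z 1 ((e : ℤ) * (p : ℤ) ^ (n - 3) * m) := by
  induction m with
  | zero => simp [AA]
  | succ m ih =>
    have h1 : (x ^ (m + 1))⁻¹ * y * x ^ (m + 1) = x⁻¹ * ((x ^ m)⁻¹ * y * x ^ m) * x := by
      rw [pow_succ]; simp [mul_assoc]
    rw [h1, ih, conjx_AA D]
    have hP : (p : ℤ) ∣ (p : ℤ) ^ (n - 3) := by exact_mod_cast (pow_split D).2.1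
    have h2 : (p : ℤ) ∣ (1 + (δ : ℤ) * ((e : ℤ) * (p : ℤ) ^ (n - 3) * m)) - 1 := by
      have : (1 + (δ : ℤ) * ((e : ℤ) * (p : ℤ) ^ (n - 3) * m)) - 1 =
          (p : ℤ) ^ (n - 3) * (δ * e * m) := by ring
      rw [this]
      exact Dvd.dvd.mul_right hP _
    rw [AA_congr_y D _ h2]
    congr 1
    push_cast
    ring

theorem centralizer_xy (D : RData p n S x y z δ e) :
    ∀ s ∈ S, s * x = x * s → s * y = y * s → ∃ k : ℤ, s = z ^ k := by
  intro s hs hsx hsy
  have hpp : p.Prime := Fact.out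
  obtain ⟨i, j, k, hi, hj, hk, rfl⟩ := mem_nf_bdd D s hs
  have hyz : Commute y z := D.yz
  -- step A
  have hA : (x ^ i)⁻¹ * y * x ^ i = y := by
    have h1 : (y ^ j * z ^ k) * y = y * (y ^ j * z ^ k) :=
      (((Commute.refl y).pow_left j).mul_left (hyz.symm.pow_left k)).eq
    have h2 : x ^ i * y * (y ^ j * z ^ k) = y * x ^ i * (y ^ j * z ^ k) := by
      calc x ^ i * y * (y ^ j * z ^ k) = x ^ i * ((y ^ j * z ^ k) * y) := by rw [h1, mul_assoc]
        _ = x ^ i * y ^ j * z ^ k * y := by simp [mul_assoc]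
        _ = y * (x ^ i * y ^ j * z ^ k) := hsy
        _ = y * x ^ i * (y ^ j * z ^ k) := by simp [mul_assoc]
    have h3 := mul_right_cancel h2
    rw [mul_assoc, ← h3]
    simp
  -- step B
  have hi0 : i = 0 := by
    rw [conjx_pow_y D i] at hA
    unfold AA at hA
    rw [zpow_one] at hA
    have h1 : z ^ ((e : ℤ) * (p : ℤ) ^ (n - 3) * i) = 1 := by
      have := mul_left_cancel (hA.trans (mul_one y).symm)
      exact this
    have h2 : z ^ (e * p ^ (n - 3) * i) = 1 := by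
      rw [← zpow_natCast]; push_cast; exact h1
    have h3 := orderOf_dvd_of_pow_eq_one h2
    rw [orderOf_z D, (pow_split D).1] at h3
    have hP : 0 < p ^ (n - 3) := pow_pos hpp.pos _
    have h4 : p ^ (n - 3) * p ∣ p ^ (n - 3) * (e * i) := by
      have : e * p ^ (n - 3) * i = p ^ (n - 3) * (e * i) := by ring
      rw [← this, mul_comm (p ^ (n - 3)) p]; exact h3
    have h5 := Nat.dvd_of_mul_dvd_mul_left hP h4
    rcases (Nat.Prime.dvd_mul hpp).mp h5 with h6 | h6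
    · exact absurd h6 D.he
    · exact Nat.eq_zero_of_dvd_of_lt h6 hi
  subst hi0
  -- step C
  have hj0 : j = 0 := by
    have h0 : x ^ 0 * y ^ j * z ^ k = AA y z j k := by
      unfold AA; simp
    rw [h0] at hsx
    have h1 : x⁻¹ * AA y z j k * x = AA y z j k := by
      rw [mul_assoc, hsx]; simp
    rw [conjx_AA D] at h1
    have h2 : AA y z ((j : ℤ) + δ * k) (e * p ^ (n - 3) * j + k) * AA y z (-(j : ℤ)) (-(k : ℤ)) = 1 := by
      rw [h1, ← AA_inv D.yz]; simp
    rw [AA_mul D.yz] at h2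
    have h3 := indep D 0 _ _ (by
      have : x ^ (0 : ℤ) * y ^ ((j : ℤ) + δ * k + -(j : ℤ)) *
          z ^ ((e : ℤ) * p ^ (n - 3) * j + k + -(k : ℤ)) = 1 := by
        rw [zpow_zero, one_mul]; exact h2
      exact this)
    have h4 := h3.2.2
    have h5 : ((p ^ (n - 2) : ℕ) : ℤ) ∣ ((e * p ^ (n - 3) * j : ℕ) : ℤ) := by
      have : ((e : ℤ) * p ^ (n - 3) * j + k + -(k : ℤ)) = ((e * p ^ (n - 3) * j : ℕ) : ℤ) := by
        push_cast; ring
      rw [← this]; exact h4
    have h6 : p ^ (n - 2) ∣ e * p ^ (n - 3) * j := by exact_mod_cast h5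
    rw [(pow_split D).1] at h6
    have hP : 0 < p ^ (n - 3) := pow_pos hpp.pos _
    have h7 : p ^ (n - 3) * p ∣ p ^ (n - 3) * (e * j) := by
      have : e * p ^ (n - 3) * j = p ^ (n - 3) * (e * j) := by ring
      rw [← this, mul_comm (p ^ (n - 3)) p]; exact h6
    have h8 := Nat.dvd_of_mul_dvd_mul_left hP h7
    rcases (Nat.Prime.dvd_mul hpp).mp h8 with h9 | h9
    · exact absurd h9 D.he
    · exact Nat.eq_zero_of_dvd_of_lt h9 hj
  subst hj0
  exact ⟨(k : ℤ), by simp⟩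

end Cfsg.Agent.Lib.Helper25.RkRes
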