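import Mathlib
import Cfsg.Agent.Lib.Helper70.RkRes.Defs
import Cfsg.Agent.Lib.Helper25.RkResNF2

set_option autoImplicit false
set_option linter.unusedSectionVars false

/-!
# S5289 module [CHI] (helper25): the `x`-exponent homomorphism `S →* ZMod p`
-/

namespace Cfsg.Agent.Lib.Helper25.RkRes
open Cfsg Cfsg.Agent.Lib.Helper70.RkRes

variable {Ω : Type*} [Group Ω]
variable {p n : ℕ} [Fact p.Prime] {S : Subgroup Ω} {x y z : Ω} {δ e : ℕ}

/-- The `x`-exponent of a normal form is unique modulo `p`. -/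
theorem nf_exp_unique (D : RData p n S x y z δ e) {i j k i' j' k' : ℤ}
    (h : x ^ i * AA y z j k = x ^ i' * AA y z j' k') : ((i : ℤ) : ZMod p) = ((i' : ℤ) : ZMod p) := by
  have h1 : x ^ (i - i') * AA y z (j + -j') (k + -k') = 1 := by
    have e1 : x ^ (i - i') = x ^ (-i') * x ^ i := by
      rw [← zpow_add]; congr 1; ring
    rw [e1, ← AA_mul D.yz, ← AA_inv D.yz]
    calc x ^ (-i') * x ^ i * (AA y z j k * (AA y z j' k')⁻¹)
        = x ^ (-i') * (x ^ i * AA y z j k) * (AA y z j' k')⁻¹ := by simp only [mul_assoc]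
      _ = 1 := by rw [h, zpow_neg]; simp
  have h2 := (indep D (i - i') (j + -j') (k + -k') (by
    unfold AA at h1; rw [mul_assoc]; exact h1)).1
  rw [ZMod.intCast_eq_intCast_iff_dvd_sub]
  rw [dvd_sub_comm]
  exact h2

/-- If `x^i a` commutes with `y`, where `a` does and `i < p`, then `i = 0`. -/
theorem exp_zero_of_commute_y (D : RData p n S x y z δ e) {i : ℕ} (hi : i < p) {a : Ω}
    (ha : a * y = y * a) (h : (x ^ i * a) * y = y * (x ^ i * a)) : i = 0 := by
  have hpp : p.Prime := Fact.out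
  have hA : (x ^ i)⁻¹ * y * x ^ i = y := by
    have h2 : x ^ i * y * a = y * x ^ i * a := by
      calc x ^ i * y * a = x ^ i * (a * y) := by rw [ha, mul_assoc]
        _ = x ^ i * a * y := by simp [mul_assoc]
        _ = y * (x ^ i * a) := h
        _ = y * x ^ i * a := by simp [mul_assoc]
    have h3 := mul_right_cancel h2
    rw [mul_assoc, ← h3]
    simp
  rw [conjx_pow_y D i] at hA
  unfold AA at hA
  rw [zpow_one] at hA
  have h1 : z ^ ((e : ℤ) * (p : ℤ) ^ (n - 3) * i) = 1 := by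
    have := mul_left_cancel (hA.trans (mul_one y).symm)
    exact this
  have h2 : z ^ (e * p ^ (n - 3) * i) = 1 := by
    rw [← zpow_natCast]; push_cast; exact h1
  have h3 := orderOf_dvd_of_pow_eq_one h2
  rw [orderOf_z D, (pow_split D).1] at h3
  have hP : 0 < p ^ (n - 3) := pow_pos hpp.pos _
  have h4 : p ^ (n - 3) * p ∣ p ^ (n - 3) * (e * i) := by
    have : e * p ^ (n - 3) * i = p ^ (n - 3) * (e * i) := by ring
    rw [← this, mul_comm (p ^ (n - 3)) p]; exact h3
  have h5 := Nat.dvd_of_mul_dvd_mul_left hP h4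
  rcases (Nat.Prime.dvd_mul hpp).mp h5 with h6 | h6
  · exact absurd h6 D.he
  · exact Nat.eq_zero_of_dvd_of_lt h6 hi

theorem AA_commute_y (D : RData p n S x y z δ e) (j k : ℤ) : AA y z j k * y = y * AA y z j k := by
  have hyz : Commute y z := D.yz
  exact (((Commute.refl y).zpow_left j).mul_left (hyz.symm.zpow_left k)).eq

theorem AA_commute_z (D : RData p n S x y z δ e) (j k : ℤ) : AA y z j k * z = z * AA y z j k := by
  have hyz : Commute y z := D.yz
  exact ((hyz.zpow_left j).mul_left ((Commute.refl z).zpow_left k)).eq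

theorem exists_chi (D : RData p n S x y z δ e) :
    ∃ χ : S →* Multiplicative (ZMod p),
      (∀ (s : S) (i j k : ℤ), (s : Ω) = x ^ i * y ^ j * z ^ k →
        χ s = Multiplicative.ofAdd ((i : ZMod p))) ∧
      (∀ s : S, χ s = 1 → (s : Ω) * z = z * s ∧ (s : Ω) * y = y * s) ∧
      (∀ s : S, (s : Ω) * y = y * s → χ s = 1) := by
  have hpp : p.Prime := Fact.out
  have hrep : ∀ s : S, ∃ i j k : ℤ, (s : Ω) = x ^ i * AA y z j k := fun s => mem_nf_int D s s.2
  choose fi fj fk hf using hrep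
  have hval : ∀ (s : S) (i j k : ℤ), (s : Ω) = x ^ i * AA y z j k →
      ((fi s : ℤ) : ZMod p) = ((i : ℤ) : ZMod p) := by
    intro s i j k h
    exact nf_exp_unique D ((hf s).symm.trans h)
  let χ : S →* Multiplicative (ZMod p) := MonoidHom.mk'
    (fun s => Multiplicative.ofAdd ((fi s : ℤ) : ZMod p)) (by
      intro s t
      obtain ⟨j'', k'', h⟩ := nf_mul D (fi s) (fj s) (fk s) (fi t) (fj t) (fk t)
      rw [← hf s, ← hf t] at h
      have h1 := hval (s * t) _ _ _ (by rw [Subgroup.coe_mul]; exact h)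
      rw [h1, ← ofAdd_add]
      push_cast
      rfl)
  have hχ : ∀ s : S, χ s = Multiplicative.ofAdd ((fi s : ℤ) : ZMod p) := fun s => rfl
  refine ⟨χ, ?_, ?_, ?_⟩
  · intro s i j k h
    rw [hχ, hval s i j k (by rw [h, mul_assoc]; rfl)]
  · intro s hs
    rw [hχ, ofAdd_eq_one, ZMod.intCast_zmod_eq_zero_iff_dvd] at hs
    have h1 : (s : Ω) = AA y z (fj s) (fk s) := by
      rw [hf s, x_zpow_eq_one D hs, one_mul]
    rw [h1]
    exact ⟨AA_commute_z D _ _, AA_commute_y D _ _⟩
  · intro s hs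
    rw [hχ, ofAdd_eq_one, ZMod.intCast_zmod_eq_zero_iff_dvd]
    have hp : (p : ℤ) ≠ 0 := by exact_mod_cast hpp.pos.ne'
    have hp' : (0 : ℤ) < p := by exact_mod_cast hpp.pos
    have h1 : x ^ (fi s) = x ^ ((fi s % (p : ℤ)).toNat) := by
      rw [zpow_eq_zpow_emod' (fi s) D.xp, ← zpow_natCast,
        Int.toNat_of_nonneg (Int.emod_nonneg _ hp)]
    have h2 : (fi s % (p : ℤ)).toNat < p := by
      have := Int.emod_lt_of_pos (fi s) hp'
      have h0 := Int.emod_nonneg (fi s) hp
      omega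
    rw [hf s, h1] at hs
    have h3 := exp_zero_of_commute_y D h2 (AA_commute_y D (fj s) (fk s)) hs
    have h0 := Int.emod_nonneg (fi s) hp
    exact Int.dvd_of_emod_eq_zero (by omega)

end Cfsg.Agent.Lib.Helper25.RkRes
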