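import Mathlib
import Cfsg.Agent.Lib.Helper22.S1936Defs
import Cfsg.Agent.S0144

/-!
# S1936-[SMALL] (sheet of helper22, §0.3): the cases `p ≤ 3`
-/

set_option autoImplicit false
set_option linter.unusedSectionVars false
universe u
open Cfsg.Agent.Lib.Helper22.S1936

namespace Cfsg.Agent.Lib.Helper25.S1936

variable {G : Type u} [Group G] [Finite G] {p : ℕ} [Fact p.Prime]

/-- under `HP`, a prime divisor `r ≠ p` of `|G|` divides `p - 1`. -/
theorem prime_dvd_sub_one (h : HP p G) {r : ℕ} (hr : r.Prime) (hrp : r ≠ p) (hdvd : r ∣ Nat.card G) :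
    r ∣ p - 1 := by
  have : Fact r.Prime := ⟨hr⟩
  obtain ⟨x, hx⟩ := exists_prime_orderOf_dvd_card' r hdvd
  have hcard : Nat.card (Subgroup.zpowers x) = r := by rw [Nat.card_zpowers, hx]
  have hcop : (Nat.card (Subgroup.zpowers x)).Coprime p := by
    rw [hcard]
    exact (Nat.coprime_primes hr Fact.out).2 hrp
  have h1 := (h _ hcop).2 x (Subgroup.mem_zpowers x)
  rw [← hx]
  exact orderOf_dvd_of_pow_eq_one h1

/-- RED-[SMALL] (0.3): the cases `p ≤ 3` (S0144 for `p = 3`). -/
theorem solvable_of_small (h : HP p G) (hp : p < 5) : Group.IsSolvable G := by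
  have hpp : p.Prime := Fact.out
  have hp23 : p = 2 ∨ p = 3 := by
    have h2 := hpp.two_le
    interval_cases p
    · left; rfl
    · right; rfl
    · exact absurd hpp (by decide)
  -- every prime divisor of `|G|` is `2` or `3`
  have hprimes : ∀ r : ℕ, r.Prime → r ∣ Nat.card G → r = 2 ∨ r = 3 := by
    intro r hr hdvd
    by_cases hrp : r = p
    · rw [hrp]; exact hp23
    · have h1 := prime_dvd_sub_one h hr hrp hdvd
      rcases hp23 with rfl | rfl
      · have : r ∣ 1 := h1
        exact absurd (Nat.dvd_one.1 this) hr.one_lt.ne'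
      · have : r ∣ 2 := h1
        left
        exact (Nat.prime_dvd_prime_iff_eq hr Nat.prime_two).1 this
  -- so `|G| = 2 ^ a * 3 ^ b`
  have hpos : Nat.card G ≠ 0 := Nat.card_pos.ne'
  obtain ⟨a, m, hm, hcard⟩ := Nat.exists_eq_two_pow_mul_odd hpos
  have hm0 : m ≠ 0 := by
    rintro rfl
    exact (Nat.not_odd_iff_even.2 (by decide : Even 0)) hm
  have hm3 : m = 3 ^ m.primeFactorsList.length := by
    apply Nat.eq_prime_pow_of_unique_prime_dvd hm0
    intro d hd hdm
    have hdG : d ∣ Nat.card G := by rw [hcard]; exact Dvd.dvd.mul_left hdm _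
    rcases hprimes d hd hdG with rfl | rfl
    · exact absurd (even_iff_two_dvd.2 hdm) (Nat.not_even_iff_odd.2 hm)
    · rfl
  exact Cfsg.Agent.S0144.result 2 3 a m.primeFactorsList.length Nat.prime_two Nat.prime_three
    (by rw [hcard]; congr 1)

end Cfsg.Agent.Lib.Helper25.S1936
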