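import Mathlib
import Cfsg.Prelude.Def_OddOrderLocal

/-!
# S4079 module [FWD] (helper2, board #3200)

An automorphism `a` of order dividing `p` (odd) of a `p`-group `L` with `Ω₁ = E` of order `p²`,
`Ω₂ = T` of class two-like behaviour, moving an element of order `p`: then `p = 3` and `a` has
exactly three fixed points.  By helper25.
-/

set_option autoImplicit false
set_option linter.unusedVariables false
set_option linter.unusedSectionVars false
set_option linter.style.haveILetI false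

namespace Cfsg.Agent.Lib.Helper25.S4079Fwd

variable {L : Type*} [Group L] [Finite L] {p : ℕ} [Fact p.Prime]

/-- An automorphism of `p`-power order fixing a subgroup of order divisible by `p` setwise has a
nontrivial fixed point in it. -/
theorem exists_fixed_ne_one (a : MulAut L) (ha : a ^ p = 1) (X : Subgroup L)
    (hX : ∀ x ∈ X, a x ∈ X) (hpX : p ∣ Nat.card X) : ∃ f ∈ X, f ≠ 1 ∧ a f = f := by
  classical
  haveI : Fintype X := Fintype.ofFinite X
  let f : X → X := fun x => ⟨a x, hX x x.2⟩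
  have hinj : Function.Injective f := by
    intro x y hxy
    have : a (x : L) = a (y : L) := congrArg Subtype.val hxy
    exact Subtype.ext (a.injective this)
  let σ : Equiv.Perm X := Equiv.ofBijective f (Finite.injective_iff_bijective.1 hinj)
  have hpow : ∀ (k : ℕ) (x : X), (((σ ^ k) x : X) : L) = (a ^ k) (x : L) := by
    intro k
    induction k with
    | zero => intro x; simp
    | succ k ih =>
      intro x
      rw [pow_succ', Equiv.Perm.mul_apply, pow_succ', MulAut.mul_apply, ← ih x]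
      rfl
  have hσ : σ ^ p ^ 1 = 1 := by
    rw [pow_one]
    ext x
    rw [hpow p x, ha]
    rfl
  have h1 : σ 1 = 1 := by
    apply Subtype.ext
    change a ((1 : X) : L) = ((1 : X) : L)
    simp
  have hcard : p ∣ Fintype.card X := by rwa [← Nat.card_eq_fintype_card]
  obtain ⟨b, hb1, hb2⟩ := Equiv.Perm.exists_fixed_point_of_prime' hcard hσ h1
  refine ⟨b, b.2, ?_, ?_⟩
  · intro h
    exact hb2 (Subtype.ext h)
  · exact congrArg Subtype.val hb1

/-- (i): on an abelian `a`-invariant subgroup of order `p²` and exponent `p`, `(a-1)² = 0`. -/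
theorem fix_delta (a : MulAut L) (ha : a ^ p = 1) (E : Subgroup L)
    (hEinv : ∀ x ∈ E, a x ∈ E) (hEcard : Nat.card E = p ^ 2)
    (hEcomm : ∀ x ∈ E, ∀ y ∈ E, x * y = y * x) :
    ∀ e ∈ E, a (e⁻¹ * a e) = e⁻¹ * a e := by
  have hp : p.Prime := Fact.out
  -- the hom δ : E → L
  let δ : E →* L := MonoidHom.mk' (fun e => (e : L)⁻¹ * a (e : L)) (by
    intro x y
    have h1 : (y : L)⁻¹ * ((x : L)⁻¹ * a (x : L)) = ((x : L)⁻¹ * a (x : L)) * (y : L)⁻¹ :=
      hEcomm _ (inv_mem y.2) _ (mul_mem (inv_mem x.2) (hEinv _ x.2))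
    simp only [Subgroup.coe_mul, mul_inv_rev, map_mul]
    calc (y : L)⁻¹ * (x : L)⁻¹ * (a (x : L) * a (y : L))
        = ((y : L)⁻¹ * ((x : L)⁻¹ * a (x : L))) * a (y : L) := by simp only [mul_assoc]
      _ = (((x : L)⁻¹ * a (x : L)) * (y : L)⁻¹) * a (y : L) := by rw [h1]
      _ = (x : L)⁻¹ * a (x : L) * ((y : L)⁻¹ * a (y : L)) := by simp only [mul_assoc])
  have hδ : ∀ e : E, δ e = (e : L)⁻¹ * a (e : L) := fun e => rfl
  have hcard : Nat.card δ.ker * Nat.card δ.range = p ^ 2 := by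
    rw [← Subgroup.index_ker, Subgroup.card_mul_index, hEcard]
  -- kernel is nontrivial
  obtain ⟨f, hfE, hf1, hff⟩ := exists_fixed_ne_one a ha E hEinv (by rw [hEcard]; exact dvd_pow_self p two_ne_zero)
  have hker : Nat.card δ.ker ≠ 1 := by
    intro h
    have hbot : δ.ker = ⊥ := Subgroup.card_eq_one.1 h
    have hmem : (⟨f, hfE⟩ : E) ∈ δ.ker := by
      rw [MonoidHom.mem_ker, hδ]
      simp [hff]
    rw [hbot, Subgroup.mem_bot] at hmem
    exact hf1 (congrArg Subtype.val hmem)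
  obtain ⟨k, hk2, hk⟩ := (Nat.dvd_prime_pow hp).1 (Dvd.intro _ hcard)
  have hk0 : k ≠ 0 := by
    intro h
    rw [h, pow_zero] at hk
    exact hker hk
  -- so the range has order 1 or p
  have hrange : Nat.card δ.range = 1 ∨ Nat.card δ.range = p := by
    rw [hk] at hcard
    interval_cases k
    · exact absurd rfl hk0
    · right
      have : p ^ 1 * Nat.card δ.range = p ^ 1 * p := by rw [hcard]; ring
      exact Nat.eq_of_mul_eq_mul_left (pow_pos hp.pos 1) this
    · left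
      have : p ^ 2 * Nat.card δ.range = p ^ 2 * 1 := by rw [hcard]; ring
      exact Nat.eq_of_mul_eq_mul_left (pow_pos hp.pos 2) this
  -- range is a-invariant
  have hRinv : ∀ x ∈ δ.range, a x ∈ δ.range := by
    rintro _ ⟨e, rfl⟩
    refine ⟨⟨a (e : L), hEinv _ e.2⟩, ?_⟩
    rw [hδ, hδ]
    simp
  intro e he
  have hmem : e⁻¹ * a e ∈ δ.range := ⟨⟨e, he⟩, rfl⟩
  rcases hrange with h1 | hpR
  · have hbot : δ.range = ⊥ := Subgroup.card_eq_one.1 h1
    rw [hbot, Subgroup.mem_bot] at hmem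
    rw [hmem, map_one]
  · obtain ⟨f', hf'R, hf'1, hf'f⟩ := exists_fixed_ne_one a ha δ.range hRinv (by rw [hpR])
    haveI : Fact (Nat.card δ.range).Prime := ⟨by rw [hpR]; exact hp⟩
    have htop : Subgroup.zpowers (⟨f', hf'R⟩ : δ.range) = ⊤ := by
      apply zpowers_eq_top_of_prime_card (p := Nat.card δ.range) rfl
      intro h
      exact hf'1 (congrArg Subtype.val h)
    have : (⟨e⁻¹ * a e, hmem⟩ : δ.range) ∈ Subgroup.zpowers (⟨f', hf'R⟩ : δ.range) := by
      rw [htop]; trivial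
    obtain ⟨n, hn⟩ := Subgroup.mem_zpowers_iff.1 this
    have hn' : f' ^ n = e⁻¹ * a e := by
      have := congrArg Subtype.val hn
      simpa using this
    rw [← hn', map_zpow, hf'f]

/-- MODULE [FWD] of S4079, exact statement of board #3200. -/
theorem fwd (hp : p ≠ 2) (hLp : IsPGroup p L) (E T : Subgroup L)
    (hE : ∀ x, x ∈ E ↔ x ^ p = 1) (hT : ∀ x, x ∈ T ↔ x ^ p ^ 2 = 1)
    (hEcard : Nat.card E = p ^ 2) (hET : ∀ e ∈ E, ∀ t ∈ T, e * t = t * e)
    (hpow : ∀ s ∈ T, ∀ t ∈ T, (s * t) ^ p = s ^ p * t ^ p)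
    (hsurj : ∀ e ∈ E, ∃ t ∈ T, t ^ p = e) (a : MulAut L) (ha : a ^ p = 1) (x : L)
    (hx : x ^ p = 1) (hax : a x ≠ x) : p = 3 ∧ Nat.card {y : L // a y = y} = 3 := by
  have hpp : p.Prime := Fact.out
  have hp3 : 3 ≤ p := by
    have := hpp.two_le
    omega
  -- invariance
  have hEinv : ∀ e ∈ E, a e ∈ E := by
    intro e he
    rw [hE] at he ⊢
    rw [← map_pow, he, map_one]
  have hTinv : ∀ t ∈ T, a t ∈ T := by
    intro t ht
    rw [hT] at ht ⊢
    rw [← map_pow, ht, map_one]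
  have hEleT : E ≤ T := by
    intro e he
    rw [hE] at he
    rw [hT, pow_two, pow_mul, he, one_pow]
  have hEcomm : ∀ u ∈ E, ∀ v ∈ E, u * v = v * u := fun u hu v hv => hET u hu v (hEleT hv)
  have hi := fix_delta a ha E hEinv hEcard hEcomm
  have hxE : x ∈ E := (hE x).2 hx
  -- the elements d, c, e2, z2
  obtain ⟨d, hdT, hdx⟩ := hsurj x hxE
  obtain ⟨c, hc⟩ : ∃ c, c = d⁻¹ * a d := ⟨_, rfl⟩
  have hcT : c ∈ T := hc ▸ mul_mem (inv_mem hdT) (hTinv d hdT)
  have hcp : c ^ p = x⁻¹ * a x := by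
    rw [hc, hpow _ (inv_mem hdT) _ (hTinv d hdT), inv_pow, hdx, ← map_pow, hdx]
  have hcp1 : c ^ p ≠ 1 := by
    rw [hcp]
    intro h
    apply hax
    have := congrArg (fun y => x * y) h
    simpa using this
  have hcpfix : a (c ^ p) = c ^ p := by rw [hcp]; exact hi x hxE
  obtain ⟨e2, he2⟩ : ∃ e2, e2 = c⁻¹ * a c := ⟨_, rfl⟩
  have he2E : e2 ∈ E := by
    rw [hE, he2, hpow _ (inv_mem hcT) _ (hTinv c hcT), inv_pow, ← map_pow, hcpfix, inv_mul_cancel]
  obtain ⟨z2, hz2⟩ : ∃ z2, z2 = e2⁻¹ * a e2 := ⟨_, rfl⟩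
  have hz2E : z2 ∈ E := hz2 ▸ mul_mem (inv_mem he2E) (hEinv e2 he2E)
  have hz2fix : a z2 = z2 := by rw [hz2]; exact hi e2 he2E
  have had : a d = d * c := by rw [hc]; simp
  have hac : a c = c * e2 := by rw [he2]; simp
  have hae2 : a e2 = e2 * z2 := by rw [hz2]; simp
  have hce2 : Commute c e2 := (hET e2 he2E c hcT).symm
  have hcz2 : Commute c z2 := (hET z2 hz2E c hcT).symm
  have he2z2 : Commute e2 z2 := hEcomm e2 he2E z2 hz2E
  have he2p : e2 ^ p = 1 := (hE e2).1 he2E
  have hz2p : z2 ^ p = 1 := (hE z2).1 hz2E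
  -- iterate
  have hiter : ∀ k : ℕ, (a ^ k) d = d * c ^ k * e2 ^ (k.choose 2) * z2 ^ (k.choose 3) := by
    intro k
    induction k with
    | zero => simp
    | succ k ih =>
      rw [pow_succ', MulAut.mul_apply, ih, map_mul, map_mul, map_mul, map_pow, map_pow, map_pow,
        had, hac, hae2, hz2fix, hce2.mul_pow, he2z2.mul_pow]
      have h2 : (k + 1).choose 2 = k + k.choose 2 := by
        rw [Nat.choose_succ_succ' k 1, Nat.choose_one_right]
      have h3 : (k + 1).choose 3 = k.choose 2 + k.choose 3 := Nat.choose_succ_succ' k 2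
      rw [h2, h3, pow_succ, pow_add, pow_add]
      -- d c (c^k e2^k) (e2^C2 z2^C2) z2^C3 = d (c^k c) (e2^k e2^C2) (z2^C2 z2^C3)
      have c1 : Commute (e2 ^ k) (c) := (hce2.symm.pow_left k)
      have c2 : Commute (z2 ^ k.choose 2) (e2 ^ k.choose 2) := (he2z2.symm.pow_pow _ _)
      calc d * c * (c ^ k * e2 ^ k) * (e2 ^ k.choose 2 * z2 ^ k.choose 2) * z2 ^ k.choose 3
          = d * (c * c ^ k) * (e2 ^ k * e2 ^ k.choose 2) * (z2 ^ k.choose 2 * z2 ^ k.choose 3) := by
            simp only [mul_assoc]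
        _ = d * (c ^ k * c) * (e2 ^ k * e2 ^ k.choose 2) * (z2 ^ k.choose 2 * z2 ^ k.choose 3) := by
            rw [(Commute.self_pow c k).eq]
  have hrel : c ^ p * e2 ^ (p.choose 2) * z2 ^ (p.choose 3) = 1 := by
    have h := hiter p
    rw [ha, MulAut.one_apply] at h
    have h' : d * 1 = d * (c ^ p * e2 ^ (p.choose 2) * z2 ^ (p.choose 3)) := by
      rw [mul_one]; simpa [mul_assoc] using h
    exact (mul_left_cancel h').symm
  have he2c : e2 ^ (p.choose 2) = 1 := by
    obtain ⟨m, hm⟩ := hpp.dvd_choose_self (k := 2) two_ne_zero (by omega)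
    rw [hm, pow_mul, he2p, one_pow]
  rw [he2c, mul_one] at hrel
  have hp_eq : p = 3 := by
    by_contra hne
    have h4 : 3 < p := by omega
    obtain ⟨m, hm⟩ := hpp.dvd_choose_self (k := 3) (by norm_num) h4
    rw [hm, pow_mul, hz2p, one_pow, mul_one] at hrel
    exact hcp1 hrel
  subst hp_eq
  refine ⟨rfl, ?_⟩
  have hrel3 : c ^ 3 * z2 = 1 := by simpa using hrel
  have hz2c : z2 = (c ^ 3)⁻¹ := eq_inv_of_mul_eq_one_right hrel3
  have hz2ne : z2 ≠ 1 := by
    intro h
    rw [h, mul_one] at hrel3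
    exact hcp1 hrel3
  have he2nfix : a e2 ≠ e2 := by
    rw [hae2]
    intro h
    apply hz2ne
    have := congrArg (fun y => e2⁻¹ * y) h
    simpa using this
  -- Step A: fixed points in E
  let F : Subgroup L :=
    { carrier := {y | y ∈ E ∧ a y = y}
      mul_mem' := fun {u v} hu hv => ⟨mul_mem hu.1 hv.1, by rw [map_mul, hu.2, hv.2]⟩
      one_mem' := ⟨one_mem E, map_one a⟩
      inv_mem' := fun {u} hu => ⟨inv_mem hu.1, by rw [map_inv, hu.2]⟩ }
  have hFE : F ≤ E := fun y hy => hy.1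
  have hzF : Subgroup.zpowers z2 ≤ F := by
    rw [Subgroup.zpowers_le]
    exact ⟨hz2E, hz2fix⟩
  have hordz : orderOf z2 = 3 := orderOf_eq_prime hz2p hz2ne
  have hcardz : Nat.card (Subgroup.zpowers z2) = 3 := by rw [Nat.card_zpowers, hordz]
  have hFcard : Nat.card F = 3 := by
    have h1 : Nat.card F ∣ 9 := by
      have := Subgroup.card_dvd_of_le hFE
      rwa [hEcard] at this
    have h2 : 3 ∣ Nat.card F := hcardz ▸ Subgroup.card_dvd_of_le hzF
    have h3 : Nat.card F ≠ 9 := by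
      intro h9
      have : F = E := Subgroup.eq_of_le_of_card_ge hFE (by rw [hEcard, h9]; norm_num)
      have he2F : e2 ∈ F := this ▸ he2E
      exact he2nfix he2F.2
    have h4 : Nat.card F ≤ 9 := Nat.le_of_dvd (by norm_num) h1
    interval_cases h : Nat.card F <;> omega
  have hFz : Subgroup.zpowers z2 = F :=
    Subgroup.eq_of_le_of_card_ge hzF (by rw [hFcard, hcardz])
  -- Step B: every fixed point lies in E
  have hfixE : ∀ y : L, a y = y → y ∈ E := by
    intro y hy
    by_contra hyE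
    rw [hE] at hyE
    obtain ⟨n, hn⟩ := (IsPGroup.iff_orderOf.1 hLp) y
    have hn2 : 2 ≤ n := by
      by_contra hlt
      push Not at hlt
      apply hyE
      have : orderOf y ∣ 3 := by
        rw [hn]
        exact pow_dvd_pow 3 (by omega : n ≤ 1) |>.trans (by norm_num)
      exact orderOf_dvd_iff_pow_eq_one.1 this
    obtain ⟨w, hw⟩ : ∃ w, w = y ^ (3 ^ (n - 2)) := ⟨_, rfl⟩
    have hw9 : w ^ 3 ^ 2 = 1 := by
      rw [hw, ← pow_mul, ← pow_add, show n - 2 + 2 = n by omega, ← hn, pow_orderOf_eq_one]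
    have hw3 : w ^ 3 ≠ 1 := by
      rw [hw, ← pow_mul, ← pow_succ]
      intro h
      have hd : orderOf y ∣ 3 ^ (n - 2 + 1) := orderOf_dvd_of_pow_eq_one h
      rw [hn] at hd
      have := (Nat.pow_dvd_pow_iff_le_right (by norm_num : 1 < 3)).1 hd
      omega
    have hwfix : a w = w := by rw [hw, map_pow, hy]
    have hwT : w ∈ T := (hT w).2 hw9
    have hw3E : w ^ 3 ∈ E := by
      rw [hE, ← pow_mul]
      exact hw9
    have hw3F : w ^ 3 ∈ F := ⟨hw3E, by rw [map_pow, hwfix]⟩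
    rw [← hFz] at hw3F
    obtain ⟨k, hk⟩ := Subgroup.mem_zpowers_iff.1 hw3F
    have hckT : c ^ k ∈ T := zpow_mem hcT k
    have hck3 : (c ^ k) ^ 3 = (z2 ^ k)⁻¹ := by
      rw [hz2c, inv_zpow, inv_inv, ← zpow_natCast, ← zpow_mul, mul_comm, zpow_mul, zpow_natCast]
    obtain ⟨e', he'⟩ : ∃ e', e' = w * c ^ k := ⟨_, rfl⟩
    have he'E : e' ∈ E := by
      rw [hE, he', hpow w hwT _ hckT, hck3, ← hk, mul_inv_cancel]
    have hδ : e'⁻¹ * a e' = e2 ^ k := by
      rw [he', map_mul, map_zpow, hwfix, hac, hce2.mul_zpow]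
      simp [mul_assoc]
    have h1 := hi e' he'E
    rw [hδ, map_zpow, hae2, he2z2.mul_zpow] at h1
    have hzk : z2 ^ k = 1 := by
      have := congrArg (fun y => (e2 ^ k)⁻¹ * y) h1
      simpa using this
    exact hw3 (by rw [← hk, hzk])
  -- conclusion
  have hset : ∀ y : L, a y = y ↔ y ∈ Subgroup.zpowers z2 := by
    intro y
    rw [hFz]
    exact ⟨fun hy => ⟨hfixE y hy, hy⟩, fun hy => hy.2⟩
  rw [Nat.card_congr (Equiv.subtypeEquivRight hset)]
  exact hcardz

end Cfsg.Agent.Lib.Helper25.S4079Fwd
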