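import Cfsg.Agent.Lib.Helper53.SpReg.Defs
import Cfsg.Agent.Lib.Helper53.SpReg.Act
import Cfsg.Agent.Lib.Helper13.Symp

set_option autoImplicit false

/-!
helper25 for helper53's S2281 project, module S2281-[CALC-REL]: the two commutator relations
between the symplectic root elements `tauE`, `sigE`.
-/

namespace Cfsg.Agent.Lib.Helper25.SpReg

open Matrix Cfsg.Agent.Lib.Helper53.SpReg Cfsg.Agent.Lib.Helper13

variable {n : ℕ} {F : Type*} [Field F]

theorem form_zero_swap {x y : Fin n ⊕ Fin n → F} (h : Cfsg.sympForm n F x y = 0) :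
    Cfsg.sympForm n F y x = 0 := by
  rw [sympForm_swap, h, neg_zero]

theorem tau_sig_rel (x y z : Fin n ⊕ Fin n → F) (hxy : Cfsg.sympForm n F x y = 0)
    (hyz : Cfsg.sympForm n F y z = 0) (s t : F) :
    (tauE z t : Matrix.symplecticGroup (Fin n) F) * sigE x y s =
      sigE z y (s * t * Cfsg.sympForm n F x z) *
        tauE y (-(s ^ 2 * t * (Cfsg.sympForm n F x z) ^ 2)) * sigE x y s * tauE z t := by
  have hzy : Cfsg.sympForm n F z y = 0 := form_zero_swap hyz
  have hzx : Cfsg.sympForm n F z x = -Cfsg.sympForm n F x z := sympForm_swap z x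
  apply sp_ext
  intro v
  simp only [mul_mulVec, tauE_mulVec, sigE_mulVec hxy, sigE_mulVec hzy]
  simp only [sympForm_add_left, sympForm_smul_left, sympForm_self, hxy, hyz, hzy, hzx]
  obtain ⟨b, hb⟩ : ∃ b, b = Cfsg.sympForm n F x z := ⟨_, rfl⟩
  rw [← hb]
  ext i
  simp only [Pi.add_apply, Pi.smul_apply, smul_eq_mul]
  ring

theorem sig_sig_rel (x y z w : Fin n ⊕ Fin n → F) (hxy : Cfsg.sympForm n F x y = 0)
    (hzw : Cfsg.sympForm n F z w = 0) (hxz : Cfsg.sympForm n F x z = 0)
    (hxw : Cfsg.sympForm n F x w = 0) (hyw : Cfsg.sympForm n F y w = 0) (s t : F) :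
    (sigE x y s : Matrix.symplecticGroup (Fin n) F) * sigE z w t =
      sigE x w (-(s * t * Cfsg.sympForm n F y z)) * sigE z w t * sigE x y s := by
  have hyx : Cfsg.sympForm n F y x = 0 := form_zero_swap hxy
  have hzx : Cfsg.sympForm n F z x = 0 := form_zero_swap hxz
  have hwx : Cfsg.sympForm n F w x = 0 := form_zero_swap hxw
  have hwy : Cfsg.sympForm n F w y = 0 := form_zero_swap hyw
  have hzy : Cfsg.sympForm n F z y = -Cfsg.sympForm n F y z := sympForm_swap z y
  apply sp_ext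
  intro v
  simp only [mul_mulVec, sigE_mulVec hxy, sigE_mulVec hzw, sigE_mulVec hxw]
  simp only [sympForm_add_left, sympForm_smul_left, sympForm_self, hyx, hzw, hxz, hzx,
    hxw, hwx, hyw, hwy, hzy]
  obtain ⟨b, hb⟩ : ∃ b, b = Cfsg.sympForm n F y z := ⟨_, rfl⟩
  rw [← hb]
  ext i
  simp only [Pi.add_apply, Pi.smul_apply, smul_eq_mul]
  ring

end Cfsg.Agent.Lib.Helper25.SpReg
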