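import Mathlib
import Cfsg.Agent.Lib.Helper90.TIInvDefs

/-!
# S3043 module [F1] (helper25): basic facts

`M` is abelian of odd order and inverted by `z`; `N = M ⋊ H`.
-/

set_option autoImplicit false
set_option linter.unusedSectionVars false
set_option linter.style.haveILetI false

namespace Cfsg.Agent.Lib.Helper25.TIInv

open Cfsg.Agent.Lib.Helper90.TIInv

variable {G : Type*} [Group G] [Finite G] {M : Subgroup G} {z : G}

/-- elements of the centralizer of a nontrivial element of `M` have odd order. -/
theorem odd_orderOf_of_commute (h : Hyp M z) {x : G} (hx : x ∈ M) (hx1 : x ≠ 1) {y : G}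
    (hy : y * x = x * y) : Odd (orderOf y) := by
  have hmem : y ∈ Subgroup.centralizer ({x} : Set G) := by
    rw [Subgroup.mem_centralizer_iff]
    intro w hw
    rw [Set.mem_singleton_iff] at hw
    rw [hw]
    exact hy.symm
  have hodd := h.odd x hx hx1
  have hdvd : orderOf y ∣ Nat.card ↥(Subgroup.centralizer ({x} : Set G)) := by
    have := orderOf_dvd_natCard (⟨y, hmem⟩ : ↥(Subgroup.centralizer ({x} : Set G)))
    rwa [← Subgroup.orderOf_coe] at this
  exact Odd.of_dvd_nat hodd hdvd

/-- no nontrivial element of `M` commutes with an involution. -/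
theorem eq_one_of_commute_invol (h : Hyp M z) {u : G} (hu : orderOf u = 2) {x : G} (hx : x ∈ M)
    (hc : u * x = x * u) : x = 1 := by
  by_contra hx1
  have := odd_orderOf_of_commute h hx hx1 hc
  rw [hu] at this
  exact absurd this (by decide)

/-- conjugation by an element of the normalizer, as an endomorphism of `M`. -/
def conjHom (M : Subgroup G) (u : G) (hu : u ∈ Nm M) : M →* M where
  toFun x := ⟨u * x * u⁻¹, (Subgroup.mem_normalizer_iff.mp hu x).mp x.2⟩
  map_one' := by
    apply Subtype.ext
    simp
  map_mul' x y := by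
    apply Subtype.ext
    simp only [Subgroup.coe_mul]
    group

/-- an involution of `N` inverts `M` and `M` is abelian. -/
theorem invol_inverts (h : Hyp M z) {u : G} (hu : orderOf u = 2) (huN : u ∈ Nm M) :
    (∀ x ∈ M, u * x * u⁻¹ = x⁻¹) ∧ (∀ x ∈ M, ∀ y ∈ M, x * y = y * x) := by
  have hu2 : u * u = 1 := by
    have := pow_orderOf_eq_one u
    rwa [hu, pow_two] at this
  have huinv : u⁻¹ = u := inv_eq_of_mul_eq_one_left hu2
  have hfpf : MonoidHom.FixedPointFree (conjHom M u huN) := by
    intro x hx
    have hx' : u * (x : G) * u⁻¹ = (x : G) := congrArg Subtype.val hx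
    have hc : u * (x : G) = (x : G) * u := by
      calc u * (x : G) = u * (x : G) * u⁻¹ * u := by group
        _ = (x : G) * u := by rw [hx']
    have := eq_one_of_commute_invol h hu x.2 hc
    exact Subtype.ext this
  have hinvol : Function.Involutive (conjHom M u huN) := by
    intro x
    apply Subtype.ext
    show u * (u * (x : G) * u⁻¹) * u⁻¹ = (x : G)
    rw [huinv]
    calc u * (u * (x : G) * u) * u = (u * u) * (x : G) * (u * u) := by group
      _ = (x : G) := by rw [hu2, one_mul, mul_one]
  constructor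
  · intro x hx
    have := congrFun (hfpf.coe_eq_inv_of_involutive hinvol) ⟨x, hx⟩
    exact congrArg Subtype.val this
  · intro x hx y hy
    have := hfpf.commute_all_of_involutive hinvol ⟨x, hx⟩ ⟨y, hy⟩
    exact congrArg Subtype.val this.eq

/-- [F1] -/
theorem basic (h : Hyp M z) : Basic M z := by
  obtain ⟨hinv, hcomm⟩ := invol_inverts h h.hz h.zN
  have hzM : z ∉ M := by
    intro hz
    have hz1 : z ≠ 1 := by
      intro h1
      have := h.hz
      rw [h1, orderOf_one] at this
      exact absurd this (by decide)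
    have := odd_orderOf_of_commute h hz hz1 (rfl : z * z = z * z)
    rw [h.hz] at this
    exact absurd this (by decide)
  have hMH : M ⊓ Hz M z = ⊥ := by
    rw [eq_bot_iff]
    intro x hx
    rw [Subgroup.mem_inf] at hx
    obtain ⟨hxM, hxH⟩ := hx
    rw [Subgroup.mem_inf] at hxH
    obtain ⟨-, hxC⟩ := hxH
    rw [Subgroup.mem_bot]
    rw [Subgroup.mem_centralizer_iff] at hxC
    have hc : z * x = x * z := hxC z (Set.mem_singleton z)
    exact eq_one_of_commute_invol h h.hz hxM hc
  have hHN : Hz M z ≤ Nm M := inf_le_left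
  have hmulH : ∀ n ∈ Nm M, ∃ a ∈ M, ∃ k ∈ Hz M z, n = a * k := by
    intro n hn
    rw [← h.fac] at hn
    have hset := Subgroup.coe_mul_of_right_le_normalizer_left M (Hz M z) hHN
    have hn' : n ∈ ((M ⊔ Hz M z : Subgroup G) : Set G) := hn
    rw [hset] at hn'
    obtain ⟨a, ha, k, hk, hak⟩ := hn'
    exact ⟨a, ha, k, hk, hak.symm⟩
  refine ⟨?_, hinv, hcomm, hzM, hMH, hmulH, ?_⟩
  · -- `|M|` odd
    by_contra hodd
    rw [Nat.not_odd_iff_even, even_iff_two_dvd] at hodd
    haveI : Fact (Nat.Prime 2) := ⟨Nat.prime_two⟩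
    obtain ⟨x, hx⟩ := exists_prime_orderOf_dvd_card' (G := M) 2 hodd
    have hx1 : (x : G) ≠ 1 := by
      intro h1
      have : x = 1 := Subtype.ext h1
      rw [this, orderOf_one] at hx
      exact absurd hx (by decide)
    have := odd_orderOf_of_commute h x.2 hx1 (rfl : (x : G) * x = x * x)
    rw [Subgroup.orderOf_coe, hx] at this
    exact absurd this (by decide)
  · -- `|N| = |M| |H|`
    have hMN : M ≤ Nm M := Subgroup.le_normalizer
    let f : M × Hz M z → Nm M := fun p => ⟨(p.1 : G) * (p.2 : G), mul_mem (hMN p.1.2) (hHN p.2.2)⟩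
    have hinj : Function.Injective f := by
      rintro ⟨a, k⟩ ⟨a', k'⟩ hf
      have hf' : (a : G) * (k : G) = (a' : G) * (k' : G) := congrArg Subtype.val hf
      have hmem : (a' : G)⁻¹ * (a : G) ∈ M ⊓ Hz M z := by
        rw [Subgroup.mem_inf]
        constructor
        · exact mul_mem (inv_mem a'.2) a.2
        · have : (a' : G)⁻¹ * (a : G) = (k' : G) * (k : G)⁻¹ := by
            calc (a' : G)⁻¹ * (a : G) = (a' : G)⁻¹ * ((a : G) * (k : G)) * (k : G)⁻¹ := by group
              _ = (a' : G)⁻¹ * ((a' : G) * (k' : G)) * (k : G)⁻¹ := by rw [hf']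
              _ = (k' : G) * (k : G)⁻¹ := by group
          rw [this]
          exact mul_mem k'.2 (inv_mem k.2)
      rw [hMH, Subgroup.mem_bot] at hmem
      have haa : (a : G) = (a' : G) := by
        calc (a : G) = (a' : G) * ((a' : G)⁻¹ * (a : G)) := by group
          _ = (a' : G) := by rw [hmem, mul_one]
      have hkk : (k : G) = (k' : G) := by
        rw [haa] at hf'
        exact mul_left_cancel hf'
      exact Prod.ext (Subtype.ext haa) (Subtype.ext hkk)
    have hsurj : Function.Surjective f := by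
      rintro ⟨n, hn⟩
      obtain ⟨a, ha, k, hk, hak⟩ := hmulH n hn
      exact ⟨(⟨a, ha⟩, ⟨k, hk⟩), Subtype.ext hak.symm⟩
    rw [← Nat.card_prod]
    exact (Nat.card_congr (Equiv.ofBijective f ⟨hinj, hsurj⟩)).symm

end Cfsg.Agent.Lib.Helper25.TIInv
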