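import Mathlib
import Cfsg.Agent.Lib.Helper90.TIInvDefs
import Cfsg.Agent.Lib.Helper25.TIInvF1

/-!
# S3043 module [F2] (helper25): the involutions of `N`

The involutions of `N = N_G(M)` are the `|M|` elements of `M z`; they are all `M`-conjugate to `z`
and invert `M`; `z` is the only involution of `H`.
-/

set_option autoImplicit false
set_option linter.unusedSectionVars false
set_option linter.style.haveILetI false

namespace Cfsg.Agent.Lib.Helper25.TIInv

open Cfsg.Agent.Lib.Helper90.TIInv

variable {G : Type*} [Group G] [Finite G] {M : Subgroup G} {z : G}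

theorem z_mul_self (h : Hyp M z) : z * z = 1 := by
  have := pow_orderOf_eq_one z
  rwa [h.hz, pow_two] at this

theorem z_inv (h : Hyp M z) : z⁻¹ = z := inv_eq_of_mul_eq_one_left (z_mul_self h)

theorem z_ne_one (h : Hyp M z) : z ≠ 1 := by
  intro h1
  have := h.hz
  rw [h1, orderOf_one] at this
  exact absurd this (by decide)

theorem z_mem_Hz (h : Hyp M z) : z ∈ Hz M z := by
  rw [Subgroup.mem_inf]
  refine ⟨h.zN, ?_⟩
  rw [Subgroup.mem_centralizer_iff]
  intro w hw
  rw [Set.mem_singleton_iff] at hw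
  rw [hw]

/-- `z a = a⁻¹ z` for `a ∈ M`. -/
theorem z_mul (_h : Hyp M z) (b : Basic M z) {a : G} (ha : a ∈ M) : z * a = a⁻¹ * z := by
  have := b.inv a ha
  calc z * a = z * a * z⁻¹ * z := by group
    _ = a⁻¹ * z := by rw [this]

theorem isInv_aux (h : Hyp M z) (b : Basic M z) {a : G} (ha : a ∈ M) : orderOf (a * z) = 2 := by
  haveI : Fact (Nat.Prime 2) := ⟨Nat.prime_two⟩
  apply orderOf_eq_prime
  · rw [pow_two]
    calc a * z * (a * z) = a * (z * a) * z := by group
      _ = a * (a⁻¹ * z) * z := by rw [z_mul h b ha]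
      _ = z * z := by group
      _ = 1 := z_mul_self h
  · intro h1
    apply b.zM
    have : z = a⁻¹ := by
      calc z = a⁻¹ * (a * z) := by group
        _ = a⁻¹ := by rw [h1, mul_one]
    rw [this]
    exact inv_mem ha

theorem invs_aux (h : Hyp M z) (b : Basic M z) {u : G} (huN : u ∈ Nm M) (hu : orderOf u = 2) :
    ∃ a ∈ M, u = a * z := by
  obtain ⟨huinv, -⟩ := invol_inverts h hu huN
  have hu2 : u * u = 1 := by
    have := pow_orderOf_eq_one u
    rwa [hu, pow_two] at this
  -- `w = u z` centralizes `M`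
  have hwN : u * z ∈ Nm M := mul_mem huN h.zN
  have hwc : ∀ x ∈ M, (u * z) * x = x * (u * z) := by
    intro x hx
    have h1 := b.inv x hx
    have h2 := huinv x⁻¹ (inv_mem hx)
    rw [inv_inv] at h2
    calc u * z * x = u * (z * x * z⁻¹) * u⁻¹ * (u * z) := by group
      _ = u * x⁻¹ * u⁻¹ * (u * z) := by rw [h1]
      _ = x * (u * z) := by rw [h2]
  obtain ⟨a, ha, k, hk, hak⟩ := b.mulH (u * z) hwN
  -- `k` centralizes `M` and commutes with `z`
  have hkc : ∀ x ∈ M, k * x = x * k := by
    intro x hx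
    have hk' : k = a⁻¹ * (u * z) := by rw [hak]; group
    have hax : a⁻¹ * x = x * a⁻¹ := b.comm a⁻¹ (inv_mem ha) x hx
    calc k * x = a⁻¹ * ((u * z) * x) := by rw [hk']; group
      _ = a⁻¹ * (x * (u * z)) := by rw [hwc x hx]
      _ = (a⁻¹ * x) * (u * z) := by group
      _ = (x * a⁻¹) * (u * z) := by rw [hax]
      _ = x * k := by rw [hk']; group
  have hkz : z * k = k * z := by
    have hkC : k ∈ Cz z := (Subgroup.mem_inf.mp hk).2
    rw [Subgroup.mem_centralizer_iff] at hkC
    exact hkC z (Set.mem_singleton z)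
  -- `u = a k z`
  have huakz : u = a * k * z := by
    calc u = (u * z) * z⁻¹ := by group
      _ = a * k * z := by rw [hak, z_inv h]
  -- `k² = 1`
  have hk2 : k * k = 1 := by
    have hka : k * a⁻¹ = a⁻¹ * k := hkc a⁻¹ (inv_mem ha)
    have hza := z_mul h b ha
    have e : u * u = k * k := by
      calc u * u = a * k * z * (a * k * z) := by rw [← huakz]
        _ = a * k * (z * a) * k * z := by group
        _ = a * k * (a⁻¹ * z) * k * z := by rw [hza]
        _ = a * (k * a⁻¹) * (z * k) * z := by group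
        _ = a * (a⁻¹ * k) * (k * z) * z := by rw [hka, hkz]
        _ = k * k * (z * z) := by group
        _ = k * k := by rw [z_mul_self h, mul_one]
    rw [← e, hu2]
  -- `k` has odd order
  obtain ⟨x, hxM, hx1⟩ : ∃ x ∈ M, x ≠ 1 := by
    by_contra hcon
    push Not at hcon
    apply h.ne
    rw [eq_bot_iff]
    intro x hx
    rw [Subgroup.mem_bot]
    exact hcon x hx
  have hodd := odd_orderOf_of_commute h hxM hx1 (hkc x hxM)
  have hdvd : orderOf k ∣ 2 := by
    apply orderOf_dvd_of_pow_eq_one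
    rw [pow_two, hk2]
  have hk1 : k = 1 := by
    have hle : orderOf k ≤ 2 := Nat.le_of_dvd (by norm_num) hdvd
    have hpos : 0 < orderOf k := orderOf_pos k
    have : orderOf k = 1 := by
      rcases hodd with ⟨r, hr⟩
      interval_cases hko : orderOf k
      · rfl
      · omega
    exact orderOf_eq_one_iff.mp this
  refine ⟨a, ha, ?_⟩
  rw [huakz, hk1, mul_one]

/-- [F2] -/
theorem invN (h : Hyp M z) (b : Basic M z) : InvN M z := by
  have hMN : M ≤ Nm M := Subgroup.le_normalizer
  refine ⟨fun u huN hu => invs_aux h b huN hu, fun a ha => isInv_aux h b ha, ?_,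
    fun u huN hu => (invol_inverts h hu huN).1, ?_, ?_⟩
  · -- conj
    intro a ha
    obtain ⟨r, hr⟩ := b.oddM
    refine ⟨a ^ (r + 1), pow_mem ha _, ?_⟩
    have hb : a ^ (r + 1) ∈ M := pow_mem ha _
    have hsq : a ^ (r + 1) * a ^ (r + 1) = a := by
      have hcard : a ^ (Nat.card M) = 1 := by
        have h1 : (⟨a, ha⟩ : M) ^ (Nat.card M) = 1 := pow_card_eq_one'
        have h2 := congrArg Subtype.val h1
        rw [Subgroup.coe_pow, Subgroup.coe_one] at h2
        exact h2
      rw [← pow_add]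
      have : r + 1 + (r + 1) = Nat.card M + 1 := by omega
      rw [this, pow_succ, hcard, one_mul]
    have hz := z_mul h b (inv_mem hb)
    rw [inv_inv] at hz
    calc a * z = a ^ (r + 1) * a ^ (r + 1) * z := by rw [hsq]
      _ = a ^ (r + 1) * (a ^ (r + 1) * z) := by group
      _ = a ^ (r + 1) * (z * (a ^ (r + 1))⁻¹) := by rw [hz]
      _ = a ^ (r + 1) * z * (a ^ (r + 1))⁻¹ := by group
  · -- zuniq
    intro k hk hko
    have hkN : k ∈ Nm M := (Subgroup.mem_inf.mp hk).1
    obtain ⟨a, ha, hka⟩ := invs_aux h b hkN hko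
    have haH : a ∈ Hz M z := by
      have : a = k * z⁻¹ := by rw [hka]; group
      rw [this]
      exact mul_mem hk (inv_mem (z_mem_Hz h))
    have ha1 : a ∈ M ⊓ Hz M z := Subgroup.mem_inf.mpr ⟨ha, haH⟩
    rw [b.MH, Subgroup.mem_bot] at ha1
    rw [hka, ha1, one_mul]
  · -- cardInv
    let f : M → {u : G // orderOf u = 2 ∧ u ∈ Nm M} := fun a =>
      ⟨(a : G) * z, isInv_aux h b a.2, mul_mem (hMN a.2) h.zN⟩
    have hinj : Function.Injective f := by
      intro a a' hf
      have : (a : G) * z = (a' : G) * z := congrArg Subtype.val hf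
      exact Subtype.ext (mul_right_cancel this)
    have hsurj : Function.Surjective f := by
      rintro ⟨u, hu, huN⟩
      obtain ⟨a, ha, hua⟩ := invs_aux h b huN hu
      exact ⟨⟨a, ha⟩, Subtype.ext hua.symm⟩
    exact (Nat.card_congr (Equiv.ofBijective f ⟨hinj, hsurj⟩)).symm

end Cfsg.Agent.Lib.Helper25.TIInv
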