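import Mathlib
import Cfsg.Agent.Lib.Helper90.TIInvDefs
import Cfsg.Agent.Lib.Helper25.TIInvF2

/-!
# S3043 module [F4] (helper25): every coset `M g` outside `N` contains an involution, and `|H| < |M|`

Counting: the cosets `M u` for the involutions `u ∉ N` are pairwise disjoint ([F3]) and lie
outside `N`; if `M g₀` (`g₀ ∉ N`) had no involution, the `|M|²` elements of `M g₀ M` would be missed.
-/

set_option autoImplicit false
set_option linter.unusedSectionVars false
set_option linter.style.haveILetI false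

namespace Cfsg.Agent.Lib.Helper25.TIInv

open Cfsg.Agent.Lib.Helper90.TIInv

variable {G : Type*} [Group G] [Finite G] {M : Subgroup G} {z : G}

theorem orderOf_conj_eq (t x : G) : orderOf (t * x * t⁻¹) = orderOf x := by
  have := orderOf_injective (MulAut.conj t).toMonoidHom (MulAut.conj t).injective x
  simpa using this

theorem mem_Nm_of_cj_eq {g : G} (hg : cj g M = M) : g ∈ Nm M := by
  rw [Subgroup.mem_normalizer_iff]
  intro x
  constructor
  · intro hx
    rw [← hg]
    exact ⟨x, hx, rfl⟩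
  · intro hx
    rw [← hg] at hx
    obtain ⟨y, hy, hyx⟩ := hx
    have : y = x := by
      have h1 : g * y * g⁻¹ = g * x * g⁻¹ := hyx
      have h2 := mul_right_cancel h1
      exact mul_left_cancel h2
    rw [← this]
    exact hy

/-- TI: if `g c g⁻¹ ∈ M` for some `c ∈ M`, `c ≠ 1`, then `g ∈ N`. -/
theorem mem_Nm_of_conj_mem (h : Hyp M z) {g c : G} (hc : c ∈ M) (hc1 : c ≠ 1)
    (hgc : g * c * g⁻¹ ∈ M) : g ∈ Nm M := by
  apply mem_Nm_of_cj_eq
  apply h.ti
  intro hbot
  have hmem : g * c * g⁻¹ ∈ M ⊓ cj g M := Subgroup.mem_inf.mpr ⟨hgc, ⟨c, hc, rfl⟩⟩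
  rw [hbot, Subgroup.mem_bot] at hmem
  apply hc1
  have : c = g⁻¹ * (g * c * g⁻¹) * g := by group
  rw [this, hmem]
  group

/-- the injection `(u, a) ↦ a u` on pairs (involution outside `N`, element of `M`). -/
theorem out_inj (u : Uniq M) {v v' a a' : G} (hv : orderOf v = 2) (hvN : v ∉ Nm M)
    (hv' : orderOf v' = 2) (ha : a ∈ M) (ha' : a' ∈ M) (heq : a * v = a' * v') :
    v = v' ∧ a = a' := by
  have hv'eq : v' = (a'⁻¹ * a) * v := by
    calc v' = a'⁻¹ * (a' * v') := by group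
      _ = a'⁻¹ * (a * v) := by rw [heq]
      _ = (a'⁻¹ * a) * v := by group
  have hc : a'⁻¹ * a ∈ M := mul_mem (inv_mem ha') ha
  have h1 : orderOf (1 * v) = 2 := by rw [one_mul]; exact hv
  have h2 : orderOf ((a'⁻¹ * a) * v) = 2 := by rw [← hv'eq]; exact hv'
  have := u v hvN 1 (one_mem M) (a'⁻¹ * a) hc h1 h2
  have haa : a = a' := by
    calc a = a' * (a'⁻¹ * a) := by group
      _ = a' := by rw [← this, mul_one]
  refine ⟨?_, haa⟩
  rw [hv'eq, ← this, one_mul]

theorem card_invol_le (M : Subgroup G) :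
    Nat.card {g : G // orderOf g = 2} ≤
      Nat.card {u : G // orderOf u = 2 ∧ u ∈ Nm M} +
        Nat.card {u : G // orderOf u = 2 ∧ u ∉ Nm M} := by
  classical
  rw [← Nat.card_sum]
  let f : {g : G // orderOf g = 2} →
      {u : G // orderOf u = 2 ∧ u ∈ Nm M} ⊕ {u : G // orderOf u = 2 ∧ u ∉ Nm M} := fun g =>
    if hg : (g : G) ∈ Nm M then Sum.inl ⟨g, g.2, hg⟩ else Sum.inr ⟨g, g.2, hg⟩
  apply Nat.card_le_card_of_injective f
  intro g g' hgg
  simp only [f] at hgg
  split_ifs at hgg with h1 h2 h2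
  · have := Sum.inl_injective hgg
    have e := congrArg (fun t : {u : G // orderOf u = 2 ∧ u ∈ Nm M} => (t : G)) this
    exact Subtype.ext e
  · have := Sum.inr_injective hgg
    have e := congrArg (fun t : {u : G // orderOf u = 2 ∧ u ∉ Nm M} => (t : G)) this
    exact Subtype.ext e

/-- [F4] -/
theorem full (h : Hyp M z) (b : Basic M z) (i : InvN M z) (u : Uniq M) :
    Full M ∧ Nat.card (Hz M z) < Nat.card M := by
  classical
  have hMN : M ≤ Nm M := Subgroup.le_normalizer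
  have hmpos : 0 < Nat.card M := Nat.card_pos
  have hGcard : Nat.card M * M.index = Nat.card G := M.card_mul_index
  have hJle := card_invol_le (G := G) M
  rw [i.cardInv] at hJle
  have hcnt := h.cnt
  -- the three maps
  let φ₁ : {u : G // orderOf u = 2 ∧ u ∉ Nm M} × M → G := fun p => (p.2 : G) * (p.1 : G)
  let φ₂ : Nm M → G := fun n => (n : G)
  have inj1 : Function.Injective φ₁ := by
    rintro ⟨⟨v, hv, hvN⟩, ⟨a, ha⟩⟩ ⟨⟨v', hv', hvN'⟩, ⟨a', ha'⟩⟩ heq
    have heq' : a * v = a' * v' := heq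
    obtain ⟨e1, e2⟩ := out_inj u hv hvN hv' ha ha' heq'
    subst e1
    subst e2
    rfl
  have inj2 : Function.Injective φ₂ := Subtype.val_injective
  have h12 : ∀ p n, φ₁ p ≠ φ₂ n := by
    rintro ⟨⟨v, hv, hvN⟩, ⟨a, ha⟩⟩ ⟨n, hn⟩ heq
    have heq' : a * v = n := heq
    apply hvN
    have : v = a⁻¹ * n := by rw [← heq']; group
    rw [this]
    exact mul_mem (inv_mem (hMN ha)) hn
  -- first part: `|H| < |M|`
  have part1 : Nat.card (Hz M z) < Nat.card M := by
    let Φ : ({u : G // orderOf u = 2 ∧ u ∉ Nm M} × M) ⊕ Nm M → G := Sum.elim φ₁ φ₂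
    have hΦ : Function.Injective Φ := by
      rintro (p | n) (p' | n') heq
      · exact congrArg Sum.inl (inj1 heq)
      · exact absurd heq (h12 p n')
      · exact absurd heq.symm (h12 p' n)
      · exact congrArg Sum.inr (inj2 heq)
    have hle := Nat.card_le_card_of_injective Φ hΦ
    rw [Nat.card_sum, Nat.card_prod, b.cardN, ← hGcard] at hle
    have hle' : (Nat.card {u : G // orderOf u = 2 ∧ u ∉ Nm M} + Nat.card (Hz M z)) * Nat.card M ≤
        M.index * Nat.card M := by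
      calc (Nat.card {u : G // orderOf u = 2 ∧ u ∉ Nm M} + Nat.card (Hz M z)) * Nat.card M
          = Nat.card {u : G // orderOf u = 2 ∧ u ∉ Nm M} * Nat.card M +
              Nat.card M * Nat.card (Hz M z) := by ring
        _ ≤ Nat.card M * M.index := hle
        _ = M.index * Nat.card M := by ring
    have := Nat.le_of_mul_le_mul_right hle' hmpos
    omega
  refine ⟨?_, part1⟩
  -- second part: `Full M`
  by_contra hcon
  unfold Full at hcon
  push Not at hcon
  obtain ⟨g₀, hg₀, hno⟩ := hcon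
  let φ₃ : M × M → G := fun q => (q.1 : G) * g₀ * (q.2 : G)
  have inj3 : Function.Injective φ₃ := by
    rintro ⟨⟨c, hc⟩, ⟨a, ha⟩⟩ ⟨⟨c', hc'⟩, ⟨a', ha'⟩⟩ heq
    have heq' : c * g₀ * a = c' * g₀ * a' := heq
    -- `g₀ (a a'⁻¹) g₀⁻¹ = c⁻¹ c'`
    have hkey : g₀ * (a * a'⁻¹) * g₀⁻¹ = c⁻¹ * c' := by
      calc g₀ * (a * a'⁻¹) * g₀⁻¹ = c⁻¹ * (c * g₀ * a) * a'⁻¹ * g₀⁻¹ := by group
        _ = c⁻¹ * (c' * g₀ * a') * a'⁻¹ * g₀⁻¹ := by rw [heq']
        _ = c⁻¹ * c' := by group
    have haa : a * a'⁻¹ = 1 := by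
      by_contra hne
      apply hg₀
      apply mem_Nm_of_conj_mem h (mul_mem ha (inv_mem ha')) hne
      rw [hkey]
      exact mul_mem (inv_mem hc) hc'
    have hcc : c⁻¹ * c' = 1 := by
      rw [← hkey, haa]
      group
    have e1 : a = a' := by
      calc a = (a * a'⁻¹) * a' := by group
        _ = a' := by rw [haa, one_mul]
    have e2 : c = c' := by
      calc c = c * (c⁻¹ * c') := by rw [hcc, mul_one]
        _ = c' := by group
    subst e1
    subst e2
    rfl
  have h13 : ∀ p q, φ₁ p ≠ φ₃ q := by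
    rintro ⟨⟨v, hv, hvN⟩, ⟨a, ha⟩⟩ ⟨⟨c, hc⟩, ⟨a', ha'⟩⟩ heq
    have heq' : a * v = c * g₀ * a' := heq
    have hconj : a' * v * a'⁻¹ = (a' * a⁻¹ * c) * g₀ := by
      calc a' * v * a'⁻¹ = a' * a⁻¹ * (a * v) * a'⁻¹ := by group
        _ = a' * a⁻¹ * (c * g₀ * a') * a'⁻¹ := by rw [heq']
        _ = (a' * a⁻¹ * c) * g₀ := by group
    apply hno (a' * a⁻¹ * c) (mul_mem (mul_mem ha' (inv_mem ha)) hc)
    rw [← hconj, orderOf_conj_eq]
    exact hv
  have h23 : ∀ n q, φ₂ n ≠ φ₃ q := by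
    rintro ⟨n, hn⟩ ⟨⟨c, hc⟩, ⟨a', ha'⟩⟩ heq
    have heq' : n = c * g₀ * a' := heq
    apply hg₀
    have : g₀ = c⁻¹ * n * a'⁻¹ := by rw [heq']; group
    rw [this]
    exact mul_mem (mul_mem (inv_mem (hMN hc)) hn) (inv_mem (hMN ha'))
  let Ψ : ({u : G // orderOf u = 2 ∧ u ∉ Nm M} × M) ⊕ (Nm M ⊕ (M × M)) → G :=
    Sum.elim φ₁ (Sum.elim φ₂ φ₃)
  have hΨ : Function.Injective Ψ := by
    rintro (p | n | q) (p' | n' | q') heq
    · exact congrArg Sum.inl (inj1 heq)
    · exact absurd heq (h12 p n')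
    · exact absurd heq (h13 p q')
    · exact absurd heq.symm (h12 p' n)
    · exact congrArg (fun t => Sum.inr (Sum.inl t)) (inj2 heq)
    · exact absurd heq (h23 n q')
    · exact absurd heq.symm (h13 p' q)
    · exact absurd heq.symm (h23 n' q)
    · exact congrArg (fun t => Sum.inr (Sum.inr t)) (inj3 heq)
  have hle := Nat.card_le_card_of_injective Ψ hΨ
  rw [Nat.card_sum, Nat.card_sum, Nat.card_prod, Nat.card_prod, b.cardN, ← hGcard] at hle
  have hle' : (Nat.card {u : G // orderOf u = 2 ∧ u ∉ Nm M} + Nat.card (Hz M z) + Nat.card M) *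
      Nat.card M ≤ M.index * Nat.card M := by
    calc (Nat.card {u : G // orderOf u = 2 ∧ u ∉ Nm M} + Nat.card (Hz M z) + Nat.card M) *
          Nat.card M
        = Nat.card {u : G // orderOf u = 2 ∧ u ∉ Nm M} * Nat.card M +
            (Nat.card M * Nat.card (Hz M z) + Nat.card M * Nat.card M) := by ring
      _ ≤ Nat.card M * M.index := hle
      _ = M.index * Nat.card M := by ring
  have := Nat.le_of_mul_le_mul_right hle' hmpos
  omega

end Cfsg.Agent.Lib.Helper25.TIInv
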