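import Mathlib
import Cfsg.Agent.Lib.Helper90.TIInvDefs
import Cfsg.Agent.Lib.Helper25.TIInvF4

/-!
# S3043 module [F12] (helper25): the number of involutions, `J + h = m + h n`
-/

set_option autoImplicit false
set_option linter.unusedSectionVars false
set_option linter.style.haveILetI false

namespace Cfsg.Agent.Lib.Helper25.TIInv

open Cfsg.Agent.Lib.Helper90.TIInv

variable {G : Type*} [Group G] [Finite G] {M : Subgroup G} {z : G}

theorem card_invol_eq (M : Subgroup G) :
    Nat.card {g : G // orderOf g = 2} =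
      Nat.card {u : G // orderOf u = 2 ∧ u ∈ Nm M} +
        Nat.card {u : G // orderOf u = 2 ∧ u ∉ Nm M} := by
  classical
  rw [← Nat.card_sum]
  let f : {g : G // orderOf g = 2} →
      {u : G // orderOf u = 2 ∧ u ∈ Nm M} ⊕ {u : G // orderOf u = 2 ∧ u ∉ Nm M} := fun g =>
    if hg : (g : G) ∈ Nm M then Sum.inl ⟨g, g.2, hg⟩ else Sum.inr ⟨g, g.2, hg⟩
  have hinj : Function.Injective f := by
    intro g g' hgg
    simp only [f] at hgg
    split_ifs at hgg with h1 h2 h2
    · have := Sum.inl_injective hgg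
      have e := congrArg (fun t : {u : G // orderOf u = 2 ∧ u ∈ Nm M} => (t : G)) this
      exact Subtype.ext e
    · have := Sum.inr_injective hgg
      have e := congrArg (fun t : {u : G // orderOf u = 2 ∧ u ∉ Nm M} => (t : G)) this
      exact Subtype.ext e
  have hsurj : Function.Surjective f := by
    rintro (⟨v, hv, hvN⟩ | ⟨v, hv, hvN⟩)
    · refine ⟨⟨v, hv⟩, ?_⟩
      simp only [f]
      rw [dif_pos hvN]
    · refine ⟨⟨v, hv⟩, ?_⟩
      simp only [f]
      rw [dif_neg hvN]
  exact Nat.card_congr (Equiv.ofBijective f ⟨hinj, hsurj⟩)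

/-- [F12] -/
theorem invCount (_h : Hyp M z) (b : Basic M z) (i : InvN M z) (u : Uniq M) (f : Full M) :
    InvCount M z := by
  classical
  have hMN : M ≤ Nm M := Subgroup.le_normalizer
  have hmpos : 0 < Nat.card M := Nat.card_pos
  have hJ := card_invol_eq (G := G) M
  rw [i.cardInv] at hJ
  let φ₁ : {u : G // orderOf u = 2 ∧ u ∉ Nm M} × M → G := fun p => (p.2 : G) * (p.1 : G)
  let φ₂ : Nm M → G := fun n => (n : G)
  have inj1 : Function.Injective φ₁ := by
    rintro ⟨⟨v, hv, hvN⟩, ⟨a, ha⟩⟩ ⟨⟨v', hv', hvN'⟩, ⟨a', ha'⟩⟩ heq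
    have heq' : a * v = a' * v' := heq
    obtain ⟨e1, e2⟩ := out_inj u hv hvN hv' ha ha' heq'
    subst e1
    subst e2
    rfl
  have inj2 : Function.Injective φ₂ := Subtype.val_injective
  have h12 : ∀ p n, φ₁ p ≠ φ₂ n := by
    rintro ⟨⟨v, hv, hvN⟩, ⟨a, ha⟩⟩ ⟨n, hn⟩ heq
    have heq' : a * v = n := heq
    apply hvN
    have : v = a⁻¹ * n := by rw [← heq']; group
    rw [this]
    exact mul_mem (inv_mem (hMN ha)) hn
  let Φ : ({u : G // orderOf u = 2 ∧ u ∉ Nm M} × M) ⊕ Nm M → G := Sum.elim φ₁ φ₂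
  have hΦinj : Function.Injective Φ := by
    rintro (p | n) (p' | n') heq
    · exact congrArg Sum.inl (inj1 heq)
    · exact absurd heq (h12 p n')
    · exact absurd heq.symm (h12 p' n)
    · exact congrArg Sum.inr (inj2 heq)
  have hΦsurj : Function.Surjective Φ := by
    intro g
    by_cases hg : g ∈ Nm M
    · exact ⟨Sum.inr ⟨g, hg⟩, rfl⟩
    · obtain ⟨a, ha, hag⟩ := f g hg
      have hvN : a * g ∉ Nm M := by
        intro hcon
        apply hg
        have : g = a⁻¹ * (a * g) := by group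
        rw [this]
        exact mul_mem (inv_mem (hMN ha)) hcon
      refine ⟨Sum.inl (⟨a * g, hag, hvN⟩, ⟨a⁻¹, inv_mem ha⟩), ?_⟩
      show a⁻¹ * (a * g) = g
      group
  have hcard := Nat.card_congr (Equiv.ofBijective Φ ⟨hΦinj, hΦsurj⟩)
  rw [Nat.card_sum, Nat.card_prod, b.cardN] at hcard
  have hidx : Nat.card (Nm M) * (Nm M).index = Nat.card G := (Nm M).card_mul_index
  rw [b.cardN] at hidx
  unfold InvCount
  rw [hJ]
  -- `o m + m h = m h n`
  have hkey : Nat.card M * (Nat.card {u : G // orderOf u = 2 ∧ u ∉ Nm M} + Nat.card (Hz M z)) =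
      Nat.card M * (Nat.card (Hz M z) * (Nm M).index) := by
    calc Nat.card M * (Nat.card {u : G // orderOf u = 2 ∧ u ∉ Nm M} + Nat.card (Hz M z))
        = Nat.card {u : G // orderOf u = 2 ∧ u ∉ Nm M} * Nat.card M +
            Nat.card M * Nat.card (Hz M z) := by ring
      _ = Nat.card G := hcard
      _ = Nat.card M * Nat.card (Hz M z) * (Nm M).index := hidx.symm
      _ = Nat.card M * (Nat.card (Hz M z) * (Nm M).index) := by ring
  have := Nat.eq_of_mul_eq_mul_left hmpos hkey
  omega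

end Cfsg.Agent.Lib.Helper25.TIInv
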