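import Mathlib
import Cfsg.Prelude.Def_GeometricClasses
import Cfsg.Agent.Lib.Helper99.AschDefs
import Cfsg.Agent.Lib.Helper99.U92.Defs

/-!
# U92-[PM] (project ASCHU / U92, helper99): factor permutations move the factors of a pure tensor and
are unitary.
-/

set_option autoImplicit false

namespace Cfsg.Agent.Lib.Helper25.U92

open Cfsg Cfsg.Geo Cfsg.Agent.Lib.Helper15.AschSlotNorm
open scoped MatrixGroups Matrix

variable {F : Type*} [Field F]

theorem PM_transpose {d k : ℕ} (τ : Equiv.Perm (Fin k)) :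
    (PM τ : Matrix (Fin k → Fin d) (Fin k → Fin d) F)ᵀ = PM τ⁻¹ := by
  ext x y
  simp only [Matrix.transpose_apply, PM]
  have hiff : x = y ∘ τ ↔ y = x ∘ ⇑τ⁻¹ := by
    constructor
    · intro h
      rw [h]
      funext j
      simp
    · intro h
      rw [h]
      funext j
      simp
  by_cases h : x = y ∘ τ
  · rw [if_pos h, if_pos (hiff.mp h)]
  · rw [if_neg h, if_neg (fun h' => h (hiff.mpr h'))]

theorem PM_map {d k : ℕ} (σ : F ≃+* F) (τ : Equiv.Perm (Fin k)) :
    (PM τ : Matrix (Fin k → Fin d) (Fin k → Fin d) F).map σ = PM τ := by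
  ext x y
  simp only [Matrix.map_apply, PM]
  split_ifs <;> simp

end Cfsg.Agent.Lib.Helper25.U92

namespace Cfsg.Agent.Lib.Helper99.U92

open Cfsg Cfsg.Geo Cfsg.Agent.Lib.Helper99.Asch Cfsg.Agent.Lib.Helper70.AschU
open Cfsg.Agent.Lib.Helper15.AschSlotNorm Cfsg.Agent.Lib.Helper15.AschUPure
open scoped MatrixGroups Matrix

variable {F : Type*} [Field F] {σ : F ≃+* F}

theorem PM_mul_PT {d k : ℕ} (τ : Equiv.Perm (Fin k)) (as : Fin k → Matrix (Fin d) (Fin d) F) :
    (PM τ : Matrix (Fin k → Fin d) (Fin k → Fin d) F) * PT as = PT (fun i => as (τ.symm i)) * PM τ := by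
  ext x z
  simp only [Matrix.mul_apply, PM]
  rw [Finset.sum_eq_single (x ∘ τ), Finset.sum_eq_single (z ∘ τ.symm)]
  · have hz : z = (z ∘ τ.symm) ∘ τ := by funext j; simp
    rw [if_pos rfl, if_pos hz, one_mul, mul_one]
    simp only [PT]
    rw [← Equiv.prod_comp τ (fun i => as (τ.symm i) (x i) ((z ∘ τ.symm) i))]
    refine Finset.prod_congr rfl fun j _ => ?_
    simp
  · intro w _ hw
    have : ¬ z = w ∘ τ := by
      intro hc; apply hw; rw [hc]; funext j; simp
    simp [this]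
  · simp
  · intro y _ hy; simp [hy]
  · simp

theorem isU_PM {d k : ℕ} (τ : Equiv.Perm (Fin k)) :
    IsU σ (PM τ : Matrix (Fin k → Fin d) (Fin k → Fin d) F) := by
  unfold IsU
  rw [Cfsg.Agent.Lib.Helper25.U92.PM_transpose, Cfsg.Agent.Lib.Helper25.U92.PM_map, PM_mul,
    inv_mul_cancel, PM_one]

end Cfsg.Agent.Lib.Helper99.U92
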