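import Mathlib
import Cfsg.Prelude.Def_GeometricClasses
import Cfsg.Agent.Lib.Helper99.AschDefs
import Cfsg.Agent.Lib.Helper99.U92.Defs
import Cfsg.Agent.Lib.Helper25.U92PT2
import Cfsg.Agent.Lib.Helper25.U92R3Span

/-!
# U92-[R9-SPAN] (project ASCHU / U92, helper99; hedge by helper25): the 243 matrices `A ⊗ B`,
`A B ∈ 3^{1+2}`, span the 9 × 9 matrices over the field with four elements.
-/

set_option autoImplicit false

namespace Cfsg.Agent.Lib.Helper25.U92

open Cfsg Cfsg.Geo Cfsg.Agent.Lib.Helper99.U92 Cfsg.Agent.Lib.Helper15.AschSlotNorm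
open scoped MatrixGroups Matrix

variable {F : Type*} [Field F] {ω : F}

theorem PT_two_zero_left {d : ℕ} (B : Matrix (Fin d) (Fin d) F) :
    PT ![(0 : Matrix (Fin d) (Fin d) F), B] = 0 := by
  ext x y
  rw [PT_two_apply]
  simp

theorem PT_two_zero_right {d : ℕ} (A : Matrix (Fin d) (Fin d) F) :
    PT ![A, (0 : Matrix (Fin d) (Fin d) F)] = 0 := by
  ext x y
  rw [PT_two_apply]
  simp

/-- `PT ![A, B] ∈ span R9set` for `A`, `B` in the span of `R3set`. -/
theorem PT_mem_span_R9set {A B : Matrix (Fin 3) (Fin 3) F}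
    (hA : A ∈ Submodule.span F (R3set ω)) (hB : B ∈ Submodule.span F (R3set ω)) :
    PT ![A, B] ∈ Submodule.span F (R9set ω) := by
  have h1 : ∀ B ∈ R3set ω, ∀ A ∈ Submodule.span F (R3set ω),
      PT ![A, B] ∈ Submodule.span F (R9set ω) := by
    intro B hB A hA
    induction hA using Submodule.span_induction with
    | mem A hA => exact Submodule.subset_span ⟨A, hA, B, hB, rfl⟩
    | zero => rw [PT_two_zero_left]; exact Submodule.zero_mem _
    | add A A' _ _ ih ih' => rw [PT_two_add_left]; exact Submodule.add_mem _ ih ih'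
    | smul c A _ ih => rw [PT_two_smul_left]; exact Submodule.smul_mem _ c ih
  induction hB using Submodule.span_induction with
  | mem B hB => exact h1 B hB A hA
  | zero => rw [PT_two_zero_right]; exact Submodule.zero_mem _
  | add B B' _ _ ih ih' => rw [PT_two_add_right]; exact Submodule.add_mem _ ih ih'
  | smul c B _ ih => rw [PT_two_smul_right]; exact Submodule.smul_mem _ c ih

/-- U92-[R9-SPAN] (sheet statement, in helper25's namespace: hedge). -/
theorem span_R9set [Fintype F] (hF : Fintype.card F = 2 ^ 2) (hω : ω ^ 2 + ω + 1 = 0) :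
    Submodule.span F (R9set ω) = ⊤ := by
  have h3 := span_R3set hF hω
  have hsingle : ∀ x y : I9, Matrix.single x y (1 : F) ∈ Submodule.span F (R9set ω) := by
    intro x y
    rw [← PT_two_single]
    exact PT_mem_span_R9set (by rw [h3]; trivial) (by rw [h3]; trivial)
  rw [eq_top_iff]
  intro M _
  rw [Matrix.matrix_eq_sum_single M]
  refine Submodule.sum_mem _ fun i _ => Submodule.sum_mem _ fun j _ => ?_
  have : Matrix.single i j (M i j) = M i j • Matrix.single i j (1 : F) := by
    rw [Matrix.smul_single, smul_eq_mul, mul_one]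
  rw [this]
  exact Submodule.smul_mem _ _ (hsingle i j)

end Cfsg.Agent.Lib.Helper25.U92
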